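import Mathlib
import Groth.Agent.H8.QCohCriterion
import Groth.Agent.H8.QCohQcqs
import Groth.Agent.H8.SectionsExact

/-!
# Quasi-coherent modules on a scheme are closed under kernels, binary biproducts and pullbacks

(helper22) Uses the sectionwise criterion `H8.isQuasicoherent_of_sections`.
-/

set_option autoImplicit false
set_option linter.style.haveILetI false
universe u
open CategoryTheory CategoryTheory.Limits AlgebraicGeometry TopologicalSpace Opposite

namespace Groth.Agent.H22.QCohLimits

variable {X : Scheme.{u}}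

/-- Naturality of the action on sections with respect to restriction. -/
lemma app_res {M N : X.Modules} (φ : M ⟶ N) {A B : X.Opens} (h : A ≤ B) (x : Γ(M, B)) :
    φ.app A (M.presheaf.map (homOfLE h).op x) = N.presheaf.map (homOfLE h).op (φ.app B x) := by
  have h1 := φ.mapPresheaf.naturality (homOfLE h).op
  exact congr($h1 x)

/-- A subobject of a quasi-coherent module satisfying the extension condition on affine opens is
quasi-coherent. -/
theorem isQuasicoherent_of_mono {K M : X.Modules} (i : K ⟶ M) [Mono i] [M.IsQuasicoherent]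
    (hex : ∀ (U : X.Opens), IsAffineOpen U → ∀ (a : Γ(X, U)) (y : Γ(K, X.basicOpen a)),
      ∃ (n : ℕ) (x : Γ(K, U)), (X.presheaf.map (homOfLE (X.basicOpen_le a)).op a) ^ n • y =
        K.presheaf.map (homOfLE (X.basicOpen_le a)).op x) : K.IsQuasicoherent := by
  refine Groth.Agent.H8.isQuasicoherent_of_sections K hex ?_
  intro U hU a x hx
  have h1 : M.presheaf.map (homOfLE (X.basicOpen_le a)).op (i.app U x) = 0 := by
    rw [← app_res, hx, map_zero]
  obtain ⟨n, hn⟩ := Groth.Agent.H8.exists_smul_eq_zero hU M a (i.app U x) h1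
  refine ⟨n, Groth.Agent.H8.app_injective_of_mono i U ?_⟩
  rw [Scheme.Modules.Hom.app_smul, hn, map_zero]

/-- The kernel of a morphism of quasi-coherent modules is quasi-coherent. -/
theorem isQuasicoherent_kernel {M N : X.Modules} [M.IsQuasicoherent] [N.IsQuasicoherent]
    (φ : M ⟶ N) : (kernel φ).IsQuasicoherent := by
  refine isQuasicoherent_of_mono (kernel.ι φ) ?_
  intro U hU a y
  let S : ShortComplex X.Modules := ShortComplex.mk (kernel.ι φ) φ (kernel.condition φ)
  have hS : S.Exact := ShortComplex.exact_of_f_is_kernel S (kernelIsKernel φ)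
  haveI : Mono S.f := inferInstanceAs (Mono (kernel.ι φ))
  obtain ⟨n, m, hm⟩ := Groth.Agent.H8.exists_smul_eq_res hU M a ((kernel.ι φ).app _ y)
  have h0 : φ.app _ ((kernel.ι φ).app _ y) = 0 := Groth.Agent.H8.app_comp_eq_zero S _ y
  have h1 : N.presheaf.map (homOfLE (X.basicOpen_le a)).op (φ.app U m) = 0 := by
    rw [← app_res, ← hm, Scheme.Modules.Hom.app_smul, h0, smul_zero]
  obtain ⟨k, hk⟩ := Groth.Agent.H8.exists_smul_eq_zero hU N a (φ.app U m) h1
  have h2 : S.g.app U (a ^ k • m) = 0 := by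
    change φ.app U (a ^ k • m) = 0
    rw [Scheme.Modules.Hom.app_smul, hk]
  obtain ⟨x, hx⟩ := Groth.Agent.H8.exists_app_eq_of_exact S hS U (a ^ k • m) h2
  have hx' : (kernel.ι φ).app U x = a ^ k • m := hx
  refine ⟨k + n, x, ?_⟩
  apply Groth.Agent.H8.app_injective_of_mono (kernel.ι φ)
  rw [Scheme.Modules.Hom.app_smul, app_res, hx', Groth.Agent.H8.res_smul, ← hm, map_pow, pow_add,
    mul_smul]

/-- Decomposition of a section of a biproduct. -/
lemma biprod_total_app {M N : X.Modules} (V : X.Opens) (z : Γ(M ⊞ N, V)) :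
    (biprod.inl : M ⟶ M ⊞ N).app V ((biprod.fst : M ⊞ N ⟶ M).app V z) +
      (biprod.inr : N ⟶ M ⊞ N).app V ((biprod.snd : M ⊞ N ⟶ N).app V z) = z := by
  have h := congrArg (fun ψ : M ⊞ N ⟶ M ⊞ N => ψ.app V z) (biprod.total (X := M) (Y := N))
  exact h

/-- The biproduct of two quasi-coherent modules is quasi-coherent. -/
theorem isQuasicoherent_biprod (M N : X.Modules) [M.IsQuasicoherent] [N.IsQuasicoherent] :
    (M ⊞ N).IsQuasicoherent := by
  refine Groth.Agent.H8.isQuasicoherent_of_sections _ ?_ ?_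
  · intro U hU a y
    obtain ⟨n, m, hm⟩ := Groth.Agent.H8.exists_smul_eq_res hU M a
      ((biprod.fst : M ⊞ N ⟶ M).app _ y)
    obtain ⟨k, m', hm'⟩ := Groth.Agent.H8.exists_smul_eq_res hU N a
      ((biprod.snd : M ⊞ N ⟶ N).app _ y)
    refine ⟨n + k, (biprod.inl : M ⟶ M ⊞ N).app U (a ^ k • m) +
      (biprod.inr : N ⟶ M ⊞ N).app U (a ^ n • m'), ?_⟩
    have e1 : M.presheaf.map (homOfLE (X.basicOpen_le a)).op (a ^ k • m) =
        (X.presheaf.map (homOfLE (X.basicOpen_le a)).op a) ^ (n + k) •
          (biprod.fst : M ⊞ N ⟶ M).app _ y := by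
      rw [Groth.Agent.H8.res_smul, ← hm, map_pow, ← mul_smul, ← pow_add, add_comm k n]
    have e2 : N.presheaf.map (homOfLE (X.basicOpen_le a)).op (a ^ n • m') =
        (X.presheaf.map (homOfLE (X.basicOpen_le a)).op a) ^ (n + k) •
          (biprod.snd : M ⊞ N ⟶ N).app _ y := by
      rw [Groth.Agent.H8.res_smul, ← hm', map_pow, ← mul_smul, ← pow_add]
    rw [map_add, ← app_res, ← app_res, e1, e2, Scheme.Modules.Hom.app_smul,
      Scheme.Modules.Hom.app_smul, ← smul_add, biprod_total_app]
  · intro U hU a x hx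
    have h1 : M.presheaf.map (homOfLE (X.basicOpen_le a)).op
        ((biprod.fst : M ⊞ N ⟶ M).app U x) = 0 := by
      rw [← app_res, hx, map_zero]
    have h2 : N.presheaf.map (homOfLE (X.basicOpen_le a)).op
        ((biprod.snd : M ⊞ N ⟶ N).app U x) = 0 := by
      rw [← app_res, hx, map_zero]
    obtain ⟨n, hn⟩ := Groth.Agent.H8.exists_smul_eq_zero hU M a _ h1
    obtain ⟨k, hk⟩ := Groth.Agent.H8.exists_smul_eq_zero hU N a _ h2
    refine ⟨n + k, ?_⟩
    have e1 : (biprod.fst : M ⊞ N ⟶ M).app U (a ^ (n + k) • x) = 0 := by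
      rw [Scheme.Modules.Hom.app_smul, pow_add, mul_comm, mul_smul, hn, smul_zero]
    have e2 : (biprod.snd : M ⊞ N ⟶ N).app U (a ^ (n + k) • x) = 0 := by
      rw [Scheme.Modules.Hom.app_smul, pow_add, mul_smul, hk, smul_zero]
    rw [← biprod_total_app U (a ^ (n + k) • x), e1, e2, map_zero, map_zero, add_zero]

/-- Quasi-coherence is invariant under isomorphism. -/
lemma isQuasicoherent_of_iso {M N : X.Modules} (e : M ≅ N) [M.IsQuasicoherent] :
    N.IsQuasicoherent :=
  (SheafOfModules.isQuasicoherent X.ringCatSheaf).prop_of_iso e ‹M.IsQuasicoherent›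

/-- The fibre product of quasi-coherent modules is quasi-coherent. -/
theorem isQuasicoherent_pullback {A B C : X.Modules} [A.IsQuasicoherent] [B.IsQuasicoherent]
    [C.IsQuasicoherent] (f : A ⟶ C) (g : B ⟶ C) : (pullback f g).IsQuasicoherent := by
  haveI : (A ⊞ B).IsQuasicoherent := isQuasicoherent_biprod A B
  haveI : (kernel (biprod.desc f (-g))).IsQuasicoherent := isQuasicoherent_kernel _
  let e : kernel (biprod.desc f (-g)) ≅ pullback f g :=
    IsLimit.conePointUniqueUpToIso (kernelIsKernel (biprod.desc f (-g)))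
      (Abelian.PullbackToBiproductIsKernel.isLimitPullbackToBiproduct f g)
  exact isQuasicoherent_of_iso e

end Groth.Agent.H22.QCohLimits
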