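import Mathlib
import Groth.Prelude.Def_CohB1
import Groth.Prelude.Def_Pic
import Groth.Agent.H8.QCohQcqs
import Groth.Agent.H22.QCohLimits

/-!
# The locus `X_s` where a section generates an invertible module (helper22)

API for `CohB1.genLocus L s = sSup {U | IsIso (s|_U)}`.

* `isIso_restrict_map_iff`: `IsIso (φ|_U) ↔ ∀ V ≤ U, Bijective (φ.app V)`.
* `mem_genLocus_iff`, `le_genLocus`.
* `exists_generator`: a trivialisation `L|_U ≅ O_U` gives `σ ∈ Γ(L, U)` with `r ↦ r • σ|_V` bijective
  for every `V ≤ U`.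
* `bijective_app_iff`: if `s(1) = a • σ` on `W`, then for `V ≤ W`, `s.app V` bijective iff `a|_V` unit.
* `genLocus_inf_eq_basicOpen`: `X_s ⊓ W = D(a)`.
* `isAffineHom_genLocus_ι`: `X_s ⟶ X` is affine for `L` invertible.
-/

set_option autoImplicit false
set_option linter.style.haveILetI false
universe u
open CategoryTheory CategoryTheory.Limits AlgebraicGeometry TopologicalSpace Opposite

namespace Groth.Agent.H22.GenLocus

open Groth.Agent.H8 Groth.Agent.H22.QCohLimits

variable {X : Scheme.{u}}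

/-- Any open below `U` is the image of an open of the open subscheme `U`. -/
lemma exists_eq_image {U V : X.Opens} (hV : V ≤ U) : ∃ W : U.toScheme.Opens, V = U.ι ''ᵁ W :=
  ⟨U.ι ⁻¹ᵁ V, by
    rw [Scheme.Hom.image_preimage_eq_opensRange_inf, Scheme.Opens.opensRange_ι]
    exact (inf_eq_right.mpr hV).symm⟩

/-- `IsIso` of a restricted morphism, sectionwise. -/
lemma isIso_restrict_map_iff {M N : X.Modules} (φ : M ⟶ N) (U : X.Opens) :
    IsIso ((Scheme.Modules.restrictFunctor U.ι).map φ) ↔
      ∀ V : X.Opens, V ≤ U → Function.Bijective (φ.app V) := by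
  rw [Scheme.Modules.Hom.isIso_iff_isIso_app]
  constructor
  · intro h V hV
    obtain ⟨W, rfl⟩ := exists_eq_image hV
    have h1 := h W
    rw [ConcreteCategory.isIso_iff_bijective] at h1
    exact h1
  · intro h W
    rw [ConcreteCategory.isIso_iff_bijective]
    exact h (U.ι ''ᵁ W) (U.ι_image_le W)

lemma mem_genLocus_iff (L : X.Modules) (s : Coh.structureModule X ⟶ L) (x : X) :
    x ∈ CohB1.genLocus L s ↔
      ∃ U : X.Opens, x ∈ U ∧ ∀ V : X.Opens, V ≤ U → Function.Bijective (s.app V) := by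
  unfold CohB1.genLocus
  rw [Opens.mem_sSup]
  constructor
  · rintro ⟨U, hU, hxU⟩
    exact ⟨U, hxU, (isIso_restrict_map_iff s U).mp hU⟩
  · rintro ⟨U, hxU, hU⟩
    exact ⟨U, (isIso_restrict_map_iff s U).mpr hU, hxU⟩

lemma le_genLocus (L : X.Modules) (s : Coh.structureModule X ⟶ L) (U : X.Opens)
    (hU : ∀ V : X.Opens, V ≤ U → Function.Bijective (s.app V)) : U ≤ CohB1.genLocus L s :=
  fun x hx => (mem_genLocus_iff L s x).mpr ⟨U, hx, hU⟩

/-- The scalar action on the restriction is the scalar action on `F`. -/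
lemma smul_restrict_ι (F : X.Modules) {U : X.Opens} (W : U.toScheme.Opens)
    (r : Γ(X, U.ι ''ᵁ W)) (x : Γ(F, U.ι ''ᵁ W)) :
    (show Γ(↑U, W) from r) • (show Γ(F.restrict U.ι, W) from x) = r • x := by
  have h : (show Γ(↑U, W) from r) • (show Γ(F.restrict U.ι, W) from x) =
      ((U.ι.appIso W).inv (show Γ(↑U, W) from r)) • x := rfl
  rw [h, Scheme.Opens.ι_appIso]
  rfl

/-- A trivialisation of `L` over `U` gives a generating section. -/
lemma exists_generator (L : X.Modules) (U : X.Opens)
    (e : L.restrict U.ι ≅ Coh.structureModule (↑U : Scheme.{u})) :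
    ∃ σ : Γ(L, U), ∀ (V : X.Opens) (hV : V ≤ U), Function.Bijective
      (fun r : Γ(X, V) => r • L.presheaf.map (homOfLE hV).op σ) := by
  obtain ⟨τ, hτ⟩ : ∃ τ : Γ(L.restrict U.ι, ⊤), τ = e.inv.app ⊤
    (show Γ(Coh.structureModule (↑U : Scheme.{u}), ⊤) from (1 : Γ((↑U : Scheme.{u}), ⊤))) :=
    ⟨_, rfl⟩
  have htop : U ≤ U.ι ''ᵁ ⊤ := le_of_eq (Scheme.Opens.ι_image_top U).symm
  refine ⟨L.presheaf.map (homOfLE htop).op (show Γ(L, U.ι ''ᵁ ⊤) from τ), ?_⟩
  intro V hV
  obtain ⟨W, rfl⟩ := exists_eq_image hV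
  have hbij : Function.Bijective (e.inv.app W) := by
    have h1 : IsIso (e.inv.app W) :=
      (Scheme.Modules.Hom.isIso_iff_isIso_app (φ := e.inv)).mp inferInstance W
    exact (ConcreteCategory.isIso_iff_bijective _).mp h1
  have hres : e.inv.app W (show Γ(Coh.structureModule (↑U : Scheme.{u}), W) from
      (1 : Γ((↑U : Scheme.{u}), W))) =
      (L.restrict U.ι).presheaf.map (homOfLE (le_top : W ≤ ⊤)).op τ := by
    rw [hτ, ← app_res]
    exact congrArg (e.inv.app W)
      (map_one ((↑U : Scheme.{u}).presheaf.map (homOfLE (le_top : W ≤ ⊤)).op).hom).symm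
  have hlin : ∀ r : Γ((↑U : Scheme.{u}), W),
      e.inv.app W (show Γ(Coh.structureModule (↑U : Scheme.{u}), W) from r) =
        r • (L.restrict U.ι).presheaf.map (homOfLE (le_top : W ≤ ⊤)).op τ := by
    intro r
    rw [← hres]
    have h2 := Scheme.Modules.Hom.app_smul e.inv r
      (show Γ(Coh.structureModule (↑U : Scheme.{u}), W) from (1 : Γ((↑U : Scheme.{u}), W)))
    refine Eq.trans ?_ h2
    exact congrArg (e.inv.app W) (mul_one r).symm
  have hfun : (fun r : Γ(X, U.ι ''ᵁ W) => r • L.presheaf.map (homOfLE hV).op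
      (L.presheaf.map (homOfLE htop).op (show Γ(L, U.ι ''ᵁ ⊤) from τ))) =
      fun r => e.inv.app W (show Γ(Coh.structureModule (↑U : Scheme.{u}), W) from r) := by
    funext r
    rw [hlin, res_res]
    exact (smul_restrict_ι L W r _).symm
  rw [hfun]
  exact hbij

section Main

variable (L : X.Modules) (s : Coh.structureModule X ⟶ L) {U : X.Opens} (σ : Γ(L, U))
  (hσ : ∀ (V : X.Opens) (hV : V ≤ U), Function.Bijective
    (fun r : Γ(X, V) => r • L.presheaf.map (homOfLE hV).op σ))
  {W : X.Opens} (hW : W ≤ U) (a : Γ(X, W))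
  (ha : s.app W (show Γ(Coh.structureModule X, W) from (1 : Γ(X, W))) =
    a • L.presheaf.map (homOfLE hW).op σ)

include hσ ha in
/-- With `s(1) = a • σ` on `W`, `s.app V` is bijective iff `a|_V` is a unit. -/
lemma bijective_app_iff {V : X.Opens} (hV : V ≤ W) :
    Function.Bijective (s.app V) ↔ IsUnit (X.presheaf.map (homOfLE hV).op a) := by
  have h1 : s.app V (show Γ(Coh.structureModule X, V) from (1 : Γ(X, V))) =
      X.presheaf.map (homOfLE hV).op a • L.presheaf.map (homOfLE (hV.trans hW)).op σ := by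
    have h2 : (show Γ(Coh.structureModule X, V) from (1 : Γ(X, V))) =
        (Coh.structureModule X).presheaf.map (homOfLE hV).op
          (show Γ(Coh.structureModule X, W) from (1 : Γ(X, W))) :=
      (map_one (X.presheaf.map (homOfLE hV).op).hom).symm
    rw [h2, app_res, ha, res_smul, res_res]
  have hpt : ∀ r : Γ(X, V), s.app V (show Γ(Coh.structureModule X, V) from r) =
      (r * X.presheaf.map (homOfLE hV).op a) • L.presheaf.map (homOfLE (hV.trans hW)).op σ := by
    intro r
    have h3 := Scheme.Modules.Hom.app_smul s r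
      (show Γ(Coh.structureModule X, V) from (1 : Γ(X, V)))
    have h4 : s.app V (show Γ(Coh.structureModule X, V) from r) =
        s.app V (r • (show Γ(Coh.structureModule X, V) from (1 : Γ(X, V)))) :=
      congrArg (s.app V) (mul_one r).symm
    rw [h4, h3, h1, mul_smul]
  have hg := hσ V (hV.trans hW)
  constructor
  · intro h
    obtain ⟨r, hr⟩ := h.2 (L.presheaf.map (homOfLE (hV.trans hW)).op σ)
    have h5 : ((show Γ(X, V) from r) * X.presheaf.map (homOfLE hV).op a) •
        L.presheaf.map (homOfLE (hV.trans hW)).op σ =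
        (1 : Γ(X, V)) • L.presheaf.map (homOfLE (hV.trans hW)).op σ := by
      rw [← hpt, one_smul]
      exact hr
    have h6 : (show Γ(X, V) from r) * X.presheaf.map (homOfLE hV).op a = 1 := hg.1 h5
    exact IsUnit.of_mul_eq_one (show Γ(X, V) from r) (by rw [mul_comm]; exact h6)
  · intro h
    constructor
    · intro (r1 : Γ(X, V)) (r2 : Γ(X, V)) h12
      have h7 : (r1 * X.presheaf.map (homOfLE hV).op a) •
          L.presheaf.map (homOfLE (hV.trans hW)).op σ =
          (r2 * X.presheaf.map (homOfLE hV).op a) •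
          L.presheaf.map (homOfLE (hV.trans hW)).op σ := by
        rw [← hpt r1, ← hpt r2]
        exact h12
      have h8 : r1 * X.presheaf.map (homOfLE hV).op a =
          r2 * X.presheaf.map (homOfLE hV).op a := hg.1 h7
      exact h.mul_left_injective h8
    · intro y
      obtain ⟨c, hc⟩ := hg.2 y
      obtain ⟨w, hw⟩ := h
      refine ⟨show Γ(Coh.structureModule X, V) from
        c * ((w⁻¹ : (Γ(X, V))ˣ) : Γ(X, V)), ?_⟩
      rw [hpt, ← hw, mul_assoc, Units.inv_mul, mul_one]
      exact hc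

/-- `a|_V` is a unit iff `V ≤ D(a)`. -/
lemma isUnit_res_iff {W V : X.Opens} (hV : V ≤ W) (a : Γ(X, W)) :
    IsUnit (X.presheaf.map (homOfLE hV).op a) ↔ V ≤ X.basicOpen a := by
  constructor
  · intro h
    have h1 := X.basicOpen_of_isUnit h
    have h2 := X.basicOpen_res a (homOfLE hV).op
    rw [h1] at h2
    exact inf_eq_left.mp h2.symm
  · intro h
    have h1 := X.toRingedSpace.isUnit_res_basicOpen a
    have h2 : X.presheaf.map (homOfLE hV).op a = X.presheaf.map (homOfLE h).op
        (X.presheaf.map (homOfLE (X.basicOpen_le a)).op a) :=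
      (ringRes_res h (X.basicOpen_le a) a).symm
    rw [h2]
    exact h1.map _

include hσ ha in
/-- Over a trivialising open, the locus `X_s` is a basic open. -/
lemma genLocus_inf_eq_basicOpen : CohB1.genLocus L s ⊓ W = X.basicOpen a := by
  apply le_antisymm
  · rintro x ⟨hx1, hx2⟩
    obtain ⟨U1, hxU1, hU1⟩ := (mem_genLocus_iff L s x).mp hx1
    have hV : U1 ⊓ W ≤ W := inf_le_right
    have hb := hU1 (U1 ⊓ W) inf_le_left
    have hu := (bijective_app_iff L s σ hσ hW a ha hV).mp hb
    exact (isUnit_res_iff hV a).mp hu ⟨hxU1, hx2⟩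
  · apply le_inf
    · apply le_genLocus
      intro V hV
      have hVW : V ≤ W := hV.trans (X.basicOpen_le a)
      exact (bijective_app_iff L s σ hσ hW a ha hVW).mpr ((isUnit_res_iff hVW a).mpr hV)
    · exact X.basicOpen_le a

end Main

/-- For an invertible module `L` and a section `s`, the inclusion `X_s ⟶ X` is affine. -/
theorem isAffineHom_genLocus_ι (L : X.Modules) (hL : PicF.IsInvertible L)
    (s : Coh.structureModule X ⟶ L) : IsAffineHom (CohB1.genLocus L s).ι := by
  apply isAffineHom_of_forall_exists_isAffineOpen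
  intro x
  obtain ⟨U0, hxU0, ⟨e0⟩⟩ := hL x
  obtain ⟨σ, hσ⟩ := exists_generator L U0 e0
  obtain ⟨_, ⟨W, hW, rfl⟩, hxW, hWU0⟩ :=
    X.isBasis_affineOpens.exists_subset_of_mem_open hxU0 U0.2
  obtain ⟨a, ha⟩ := (hσ W hWU0).2
    (s.app W (show Γ(Coh.structureModule X, W) from (1 : Γ(X, W))))
  refine ⟨W, hxW, hW, ?_⟩
  rw [← Scheme.Hom.isAffineOpen_iff_of_isOpenImmersion (CohB1.genLocus L s).ι,
    Scheme.Hom.image_preimage_eq_opensRange_inf, Scheme.Opens.opensRange_ι,
    genLocus_inf_eq_basicOpen L s σ hσ hWU0 a ha.symm]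
  exact hW.basicOpen a

end Groth.Agent.H22.GenLocus
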