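import Mathlib
import Groth.Agent.H8.QCohQcqs
import Groth.Agent.H8.SectionsExact
import Groth.Agent.H53.ModEpi
import Groth.Agent.H22.QCohLimits

/-!
# Sections over an affine open are exact on short exact sequences with quasi-coherent kernel

(helper22) For a short exact sequence `0 → F → G → H → 0` of `𝒪_X`-modules with `F`
quasi-coherent and `U` an affine open, the map `G(U) → H(U)` is surjective
(the vanishing of `H¹(U, F)`, in the form needed in practice).
-/

set_option autoImplicit false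
set_option linter.style.haveILetI false
universe u
open CategoryTheory CategoryTheory.Limits AlgebraicGeometry TopologicalSpace Opposite

namespace Groth.Agent.H22.QCohH1

open Groth.Agent.H8 Groth.Agent.H22.QCohLimits

variable {X : Scheme.{u}} (S : ShortComplex X.Modules) (hS : S.ShortExact)

include hS in
lemma exists_of_app_g_eq_zero (V : X.Opens) (y : Γ(S.X₂, V)) (hy : S.g.app V y = 0) :
    ∃ x : Γ(S.X₁, V), S.f.app V x = y := by
  haveI := hS.mono_f
  exact exists_app_eq_of_exact S hS.exact V y hy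

include hS in
lemma app_f_injective (V : X.Opens) : Function.Injective (S.f.app V) := by
  haveI := hS.mono_f
  exact app_injective_of_mono S.f V

variable [S.X₁.IsQuasicoherent]

include hS in
/-- Modifying a lift over an affine open `W` so that it agrees, up to a power of `c`, with a given
lift over `D(c)`. -/
lemma exists_modify {W : X.Opens} (hW : IsAffineOpen W) (c : Γ(X, W)) (g1 : Γ(S.X₂, W))
    (g : Γ(S.X₂, X.basicOpen c))
    (hg : S.g.app _ g = S.X₃.presheaf.map (homOfLE (X.basicOpen_le c)).op (S.g.app W g1)) :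
    ∃ (n : ℕ) (g1' : Γ(S.X₂, W)), S.g.app W g1' = c ^ n • S.g.app W g1 ∧
      S.X₂.presheaf.map (homOfLE (X.basicOpen_le c)).op g1' =
        (X.presheaf.map (homOfLE (X.basicOpen_le c)).op c) ^ n • g := by
  have h0 : S.g.app _ (g - S.X₂.presheaf.map (homOfLE (X.basicOpen_le c)).op g1) = 0 := by
    rw [map_sub, app_res, hg, sub_self]
  obtain ⟨φ, hφ⟩ := exists_of_app_g_eq_zero S hS _ _ h0
  obtain ⟨n, φ', hφ'⟩ := exists_smul_eq_res hW S.X₁ c φ
  refine ⟨n, c ^ n • g1 + S.f.app W φ', ?_, ?_⟩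
  · rw [map_add, Scheme.Modules.Hom.app_smul, app_comp_eq_zero S W φ', add_zero]
  · rw [map_add, res_smul, map_pow, ← app_res, ← hφ', Scheme.Modules.Hom.app_smul, hφ, smul_sub,
      add_sub_cancel]

include hS in
/-- A section of `G` over an affine open `V` mapping to zero in `H` and vanishing on `D(c)` is
killed by a power of `c`. -/
lemma exists_pow_smul_eq_zero {V : X.Opens} (hV : IsAffineOpen V) (c : Γ(X, V))
    (d : Γ(S.X₂, V)) (hd : S.g.app V d = 0)
    (hd' : S.X₂.presheaf.map (homOfLE (X.basicOpen_le c)).op d = 0) :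
    ∃ m : ℕ, c ^ m • d = 0 := by
  obtain ⟨δ, hδ⟩ := exists_of_app_g_eq_zero S hS V d hd
  have h1 : S.X₁.presheaf.map (homOfLE (X.basicOpen_le c)).op δ = 0 := by
    apply app_f_injective S hS
    rw [app_res, hδ, hd', map_zero]
  obtain ⟨m, hm⟩ := exists_smul_eq_zero hV S.X₁ c δ h1
  refine ⟨m, ?_⟩
  rw [← hδ, ← Scheme.Modules.Hom.app_smul, hm, map_zero]

include hS in
/-- If `h` lifts over each member of a finite cover of the affine open `U` by basic opens and over
`D(a0)`, then `a0 ^ N • h` lifts over `U` for some `N`. -/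
lemma exists_lift_pow_smul {U : X.Opens} (hU : IsAffineOpen U) (h : Γ(S.X₃, U))
    {I : Type u} [Finite I] (a : I → Γ(X, U)) (hcov : U ≤ ⨆ i, X.basicOpen (a i))
    (g : ∀ i, Γ(S.X₂, X.basicOpen (a i)))
    (hg : ∀ i, S.g.app _ (g i) = S.X₃.presheaf.map (homOfLE (X.basicOpen_le (a i))).op h)
    (a0 : Γ(X, U)) (g0 : Γ(S.X₂, X.basicOpen a0))
    (hg0 : S.g.app _ g0 = S.X₃.presheaf.map (homOfLE (X.basicOpen_le a0)).op h) :
    ∃ (N : ℕ) (g' : Γ(S.X₂, U)), S.g.app U g' = a0 ^ N • h := by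
  classical
  cases nonempty_fintype I
  let D : I → X.Opens := fun i => X.basicOpen (a i)
  have hDU : ∀ i, D i ≤ U := fun i => X.basicOpen_le (a i)
  let b : ∀ i, Γ(X, D i) := fun i => X.presheaf.map (homOfLE (hDU i)).op a0
  have hb2 : ∀ i, X.basicOpen (b i) ≤ X.basicOpen a0 := fun i => by
    rw [X.basicOpen_res]; exact inf_le_right
  -- Step 1: modify the lifts
  have h1 : ∀ i, ∃ (n : ℕ) (g1' : Γ(S.X₂, D i)),
      S.g.app (D i) g1' = (b i) ^ n • S.g.app (D i) (g i) ∧
      S.X₂.presheaf.map (homOfLE (X.basicOpen_le (b i))).op g1' =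
        (X.presheaf.map (homOfLE (X.basicOpen_le (b i))).op (b i)) ^ n •
          S.X₂.presheaf.map (homOfLE (hb2 i)).op g0 := by
    intro i
    refine exists_modify S hS (hU.basicOpen (a i)) (b i) (g i) _ ?_
    rw [app_res, hg0, hg i, res_res, res_res]
  choose n g1 hg1 hg1' using h1
  set n0 := Finset.univ.sup n with hn0
  have hn : ∀ i, n0 = (n0 - n i) + n i := fun i =>
    (Nat.sub_add_cancel (Finset.le_sup (Finset.mem_univ i))).symm
  obtain ⟨g2, hg2def⟩ : ∃ g2 : ∀ i, Γ(S.X₂, D i), ∀ i, g2 i = (b i) ^ (n0 - n i) • g1 i :=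
    ⟨_, fun _ => rfl⟩
  have hg2 : ∀ i, S.g.app (D i) (g2 i) =
      (b i) ^ n0 • S.X₃.presheaf.map (homOfLE (hDU i)).op h := by
    intro i
    rw [hg2def i, Scheme.Modules.Hom.app_smul, hg1 i, hg i, ← mul_smul, ← pow_add, ← hn i]
  have hg2' : ∀ i, S.X₂.presheaf.map (homOfLE (X.basicOpen_le (b i))).op (g2 i) =
      (X.presheaf.map (homOfLE (X.basicOpen_le (b i))).op (b i)) ^ n0 •
        S.X₂.presheaf.map (homOfLE (hb2 i)).op g0 := by
    intro i
    rw [hg2def i, res_smul, hg1' i, map_pow, ← mul_smul, ← pow_add, ← hn i]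
  -- Step 2: overlaps
  have hVaff : ∀ i j, IsAffineOpen (D i ⊓ D j) := fun i j => by
    have h2 := hU.basicOpen (a i * a j)
    rwa [X.basicOpen_mul] at h2
  have hVU : ∀ i j, D i ⊓ D j ≤ U := fun i j => inf_le_left.trans (hDU i)
  let c : ∀ i j, Γ(X, D i ⊓ D j) := fun i j => X.presheaf.map (homOfLE (hVU i j)).op a0
  have hcb0 : ∀ i j, X.basicOpen (c i j) ≤ X.basicOpen a0 := fun i j => by
    rw [X.basicOpen_res]; exact inf_le_right
  have hcb1 : ∀ i j, X.basicOpen (c i j) ≤ X.basicOpen (b i) := fun i j => by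
    rw [X.basicOpen_res, X.basicOpen_res]; exact inf_le_inf_right _ inf_le_left
  have hcb2 : ∀ i j, X.basicOpen (c i j) ≤ X.basicOpen (b j) := fun i j => by
    rw [X.basicOpen_res, X.basicOpen_res]; exact inf_le_inf_right _ inf_le_right
  have e1 : ∀ i j, S.X₂.presheaf.map (homOfLE (X.basicOpen_le (c i j))).op
      (S.X₂.presheaf.map (homOfLE (inf_le_left : D i ⊓ D j ≤ D i)).op (g2 i)) =
      (X.presheaf.map (homOfLE ((X.basicOpen_le (c i j)).trans (hVU i j))).op a0) ^ n0 •
        S.X₂.presheaf.map (homOfLE (hcb0 i j)).op g0 := by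
    intro i j
    rw [res_res, ← res_res S.X₂ (hcb1 i j) (X.basicOpen_le (b i)), hg2' i, res_smul, map_pow,
      ringRes_res, ringRes_res, res_res]
  have e2 : ∀ i j, S.X₂.presheaf.map (homOfLE (X.basicOpen_le (c i j))).op
      (S.X₂.presheaf.map (homOfLE (inf_le_right : D i ⊓ D j ≤ D j)).op (g2 j)) =
      (X.presheaf.map (homOfLE ((X.basicOpen_le (c i j)).trans (hVU i j))).op a0) ^ n0 •
        S.X₂.presheaf.map (homOfLE (hcb0 i j)).op g0 := by
    intro i j
    rw [res_res, ← res_res S.X₂ (hcb2 i j) (X.basicOpen_le (b j)), hg2' j, res_smul, map_pow,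
      ringRes_res, ringRes_res, res_res]
  have h3 : ∀ i j, ∃ m : ℕ, (c i j) ^ m •
      (S.X₂.presheaf.map (homOfLE (inf_le_left : D i ⊓ D j ≤ D i)).op (g2 i) -
        S.X₂.presheaf.map (homOfLE (inf_le_right : D i ⊓ D j ≤ D j)).op (g2 j)) = 0 := by
    intro i j
    refine exists_pow_smul_eq_zero S hS (hVaff i j) (c i j) _ ?_ ?_
    · rw [map_sub, app_res, app_res, hg2 i, hg2 j, res_smul, res_smul, map_pow, map_pow,
        ringRes_res, ringRes_res, res_res, res_res, sub_self]
    · rw [map_sub, e1 i j, e2 i j, sub_self]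
  choose m hm using h3
  set m0 := Finset.univ.sup (fun p : I × I => m p.1 p.2) with hm0
  let s : ∀ i, Γ(S.X₂, D i) := fun i => (b i) ^ m0 • g2 i
  have hcompat : TopCat.Presheaf.IsCompatible S.X₂.presheaf D s := by
    intro i j
    change S.X₂.presheaf.map (homOfLE (inf_le_left : D i ⊓ D j ≤ D i)).op ((b i) ^ m0 • g2 i) =
      S.X₂.presheaf.map (homOfLE (inf_le_right : D i ⊓ D j ≤ D j)).op ((b j) ^ m0 • g2 j)
    have hk : m0 = (m0 - m i j) + m i j :=
      (Nat.sub_add_cancel (Finset.le_sup (f := fun p : I × I => m p.1 p.2)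
        (Finset.mem_univ (i, j)))).symm
    have hi : S.X₂.presheaf.map (homOfLE (inf_le_left : D i ⊓ D j ≤ D i)).op
        ((b i) ^ m0 • g2 i) = (c i j) ^ m0 •
        S.X₂.presheaf.map (homOfLE (inf_le_left : D i ⊓ D j ≤ D i)).op (g2 i) := by
      rw [res_smul, map_pow, ringRes_res]
    have hj : S.X₂.presheaf.map (homOfLE (inf_le_right : D i ⊓ D j ≤ D j)).op
        ((b j) ^ m0 • g2 j) = (c i j) ^ m0 •
        S.X₂.presheaf.map (homOfLE (inf_le_right : D i ⊓ D j ≤ D j)).op (g2 j) := by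
      rw [res_smul, map_pow, ringRes_res]
    rw [hi, hj, ← sub_eq_zero, ← smul_sub, hk, pow_add, mul_smul, hm i j, smul_zero]
  obtain ⟨g', hg', -⟩ := TopCat.Sheaf.existsUnique_gluing' (F := ⟨S.X₂.presheaf, S.X₂.isSheaf⟩)
    D U (fun i => homOfLE (hDU i)) hcov s hcompat
  refine ⟨m0 + n0, g', ?_⟩
  refine section_eq_of_cover S.X₃ _ _ (fun x hxU => ?_)
  obtain ⟨i, hxi⟩ := Opens.mem_iSup.mp (hcov hxU)
  refine ⟨D i, hDU i, hxi, ?_⟩
  have hgi : S.X₂.presheaf.map (homOfLE (hDU i)).op g' = (b i) ^ m0 • g2 i := hg' i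
  rw [← app_res, hgi, Scheme.Modules.Hom.app_smul, hg2 i, res_smul, map_pow, ← mul_smul,
    ← pow_add]

include hS in
/-- **Exactness of sections over affine opens**: for a short exact sequence of `𝒪_X`-modules with
quasi-coherent kernel, the map on sections over an affine open is surjective. -/
theorem app_surjective {U : X.Opens} (hU : IsAffineOpen U) :
    Function.Surjective (S.g.app U) := by
  intro h
  haveI := hS.epi_g
  have hloc : ∀ x : U, ∃ (a : Γ(X, U)) (g : Γ(S.X₂, X.basicOpen a)), (x : X) ∈ X.basicOpen a ∧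
      S.g.app _ g = S.X₃.presheaf.map (homOfLE (X.basicOpen_le a)).op h := by
    intro x
    obtain ⟨V, hV, s, hxV, hs⟩ :=
      Groth.Agent.H53.modules_epi_locally_surjective S.g U h x.1 x.2
    obtain ⟨a, haV, hxa⟩ := hU.exists_basicOpen_le (V := V) ⟨x.1, hxV⟩ x.2
    refine ⟨a, S.X₂.presheaf.map (homOfLE haV).op s, hxa, ?_⟩
    rw [app_res, hs, res_res]
  choose a g hxa hg using hloc
  obtain ⟨t, ht⟩ := hU.isCompact.elim_finite_subcover
    (fun x : U => (X.basicOpen (a x) : Set X)) (fun x => (X.basicOpen (a x)).2)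
    (fun y hy => Set.mem_iUnion.mpr ⟨⟨y, hy⟩, hxa ⟨y, hy⟩⟩)
  have hcov : U ≤ ⨆ i : t, X.basicOpen (a i.1) := by
    intro y hy
    obtain ⟨x, hxt, hyx⟩ : ∃ x ∈ t, y ∈ X.basicOpen (a x) := by
      have := ht hy
      simpa using this
    exact Opens.mem_iSup.mpr ⟨⟨x, hxt⟩, hyx⟩
  have hlift : ∀ i : t, ∃ (N : ℕ) (g' : Γ(S.X₂, U)), S.g.app U g' = (a i.1) ^ N • h := fun i =>
    exists_lift_pow_smul S hS hU h (fun j : t => a j.1) hcov (fun j => g j.1) (fun j => hg j.1)
      (a i.1) (g i.1) (hg i.1)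
  choose N g' hg' using hlift
  have hspan : Ideal.span (Set.range (fun i : t => a i.1)) = ⊤ := by
    rw [← hU.self_le_iSup_basicOpen_iff, iSup_range' (fun f => X.basicOpen f)]
    exact hcov
  set N0 := Finset.univ.sup N with hN0
  have hspan' : Ideal.span ((fun x => x ^ N0) '' (Set.range (fun i : t => a i.1))) = ⊤ :=
    Ideal.span_pow_eq_top _ hspan N0
  have key : ∀ r ∈ Ideal.span ((fun x => x ^ N0) '' Set.range (fun i : t => a i.1)),
      r • h ∈ LinearMap.range (appₗ S.g U) := by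
    intro r hr
    induction hr using Submodule.span_induction with
    | mem r hr =>
      obtain ⟨_, ⟨i, rfl⟩, rfl⟩ := hr
      refine ⟨(a i.1) ^ (N0 - N i) • g' i, ?_⟩
      rw [map_smul, appₗ_apply, hg' i, ← mul_smul, ← pow_add,
        Nat.sub_add_cancel (Finset.le_sup (Finset.mem_univ i))]
    | zero => rw [zero_smul]; exact Submodule.zero_mem _
    | add r r' _ _ hr hr' => rw [add_smul]; exact Submodule.add_mem _ hr hr'
    | smul c r _ hr => rw [smul_eq_mul, mul_smul]; exact Submodule.smul_mem _ c hr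
  have h1 : (1 : Γ(X, U)) ∈ Ideal.span ((fun x => x ^ N0) '' Set.range (fun i : t => a i.1)) := by
    rw [hspan']; trivial
  obtain ⟨g'', hg''⟩ := key 1 h1
  refine ⟨g'', ?_⟩
  rw [← appₗ_apply, hg'', one_smul]

end Groth.Agent.H22.QCohH1
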