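import Mathlib
import Groth.Agent.H22.QCohH1

/-!
# Quasi-coherent modules on a scheme form a weak Serre subcategory

(helper22) Quotients, extensions, images and cokernels of quasi-coherent modules on an arbitrary
scheme are quasi-coherent.  (Kernels, biproducts, pullbacks: `H22/QCohLimits.lean`.)
-/

set_option autoImplicit false
set_option linter.style.haveILetI false
universe u
open CategoryTheory CategoryTheory.Limits AlgebraicGeometry TopologicalSpace Opposite

namespace Groth.Agent.H22.QCohAbelian

open Groth.Agent.H8 Groth.Agent.H22.QCohLimits Groth.Agent.H22.QCohH1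

variable {X : Scheme.{u}}

/-- In a short exact sequence `0 → A → B → C → 0` with `A`, `B` quasi-coherent, `C` is
quasi-coherent. -/
theorem isQuasicoherent_X₃ (S : ShortComplex X.Modules) (hS : S.ShortExact)
    [S.X₁.IsQuasicoherent] [S.X₂.IsQuasicoherent] : S.X₃.IsQuasicoherent := by
  refine isQuasicoherent_of_sections _ ?_ ?_
  · intro U hU a y
    obtain ⟨n', hn'⟩ := app_surjective S hS (hU.basicOpen a) y
    obtain ⟨k, n'', hn''⟩ := exists_smul_eq_res hU S.X₂ a n'
    refine ⟨k, S.g.app U n'', ?_⟩
    rw [← app_res, ← hn'', Scheme.Modules.Hom.app_smul, hn']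
  · intro U hU a x hx
    obtain ⟨n, rfl⟩ := app_surjective S hS hU x
    have h1 : S.g.app _ (S.X₂.presheaf.map (homOfLE (X.basicOpen_le a)).op n) = 0 := by
      rw [app_res, hx]
    obtain ⟨i, hi⟩ := exists_of_app_g_eq_zero S hS _ _ h1
    obtain ⟨k, i', hi'⟩ := exists_smul_eq_res hU S.X₁ a i
    have h2 : S.X₂.presheaf.map (homOfLE (X.basicOpen_le a)).op (a ^ k • n - S.f.app U i') = 0 := by
      rw [map_sub, res_smul, map_pow, ← app_res, ← hi', Scheme.Modules.Hom.app_smul, hi, sub_self]
    obtain ⟨l, hl⟩ := exists_smul_eq_zero hU S.X₂ a _ h2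
    refine ⟨l + k, ?_⟩
    rw [smul_sub, sub_eq_zero, ← mul_smul, ← pow_add] at hl
    rw [← Scheme.Modules.Hom.app_smul, hl, Scheme.Modules.Hom.app_smul, app_comp_eq_zero S U i',
      smul_zero]

/-- In a short exact sequence `0 → A → B → C → 0` with `A`, `C` quasi-coherent, `B` is
quasi-coherent. -/
theorem isQuasicoherent_X₂ (S : ShortComplex X.Modules) (hS : S.ShortExact)
    [S.X₁.IsQuasicoherent] [S.X₃.IsQuasicoherent] : S.X₂.IsQuasicoherent := by
  refine isQuasicoherent_of_sections _ ?_ ?_
  · intro U hU a y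
    obtain ⟨n, h', hh'⟩ := exists_smul_eq_res hU S.X₃ a (S.g.app _ y)
    obtain ⟨g, rfl⟩ := app_surjective S hS hU h'
    have h1 : S.g.app _ ((X.presheaf.map (homOfLE (X.basicOpen_le a)).op a) ^ n • y -
        S.X₂.presheaf.map (homOfLE (X.basicOpen_le a)).op g) = 0 := by
      rw [map_sub, Scheme.Modules.Hom.app_smul, hh', app_res, sub_self]
    obtain ⟨f, hf⟩ := exists_of_app_g_eq_zero S hS _ _ h1
    obtain ⟨k, f', hf'⟩ := exists_smul_eq_res hU S.X₁ a f
    refine ⟨k + n, a ^ k • g + S.f.app U f', ?_⟩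
    rw [map_add, res_smul, map_pow, ← app_res, ← hf', Scheme.Modules.Hom.app_smul, hf, smul_sub,
      add_sub_cancel, ← mul_smul, ← pow_add]
  · intro U hU a x hx
    have h1 : S.X₃.presheaf.map (homOfLE (X.basicOpen_le a)).op (S.g.app U x) = 0 := by
      rw [← app_res, hx, map_zero]
    obtain ⟨n, hn⟩ := exists_smul_eq_zero hU S.X₃ a _ h1
    have h2 : S.g.app U (a ^ n • x) = 0 := by rw [Scheme.Modules.Hom.app_smul, hn]
    obtain ⟨f, hf⟩ := exists_of_app_g_eq_zero S hS _ _ h2
    have h3 : S.X₁.presheaf.map (homOfLE (X.basicOpen_le a)).op f = 0 := by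
      apply app_f_injective S hS
      rw [app_res, hf, res_smul, hx, smul_zero, map_zero]
    obtain ⟨k, hk⟩ := exists_smul_eq_zero hU S.X₁ a f h3
    refine ⟨k + n, ?_⟩
    rw [pow_add, mul_smul, ← hf, ← Scheme.Modules.Hom.app_smul, hk, map_zero]

/-- The cokernel of a monomorphism between quasi-coherent modules is quasi-coherent. -/
theorem isQuasicoherent_cokernel_of_mono {M N : X.Modules} [M.IsQuasicoherent]
    [N.IsQuasicoherent] (φ : M ⟶ N) [Mono φ] : (cokernel φ).IsQuasicoherent := by
  let S : ShortComplex X.Modules := ShortComplex.mk φ (cokernel.π φ) (cokernel.condition φ)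
  have hS : S.ShortExact :=
    { exact := ShortComplex.exact_of_g_is_cokernel S (cokernelIsCokernel φ)
      mono_f := inferInstanceAs (Mono φ)
      epi_g := inferInstanceAs (Epi (cokernel.π φ)) }
  haveI : S.X₁.IsQuasicoherent := inferInstanceAs M.IsQuasicoherent
  haveI : S.X₂.IsQuasicoherent := inferInstanceAs N.IsQuasicoherent
  exact isQuasicoherent_X₃ S hS

/-- The cokernel of a morphism between quasi-coherent modules is quasi-coherent. -/
theorem isQuasicoherent_cokernel {M N : X.Modules} [M.IsQuasicoherent] [N.IsQuasicoherent]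
    (φ : M ⟶ N) : (cokernel φ).IsQuasicoherent := by
  haveI : (kernel φ).IsQuasicoherent := isQuasicoherent_kernel φ
  haveI : (Abelian.coimage φ).IsQuasicoherent := isQuasicoherent_cokernel_of_mono (kernel.ι φ)
  haveI : (cokernel (Abelian.factorThruCoimage φ)).IsQuasicoherent :=
    isQuasicoherent_cokernel_of_mono (Abelian.factorThruCoimage φ)
  have e : cokernel (Abelian.coimage.π φ ≫ Abelian.factorThruCoimage φ) ≅
      cokernel (Abelian.factorThruCoimage φ) := cokernelEpiComp _ _
  have h1 : (cokernel (Abelian.coimage.π φ ≫ Abelian.factorThruCoimage φ)).IsQuasicoherent :=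
    isQuasicoherent_of_iso e.symm
  have h2 : Abelian.coimage.π φ ≫ Abelian.factorThruCoimage φ = φ := Abelian.coimage.fac φ
  haveI := h1
  exact isQuasicoherent_of_iso (cokernelIsoOfEq h2)

/-- The image of a morphism between quasi-coherent modules is quasi-coherent. -/
theorem isQuasicoherent_image {M N : X.Modules} [M.IsQuasicoherent] [N.IsQuasicoherent]
    (φ : M ⟶ N) : (Abelian.image φ).IsQuasicoherent := by
  haveI : (cokernel φ).IsQuasicoherent := isQuasicoherent_cokernel φ
  exact isQuasicoherent_kernel (cokernel.π φ)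

end Groth.Agent.H22.QCohAbelian
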