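import Mathlib
import Groth.Prelude.Def_ClSub2
import Groth.Prelude.Def_FlatMod2
import Groth.Agent.H8.QCohPush
import Groth.Agent.H8.QCohQcqs
import Groth.Agent.H8.StructureCoh
import Groth.Agent.H8.SectionsExact
import Groth.Agent.H22.QCohLimits
import Groth.Agent.S4407

/-!
# Serre's criterion for affineness (helper22)

`H1 X`: for every quasi-coherent ideal `J ↪ O_X` and every epimorphism `p : J ⟶ K` onto a
quasi-coherent module, `p` is surjective on global sections.

* `exists_sep`: under `H1`, a closed point can be separated from a closed set by a global function.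
* `exists_affine_basicOpen'`: under `H1`, on a quasi-compact scheme the affine `X_f` cover `X`.
* `psi`, `psi'`, `epi_psi`, `psi_app_mem`, `psi'_app_mem`: the map `O^n ⟶ O` given by functions.
-/

set_option autoImplicit false
set_option linter.style.haveILetI false
universe u
open CategoryTheory CategoryTheory.Limits AlgebraicGeometry TopologicalSpace Opposite

namespace Groth.Agent.H22.SerreAffine

open Groth.Agent.H8 Groth.Agent.H22.QCohLimits

variable {X : Scheme.{u}}

section Push

variable {Z : Scheme.{u}} (g : Z ⟶ X)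

lemma unitToPush_app (V : X.Opens) (s : Γ(X, V)) :
    (ClSub.unitToPush g).app V (show Γ(Coh.structureModule X, V) from s) =
      (show Γ((Scheme.Modules.pushforward g).obj (Coh.structureModule Z), V) from
        (g.app V).hom s) := rfl

lemma subsingleton_push (V : X.Opens) (hV : ∀ z : Z, g z ∉ V) :
    Subsingleton Γ((Scheme.Modules.pushforward g).obj (Coh.structureModule Z), V) := by
  have h0 : g ⁻¹ᵁ V = ⊥ := by
    rw [eq_bot_iff]
    intro z hz
    exact (hV z hz).elim
  have h1 : ∀ W : Z.Opens, W = ⊥ → Subsingleton Γ(Z, W) := by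
    rintro W rfl
    infer_instance
  exact h1 _ h0

lemma not_mem_basicOpen_of_app_eq_zero (f : Γ(X, ⊤)) (hf : (g.app ⊤).hom f = 0) (z : Z) :
    g z ∉ X.basicOpen f := by
  intro hz
  have h1 : z ∈ g ⁻¹ᵁ X.basicOpen f := hz
  rw [Scheme.preimage_basicOpen] at h1
  have h2 : Z.basicOpen ((g.app ⊤) f) = ⊥ := by
    have h3 : (g.app ⊤) f = 0 := hf
    rw [h3]
    exact Z.basicOpen_zero _
  rw [h2] at h1
  exact h1

lemma mem_basicOpen_of_app_isUnit (f : Γ(X, ⊤)) (hf : IsUnit ((g.app ⊤).hom f)) (z : Z) :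
    g z ∈ X.basicOpen f := by
  have h1 : z ∈ g ⁻¹ᵁ X.basicOpen f := by
    rw [Scheme.preimage_basicOpen]
    have h2 : Z.basicOpen ((g.app ⊤) f) = g ⁻¹ᵁ ⊤ := Z.basicOpen_of_isUnit hf
    rw [h2]
    trivial
  exact h1

end Push

section Ideal

variable (I : X.IdealSheafData)

instance : (ClSub.quotMod I).IsQuasicoherent := by
  haveI := isQuasicoherent_structureModule' I.subscheme
  exact isQuasicoherent_pushforward I.subschemeι _

instance : (kernel (ClSub.toSubscheme I)).IsQuasicoherent := by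
  haveI := isQuasicoherent_structureModule' X
  exact isQuasicoherent_kernel (ClSub.toSubscheme I)

lemma subschemeι_mem_support (z : I.subscheme) : I.subschemeι z ∈ (I.support : Set X) := by
  rw [← I.range_subschemeι]
  exact ⟨z, rfl⟩

/-- Sections of `O_X` over an open disjoint from the support lift to the ideal sheaf. -/
lemma exists_lift_of_disjoint (V : X.Opens) (hV : Disjoint (V : Set X) (I.support : Set X))
    (s : Γ(Coh.structureModule X, V)) :
    ∃ t : Γ(kernel (ClSub.toSubscheme I), V), (kernel.ι (ClSub.toSubscheme I)).app V t = s := by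
  let S : ShortComplex X.Modules :=
    ShortComplex.mk (kernel.ι (ClSub.toSubscheme I)) (ClSub.toSubscheme I) (kernel.condition _)
  have hS : S.Exact := ShortComplex.exact_of_f_is_kernel S (kernelIsKernel _)
  haveI : Mono S.f := inferInstanceAs (Mono (kernel.ι (ClSub.toSubscheme I)))
  haveI := subsingleton_push I.subschemeι V
    (fun z hz => Set.disjoint_left.mp hV hz (subschemeι_mem_support I z))
  exact exists_app_eq_of_exact S hS V s (Subsingleton.elim _ _)

end Ideal

/-- The hypothesis of Serre's criterion, for ideal sheaves. -/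
def H1 (X : Scheme.{u}) : Prop :=
  ∀ (J K : X.Modules) (i : J ⟶ Coh.structureModule X) (p : J ⟶ K), Mono i → Epi p →
    J.IsQuasicoherent → K.IsQuasicoherent → Function.Surjective (p.app ⊤)

theorem exists_sep (h1 : H1 X) (Y : Closeds X) (P : X) (hP : IsClosed ({P} : Set X))
    (hPY : P ∉ Y) :
    ∃ f : Γ(X, ⊤), P ∈ X.basicOpen f ∧
      Disjoint ((X.basicOpen f : X.Opens) : Set X) (Y : Set X) := by
  obtain ⟨IY, hsY⟩ : ∃ IY : X.IdealSheafData, (IY.support : Set X) = (Y : Set X) :=
    ⟨Scheme.IdealSheafData.vanishingIdeal Y, Scheme.IdealSheafData.coe_support_vanishingIdeal Y⟩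
  obtain ⟨IP, hsP⟩ : ∃ IP : X.IdealSheafData, (IP.support : Set X) = ({P} : Set X) :=
    ⟨Scheme.IdealSheafData.vanishingIdeal ⟨{P}, hP⟩,
      Scheme.IdealSheafData.coe_support_vanishingIdeal _⟩
  obtain ⟨φ, hφdef⟩ : ∃ φ : kernel (ClSub.toSubscheme IY) ⟶ ClSub.quotMod IP,
    φ = kernel.ι (ClSub.toSubscheme IY) ≫ ClSub.toSubscheme IP := ⟨_, rfl⟩
  have hφapp : ∀ (V : X.Opens) (s : Γ(kernel (ClSub.toSubscheme IY), V)),
      φ.app V s = (ClSub.toSubscheme IP).app V ((kernel.ι (ClSub.toSubscheme IY)).app V s) := by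
    intro V s
    rw [hφdef]
    rfl
  have hφ : Epi φ := by
    apply Groth.Agent.S4407.epi_of_locally
    intro V t x hxV
    by_cases hx : x = P
    · subst hx
      have hopen : IsOpen ((V : Set X) ∩ (Y : Set X)ᶜ) := V.2.inter Y.isClosed.isOpen_compl
      obtain ⟨_, ⟨W, hW, rfl⟩, hPW, hWsub⟩ := X.isBasis_affineOpens.exists_subset_of_mem_open
        (⟨hxV, hPY⟩ : x ∈ (V : Set X) ∩ (Y : Set X)ᶜ) hopen
      have hWV : W ≤ V := fun y hy => (hWsub hy).1
      have hWY : Disjoint (W : Set X) (IY.support : Set X) := by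
        rw [hsY]
        exact Set.disjoint_left.mpr (fun y hy hyY => (hWsub hy).2 hyY)
      refine ⟨W, hWV, hPW, ?_⟩
      obtain ⟨g, hg⟩ := IP.subschemeι_app_surjective ⟨W, hW⟩
        (show Γ(IP.subscheme, IP.subschemeι ⁻¹ᵁ W) from
          (ClSub.quotMod IP).presheaf.map (homOfLE hWV).op t)
      obtain ⟨s, hs⟩ := exists_lift_of_disjoint IY W hWY
        (show Γ(Coh.structureModule X, W) from g)
      refine ⟨s, ?_⟩
      rw [hφapp, hs]
      exact hg
    · let V' : X.Opens := V ⊓ ⟨({P} : Set X)ᶜ, hP.isOpen_compl⟩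
      have hxV' : x ∈ V' := ⟨hxV, hx⟩
      haveI : Subsingleton Γ(ClSub.quotMod IP, V') :=
        subsingleton_push IP.subschemeι V' (fun z hz => hz.2 (by
          have h3 := subschemeι_mem_support IP z
          rw [hsP] at h3
          exact h3))
      exact ⟨V', inf_le_left, hxV', 0, Subsingleton.elim _ _⟩
  obtain ⟨f, hf⟩ := h1 (kernel (ClSub.toSubscheme IY)) (ClSub.quotMod IP)
    (kernel.ι (ClSub.toSubscheme IY)) φ inferInstance hφ inferInstance inferInstance
    (show Γ(ClSub.quotMod IP, ⊤) from (1 : Γ(IP.subscheme, IP.subschemeι ⁻¹ᵁ ⊤)))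
  obtain ⟨f', hf'⟩ : ∃ f' : Γ(X, ⊤), f' = (kernel.ι (ClSub.toSubscheme IY)).app ⊤ f := ⟨_, rfl⟩
  refine ⟨f', ?_, ?_⟩
  · have hu : IsUnit ((IP.subschemeι.app ⊤).hom f') := by
      have h4 : (IP.subschemeι.app ⊤).hom f' = 1 := by
        rw [hf']
        rw [hφapp] at hf
        exact hf
      rw [h4]
      exact isUnit_one
    obtain ⟨z, hz⟩ : ∃ z : IP.subscheme, IP.subschemeι z = P := by
      have h5 : P ∈ Set.range IP.subschemeι := by
        rw [IP.range_subschemeι, hsP]
        rfl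
      exact h5
    rw [← hz]
    exact mem_basicOpen_of_app_isUnit IP.subschemeι f' hu z
  · rw [Set.disjoint_left]
    intro y hy hyY
    obtain ⟨z, rfl⟩ : ∃ z : IY.subscheme, IY.subschemeι z = y := by
      have h5 : y ∈ Set.range IY.subschemeι := by
        rw [IY.range_subschemeι, hsY]
        exact hyY
      exact h5
    have h0 : (IY.subschemeι.app ⊤).hom f' = 0 := by
      have h6 := app_comp_eq_zero (ShortComplex.mk (kernel.ι (ClSub.toSubscheme IY))
        (ClSub.toSubscheme IY) (kernel.condition _)) ⊤ f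
      rw [hf']
      exact h6
    exact not_mem_basicOpen_of_app_eq_zero IY.subschemeι f' h0 z hy

theorem exists_affine_basicOpen (h1 : H1 X) (P : X) (hP : IsClosed ({P} : Set X)) :
    ∃ f : Γ(X, ⊤), P ∈ X.basicOpen f ∧ IsAffineOpen (X.basicOpen f) := by
  obtain ⟨_, ⟨U, hU, rfl⟩, hPU, -⟩ := X.isBasis_affineOpens.exists_subset_of_mem_open
    (Set.mem_univ P) isOpen_univ
  let Y : Closeds X := ⟨(U : Set X)ᶜ, U.2.isClosed_compl⟩
  obtain ⟨f, hPf, hfY⟩ := exists_sep h1 Y P hP (fun h => h hPU)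
  refine ⟨f, hPf, ?_⟩
  have hle : X.basicOpen f ≤ U := fun y hy => by
    by_contra hyU
    exact Set.disjoint_left.mp hfY hy hyU
  have h2 : X.basicOpen (X.presheaf.map (homOfLE (le_top : U ≤ ⊤)).op f) = X.basicOpen f := by
    rw [X.basicOpen_res]
    exact inf_eq_right.mpr hle
  rw [← h2]
  exact hU.basicOpen _

theorem exists_affine_basicOpen' [CompactSpace X] (h1 : H1 X) (x : X) :
    ∃ f : Γ(X, ⊤), x ∈ X.basicOpen f ∧ IsAffineOpen (X.basicOpen f) := by
  by_contra hcon
  push Not at hcon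
  let W : Set X := ⋃ (f : Γ(X, ⊤)) (_ : IsAffineOpen (X.basicOpen f)), (X.basicOpen f : Set X)
  have hWo : IsOpen W := isOpen_iUnion fun f => isOpen_iUnion fun _ => (X.basicOpen f).2
  have hx : x ∈ Wᶜ := by
    intro hxW
    obtain ⟨f, hxf⟩ := Set.mem_iUnion.mp hxW
    obtain ⟨hf, hxf⟩ := Set.mem_iUnion.mp hxf
    exact hcon f hxf hf
  obtain ⟨P, hPW, hP⟩ := IsClosed.exists_closed_singleton hWo.isClosed_compl ⟨x, hx⟩
  obtain ⟨f, hPf, hf⟩ := exists_affine_basicOpen h1 P hP
  exact hPW (Set.mem_iUnion.mpr ⟨f, Set.mem_iUnion.mpr ⟨hf, hPf⟩⟩)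

section Free

/-- Multiplication by a global function, as an endomorphism of `O_X`. -/
noncomputable def mulBy (f : Γ(X, ⊤)) : Coh.structureModule X ⟶ Coh.structureModule X :=
  (SheafOfModules.unitHomEquiv _).symm (Groth.Agent.S4407.secOfTop (Coh.structureModule X) f)

lemma mulBy_app_one (f : Γ(X, ⊤)) (V : X.Opens) :
    (mulBy f).app V (show Γ(Coh.structureModule X, V) from (1 : Γ(X, V))) =
      (show Γ(Coh.structureModule X, V) from X.presheaf.map (homOfLE (le_top : V ≤ ⊤)).op f) := by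
  have h := SheafOfModules.unitHomEquiv_apply_coe (Coh.structureModule X) (mulBy f) (op V)
  rw [mulBy, Equiv.apply_symm_apply] at h
  exact h.symm

lemma mulBy_app (f : Γ(X, ⊤)) (V : X.Opens) (a : Γ(X, V)) :
    (mulBy f).app V (show Γ(Coh.structureModule X, V) from a) =
      (show Γ(Coh.structureModule X, V) from
        a * X.presheaf.map (homOfLE (le_top : V ≤ ⊤)).op f) := by
  have h1 : (mulBy f).app V (a • (show Γ(Coh.structureModule X, V) from (1 : Γ(X, V)))) =
      a • (mulBy f).app V (show Γ(Coh.structureModule X, V) from (1 : Γ(X, V))) :=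
    Scheme.Modules.Hom.app_smul _ _ _
  rw [mulBy_app_one] at h1
  have h2 : a • (show Γ(Coh.structureModule X, V) from (1 : Γ(X, V))) =
      (show Γ(Coh.structureModule X, V) from a) := mul_one a
  rw [h2] at h1
  exact h1

variable {n : ℕ} (f : Fin n → Γ(X, ⊤))

/-- The map `O^n ⟶ O` given by `n` global functions (coproduct form). -/
noncomputable def psi : FlatMod.freeMod X n ⟶ Coh.structureModule X :=
  Sigma.desc (fun k => mulBy (f k))

/-- The map `O^n ⟶ O` given by `n` global functions (product form). -/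
noncomputable def psi' : (∏ᶜ fun _ : Fin n => Coh.structureModule X) ⟶ Coh.structureModule X :=
  ∑ l, Pi.π _ l ≫ mulBy (f l)

/-- The canonical map from the coproduct to the product. -/
noncomputable def cmap : FlatMod.freeMod X n ⟶ (∏ᶜ fun _ : Fin n => Coh.structureModule X) :=
  Sigma.desc (fun k => Pi.lift (fun l => if k = l then 𝟙 _ else 0))

lemma cmap_psi' : cmap ≫ psi' f = psi f := by
  refine Sigma.hom_ext _ _ (fun k => ?_)
  rw [psi, Sigma.ι_desc, cmap, ← Category.assoc, Sigma.ι_desc, psi', Preadditive.comp_sum]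
  rw [Finset.sum_eq_single k]
  · rw [← Category.assoc, Pi.lift_π, if_pos rfl, Category.id_comp]
  · intro l _ hl
    rw [← Category.assoc, Pi.lift_π, if_neg (Ne.symm hl), zero_comp]
  · intro h
    exact (h (Finset.mem_univ k)).elim

lemma epi_psi (hcov : ∀ x : X, ∃ k, x ∈ X.basicOpen (f k)) : Epi (psi f) := by
  apply Groth.Agent.S4407.epi_of_locally
  intro V t x hxV
  obtain ⟨k, hk⟩ := hcov x
  obtain ⟨V', hV'⟩ : ∃ V' : X.Opens, V' = V ⊓ X.basicOpen (f k) := ⟨_, rfl⟩
  have hV'V : V' ≤ V := hV' ▸ inf_le_left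
  have hV'f : V' ≤ X.basicOpen (f k) := hV' ▸ inf_le_right
  refine ⟨V', hV'V, hV' ▸ ⟨hxV, hk⟩, ?_⟩
  have hu : IsUnit (X.presheaf.map (homOfLE (le_top : V' ≤ ⊤)).op (f k)) := by
    have h1 := X.toRingedSpace.isUnit_res_basicOpen (f k)
    have h2 : X.presheaf.map (homOfLE (le_top : V' ≤ ⊤)).op (f k) =
        X.presheaf.map (homOfLE hV'f).op
          (X.presheaf.map (homOfLE (X.basicOpen_le (f k))).op (f k)) :=
      (ringRes_res hV'f (X.basicOpen_le (f k)) (f k)).symm
    rw [h2]
    exact h1.map _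
  obtain ⟨w, hw⟩ := hu
  obtain ⟨t', ht'⟩ : ∃ t' : Γ(X, V'),
    t' = (Coh.structureModule X).presheaf.map (homOfLE hV'V).op t := ⟨_, rfl⟩
  refine ⟨(Sigma.ι (fun _ : Fin n => Coh.structureModule X) k).app V'
    (show Γ(Coh.structureModule X, V') from ((w⁻¹ : (Γ(X, V'))ˣ) : Γ(X, V')) * t'), ?_⟩
  have h3 : (Sigma.ι (fun _ : Fin n => Coh.structureModule X) k ≫ psi f) = mulBy (f k) :=
    Sigma.ι_desc _ _
  have h4 : (psi f).app V' ((Sigma.ι (fun _ : Fin n => Coh.structureModule X) k).app V'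
      (show Γ(Coh.structureModule X, V') from ((w⁻¹ : (Γ(X, V'))ˣ) : Γ(X, V')) * t')) =
      (mulBy (f k)).app V'
        (show Γ(Coh.structureModule X, V') from ((w⁻¹ : (Γ(X, V'))ˣ) : Γ(X, V')) * t') := by
    rw [← h3]
    rfl
  rw [h4, mulBy_app, ← hw, ← ht']
  show ((w⁻¹ : (Γ(X, V'))ˣ) : Γ(X, V')) * t' * (w : Γ(X, V')) = t'
  rw [mul_comm _ (w : Γ(X, V')), ← mul_assoc, Units.mul_inv, one_mul]

lemma epi_psi' (hcov : ∀ x : X, ∃ k, x ∈ X.basicOpen (f k)) : Epi (psi' f) := by
  haveI := epi_psi f hcov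
  have h : Epi (cmap ≫ psi' f) := by
    rw [cmap_psi']
    infer_instance
  exact epi_of_epi cmap (psi' f)

lemma psi'_app_mem (u : Γ((∏ᶜ fun _ : Fin n => Coh.structureModule X), ⊤)) :
    (show Γ(X, ⊤) from (psi' f).app ⊤ u) ∈ Ideal.span (Set.range f) := by
  classical
  have key : ∀ s : Finset (Fin n),
      (show Γ(X, ⊤) from (∑ l ∈ s, Pi.π (fun _ : Fin n => Coh.structureModule X) l ≫
        mulBy (f l)).app ⊤ u) ∈ Ideal.span (Set.range f) := by
    intro s
    induction s using Finset.induction_on with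
    | empty =>
      rw [Finset.sum_empty]
      exact Ideal.zero_mem _
    | insert a s ha ih =>
      rw [Finset.sum_insert ha]
      refine Ideal.add_mem _ ?_ ih
      show (show Γ(X, ⊤) from (mulBy (f a)).app ⊤
        ((Pi.π (fun _ : Fin n => Coh.structureModule X) a).app ⊤ u)) ∈ _
      rw [mulBy_app]
      refine Ideal.mul_mem_left _ _ ?_
      have h5 : X.presheaf.map (homOfLE (le_top : (⊤ : X.Opens) ≤ ⊤)).op (f a) = f a := by
        have h6 : (homOfLE (le_top : (⊤ : X.Opens) ≤ ⊤)).op = 𝟙 _ := rfl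
        rw [h6, X.presheaf.map_id]
        rfl
      rw [h5]
      exact Ideal.subset_span ⟨a, rfl⟩
  exact key Finset.univ

lemma psi_app_mem (u : Γ(FlatMod.freeMod X n, ⊤)) :
    (show Γ(X, ⊤) from (psi f).app ⊤ u) ∈ Ideal.span (Set.range f) := by
  have h := psi'_app_mem f (cmap.app ⊤ u)
  rw [← cmap_psi']
  exact h

end Free

/-- The finite free module (coproduct form) is quasi-coherent. -/
instance isQuasicoherent_freeMod (n : ℕ) : (FlatMod.freeMod X n).IsQuasicoherent := by
  haveI : (SheafOfModules.free (R := X.ringCatSheaf) (ULift.{u} (Fin n)) :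
    X.Modules).IsQuasicoherent := inferInstance
  have e : (SheafOfModules.free (R := X.ringCatSheaf) (ULift.{u} (Fin n)) : X.Modules) ≅
      FlatMod.freeMod X n :=
    Sigma.reindex (Equiv.ulift : ULift.{u} (Fin n) ≃ Fin n)
      (fun _ : Fin n => Coh.structureModule X)
  exact isQuasicoherent_of_iso e

/-- The finite free module (product form) is quasi-coherent. -/
instance isQuasicoherent_piMod (n : ℕ) :
    (∏ᶜ fun _ : Fin n => Coh.structureModule X).IsQuasicoherent := by
  haveI : HasFiniteBiproducts X.Modules := HasFiniteBiproducts.of_hasFiniteProducts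
  exact isQuasicoherent_of_iso
    ((biproduct.isoCoproduct (fun _ : Fin n => Coh.structureModule X)).symm ≪≫
      biproduct.isoProduct _)

/-- Finite subcover by affine basic opens. -/
theorem exists_finite_cover [CompactSpace X] (h1 : H1 X) :
    ∃ (n : ℕ) (f : Fin n → Γ(X, ⊤)), (∀ k, IsAffineOpen (X.basicOpen (f k))) ∧
      ∀ x : X, ∃ k, x ∈ X.basicOpen (f k) := by
  choose F hF1 hF2 using exists_affine_basicOpen' h1
  obtain ⟨t, ht⟩ := isCompact_univ.elim_finite_subcover (fun x : X => (X.basicOpen (F x) : Set X))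
    (fun x => (X.basicOpen (F x)).2) (fun x _ => Set.mem_iUnion.mpr ⟨x, hF1 x⟩)
  refine ⟨t.card, fun k => F (t.equivFin.symm k).1, fun k => hF2 _, fun x => ?_⟩
  obtain ⟨y, hy⟩ := Set.mem_iUnion.mp (ht (Set.mem_univ x))
  obtain ⟨hyt, hxy⟩ := Set.mem_iUnion.mp hy
  refine ⟨t.equivFin ⟨y, hyt⟩, ?_⟩
  show x ∈ X.basicOpen (F (t.equivFin.symm (t.equivFin ⟨y, hyt⟩)).1)
  rw [Equiv.symm_apply_apply]
  exact hxy

end Groth.Agent.H22.SerreAffine
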