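import Mathlib
import Groth.Prelude.Def_Coh
import Groth.Agent.H45.ToSheafColim
import Groth.Agent.H22.SerreAffine
import Groth.Agent.H22.QCohAbelian

/-!
# Serre's criterion via vanishing of `H¹` (helper22)

* `eSec`, `eSec_comp`: morphisms from the constant sheaf `ℤ` are global sections.
* `app_top_surjective_of_H1`: for a short exact sequence of `O_X`-modules with `H¹(X₁) = 0`,
  global sections of `X₂ ⟶ X₃` are surjective.
* `subsingleton_H1_of_shortExact`: `H¹` of the middle term vanishes if it does for the ends.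
* `QI A`: `H¹` vanishes for all quasi-coherent submodules of `A`; `QI_biprod`, `QI_pi`.
* `isAffine_of_QI`: Serre's criterion.
-/

set_option autoImplicit false
set_option linter.style.haveILetI false
universe u
open CategoryTheory CategoryTheory.Limits AlgebraicGeometry TopologicalSpace Opposite Abelian

namespace Groth.Agent.H22.SerreH1

open Groth.Agent.H8 Groth.Agent.H22.QCohLimits Groth.Agent.H22.SerreAffine
  Groth.Agent.H22.QCohAbelian

variable {X : Scheme.{u}}

/-- Abelian sheaves on `X`. -/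
abbrev AbX (X : Scheme.{u}) : Type (u + 1) :=
  Sheaf (Opens.grothendieckTopology X) AddCommGrpCat.{u}

/-- The constant sheaf `ℤ`. -/
noncomputable abbrev constZ (X : Scheme.{u}) : AbX X :=
  (constantSheaf (Opens.grothendieckTopology X) AddCommGrpCat.{u}).obj
    (AddCommGrpCat.of (ULift ℤ))

/-- The forgetful functor from `O_X`-modules to abelian sheaves. -/
noncomputable def toAbF (X : Scheme.{u}) : X.Modules ⥤ AbX X :=
  SheafOfModules.toSheaf.{u} X.ringCatSheaf

instance : (toAbF X).Additive := by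
  unfold toAbF
  exact inferInstanceAs (SheafOfModules.toSheaf.{u} X.ringCatSheaf).Additive

instance : PreservesFiniteLimits (toAbF X) := by
  unfold toAbF
  exact inferInstanceAs (PreservesFiniteLimits (SheafOfModules.toSheaf.{u} X.ringCatSheaf))

instance : PreservesFiniteColimits (toAbF X) := by
  unfold toAbF
  exact Groth.Agent.H45.toSheaf_preservesFiniteColimits X.ringCatSheaf

/-- Morphisms out of the constant sheaf `ℤ` are global sections. -/
noncomputable def eSec (G : AbX X) : (constZ X ⟶ G) ≃ G.obj.obj (op ⊤) :=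
  ((constantSheafAdj (Opens.grothendieckTopology X) AddCommGrpCat.{u}
      (isTerminalTop : IsTerminal (⊤ : Opens X))).homEquiv _ G).trans
    (AddCommGrpCat.uliftZMultiplesAddEquiv _).toEquiv

lemma eSec_comp {G G' : AbX X} (φ : constZ X ⟶ G) (ψ : G ⟶ G') :
    eSec G' (φ ≫ ψ) = ψ.hom.app (op ⊤) (eSec G φ) := by
  simp only [eSec, Equiv.trans_apply]
  rw [Adjunction.homEquiv_naturality_right]
  rfl

/-- `H¹(X₁) = 0` gives surjectivity on global sections. -/
lemma app_top_surjective_of_H1 (S : ShortComplex X.Modules) (hS : S.ShortExact)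
    (h : Subsingleton (Coh.HH X S.X₁ 1)) : Function.Surjective (S.g.app ⊤) := by
  have hS' : (S.map (toAbF X)).ShortExact := hS.map_of_exact _
  intro t
  obtain ⟨g, hg⟩ : ∃ g : constZ X ⟶ (S.map (toAbF X)).X₃,
    g = (eSec (S.map (toAbF X)).X₃).symm t := ⟨_, rfl⟩
  haveI : Subsingleton (Abelian.Ext (constZ X) (S.map (toAbF X)).X₁ 1) := h
  have h0 : (Ext.mk₀ g).comp hS'.extClass (zero_add 1) = 0 := Subsingleton.elim _ _
  obtain ⟨x₂, hx₂⟩ := Ext.covariant_sequence_exact₃ (constZ X) hS' (Ext.mk₀ g) (zero_add 1) h0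
  obtain ⟨ψ, rfl⟩ := (Ext.mk₀_bijective _ _).2 x₂
  rw [Ext.mk₀_comp_mk₀] at hx₂
  have h2 : ψ ≫ (S.map (toAbF X)).g = g :=
    (Ext.mk₀_bijective _ _).1 hx₂
  refine ⟨eSec (S.map (toAbF X)).X₂ ψ, ?_⟩
  have h3 := eSec_comp ψ (S.map (toAbF X)).g
  rw [h2, hg, Equiv.apply_symm_apply] at h3
  exact h3.symm

/-- `H¹` of the middle term of a short exact sequence vanishes if it does for the ends. -/
lemma subsingleton_H1_of_shortExact (S : ShortComplex X.Modules) (hS : S.ShortExact)
    (h₁ : Subsingleton (Coh.HH X S.X₁ 1)) (h₃ : Subsingleton (Coh.HH X S.X₃ 1)) :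
    Subsingleton (Coh.HH X S.X₂ 1) := by
  have hS' : (S.map (toAbF X)).ShortExact := hS.map_of_exact _
  have key : ∀ x : Abelian.Ext (constZ X) (S.map (toAbF X)).X₂ 1,
      x = 0 := by
    intro x
    haveI : Subsingleton
      (Abelian.Ext (constZ X) (S.map (toAbF X)).X₃ 1) := h₃
    haveI : Subsingleton
      (Abelian.Ext (constZ X) (S.map (toAbF X)).X₁ 1) := h₁
    obtain ⟨x₁, hx₁⟩ := Ext.covariant_sequence_exact₂ (constZ X) hS' x (Subsingleton.elim _ _)
    rw [← hx₁, Subsingleton.elim x₁ 0, Ext.zero_comp]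
  exact ⟨fun a b => (key a).trans (key b).symm⟩

lemma ext_subsingleton_of_isZero {Y : AbX X} (hY : IsZero Y) (Z : AbX X) (n : ℕ) :
    Subsingleton (Abelian.Ext Z Y n) := by
  have key : ∀ x : Abelian.Ext Z Y n, x = 0 := by
    intro x
    have h1 : x.comp (Ext.mk₀ (𝟙 Y)) (add_zero n) = x := Ext.comp_mk₀_id x
    rw [hY.eq_of_src (𝟙 Y) 0, Ext.mk₀_zero, Ext.comp_zero] at h1
    exact h1.symm
  exact ⟨fun a b => (key a).trans (key b).symm⟩

/-- `H¹` vanishes for all quasi-coherent submodules of `A`. -/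
def QI (A : X.Modules) : Prop :=
  ∀ (J : X.Modules) (i : J ⟶ A), Mono i → J.IsQuasicoherent → Subsingleton (Coh.HH X J 1)

lemma QI_of_iso {A B : X.Modules} (e : A ≅ B) (hA : QI A) : QI B := fun J i hi hJ =>
  hA J (i ≫ e.inv) (by haveI := hi; exact mono_comp _ _) hJ

lemma QI_biprod (A B : X.Modules) [A.IsQuasicoherent] [B.IsQuasicoherent]
    (hA : QI A) (hB : QI B) : QI (A ⊞ B) := by
  intro J m hm hJ
  haveI := hm
  haveI := hJ
  obtain ⟨q, hq⟩ : ∃ q : J ⟶ B, q = m ≫ biprod.snd := ⟨_, rfl⟩
  haveI hK : (kernel q).IsQuasicoherent := isQuasicoherent_kernel q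
  haveI hC : (cokernel (kernel.ι q)).IsQuasicoherent :=
    isQuasicoherent_cokernel_of_mono (kernel.ι q)
  have hS : (ShortComplex.mk (kernel.ι q) (cokernel.π (kernel.ι q))
      (cokernel.condition _)).ShortExact :=
    { exact := ShortComplex.exact_of_g_is_cokernel _ (cokernelIsCokernel _)
      mono_f := by dsimp; infer_instance
      epi_g := by dsimp; infer_instance }
  have hmono : Mono (kernel.ι q ≫ m ≫ biprod.fst) := by
    apply Preadditive.mono_of_cancel_zero
    intro W z hz
    have h1 : (z ≫ kernel.ι q) ≫ m = 0 := by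
      apply biprod.hom_ext
      · rw [zero_comp, Category.assoc, Category.assoc]
        exact hz
      · rw [zero_comp, Category.assoc, Category.assoc, ← hq, kernel.condition, comp_zero]
    have h2 : z ≫ kernel.ι q = 0 := (cancel_mono m).mp (h1.trans zero_comp.symm)
    exact (cancel_mono (kernel.ι q)).mp (h2.trans zero_comp.symm)
  have h₁ : Subsingleton (Coh.HH X (kernel q) 1) :=
    hA (kernel q) (kernel.ι q ≫ m ≫ biprod.fst) hmono hK
  have h₃ : Subsingleton (Coh.HH X (cokernel (kernel.ι q)) 1) :=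
    hB (cokernel (kernel.ι q)) (Abelian.factorThruCoimage q) inferInstance hC
  exact subsingleton_H1_of_shortExact _ hS h₁ h₃

lemma isZero_pi_zero (O : X.Modules) : IsZero (∏ᶜ fun _ : Fin 0 => O) := by
  rw [IsZero.iff_id_eq_zero]
  apply Pi.hom_ext
  intro i
  exact i.elim0

/-- `O^(n+1) ≅ O ⊞ O^n`. -/
noncomputable def piSuccIso (O : X.Modules) (n : ℕ) :
    (∏ᶜ fun _ : Fin (n + 1) => O) ≅ O ⊞ (∏ᶜ fun _ : Fin n => O) :=
  (productIsProduct (fun _ : Fin (n + 1) => O)).conePointUniqueUpToIso
    (extendFanIsLimit (fun _ : Fin (n + 1) => O) (productIsProduct (fun _ : Fin n => O))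
      (BinaryBiproduct.isLimit O (∏ᶜ fun _ : Fin n => O)))

lemma QI_pi (h : QI (Coh.structureModule X)) :
    ∀ n : ℕ, QI (∏ᶜ fun _ : Fin n => Coh.structureModule X)
  | 0 => by
    intro J i hi hJ
    haveI := hi
    have hJ0 : IsZero J := IsZero.of_mono i (isZero_pi_zero _)
    have hJ0' : IsZero ((toAbF X).obj J) :=
      (toAbF X).map_isZero hJ0
    exact ext_subsingleton_of_isZero hJ0' _ _
  | n + 1 => by
    haveI := isQuasicoherent_structureModule' X
    haveI := isQuasicoherent_piMod (X := X) n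
    exact QI_of_iso (piSuccIso (Coh.structureModule X) n).symm (QI_biprod _ _ h (QI_pi h n))

/-- Surjectivity on global sections for epimorphisms out of quasi-coherent submodules. -/
lemma app_top_surjective_of_QI (A : X.Modules) (hA : QI A) (J K : X.Modules) (i : J ⟶ A)
    (p : J ⟶ K) (hi : Mono i) (hp : Epi p) (hJ : J.IsQuasicoherent) (hK : K.IsQuasicoherent) :
    Function.Surjective (p.app ⊤) := by
  haveI := hi
  haveI := hp
  haveI := hJ
  haveI := hK
  have hS : (ShortComplex.mk (kernel.ι p) p (kernel.condition p)).ShortExact :=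
    { exact := ShortComplex.exact_of_f_is_kernel _ (kernelIsKernel p)
      mono_f := by dsimp; infer_instance
      epi_g := by dsimp; infer_instance }
  exact app_top_surjective_of_H1 _ hS
    (hA (kernel p) (kernel.ι p ≫ i) (mono_comp _ _) (isQuasicoherent_kernel p))

/-- Serre's criterion: a quasi-compact scheme on which `H¹` of every quasi-coherent ideal
vanishes is affine. -/
theorem isAffine_of_QI [CompactSpace X] (hQ : QI (Coh.structureModule X)) : IsAffine X := by
  classical
  have h1 : H1 X := fun J K i p hi hp hJ hK =>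
    app_top_surjective_of_QI (Coh.structureModule X) hQ J K i p hi hp hJ hK
  obtain ⟨n, f, hf, hcov⟩ := exists_finite_cover h1
  apply isAffine_of_isAffineOpen_basicOpen (Set.range f)
  · rw [Ideal.eq_top_iff_one]
    obtain ⟨v, hv⟩ := app_top_surjective_of_QI (∏ᶜ fun _ : Fin n => Coh.structureModule X)
      (QI_pi hQ n) (∏ᶜ fun _ : Fin n => Coh.structureModule X) (Coh.structureModule X) (𝟙 _)
      (psi' f) inferInstance (epi_psi' f hcov) (isQuasicoherent_piMod n)
      (isQuasicoherent_structureModule' X)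
      (show Γ(Coh.structureModule X, ⊤) from (1 : Γ(X, ⊤)))
    have h2 := psi'_app_mem f v
    have h3 : (show Γ(X, ⊤) from (psi' f).app ⊤ v) = 1 := hv
    rw [h3] at h2
    exact h2
  · rintro _ ⟨k, rfl⟩
    exact hf k

end Groth.Agent.H22.SerreH1
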