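import Mathlib
import Groth.Agent.H8.QCohAffine
import Groth.Agent.H8.QCohQcqs
import Groth.Agent.H8.SectionsExact
import Groth.Agent.H8.CohAffine
import Groth.Agent.H8.FinType
import Groth.Agent.H22.QCohLimits

/-!
# Subsheaves of modules given sectionwise (helper22)

`SubSh F`: a family of subsets of the sections of `F`, closed under the module operations and
restriction, and local.  `SubSh.toModules`, `SubSh.ι`: the corresponding `O_X`-module with its
monomorphism into `F`.
-/

set_option autoImplicit false
set_option linter.style.haveILetI false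
universe u
open CategoryTheory CategoryTheory.Limits AlgebraicGeometry TopologicalSpace Opposite

namespace Groth.Agent.H22

variable {X : Scheme.{u}}

/-- A subsheaf of modules of `F`, given sectionwise. -/
structure SubSh (F : X.Modules) where
  mem : ∀ A : X.Opens, Γ(F, A) → Prop
  zero_mem : ∀ A, mem A 0
  add_mem : ∀ A (x y : Γ(F, A)), mem A x → mem A y → mem A (x + y)
  smul_mem : ∀ A (r : Γ(X, A)) (x : Γ(F, A)), mem A x → mem A (r • x)
  res_mem : ∀ {A B : X.Opens} (h : B ≤ A) (x : Γ(F, A)), mem A x →
    mem B (F.presheaf.map (homOfLE h).op x)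
  local_mem : ∀ (A : X.Opens) (x : Γ(F, A)),
    (∀ p ∈ A, ∃ (B : X.Opens) (h : B ≤ A), p ∈ B ∧ mem B (F.presheaf.map (homOfLE h).op x)) →
    mem A x

namespace SubSh

variable {F : X.Modules} (K : SubSh F)

/-- The submodule of sections over `A`. -/
def sub (A : X.Opens) : Submodule Γ(X, A) Γ(F, A) where
  carrier := {x | K.mem A x}
  add_mem' := K.add_mem A _ _
  zero_mem' := K.zero_mem A
  smul_mem' := fun r x hx => K.smul_mem A r x hx

lemma mem_sub {A : X.Opens} {x : Γ(F, A)} : x ∈ K.sub A ↔ K.mem A x := Iff.rfl

/-- The associated submodule of the underlying presheaf of modules. -/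
noncomputable def toSubmodule : PresheafOfModules.Submodule F.val where
  obj A := K.sub A.unop
  map {A B} f := by
    intro x hx
    have h : B.unop ≤ A.unop := leOfHom f.unop
    have e : f = (homOfLE h).op := Subsingleton.elim _ _
    rw [e]
    exact K.res_mem h x hx

/-- View a section of the associated presheaf as an element of the submodule. -/
def toSub {V : X.Opens}
    (y : ToType (K.toSubmodule.toPresheafOfModules.presheaf.obj (op V))) : ↥(K.sub V) := y

/-- View an element of the submodule as a section of the associated presheaf. -/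
def ofSub {V : X.Opens} (y : ↥(K.sub V)) :
    ToType (K.toSubmodule.toPresheafOfModules.presheaf.obj (op V)) := y

lemma toSub_map {V W : X.Opens} (f : op V ⟶ op W)
    (y : ToType (K.toSubmodule.toPresheafOfModules.presheaf.obj (op V))) :
    (K.toSub (K.toSubmodule.toPresheafOfModules.presheaf.map f y)).val =
      F.presheaf.map f (K.toSub y).val := rfl

lemma isSheaf : Presheaf.IsSheaf (Opens.grothendieckTopology X)
    K.toSubmodule.toPresheafOfModules.presheaf := by
  have key : TopCat.Presheaf.IsSheaf (X := X.toTopCat)
      K.toSubmodule.toPresheafOfModules.presheaf := by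
    rw [TopCat.Presheaf.isSheaf_iff_isSheafUniqueGluing]
    intro ι U sf hsf
    let sf' : ∀ i, Γ(F, U i) := fun i => (K.toSub (sf i)).val
    have hcompat : TopCat.Presheaf.IsCompatible F.presheaf U sf' := by
      intro i j
      have h1 := congrArg (fun z => (K.toSub z).val) (hsf i j)
      exact h1
    let Fsh : TopCat.Sheaf Ab X.toTopCat := ⟨F.presheaf, F.isSheaf⟩
    obtain ⟨s, hs, huniq⟩ := TopCat.Sheaf.existsUnique_gluing Fsh U sf' hcompat
    have hmem : K.mem (iSup U) s := by
      apply K.local_mem
      intro p hp
      obtain ⟨i, hi⟩ := Opens.mem_iSup.mp hp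
      refine ⟨U i, le_iSup U i, hi, ?_⟩
      have h1 : F.presheaf.map (homOfLE (le_iSup U i)).op s = sf' i := hs i
      rw [h1]
      exact (K.toSub (sf i)).2
    refine ⟨K.ofSub ⟨s, hmem⟩, ?_, ?_⟩
    · intro i
      have h1 : (K.toSub (K.toSubmodule.toPresheafOfModules.presheaf.map (Opens.leSupr U i).op
          (K.ofSub ⟨s, hmem⟩))).val = (K.toSub (sf i)).val := hs i
      exact Subtype.ext h1
    · intro t ht
      have h2 : (K.toSub t).val = s := by
        apply huniq
        intro i
        exact congrArg (fun z => (K.toSub z).val) (ht i)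
      exact Subtype.ext h2
  exact key

/-- The `O_X`-module of a sectionwise subsheaf. -/
noncomputable def toModules : X.Modules :=
  (⟨K.toSubmodule.toPresheafOfModules, K.isSheaf⟩ : SheafOfModules.{u} X.ringCatSheaf)

/-- The inclusion into `F`. -/
noncomputable def ι : K.toModules ⟶ F :=
  (⟨K.toSubmodule.ι⟩ : SheafOfModules.Hom _ _)

instance : Mono K.ι := by
  haveI : Mono ((Scheme.Modules.toPresheafOfModules X).map K.ι) :=
    inferInstanceAs (Mono K.toSubmodule.ι)
  exact Functor.mono_of_mono_map (Scheme.Modules.toPresheafOfModules X) inferInstance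

lemma ι_app_mem (A : X.Opens) (y : Γ(K.toModules, A)) : K.mem A (K.ι.app A y) :=
  (K.toSub y).2

lemma exists_ι_app_eq {A : X.Opens} {x : Γ(F, A)} (hx : K.mem A x) :
    ∃ y : Γ(K.toModules, A), K.ι.app A y = x :=
  ⟨K.ofSub ⟨x, hx⟩, rfl⟩

lemma ι_app_injective (A : X.Opens) : Function.Injective (K.ι.app A) :=
  Groth.Agent.H8.app_injective_of_mono K.ι A

end SubSh

end Groth.Agent.H22
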