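import Mathlib
import Groth.Agent.H22.SubSh

/-!
# Extension of quasi-coherent subsheaves of finite type (helper22)

Sectionwise machinery (`SubSh`): quasi-coherence criterion `QC`, saturation along an open,
the subsheaf generated by finitely many sections over an affine open, the shrinking step and its
iteration over a finite affine cover.
-/

set_option autoImplicit false
set_option linter.style.haveILetI false
set_option linter.unusedSectionVars false
universe u
open CategoryTheory CategoryTheory.Limits AlgebraicGeometry TopologicalSpace Opposite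

namespace Groth.Agent.H22

open Groth.Agent.H8 Groth.Agent.H22.QCohLimits

namespace SubSh

variable {X : Scheme.{u}} {F : X.Modules}

lemma res_self' (A : X.Opens) (s : Γ(F, A)) (h : A ≤ A) :
    F.presheaf.map (homOfLE h).op s = s := by
  have h1 : (homOfLE h).op = 𝟙 (Opposite.op A) := rfl
  rw [h1, F.presheaf.map_id]
  rfl

/-- All sections. -/
def top (F : X.Modules) : SubSh F where
  mem _ _ := True
  zero_mem _ := trivial
  add_mem _ _ _ _ _ := trivial
  smul_mem _ _ _ _ := trivial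
  res_mem _ _ _ := trivial
  local_mem _ _ _ := trivial

/-- Intersection. -/
def inf (K G : SubSh F) : SubSh F where
  mem A x := K.mem A x ∧ G.mem A x
  zero_mem A := ⟨K.zero_mem A, G.zero_mem A⟩
  add_mem A x y hx hy := ⟨K.add_mem A x y hx.1 hy.1, G.add_mem A x y hx.2 hy.2⟩
  smul_mem A r x hx := ⟨K.smul_mem A r x hx.1, G.smul_mem A r x hx.2⟩
  res_mem h x hx := ⟨K.res_mem h x hx.1, G.res_mem h x hx.2⟩
  local_mem A x h :=
    ⟨K.local_mem A x (fun p hp => by
      obtain ⟨B, hB, hpB, hm⟩ := h p hp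
      exact ⟨B, hB, hpB, hm.1⟩),
     G.local_mem A x (fun p hp => by
      obtain ⟨B, hB, hpB, hm⟩ := h p hp
      exact ⟨B, hB, hpB, hm.2⟩)⟩

/-- The extension condition characterising quasi-coherent subsheaves of a quasi-coherent module. -/
def QC (K : SubSh F) : Prop :=
  ∀ (A : X.Opens), IsAffineOpen A → ∀ (a : Γ(X, A)) (y : Γ(F, X.basicOpen a)),
    K.mem (X.basicOpen a) y →
    ∃ (n : ℕ) (x : Γ(F, A)), K.mem A x ∧
      (X.presheaf.map (homOfLE (X.basicOpen_le a)).op a) ^ n • y =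
        F.presheaf.map (homOfLE (X.basicOpen_le a)).op x

/-- The extension condition for the affine opens inside `W`. -/
def QCOn (K : SubSh F) (W : X.Opens) : Prop :=
  ∀ (A : X.Opens), IsAffineOpen A → A ≤ W → ∀ (a : Γ(X, A)) (y : Γ(F, X.basicOpen a)),
    K.mem (X.basicOpen a) y →
    ∃ (n : ℕ) (x : Γ(F, A)), K.mem A x ∧
      (X.presheaf.map (homOfLE (X.basicOpen_le a)).op a) ^ n • y =
        F.presheaf.map (homOfLE (X.basicOpen_le a)).op x

/-- Membership depends only on the restriction to `W`. -/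
def IsSat (K : SubSh F) (W : X.Opens) : Prop :=
  ∀ (A : X.Opens) (x : Γ(F, A)),
    K.mem (A ⊓ W) (F.presheaf.map (homOfLE (inf_le_left : A ⊓ W ≤ A)).op x) → K.mem A x

theorem isQuasicoherent_toModules [F.IsQuasicoherent] (K : SubSh F) (hK : K.QC) :
    K.toModules.IsQuasicoherent := by
  refine isQuasicoherent_of_mono K.ι ?_
  intro U hU a y
  obtain ⟨n, x, hx, hxy⟩ := hK U hU a (K.ι.app _ y) (K.ι_app_mem _ y)
  obtain ⟨x', rfl⟩ := K.exists_ι_app_eq hx
  refine ⟨n, x', ?_⟩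
  apply K.ι_app_injective
  rw [Scheme.Modules.Hom.app_smul, app_res]
  exact hxy

theorem QC_top [F.IsQuasicoherent] : (top F).QC := by
  intro A hA a y _
  obtain ⟨n, x, hx⟩ := exists_smul_eq_res hA F a y
  exact ⟨n, x, trivial, hx⟩

theorem QC.inf [F.IsQuasicoherent] {K G : SubSh F} (hK : K.QC) (hG : G.QC) : (K.inf G).QC := by
  intro A hA a y hy
  obtain ⟨n₁, x₁, hx₁, e₁⟩ := hK A hA a y hy.1
  obtain ⟨n₂, x₂, hx₂, e₂⟩ := hG A hA a y hy.2
  have hz : F.presheaf.map (homOfLE (X.basicOpen_le a)).op (a ^ n₂ • x₁ - a ^ n₁ • x₂) = 0 := by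
    rw [map_sub, res_smul, res_smul, ← e₁, ← e₂, map_pow, map_pow, smul_smul, smul_smul,
      ← pow_add, ← pow_add, add_comm n₂ n₁, sub_self]
  obtain ⟨r, hr⟩ := exists_smul_eq_zero hA F a _ hz
  have heq : a ^ (r + n₂) • x₁ = a ^ (r + n₁) • x₂ := by
    rw [smul_sub, smul_smul, smul_smul, ← pow_add, ← pow_add] at hr
    exact sub_eq_zero.mp hr
  refine ⟨r + n₂ + n₁, a ^ (r + n₂) • x₁, ⟨K.smul_mem _ _ _ hx₁, ?_⟩, ?_⟩
  · rw [heq]
    exact G.smul_mem _ _ _ hx₂
  · rw [res_smul, ← e₁, map_pow, smul_smul, ← pow_add]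

/-- A subsheaf saturated along `W`, satisfying the extension condition inside `W`, with
`A ∩ W` quasi-compact for all affine opens `A`, satisfies the extension condition. -/
theorem QC_of_isSat [F.IsQuasicoherent] (G : SubSh F) (W : X.Opens) (hsat : G.IsSat W)
    (hqc : G.QCOn W)
    (hcomp : ∀ A : X.Opens, IsAffineOpen A → IsCompact ((A ⊓ W : X.Opens) : Set X)) : G.QC := by
  intro A hA a y hy
  obtain ⟨n₀, x₀, e₀⟩ := exists_smul_eq_res hA F a y
  have hx₀ : G.mem (X.basicOpen a) (F.presheaf.map (homOfLE (X.basicOpen_le a)).op x₀) := by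
    rw [← e₀]
    exact G.smul_mem _ _ _ hy
  have key : ∀ (B : X.Opens), IsAffineOpen B → ∀ (hB : B ≤ A ⊓ W), ∃ m : ℕ, ∀ m' : ℕ, m ≤ m' →
      G.mem B (F.presheaf.map (homOfLE (hB.trans inf_le_left)).op (a ^ m' • x₀)) := by
    intro B hBaff hB
    have hBA : B ≤ A := hB.trans inf_le_left
    obtain ⟨a', ha'⟩ : ∃ a' : Γ(X, B), a' = X.presheaf.map (homOfLE hBA).op a := ⟨_, rfl⟩
    have hD : X.basicOpen a' ≤ X.basicOpen a := by
      rw [ha']
      exact basicOpen_res_le hBA a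
    obtain ⟨r, z, hz, ez⟩ := hqc B hBaff (hB.trans inf_le_right) a'
      (F.presheaf.map (homOfLE (X.basicOpen_le a')).op (F.presheaf.map (homOfLE hBA).op x₀)) (by
        rw [res_res, ← res_res F hD (X.basicOpen_le a)]
        exact G.res_mem hD _ hx₀)
    have hw : F.presheaf.map (homOfLE (X.basicOpen_le a')).op
        (a' ^ r • F.presheaf.map (homOfLE hBA).op x₀ - z) = 0 := by
      rw [map_sub, res_smul, map_pow, ez, sub_self]
    obtain ⟨r', hr'⟩ := exists_smul_eq_zero hBaff F a' _ hw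
    have heq : a' ^ (r' + r) • F.presheaf.map (homOfLE hBA).op x₀ = a' ^ r' • z := by
      rw [smul_sub, smul_smul, ← pow_add] at hr'
      exact sub_eq_zero.mp hr'
    refine ⟨r' + r, fun m' hm' => ?_⟩
    obtain ⟨d, rfl⟩ := Nat.exists_eq_add_of_le hm'
    rw [res_smul, map_pow, ← ha', add_comm (r' + r) d, pow_add, mul_smul, heq]
    exact G.smul_mem _ _ _ (G.smul_mem _ _ _ hz)
  obtain ⟨S, hSfin, hS⟩ :=
    (isCompact_and_isOpen_iff_finite_and_eq_biUnion_affineOpens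
      (U := ((A ⊓ W : X.Opens) : Set X))).mp ⟨hcomp A hA, (A ⊓ W).2⟩
  have hle : ∀ V ∈ S, (V : X.Opens) ≤ A ⊓ W := fun V hV x hx => by
    change x ∈ ((A ⊓ W : X.Opens) : Set X)
    rw [hS]
    exact Set.mem_biUnion hV hx
  have h1 : ∀ V : S, ∃ m : ℕ, ∀ m' : ℕ, m ≤ m' →
      G.mem V.1.1 (F.presheaf.map (homOfLE ((hle V.1 V.2).trans inf_le_left)).op (a ^ m' • x₀)) :=
    fun V => key V.1.1 V.1.2 (hle V.1 V.2)
  choose m hm using h1
  haveI := hSfin.to_subtype
  cases nonempty_fintype S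
  refine ⟨Finset.univ.sup m + n₀, a ^ (Finset.univ.sup m) • x₀, ?_, ?_⟩
  · apply hsat
    apply G.local_mem
    intro p hp
    obtain ⟨V, hVS, hpV⟩ : ∃ V ∈ S, p ∈ (V : X.Opens) := by
      have hp' : p ∈ ((A ⊓ W : X.Opens) : Set X) := hp
      rw [hS] at hp'
      obtain ⟨V, hV, hpV⟩ := Set.mem_iUnion₂.mp hp'
      exact ⟨V, hV, hpV⟩
    refine ⟨V.1, hle V hVS, hpV, ?_⟩
    rw [res_res]
    exact hm ⟨V, hVS⟩ _ (Finset.le_sup (f := m) (Finset.mem_univ (⟨V, hVS⟩ : S)))
  · rw [res_smul, ← e₀, map_pow, smul_smul, ← pow_add]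

section Gen

/-- Clearing denominators for finitely many functions on a basic open of an affine open. -/
lemma exists_pow_mul_eq_res {B : X.Opens} (hB : IsAffineOpen B) (g : Γ(X, B)) {ι : Type*}
    [Fintype ι] (c : ι → Γ(X, X.basicOpen g)) :
    ∃ (N : ℕ) (b : ι → Γ(X, B)), ∀ i,
      (X.presheaf.map (homOfLE (X.basicOpen_le g)).op g) ^ N * c i =
        X.presheaf.map (homOfLE (X.basicOpen_le g)).op (b i) := by
  haveI := hB.isLocalization_basicOpen g
  have h1 : ∀ i, ∃ (n : ℕ) (b : Γ(X, B)),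
      (X.presheaf.map (homOfLE (X.basicOpen_le g)).op g) ^ n * c i =
        X.presheaf.map (homOfLE (X.basicOpen_le g)).op b := by
    intro i
    obtain ⟨⟨b, ⟨_, n, rfl⟩⟩, hb⟩ := IsLocalization.surj (Submonoid.powers g) (c i)
    refine ⟨n, b, ?_⟩
    rw [mul_comm, ← map_pow]
    exact hb
  choose n b hb using h1
  refine ⟨Finset.univ.sup n, fun i => g ^ (Finset.univ.sup n - n i) * b i, fun i => ?_⟩
  have hle : n i ≤ Finset.univ.sup n := Finset.le_sup (Finset.mem_univ i)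
  rw [map_mul, map_pow, ← hb i, ← mul_assoc, ← pow_add, Nat.sub_add_cancel hle]

variable {ι : Type*} [Fintype ι] {W : X.Opens} (t : ι → Γ(F, W))

/-- The span of the restrictions of the `t i` to `O`. -/
noncomputable def comb (O : X.Opens) (hO : O ≤ W) : Submodule Γ(X, O) Γ(F, O) :=
  Submodule.span Γ(X, O) (Set.range fun i => F.presheaf.map (homOfLE hO).op (t i))

omit [Fintype ι] in
lemma res_mem_comb {O O' : X.Opens} (hO : O ≤ W) (h : O' ≤ O) (z : Γ(F, O))
    (hz : z ∈ comb t O hO) : F.presheaf.map (homOfLE h).op z ∈ comb t O' (h.trans hO) := by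
  unfold comb at hz ⊢
  induction hz using Submodule.span_induction with
  | mem x hx =>
    obtain ⟨i, rfl⟩ := hx
    rw [res_res]
    exact Submodule.subset_span ⟨i, rfl⟩
  | zero =>
    rw [map_zero]
    exact Submodule.zero_mem _
  | add x y _ _ hx hy =>
    rw [map_add]
    exact Submodule.add_mem _ hx hy
  | smul r x _ hx =>
    rw [res_smul]
    exact Submodule.smul_mem _ _ hx

/-- The subsheaf of sections which, on `W`, are locally combinations of the `t i`. -/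
noncomputable def gen : SubSh F where
  mem A x := ∀ p ∈ A ⊓ W, ∃ (O : X.Opens) (hO : O ≤ A ⊓ W), p ∈ O ∧
    F.presheaf.map (homOfLE (hO.trans inf_le_left)).op x ∈ comb t O (hO.trans inf_le_right)
  zero_mem A := fun p hp => ⟨A ⊓ W, le_rfl, hp, by
    rw [map_zero]
    exact Submodule.zero_mem _⟩
  add_mem A x y hx hy := fun p hp => by
    obtain ⟨O₁, hO₁, hp₁, h₁⟩ := hx p hp
    obtain ⟨O₂, hO₂, hp₂, h₂⟩ := hy p hp
    refine ⟨O₁ ⊓ O₂, inf_le_left.trans hO₁, ⟨hp₁, hp₂⟩, ?_⟩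
    rw [map_add]
    refine Submodule.add_mem _ ?_ ?_
    · have h3 := res_mem_comb t (hO₁.trans inf_le_right) (inf_le_left : O₁ ⊓ O₂ ≤ O₁) _ h₁
      rw [res_res] at h3
      exact h3
    · have h3 := res_mem_comb t (hO₂.trans inf_le_right) (inf_le_right : O₁ ⊓ O₂ ≤ O₂) _ h₂
      rw [res_res] at h3
      exact h3
  smul_mem A r x hx := fun p hp => by
    obtain ⟨O, hO, hpO, h⟩ := hx p hp
    refine ⟨O, hO, hpO, ?_⟩
    rw [res_smul]
    exact Submodule.smul_mem _ _ h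
  res_mem {A B} hBA x hx := fun p hp => by
    obtain ⟨O, hO, hpO, h⟩ := hx p ⟨hBA hp.1, hp.2⟩
    refine ⟨O ⊓ B, le_inf inf_le_right (inf_le_left.trans (hO.trans inf_le_right)),
      ⟨hpO, hp.1⟩, ?_⟩
    rw [res_res]
    have h3 := res_mem_comb t (hO.trans inf_le_right) (inf_le_left : O ⊓ B ≤ O) _ h
    rw [res_res] at h3
    exact h3
  local_mem A x h := fun p hp => by
    obtain ⟨B, hBA, hpB, hB⟩ := h p hp.1
    obtain ⟨O, hO, hpO, hc⟩ := hB p ⟨hpB, hp.2⟩
    refine ⟨O, hO.trans (inf_le_inf_right W hBA), hpO, ?_⟩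
    rw [res_res] at hc
    exact hc

lemma gen_isSat : (gen t).IsSat W := by
  intro A x h p hp
  obtain ⟨O, hO, hpO, hc⟩ := h p ⟨hp, hp.2⟩
  refine ⟨O, hO.trans inf_le_left, hpO, ?_⟩
  rw [res_res] at hc
  exact hc

lemma mem_gen_of_comb {A : X.Opens} (hA : A ≤ W) (z : Γ(F, A)) (hz : z ∈ comb t A hA) :
    (gen t).mem A z := by
  intro p hp
  exact ⟨A ⊓ W, le_rfl, hp, res_mem_comb t hA inf_le_left z hz⟩

lemma mem_gen_self (i : ι) : (gen t).mem W (t i) := by
  refine mem_gen_of_comb t le_rfl _ ?_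
  have h : F.presheaf.map (homOfLE (le_refl W)).op (t i) ∈ comb t W le_rfl :=
    Submodule.subset_span ⟨i, rfl⟩
  rw [res_self'] at h
  exact h

/-- Over an affine open inside `W`, the sections of `gen t` are the combinations of the `t i`. -/
theorem mem_comb_of_mem_gen [F.IsQuasicoherent] {B : X.Opens} (hB : IsAffineOpen B) (hBW : B ≤ W)
    (x : Γ(F, B)) (hx : (gen t).mem B x) : x ∈ comb t B hBW := by
  let s : Set Γ(X, B) := {g | ∃ n : ℕ, g ^ n • x ∈ comb t B hBW}
  have hs : Ideal.span s = ⊤ := by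
    rw [← hB.self_le_iSup_basicOpen_iff]
    intro p hpB
    obtain ⟨O, hO, hpO, hc⟩ := hx p ⟨hpB, hBW hpB⟩
    obtain ⟨g, hgO, hpg⟩ := hB.exists_basicOpen_le ⟨p, hpO⟩ hpB
    have hgs : g ∈ s := by
      have hc' : F.presheaf.map (homOfLE (X.basicOpen_le g)).op x ∈
          comb t (X.basicOpen g) ((X.basicOpen_le g).trans hBW) := by
        have h3 := res_mem_comb t (hO.trans inf_le_right) hgO _ hc
        rw [res_res] at h3
        exact h3
      obtain ⟨c, hcx⟩ := (Submodule.mem_span_range_iff_exists_fun _).mp hc'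
      obtain ⟨N, b, hb⟩ := exists_pow_mul_eq_res hB g c
      have hw : F.presheaf.map (homOfLE (X.basicOpen_le g)).op
          (g ^ N • x - ∑ i, b i • F.presheaf.map (homOfLE hBW).op (t i)) = 0 := by
        rw [map_sub, res_smul, map_pow, map_sum, ← hcx, Finset.smul_sum, sub_eq_zero]
        refine Finset.sum_congr rfl (fun i _ => ?_)
        rw [res_smul, res_res, smul_smul, hb i]
      obtain ⟨N', hN'⟩ := exists_smul_eq_zero hB F g _ hw
      refine ⟨N' + N, ?_⟩
      rw [smul_sub, smul_smul, ← pow_add, sub_eq_zero] at hN'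
      rw [hN']
      exact Submodule.smul_mem _ _ (Submodule.sum_mem _ (fun i _ =>
        Submodule.smul_mem _ _ (Submodule.subset_span ⟨i, rfl⟩)))
    exact Opens.mem_iSup.mpr ⟨⟨g, hgs⟩, hpg⟩
  exact Submodule.mem_of_span_eq_top_of_smul_pow_mem _ s hs x (fun r => r.2)

theorem gen_QCOn [F.IsQuasicoherent] : (gen t).QCOn W := by
  intro B hB hBW b y hy
  have hD : X.basicOpen b ≤ W := (X.basicOpen_le b).trans hBW
  have hy' := mem_comb_of_mem_gen t (hB.basicOpen b) hD y hy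
  obtain ⟨c, hcy⟩ := (Submodule.mem_span_range_iff_exists_fun _).mp hy'
  obtain ⟨N, b', hb'⟩ := exists_pow_mul_eq_res hB b c
  refine ⟨N, ∑ i, b' i • F.presheaf.map (homOfLE hBW).op (t i), ?_, ?_⟩
  · exact mem_gen_of_comb t hBW _ (Submodule.sum_mem _ (fun i _ =>
      Submodule.smul_mem _ _ (Submodule.subset_span ⟨i, rfl⟩)))
  · rw [← hcy, Finset.smul_sum, map_sum]
    refine Finset.sum_congr rfl (fun i _ => ?_)
    rw [res_smul, res_res, smul_smul, hb' i]

theorem gen_QC [F.IsQuasicoherent]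
    (hcomp : ∀ A : X.Opens, IsAffineOpen A → IsCompact ((A ⊓ W : X.Opens) : Set X)) :
    (gen t).QC :=
  QC_of_isSat (gen t) W (gen_isSat t) (gen_QCOn t) hcomp

end Gen

section FT

variable (K : SubSh F)

/-- Finite generation of the sections over all affine opens inside `V`. -/
def FTOn (V : X.Opens) : Prop := ∀ A : X.Opens, IsAffineOpen A → A ≤ V → (K.sub A).FG

lemma finite_iff (A : X.Opens) : Module.Finite Γ(X, A) Γ(K.toModules, A) ↔ (K.sub A).FG :=
  Module.Finite.iff_fg (N := K.sub A)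

lemma sub_congr {K K' : SubSh F} {A : X.Opens} (h : ∀ x, K'.mem A x ↔ K.mem A x) :
    K'.sub A = K.sub A :=
  Submodule.ext h

lemma fg_of_locally [F.IsQuasicoherent] (hK : K.QC) {A : X.Opens} (hA : IsAffineOpen A)
    (h : ∀ p ∈ A, ∃ g : Γ(X, A), p ∈ X.basicOpen g ∧ (K.sub (X.basicOpen g)).FG) :
    (K.sub A).FG := by
  haveI := K.isQuasicoherent_toModules hK
  let s : Set Γ(X, A) := {g | (K.sub (X.basicOpen g)).FG}
  have hs : Ideal.span s = ⊤ := by
    rw [← hA.self_le_iSup_basicOpen_iff]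
    intro p hp
    obtain ⟨g, hpg, hg⟩ := h p hp
    exact Opens.mem_iSup.mpr ⟨⟨g, hg⟩, hpg⟩
  obtain ⟨s', hs's, hs'⟩ := (Ideal.span_eq_top_iff_finite s).mp hs
  rw [← K.finite_iff]
  exact finite_of_span K.toModules hA s' hs' (fun a => (K.finite_iff _).mpr (hs's a.2))

lemma ftOn_of_fg [F.IsQuasicoherent] (hK : K.QC) {W : X.Opens} (hW : IsAffineOpen W)
    (h : (K.sub W).FG) : K.FTOn W := by
  haveI := K.isQuasicoherent_toModules hK
  intro A hA hAW
  refine K.fg_of_locally hK hA (fun p hp => ?_)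
  obtain ⟨g, hgA, hpg⟩ := hW.exists_basicOpen_le ⟨p, hp⟩ (hAW hp)
  have e : X.basicOpen (X.presheaf.map (homOfLE hAW).op g) = X.basicOpen g := by
    rw [X.basicOpen_res]
    exact inf_eq_right.mpr hgA
  refine ⟨X.presheaf.map (homOfLE hAW).op g, by rw [e]; exact hpg, ?_⟩
  rw [e, ← K.finite_iff]
  exact finite_basicOpen K.toModules hW g ((K.finite_iff W).mpr h)

lemma FTOn.sup [F.IsQuasicoherent] (hK : K.QC) {V₁ V₂ : X.Opens} (h₁ : K.FTOn V₁)
    (h₂ : K.FTOn V₂) : K.FTOn (V₁ ⊔ V₂) := by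
  intro A hA hAV
  refine K.fg_of_locally hK hA (fun p hp => ?_)
  have hpV : p ∈ (V₁ : Set X) ∪ V₂ := hAV hp
  rcases hpV with hp1 | hp2
  · have hpAV : p ∈ A ⊓ V₁ := ⟨hp, hp1⟩
    obtain ⟨g, hg, hpg⟩ := hA.exists_basicOpen_le ⟨p, hpAV⟩ hp
    exact ⟨g, hpg, h₁ _ (hA.basicOpen g) (hg.trans inf_le_right)⟩
  · have hpAV : p ∈ A ⊓ V₂ := ⟨hp, hp2⟩
    obtain ⟨g, hg, hpg⟩ := hA.exists_basicOpen_le ⟨p, hpAV⟩ hp
    exact ⟨g, hpg, h₂ _ (hA.basicOpen g) (hg.trans inf_le_right)⟩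

lemma FTOn.congr {K K' : SubSh F} {V : X.Opens}
    (h : ∀ A : X.Opens, A ≤ V → ∀ x, K'.mem A x ↔ K.mem A x) (hK : K.FTOn V) : K'.FTOn V := by
  intro A hA hAV
  rw [sub_congr (h A hAV)]
  exact hK A hA hAV

lemma ftOn_bot : K.FTOn ⊥ := by
  intro A hA hA'
  have hAbot : A = ⊥ := le_bot_iff.mp hA'
  subst hAbot
  have h0 : ∀ x : Γ(F, (⊥ : X.Opens)), x = 0 := fun x =>
    section_eq_of_cover F x 0 (fun p hp => (Opens.mem_bot.mp hp).elim)
  have h1 : K.sub ⊥ = ⊥ := by
    rw [eq_bot_iff]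
    intro x _
    rw [h0 x]
    exact Submodule.zero_mem _
  rw [h1]
  exact Submodule.fg_bot

theorem isFiniteType_toModules [F.IsQuasicoherent] (hK : K.QC) (hft : K.FTOn ⊤) :
    SheafOfModules.IsFiniteType (R := X.ringCatSheaf) K.toModules := by
  haveI := K.isQuasicoherent_toModules hK
  exact isFiniteType_of_forall_affine_finite K.toModules
    (fun U => (K.finite_iff U.1).mpr (hft U.1 U.2 le_top))

/-- The shrinking step: keep `K` over `V`, make it finitely generated over the affine open `W`. -/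
theorem exists_shrink [F.IsQuasicoherent] (hK : K.QC) (V : X.Opens) (hKV : K.FTOn V)
    (W : X.Opens) (hW : IsAffineOpen W) (hVW : IsCompact ((V ⊓ W : X.Opens) : Set X))
    (hcomp : ∀ A : X.Opens, IsAffineOpen A → IsCompact ((A ⊓ W : X.Opens) : Set X))
    {ι₀ : Type u} [Fintype ι₀] (t₀ : ι₀ → Γ(F, W)) (ht₀ : ∀ i, K.mem W (t₀ i)) :
    ∃ K' : SubSh F, K'.QC ∧ (∀ (A : X.Opens) (x : Γ(F, A)), K'.mem A x → K.mem A x) ∧
      (∀ A : X.Opens, A ≤ V → ∀ x : Γ(F, A), K.mem A x → K'.mem A x) ∧ (K'.sub W).FG ∧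
      ∀ i, K'.mem W (t₀ i) := by
  let I := {g : Γ(X, W) // X.basicOpen g ≤ V ⊓ W}
  obtain ⟨s, hs⟩ : ∃ s : Finset I, ∀ p ∈ V ⊓ W, ∃ g ∈ s, p ∈ X.basicOpen g.1 := by
    have hcov : ((V ⊓ W : X.Opens) : Set X) ⊆ ⋃ g : I, (X.basicOpen g.1 : Set X) := by
      intro p hp
      obtain ⟨g, hg, hpg⟩ := hW.exists_basicOpen_le ⟨p, hp⟩ hp.2
      exact Set.mem_iUnion.mpr ⟨⟨g, hg⟩, hpg⟩
    obtain ⟨s, hs⟩ := hVW.elim_finite_subcover (fun g : I => (X.basicOpen g.1 : Set X))
      (fun g => (X.basicOpen g.1).2) hcov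
    refine ⟨s, fun p hp => ?_⟩
    obtain ⟨g, hg, hpg⟩ := Set.mem_iUnion₂.mp (hs hp)
    exact ⟨g, hg, hpg⟩
  have h2 : ∀ g : I, ∃ (n : ℕ) (x : Fin n → Γ(F, W)), (∀ j, K.mem W (x j)) ∧
      ∀ z : Γ(F, X.basicOpen g.1), K.mem _ z →
        z ∈ comb x (X.basicOpen g.1) (X.basicOpen_le g.1) := by
    intro g
    have hfg := hKV _ (hW.basicOpen g.1) (g.2.trans inf_le_left)
    obtain ⟨n, y, hy⟩ := Submodule.fg_iff_exists_fin_generating_family.mp hfg
    have hyK : ∀ j, K.mem _ (y j) := fun j => by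
      have h3 : y j ∈ K.sub (X.basicOpen g.1) := by
        rw [← hy]
        exact Submodule.subset_span ⟨j, rfl⟩
      exact h3
    have h3 : ∀ j, ∃ (m : ℕ) (x : Γ(F, W)), K.mem W x ∧
        (X.presheaf.map (homOfLE (X.basicOpen_le g.1)).op g.1) ^ m • y j =
          F.presheaf.map (homOfLE (X.basicOpen_le g.1)).op x :=
      fun j => hK W hW g.1 (y j) (hyK j)
    choose m x hxK hx using h3
    refine ⟨n, x, hxK, fun z hz => ?_⟩
    have hz' : z ∈ Submodule.span Γ(X, X.basicOpen g.1) (Set.range y) := by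
      rw [hy]
      exact hz
    refine (Submodule.span_le.mpr ?_) hz'
    rintro _ ⟨j, rfl⟩
    have hunit : IsUnit (X.presheaf.map (homOfLE (X.basicOpen_le g.1)).op g.1) :=
      X.toRingedSpace.isUnit_res_basicOpen g.1
    obtain ⟨u, hu⟩ := hunit.exists_left_inv
    have h4 : y j = u ^ m j • F.presheaf.map (homOfLE (X.basicOpen_le g.1)).op (x j) := by
      rw [← hx j, smul_smul, ← mul_pow, hu, one_pow, one_smul]
    rw [h4]
    exact Submodule.smul_mem _ _ (Submodule.subset_span ⟨j, rfl⟩)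
  choose n x hxK hgen using h2
  let t : ι₀ ⊕ (Σ g : s, Fin (n g.1)) → Γ(F, W) := Sum.elim t₀ (fun gj => x gj.1.1 gj.2)
  have htK : ∀ i, K.mem W (t i) := by
    rintro (i | ⟨g, j⟩)
    · exact ht₀ i
    · exact hxK g.1 j
  have hGQC : (gen t).QC := gen_QC t hcomp
  refine ⟨K.inf (gen t), QC.inf hK hGQC, fun A x hx => hx.1, ?_, ?_, ?_⟩
  · intro A hAV x hx
    refine ⟨hx, ?_⟩
    intro p hp
    obtain ⟨g, hgs, hpg⟩ := hs p ⟨hAV hp.1, hp.2⟩
    have hDaff := hW.basicOpen g.1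
    have hpAD : p ∈ A ⊓ X.basicOpen g.1 := ⟨hp.1, hpg⟩
    obtain ⟨g', hg'le, hpg'⟩ := hDaff.exists_basicOpen_le ⟨p, hpAD⟩ hpg
    have hOA : X.basicOpen g' ≤ A := hg'le.trans inf_le_left
    have hOW : X.basicOpen g' ≤ W := (X.basicOpen_le g').trans (X.basicOpen_le g.1)
    refine ⟨X.basicOpen g', le_inf hOA hOW, hpg', ?_⟩
    have hzK : K.mem _ (F.presheaf.map (homOfLE hOA).op x) := K.res_mem hOA x hx
    obtain ⟨m, w, hwK, hw⟩ := hK _ hDaff g' _ hzK
    have hwc := hgen g w hwK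
    have hwc' : w ∈ comb t (X.basicOpen g.1) (X.basicOpen_le g.1) := by
      refine (Submodule.span_mono ?_) hwc
      rintro _ ⟨j, rfl⟩
      exact ⟨Sum.inr ⟨⟨g, hgs⟩, j⟩, rfl⟩
    have h4 := res_mem_comb t (X.basicOpen_le g.1) (X.basicOpen_le g') w hwc'
    have hunit : IsUnit (X.presheaf.map (homOfLE (X.basicOpen_le g')).op g') :=
      X.toRingedSpace.isUnit_res_basicOpen g'
    obtain ⟨u, hu⟩ := hunit.exists_left_inv
    have h5 : F.presheaf.map (homOfLE hOA).op x =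
        u ^ m • F.presheaf.map (homOfLE (X.basicOpen_le g')).op w := by
      rw [← hw, smul_smul, ← mul_pow, hu, one_pow, one_smul]
    rw [h5]
    exact Submodule.smul_mem _ _ h4
  · have h6 : (K.inf (gen t)).sub W = comb t W le_rfl := by
      apply le_antisymm
      · intro z hz
        exact mem_comb_of_mem_gen t hW le_rfl z hz.2
      · unfold comb
        rw [Submodule.span_le]
        rintro _ ⟨i, rfl⟩
        beta_reduce
        rw [res_self']
        exact ⟨htK i, mem_gen_self t i⟩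
    rw [h6]
    exact Submodule.fg_span (Set.finite_range _)
  · exact fun i => ⟨ht₀ i, mem_gen_self t (Sum.inl i)⟩

/-- The union of a list of affine opens. -/
def listSup (l : List X.affineOpens) : X.Opens := l.foldr (fun W acc => W.1 ⊔ acc) ⊥

lemma le_listSup {l : List X.affineOpens} {W : X.affineOpens} (h : W ∈ l) : W.1 ≤ listSup l := by
  induction l with
  | nil => cases h
  | cons W' l ih =>
    rcases List.mem_cons.mp h with rfl | h'
    · exact le_sup_left
    · exact (ih h').trans le_sup_right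

/-- Iterating the shrinking step over a finite list of affine opens. -/
theorem exists_ft_of_list [F.IsQuasicoherent] [QuasiSeparatedSpace X] (l : List X.affineOpens) :
    ∀ (K : SubSh F) (_ : K.QC) (V : X.Opens) (_ : IsCompact (V : Set X)) (_ : K.FTOn V),
    ∃ K' : SubSh F, K'.QC ∧ (∀ (A : X.Opens) (x : Γ(F, A)), K'.mem A x → K.mem A x) ∧
      (∀ A : X.Opens, A ≤ V → ∀ x : Γ(F, A), K.mem A x → K'.mem A x) ∧
      K'.FTOn (V ⊔ listSup l) := by
  induction l with
  | nil =>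
    intro K hK V hV hKV
    refine ⟨K, hK, fun _ _ h => h, fun _ _ _ h => h, ?_⟩
    have h1 : V ⊔ listSup ([] : List X.affineOpens) = V := sup_bot_eq V
    rw [h1]
    exact hKV
  | cons W l ih =>
    intro K hK V hV hKV
    have hcompW : ∀ A : X.Opens, IsAffineOpen A →
        IsCompact ((A ⊓ W.1 : X.Opens) : Set X) := fun A hA =>
      QuasiSeparatedSpace.inter_isCompact _ _ A.2 hA.isCompact W.1.2 W.2.isCompact
    obtain ⟨K₁, hK₁, hle₁, hge₁, hfg₁, -⟩ := K.exists_shrink hK V hKV W.1 W.2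
      (QuasiSeparatedSpace.inter_isCompact _ _ V.2 hV W.1.2 W.2.isCompact) hcompW
      (fun i : PEmpty.{u + 1} => i.elim) (fun i => i.elim)
    have hKV₁ : K₁.FTOn (V ⊔ W.1) := by
      refine FTOn.sup K₁ hK₁ ?_ (K₁.ftOn_of_fg hK₁ W.2 hfg₁)
      exact FTOn.congr (fun A hA x => ⟨hle₁ A x, hge₁ A hA x⟩) hKV
    have hVW : IsCompact ((V ⊔ W.1 : X.Opens) : Set X) := hV.union W.2.isCompact
    obtain ⟨K', hK', hle', hge', hft'⟩ := ih K₁ hK₁ (V ⊔ W.1) hVW hKV₁
    refine ⟨K', hK', fun A x h => hle₁ A x (hle' A x h),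
      fun A hA x h => hge' A (hA.trans le_sup_left) x (hge₁ A hA x h), ?_⟩
    have h1 : V ⊔ listSup (W :: l) = (V ⊔ W.1) ⊔ listSup l := by
      show V ⊔ (W.1 ⊔ listSup l) = _
      rw [sup_assoc]
    rw [h1]
    exact hft'

end FT

end SubSh

end Groth.Agent.H22
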