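import Mathlib
import Groth.Agent.H8.QCohQcqs
import Groth.Agent.H22.GenLocus

/-!
# Generating sections of invertible modules (helper22)

`IsGenOn L U σ`: the section `σ ∈ Γ(L, U)` freely generates `L` over every open `V ≤ U`.
Also: non-vanishing loci of finite sums (`mem_basicOpen_sum`, `exists_mem_basicOpen_of_sum`) and
products (`mem_basicOpen_prod`) of functions, through the local rings.
-/

set_option autoImplicit false
set_option linter.style.haveILetI false
universe u
open CategoryTheory CategoryTheory.Limits AlgebraicGeometry TopologicalSpace Opposite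

namespace Groth.Agent.H22.GenSection

open Groth.Agent.H8

variable {X : Scheme.{u}}

section LocalRing

variable {ι : Type*} {W : X.Opens}

/-- A finite sum of functions with exactly one non-vanishing term at `z` does not vanish at `z`. -/
lemma mem_basicOpen_sum (z : X) (hz : z ∈ W) (T : Finset ι) (x : ι → Γ(X, W)) (t₀ : ι)
    (ht₀ : t₀ ∈ T) (h₀ : z ∈ X.basicOpen (x t₀))
    (h : ∀ t ∈ T, t ≠ t₀ → z ∉ X.basicOpen (x t)) : z ∈ X.basicOpen (∑ t ∈ T, x t) := by
  classical
  rw [X.mem_basicOpen _ z hz] at h₀ ⊢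
  rw [← Finset.add_sum_erase T x ht₀, map_add]
  have h2 : (X.presheaf.germ W z hz).hom (∑ t ∈ T.erase t₀, x t) ∈
      IsLocalRing.maximalIdeal (X.presheaf.stalk z) := by
    rw [map_sum]
    refine Ideal.sum_mem _ fun t ht => ?_
    rw [IsLocalRing.mem_maximalIdeal, mem_nonunits_iff]
    intro hu
    exact h t (Finset.mem_of_mem_erase ht) (Finset.ne_of_mem_erase ht)
      ((X.mem_basicOpen _ z hz).mpr hu)
  by_contra hcon
  have h3 : (X.presheaf.germ W z hz).hom (x t₀) + (X.presheaf.germ W z hz).hom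
      (∑ t ∈ T.erase t₀, x t) ∈ IsLocalRing.maximalIdeal (X.presheaf.stalk z) := by
    rw [IsLocalRing.mem_maximalIdeal, mem_nonunits_iff]
    exact hcon
  have h4 := (IsLocalRing.maximalIdeal (X.presheaf.stalk z)).sub_mem h3 h2
  rw [add_sub_cancel_right, IsLocalRing.mem_maximalIdeal, mem_nonunits_iff] at h4
  exact h4 h₀

/-- If a finite sum of functions does not vanish at `z`, one of the terms does not. -/
lemma exists_mem_basicOpen_of_sum (z : X) (T : Finset ι) (x : ι → Γ(X, W))
    (h : z ∈ X.basicOpen (∑ t ∈ T, x t)) : ∃ t ∈ T, z ∈ X.basicOpen (x t) := by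
  have hz : z ∈ W := X.basicOpen_le _ h
  by_contra hcon
  push Not at hcon
  rw [X.mem_basicOpen _ z hz, map_sum] at h
  have h2 : ∑ t ∈ T, (X.presheaf.germ W z hz).hom (x t) ∈
      IsLocalRing.maximalIdeal (X.presheaf.stalk z) := by
    refine Ideal.sum_mem _ fun t ht => ?_
    rw [IsLocalRing.mem_maximalIdeal, mem_nonunits_iff]
    intro hu
    exact hcon t ht ((X.mem_basicOpen _ z hz).mpr hu)
  rw [IsLocalRing.mem_maximalIdeal, mem_nonunits_iff] at h2
  exact h2 h

/-- A finite product of functions does not vanish at `z` iff none of the factors does. -/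
lemma mem_basicOpen_prod (z : X) (hz : z ∈ W) (T : Finset ι) (x : ι → Γ(X, W)) :
    z ∈ X.basicOpen (∏ t ∈ T, x t) ↔ ∀ t ∈ T, z ∈ X.basicOpen (x t) := by
  rw [X.mem_basicOpen _ z hz, map_prod, IsUnit.prod_iff]
  exact forall₂_congr fun t _ => (X.mem_basicOpen _ z hz).symm

lemma mem_basicOpen_mul (z : X) (hz : z ∈ W) (a b : Γ(X, W)) :
    z ∈ X.basicOpen (a * b) ↔ z ∈ X.basicOpen a ∧ z ∈ X.basicOpen b := by
  rw [X.mem_basicOpen _ z hz, X.mem_basicOpen _ z hz, X.mem_basicOpen _ z hz, map_mul,
    IsUnit.mul_iff]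

end LocalRing

/-- `σ` freely generates `L` over every open contained in `U`. -/
def IsGenOn (L : X.Modules) (U : X.Opens) (σ : Γ(L, U)) : Prop :=
  ∀ (V : X.Opens) (hV : V ≤ U), Function.Bijective
    (fun r : Γ(X, V) => r • L.presheaf.map (homOfLE hV).op σ)

namespace IsGenOn

variable {L : X.Modules} {U : X.Opens} {σ : Γ(L, U)}

lemma res (h : IsGenOn L U σ) {W : X.Opens} (hW : W ≤ U) :
    IsGenOn L W (L.presheaf.map (homOfLE hW).op σ) := by
  intro V hV
  have := h V (hV.trans hW)
  simpa only [res_res] using this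

lemma unit_smul (h : IsGenOn L U σ) (u : Γ(X, U)) (hu : IsUnit u) : IsGenOn L U (u • σ) := by
  intro V hV
  have hb := h V hV
  have hu' : IsUnit (X.presheaf.map (homOfLE hV).op u) := hu.map _
  obtain ⟨w, hw⟩ := hu'
  have hfun : (fun r : Γ(X, V) => r • L.presheaf.map (homOfLE hV).op (u • σ)) =
      (fun r : Γ(X, V) => r • L.presheaf.map (homOfLE hV).op σ) ∘ (fun r : Γ(X, V) => r * w) := by
    funext r
    simp only [Function.comp_apply]
    rw [res_smul, ← hw, mul_smul]
  rw [hfun]
  exact hb.comp (Units.mulRight_bijective w)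

lemma exists_eq_smul (h : IsGenOn L U σ) (m : Γ(L, U)) : ∃ c : Γ(X, U), m = c • σ := by
  obtain ⟨c, hc⟩ := (h U le_rfl).2 m
  refine ⟨c, ?_⟩
  have e : L.presheaf.map (homOfLE (le_refl U)).op σ = σ := by
    have : (homOfLE (le_refl U)).op = 𝟙 (op U) := rfl
    rw [this, L.presheaf.map_id]
    rfl
  simp only at hc
  rw [e] at hc
  exact hc.symm

/-- If `m = u • σ` with `σ` generating over `U`, then `m` generates over `D(u)`. -/
lemma basicOpen (h : IsGenOn L U σ) (u : Γ(X, U)) :
    IsGenOn L (X.basicOpen u) (L.presheaf.map (homOfLE (X.basicOpen_le u)).op (u • σ)) := by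
  rw [res_smul]
  exact (h.res (X.basicOpen_le u)).unit_smul _ (RingedSpace.isUnit_res_basicOpen X.toRingedSpace u)

end IsGenOn

/-- A trivialisation gives a generating section. -/
lemma exists_isGenOn (L : X.Modules) (U : X.Opens)
    (e : L.restrict U.ι ≅ Coh.structureModule (↑U : Scheme.{u})) : ∃ σ : Γ(L, U), IsGenOn L U σ :=
  GenLocus.exists_generator L U e

end Groth.Agent.H22.GenSection
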