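import Mathlib
import Groth.Agent.H18.RestrictTensor
import Groth.Agent.H22.GenSection
import Groth.Agent.H18.AmpleBasis
import Groth.Agent.H18.TwistAmple
import Groth.Agent.S9813
import Groth.Prelude.Def_LCI2

/-!
# Ampleness is local over an affine base (helper22)

* `GenAt N t x`: the section `t` generates the module `N` near `x`.
* `mem_genLocus_iff_isGen`, `mem_genLocus_secHom`.
* `isAmple_of_basicOpen_cover`: on a qcqs scheme `Z`, a module which is ample on each member of a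
  cover by `D(φ)`, `φ` global functions, is ample.
-/

set_option autoImplicit false
set_option linter.style.haveILetI false
universe u
open CategoryTheory CategoryTheory.Limits AlgebraicGeometry TopologicalSpace Opposite

namespace Groth.Agent.H22.AmpleLocal

open Groth.Agent.H8 (res_res res_smul ringRes_res)
open Groth.Agent.H18.SecTw Groth.Agent.H18.TensorGen Groth.Agent.H18.TensorPowIso
  Groth.Agent.H18.RestrictTensor Groth.Agent.H22.GenSection

variable {X : Scheme.{u}}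

lemma app_eq_smul_sv {L : X.Modules} (s : Coh.structureModule X ⟶ L) (V : X.Opens)
    (r : Γ(X, V)) :
    s.app V (show Γ(Coh.structureModule X, V) from r) = r • sv s V := by
  have h1 := (s.val.app (op V)).hom.map_smul r (1 : Γ(X, V))
  have h2 : (r • (1 : Γ(X, V)) : Γ(X, V)) = r := mul_one r
  refine Eq.trans ?_ h1
  exact congrArg _ h2.symm

lemma mem_genLocus_iff_isGen {L : X.Modules} (s : Coh.structureModule X ⟶ L) (x : X) :
    x ∈ CohB1.genLocus L s ↔ ∃ V : X.Opens, x ∈ V ∧ IsGen L V (sv s V) := by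
  rw [GenLocus.mem_genLocus_iff]
  have he : ∀ (U V : X.Opens) (hV : V ≤ U),
      (fun r : Γ(X, V) => r • L.presheaf.map (homOfLE hV).op (sv s U)) =
        fun r : Γ(X, V) => s.app V (show Γ(Coh.structureModule X, V) from r) := by
    intro U V hV
    funext r
    rw [sv_res, app_eq_smul_sv]
  constructor
  · rintro ⟨U, hxU, hU⟩
    refine ⟨U, hxU, fun V hV => ?_⟩
    rw [he]
    exact hU V hV
  · rintro ⟨U, hxU, hU⟩
    refine ⟨U, hxU, fun V hV => ?_⟩
    have hb := hU V hV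
    rw [he] at hb
    exact hb

/-- The section `t` of `N` over `W` generates `N` near `x`. -/
def GenAt (N : X.Modules) {W : X.Opens} (t : Γ(N, W)) (x : X) : Prop :=
  ∃ (V : X.Opens) (h : V ≤ W), x ∈ V ∧ IsGen N V (N.presheaf.map (homOfLE h).op t)

lemma GenAt.mem {N : X.Modules} {W : X.Opens} {t : Γ(N, W)} {x : X} (h : GenAt N t x) : x ∈ W := by
  obtain ⟨V, hV, hx, -⟩ := h
  exact hV hx

lemma genAt_res {N : X.Modules} {W W' : X.Opens} (hW : W' ≤ W) (t : Γ(N, W)) {x : X}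
    (hx : x ∈ W') : GenAt N (N.presheaf.map (homOfLE hW).op t) x ↔ GenAt N t x := by
  constructor
  · rintro ⟨V, hV, hxV, hg⟩
    refine ⟨V, hV.trans hW, hxV, ?_⟩
    rw [res_res] at hg
    exact hg
  · rintro ⟨V, hV, hxV, hg⟩
    refine ⟨V ⊓ W', inf_le_right, ⟨hxV, hx⟩, ?_⟩
    have := hg.res (inf_le_left : V ⊓ W' ≤ V)
    rw [res_res] at this ⊢
    exact this

lemma GenAt.unit_smul {N : X.Modules} {W : X.Opens} {t : Γ(N, W)} {x : X} (h : GenAt N t x)
    (u : Γ(X, W)) (hu : IsUnit u) : GenAt N (u • t) x := by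
  obtain ⟨V, hV, hxV, hg⟩ := h
  refine ⟨V, hV, hxV, ?_⟩
  rw [res_smul]
  exact IsGenOn.unit_smul (show IsGenOn N V _ from hg) _ (hu.map _)

lemma genAt_unit_smul {N : X.Modules} {W : X.Opens} (t : Γ(N, W)) {x : X}
    (u : Γ(X, W)) (hu : IsUnit u) : GenAt N (u • t) x ↔ GenAt N t x := by
  refine ⟨fun h => ?_, fun h => h.unit_smul u hu⟩
  obtain ⟨w, rfl⟩ := hu
  have := h.unit_smul (↑w⁻¹ : Γ(X, W)) (Units.isUnit _)
  rwa [← mul_smul, Units.inv_mul, one_smul] at this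

lemma mem_genLocus_secHom (N : X.Modules) (t : Γ(N, ⊤)) (x : X) :
    x ∈ CohB1.genLocus N (secHom N t) ↔ GenAt N t x := by
  rw [mem_genLocus_iff_isGen]
  constructor
  · rintro ⟨V, hxV, hg⟩
    rw [sv_secHom] at hg
    exact ⟨V, le_top, hxV, hg⟩
  · rintro ⟨V, hV, hxV, hg⟩
    refine ⟨V, hxV, ?_⟩
    rw [sv_secHom]
    exact hg

lemma mem_genLocus_iff_genAt {N : X.Modules} (s : Coh.structureModule X ⟶ N) (x : X) :
    x ∈ CohB1.genLocus N s ↔ GenAt N (sv s ⊤) x := by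
  rw [mem_genLocus_iff_isGen]
  constructor
  · rintro ⟨V, hxV, hg⟩
    refine ⟨V, le_top, hxV, ?_⟩
    rw [sv_res]
    exact hg
  · rintro ⟨V, hV, hxV, hg⟩
    refine ⟨V, hxV, ?_⟩
    rw [sv_res] at hg
    exact hg

section Restrict

variable {Y : Scheme.{u}} (j : Y ⟶ X) [IsOpenImmersion j]

lemma genAt_restrict (N : X.Modules) {W' : Y.Opens} (t : Γ(N.restrict j, W')) (y : Y) :
    GenAt (N.restrict j) t y ↔ GenAt N (ofRes j N t) (j y) := by
  constructor
  · rintro ⟨V', hV', hy, hg⟩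
    exact ⟨j ''ᵁ V', j.image_mono hV', ⟨y, hy, rfl⟩, isGen_of_restrict j N hg⟩
  · rintro ⟨V, hV, hy, hg⟩
    have hWeq : j ''ᵁ (j ⁻¹ᵁ V) = V := by
      rw [j.image_preimage_eq_opensRange_inf]
      exact inf_eq_right.mpr (hV.trans (j.image_le_opensRange W'))
    have hle : j ⁻¹ᵁ V ≤ W' := fun z hz => by
      have h1 : z ∈ j ⁻¹ᵁ (j ''ᵁ W') := hV hz
      rwa [j.preimage_image_eq] at h1
    obtain ⟨V', hV'W, rfl⟩ : ∃ V' : Y.Opens, V' ≤ W' ∧ j ''ᵁ V' = V := ⟨_, hle, hWeq⟩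
    have hy' : y ∈ V' := by
      obtain ⟨y', hy', hyy'⟩ := hy
      have : y' = y := j.isOpenEmbedding.injective hyy'
      exact this ▸ hy'
    exact ⟨V', hV'W, hy', isGen_restrict j N hg⟩

end Restrict

/-- If `(a * c) • γ` generates and `γ` generates, then `a` is a unit. -/
lemma isUnit_of_isGen_smul {N : X.Modules} {V : X.Opens} {γ : Γ(N, V)} (hγ : IsGen N V γ)
    (a c : Γ(X, V)) (h : IsGen N V ((a * c) • γ)) : IsUnit a := by
  obtain ⟨r, hr⟩ := h.self.2 γ
  simp only at hr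
  rw [← mul_smul] at hr
  have h1 : r * (a * c) = 1 := by
    apply hγ.self.1
    simp only
    rw [hr, one_smul]
  exact IsUnit.of_mul_eq_one (r * c) (by rw [← h1]; ring)

/-- If `φ • τ` generates an invertible module near `x`, then `φ` does not vanish at `x`. -/
lemma mem_basicOpen_of_genAt_smul {N : X.Modules} (hN : PicF.IsInvertible N) {W : X.Opens}
    (φ : Γ(X, W)) (τ : Γ(N, W)) {x : X} (h : GenAt N (φ • τ) x) : x ∈ X.basicOpen φ := by
  obtain ⟨V, hV, hxV, hg⟩ := h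
  obtain ⟨V₀, γ, hxV₀, hγ⟩ := exists_isGen hN x
  have hγ' := hγ.res (inf_le_right : V ⊓ V₀ ≤ V₀)
  have hg' := hg.res (inf_le_left : V ⊓ V₀ ≤ V)
  obtain ⟨c, hc⟩ := hγ'.self.2 (N.presheaf.map (homOfLE ((inf_le_left : V ⊓ V₀ ≤ V).trans hV)).op τ)
  simp only at hc
  rw [res_res, res_smul, ← hc, ← mul_smul] at hg'
  have hu := isUnit_of_isGen_smul hγ' _ _ hg'
  exact (GenLocus.isUnit_res_iff _ φ).mp hu ⟨hxV, hxV₀⟩

/-- On a quasi-compact quasi-separated scheme, a module which is ample on each member of a cover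
by non-vanishing loci of global functions is ample. -/
theorem isAmple_of_basicOpen_cover (Z : Scheme.{u}) [CompactSpace Z] [QuasiSeparatedSpace Z]
    (M : Z.Modules)
    (h : ∀ z : Z, ∃ φ : Γ(Z, ⊤), z ∈ Z.basicOpen φ ∧
      CohB1.IsAmple (M.restrict (Z.basicOpen φ).ι)) :
    CohB1.IsAmple M := by
  have hM : PicF.IsInvertible M := by
    refine isInvertible_of_isGen M (fun z => ?_)
    obtain ⟨φ, hz, hA⟩ := h z
    obtain ⟨V', τ, hzV', hτ⟩ := exists_isGen hA.1 (⟨z, hz⟩ : (Z.basicOpen φ).toScheme)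
    exact ⟨(Z.basicOpen φ).ι ''ᵁ V', ofRes _ M τ, ⟨⟨z, hz⟩, hzV', rfl⟩,
      isGen_of_restrict _ M hτ⟩
  refine ⟨hM, inferInstance, fun z => ?_⟩
  obtain ⟨φ, hz, hA⟩ := h z
  obtain ⟨n, s, hzs, haff⟩ := hA.2.2 ⟨z, hz⟩
  obtain ⟨ρ⟩ := nonempty_restrict_tensorPow (Z.basicOpen φ).ι hA.1 (n + 1)
  have hN : PicF.IsInvertible (CohB1.tensorPow M (n + 1)) := isInvertible_tensorPow hM (n + 1)
  haveI : (CohB1.tensorPow M (n + 1)).IsQuasicoherent :=
    Groth.Agent.H18.AmpleBasis.isQuasicoherent_of_isInvertible hN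
  have hs₁ : CohB1.genLocus _ (s ≫ ρ.inv) = CohB1.genLocus _ s :=
    Groth.Agent.H18.TwistAmple.genLocus_comp_iso s ρ.symm
  obtain ⟨t₀, ht₀⟩ : ∃ t₀ : Γ(CohB1.tensorPow M (n + 1), (Z.basicOpen φ).ι ''ᵁ ⊤),
      t₀ = ofRes _ _ (sv (s ≫ ρ.inv) ⊤) := ⟨_, rfl⟩
  have hDtop : Z.basicOpen φ ≤ (Z.basicOpen φ).ι ''ᵁ ⊤ := by
    rw [Scheme.Opens.ι_image_top]
  obtain ⟨t₁, ht₁⟩ : ∃ t₁ : Γ(CohB1.tensorPow M (n + 1), Z.basicOpen φ),
      t₁ = (CohB1.tensorPow M (n + 1)).presheaf.map (homOfLE hDtop).op t₀ := ⟨_, rfl⟩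
  obtain ⟨m, τ, hτ⟩ := Groth.Agent.H8.exists_smul_eq_res_of_qcqs (CohB1.tensorPow M (n + 1))
    (W := ⊤) (by simpa using CompactSpace.isCompact_univ (X := Z))
    (by simpa using isQuasiSeparated_univ (α := Z)) φ t₁
  have key : ∀ x : Z, x ∈ CohB1.genLocus _ (secHom (CohB1.tensorPow M (n + 1)) (φ • τ)) ↔
      x ∈ (Z.basicOpen φ).ι ''ᵁ CohB1.genLocus _ s := by
    intro x
    rw [mem_genLocus_secHom]
    have hB : ∀ x' : (Z.basicOpen φ).toScheme,
        GenAt (CohB1.tensorPow M (n + 1)) (φ • τ) ((Z.basicOpen φ).ι x') ↔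
          x' ∈ CohB1.genLocus _ s := by
      intro x'
      have hx'D : (Z.basicOpen φ).ι x' ∈ Z.basicOpen φ := x'.2
      have hu : IsUnit ((Z.presheaf.map (homOfLE (le_top : Z.basicOpen φ ≤ ⊤)).op φ) ^ (m + 1)) :=
        (RingedSpace.isUnit_res_basicOpen Z.toRingedSpace φ).pow (m + 1)
      rw [← genAt_res (le_top : Z.basicOpen φ ≤ ⊤) _ hx'D, res_smul, hτ, ← mul_smul,
        ← pow_succ', genAt_unit_smul _ _ hu,
        ht₁, genAt_res hDtop _ hx'D, ht₀, ← genAt_restrict, ← mem_genLocus_iff_genAt, hs₁]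
    constructor
    · intro hx
      have hxD := mem_basicOpen_of_genAt_smul hN φ τ hx
      exact ⟨⟨x, hxD⟩, (hB ⟨x, hxD⟩).mp hx, rfl⟩
    · rintro ⟨x', hx', rfl⟩
      exact (hB x').mpr hx'
  have heq : CohB1.genLocus _ (secHom (CohB1.tensorPow M (n + 1)) (φ • τ)) =
      (Z.basicOpen φ).ι ''ᵁ CohB1.genLocus _ s := Opens.ext (Set.ext key)
  refine ⟨n, secHom (CohB1.tensorPow M (n + 1)) (φ • τ), ?_, ?_⟩
  · rw [heq]
    exact ⟨⟨z, hz⟩, hzs, rfl⟩
  · rw [heq]
    exact haff.image_of_isOpenImmersion _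

section Transport

open AlgebraicGeometry.Scheme.Modules

variable {L : X.Modules}

/-- Ampleness of a restriction only depends on the range of the open immersion. -/
theorem isAmple_of_opensRange_eq {Z Z' : Scheme.{u}} (j : Z ⟶ X) (j' : Z' ⟶ X)
    [IsOpenImmersion j] [IsOpenImmersion j'] (hr : j'.opensRange = j.opensRange)
    (h : CohB1.IsAmple (L.restrict j)) : CohB1.IsAmple (L.restrict j') := by
  have hr' : Set.range j' = Set.range j := congrArg (fun U : X.Opens => (U : Set X)) hr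
  obtain ⟨k, hk⟩ : ∃ k : Z' ≅ Z, k.hom ≫ j = j' :=
    ⟨IsOpenImmersion.isoOfRangeEq j' j hr', IsOpenImmersion.isoOfRangeEq_hom_fac _ _ _⟩
  have : CompactSpace Z := h.2.1
  have : CompactSpace Z' := k.inv.homeomorph.compactSpace
  have h1 := Groth.Agent.H18.RestrictTensor.isAmple_restrict k.hom h
  have e : (L.restrict j).restrict k.hom ≅ L.restrict j' :=
    ((restrictFunctorComp k.hom j).app L).symm ≪≫ (restrictFunctorCongr hk).app L
  exact Groth.Agent.H18.AmpleIso.isAmple_of_iso e h1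

theorem isAmple_restrict_restrict_iff {Y W : Scheme.{u}} (a : Y ⟶ X) (b : W ⟶ Y)
    [IsOpenImmersion a] [IsOpenImmersion b] :
    CohB1.IsAmple ((L.restrict a).restrict b) ↔ CohB1.IsAmple (L.restrict (b ≫ a)) :=
  ⟨fun h => Groth.Agent.H18.AmpleIso.isAmple_of_iso ((restrictFunctorComp b a).app L).symm h,
    fun h => Groth.Agent.H18.AmpleIso.isAmple_of_iso ((restrictFunctorComp b a).app L) h⟩

end Transport

/-- A morphism carrying a relatively ample module is separated. -/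
theorem isSeparated_of_isRelAmple {X' Y' : Scheme.{u}} (g : X' ⟶ Y') (M : X'.Modules)
    (h : RelAmple.IsRelAmple g M) : IsSeparated g := by
  rw [HasAffineProperty.eq_targetAffineLocally (P := @IsSeparated)]
  intro V
  exact Groth.Agent.S9813.result _ _ (h.2 V).1 (h.2 V).2.2

end Groth.Agent.H22.AmpleLocal
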