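import Mathlib
import Groth.Agent.H18.RestrictTensor
import Groth.Agent.H18.TwistAmple
import Groth.Agent.H22.AmpleLocal

/-!
# Pullback of sections of invertible modules and their non-vanishing loci (helper22)

* `pullbackUnitIso f : f^* O_Y ≅ O_X`, `bcIso f V : (f^* M)|_{f⁻¹V} ≅ (f|_V)^* (M|_V)` (as in
  helper28's `LpullLoc`, restated here with light imports).
* `sv_conj_pullback`: the endomorphism `f^* σ` of `O_X ≅ f^* O_Y` is multiplication by `f^♯(σ(1))`.
* `pbSec f s : O_X ⟶ f^* N` for `s : O_Y ⟶ N`; `genLocus_pbSec`: `X_{f^* s} = f⁻¹(Y_s)` for `N`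
  invertible; `isInvertible_pullback`.
-/

set_option autoImplicit false
set_option linter.style.haveILetI false
universe u
open CategoryTheory CategoryTheory.Limits AlgebraicGeometry TopologicalSpace Opposite

namespace Groth.Agent.H22.PullGen

open Groth.Agent.H18.TensorGen Groth.Agent.H18.SecTw Groth.Agent.H18.RestrictTensor
open AlgebraicGeometry.Scheme.Modules

variable {X Y : Scheme.{u}} (f : X ⟶ Y)

instance final_opensMap : (Opens.map f.base).Final where
  out U := by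
    let T : StructuredArrow U (Opens.map f.base) :=
      StructuredArrow.mk (Y := (⊤ : Opens Y)) (homOfLE le_top)
    refine isConnected_of_isTerminal _ (x := T) (IsTerminal.ofUniqueHom
      (fun A => StructuredArrow.homMk (homOfLE (by exact le_top)) (Subsingleton.elim _ _))
      (fun A m => ?_))
    apply StructuredArrow.ext
    apply Subsingleton.elim

set_option backward.isDefEq.respectTransparency.types false in
theorem isIso_pullbackObjUnitToUnit :
    IsIso (SheafOfModules.pullbackObjUnitToUnit f.toRingCatSheafHom) := by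
  have := final_opensMap f
  infer_instance

set_option backward.isDefEq.respectTransparency.types false in
/-- `f^* O_Y ≅ O_X`. -/
noncomputable def pullbackUnitIso :
    (Scheme.Modules.pullback f).obj (Coh.structureModule Y) ≅ Coh.structureModule X :=
  @asIso _ _ _ _ (SheafOfModules.pullbackObjUnitToUnit f.toRingCatSheafHom)
    (isIso_pullbackObjUnitToUnit f)

/-- `(f^* M)|_{f⁻¹V} ≅ (f|_V)^* (M|_V)`, as an isomorphism of functors. -/
noncomputable def bcIso (V : Y.Opens) :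
    Scheme.Modules.pullback f ⋙ Scheme.Modules.restrictFunctor (f ⁻¹ᵁ V).ι ≅
      Scheme.Modules.restrictFunctor V.ι ⋙ Scheme.Modules.pullback (f ∣_ V) :=
  Functor.isoWhiskerLeft _ (Scheme.Modules.restrictFunctorIsoPullback _) ≪≫
    Scheme.Modules.pullbackComp (f ⁻¹ᵁ V).ι f ≪≫
    Scheme.Modules.pullbackCongr (morphismRestrict_ι f V).symm ≪≫
    (Scheme.Modules.pullbackComp (f ∣_ V) V.ι).symm ≪≫
    Functor.isoWhiskerRight (Scheme.Modules.restrictFunctorIsoPullback V.ι).symm _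

/-- The value at `1` of an endomorphism of the structure module, as a function. -/
noncomputable def endVal (σ : Coh.structureModule X ⟶ Coh.structureModule X) : Γ(X, ⊤) :=
  sv σ ⊤

set_option backward.isDefEq.respectTransparency.types false in
theorem endVal_conj_pullback (σ : Coh.structureModule Y ⟶ Coh.structureModule Y) :
    endVal ((pullbackUnitIso f).inv ≫ (Scheme.Modules.pullback f).map σ ≫
      (pullbackUnitIso f).hom) = f.appTop.hom (endVal σ) := by
  obtain ⟨τ, hτ⟩ : ∃ τ, τ = (pullbackUnitIso f).inv ≫ (Scheme.Modules.pullback f).map σ ≫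
      (pullbackUnitIso f).hom := ⟨_, rfl⟩
  rw [← hτ]
  have h1 : (Scheme.Modules.pullback f).map σ ≫ (pullbackUnitIso f).hom =
      (pullbackUnitIso f).hom ≫ τ := by
    rw [hτ, Iso.hom_inv_id_assoc]
  have h2 := congrArg ((Scheme.Modules.pullbackPushforwardAdjunction f).homEquiv _ _) h1
  rw [Adjunction.homEquiv_naturality_left, Adjunction.homEquiv_naturality_right] at h2
  obtain ⟨υ, hυ⟩ : ∃ υ : Coh.structureModule Y ⟶
      (Scheme.Modules.pushforward f).obj (Coh.structureModule X),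
      υ = SheafOfModules.unitToPushforwardObjUnit f.toRingCatSheafHom := ⟨_, rfl⟩
  have h3 : (Scheme.Modules.pullbackPushforwardAdjunction f).homEquiv _ _ (pullbackUnitIso f).hom =
      υ := by
    rw [hυ]
    exact SheafOfModules.pullbackPushforwardAdjunction_homEquiv_pullbackObjUnitToUnit _
  rw [h3] at h2
  have h4 := congrArg (fun φ : Coh.structureModule Y ⟶
    (Scheme.Modules.pushforward f).obj (Coh.structureModule X) =>
      φ.app ⊤ (show Γ(Coh.structureModule Y, ⊤) from (1 : Γ(Y, ⊤)))) h2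
  have h5 : υ.app ⊤ (show Γ(Coh.structureModule Y, ⊤) from (1 : Γ(Y, ⊤))) =
      (show Γ((Scheme.Modules.pushforward f).obj (Coh.structureModule X), ⊤) from
        (1 : Γ(X, ⊤))) := by
    rw [hυ]
    exact map_one f.appTop.hom
  have h6 : (υ ≫ (Scheme.Modules.pushforward f).map τ).app ⊤
        (show Γ(Coh.structureModule Y, ⊤) from (1 : Γ(Y, ⊤))) = endVal τ := by
    show ((Scheme.Modules.pushforward f).map τ).app ⊤ (υ.app ⊤ _) = _
    rw [h5]
    rfl
  have h7 : (σ ≫ υ).app ⊤ (show Γ(Coh.structureModule Y, ⊤) from (1 : Γ(Y, ⊤))) =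
      f.appTop.hom (endVal σ) := by
    rw [hυ]
    rfl
  exact h6.symm.trans (h4.symm.trans h7)


/-- The pulled-back section. -/
noncomputable def pbSec {N : Y.Modules} (s : Coh.structureModule Y ⟶ N) :
    Coh.structureModule X ⟶ (Scheme.Modules.pullback f).obj N :=
  (pullbackUnitIso f).inv ≫ (Scheme.Modules.pullback f).map s

omit f in
lemma endVal_comp (ω τ : Coh.structureModule X ⟶ Coh.structureModule X) :
    endVal (ω ≫ τ) = endVal ω * endVal τ := by
  show τ.app ⊤ (ω.app ⊤ (show Γ(Coh.structureModule X, ⊤) from (1 : Γ(X, ⊤)))) = _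
  have h1 : ω.app ⊤ (show Γ(Coh.structureModule X, ⊤) from (1 : Γ(X, ⊤))) =
      (endVal ω) • (show Γ(Coh.structureModule X, ⊤) from (1 : Γ(X, ⊤))) :=
    (mul_one (endVal ω)).symm
  rw [h1, Scheme.Modules.Hom.app_smul]
  rfl

omit f in
lemma endVal_id : endVal (𝟙 (Coh.structureModule X)) = 1 := rfl

omit f in
lemma isUnit_endVal_of_isIso (ω : Coh.structureModule X ⟶ Coh.structureModule X) [IsIso ω] :
    IsUnit (endVal ω) := by
  have h := endVal_comp ω (inv ω)
  rw [IsIso.hom_inv_id, endVal_id] at h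
  exact IsUnit.of_mul_eq_one _ h.symm

omit f in
lemma mem_genLocus_end (σ : Coh.structureModule X ⟶ Coh.structureModule X) (x : X) :
    x ∈ CohB1.genLocus _ σ ↔ x ∈ X.basicOpen (endVal σ) :=
  mem_genLocus_iff_of_isGen σ (isGen_one ⊤) (endVal σ) (mul_one (endVal σ)).symm x trivial

/-- `X_{f^* s} = f⁻¹(Y_s)` pointwise, for `N` invertible. -/
theorem mem_genLocus_pbSec {N : Y.Modules} (hN : PicF.IsInvertible N)
    (s : Coh.structureModule Y ⟶ N) (x : X) :
    x ∈ CohB1.genLocus _ (pbSec f s) ↔ f x ∈ CohB1.genLocus N s := by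
  obtain ⟨W, hxW, ⟨e⟩⟩ := hN (f x)
  obtain ⟨σ, hσ⟩ : ∃ σ : Coh.structureModule (W : Scheme.{u}) ⟶ Coh.structureModule (W : Scheme.{u}),
    σ = resHom W.ι s ≫ e.hom := ⟨_, rfl⟩
  have hY : ∀ w : W.toScheme, w ∈ CohB1.genLocus _ σ ↔ W.ι w ∈ CohB1.genLocus N s := by
    intro w
    rw [hσ, Groth.Agent.H18.TwistAmple.genLocus_comp_iso (resHom W.ι s) e, genLocus_resHom]
    rfl
  obtain ⟨Φ, hΦ⟩ : ∃ Φ : ((Scheme.Modules.pullback f).obj N).restrict (f ⁻¹ᵁ W).ι ≅
      Coh.structureModule ((f ⁻¹ᵁ W : X.Opens) : Scheme.{u}),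
    Φ = (bcIso f W).app N ≪≫ (Scheme.Modules.pullback (f ∣_ W)).mapIso e ≪≫
      pullbackUnitIso (f ∣_ W) := ⟨_, rfl⟩
  obtain ⟨σ', hσ'⟩ : ∃ σ' : Coh.structureModule ((f ⁻¹ᵁ W : X.Opens) : Scheme.{u}) ⟶
      Coh.structureModule ((f ⁻¹ᵁ W : X.Opens) : Scheme.{u}),
    σ' = resHom (f ⁻¹ᵁ W).ι (pbSec f s) ≫ Φ.hom := ⟨_, rfl⟩
  have hX : ∀ z : (f ⁻¹ᵁ W).toScheme, z ∈ CohB1.genLocus _ σ' ↔
      (f ⁻¹ᵁ W).ι z ∈ CohB1.genLocus _ (pbSec f s) := by
    intro z
    rw [hσ', Groth.Agent.H18.TwistAmple.genLocus_comp_iso (resHom (f ⁻¹ᵁ W).ι (pbSec f s)) Φ,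
      genLocus_resHom]
    rfl
  obtain ⟨κ, hκ⟩ : ∃ κ : Coh.structureModule ((f ⁻¹ᵁ W : X.Opens) : Scheme.{u}) ⟶
      (Scheme.Modules.pullback (f ∣_ W)).obj (Coh.structureModule (W : Scheme.{u})),
    κ = (restrictUnitIso (f ⁻¹ᵁ W).ι).inv ≫
      (restrictFunctor (f ⁻¹ᵁ W).ι).map (pullbackUnitIso f).inv ≫
      (bcIso f W).hom.app (Coh.structureModule Y) ≫
      (Scheme.Modules.pullback (f ∣_ W)).map (restrictUnitIso W.ι).hom := ⟨_, rfl⟩
  haveI : IsIso κ := by
    rw [hκ]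
    infer_instance
  have hfact : σ' = (κ ≫ (pullbackUnitIso (f ∣_ W)).hom) ≫
      ((pullbackUnitIso (f ∣_ W)).inv ≫ (Scheme.Modules.pullback (f ∣_ W)).map σ ≫
        (pullbackUnitIso (f ∣_ W)).hom) := by
    have nat : (restrictFunctor (f ⁻¹ᵁ W).ι).map ((Scheme.Modules.pullback f).map s) ≫
        (bcIso f W).hom.app N = (bcIso f W).hom.app (Coh.structureModule Y) ≫
          (Scheme.Modules.pullback (f ∣_ W)).map ((restrictFunctor W.ι).map s) :=
      (bcIso f W).hom.naturality s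
    have hs : (restrictFunctor W.ι).map s = (restrictUnitIso W.ι).hom ≫ resHom W.ι s := by
      unfold resHom
      rw [Iso.hom_inv_id_assoc]
    have hR : (κ ≫ (pullbackUnitIso (f ∣_ W)).hom) ≫
        ((pullbackUnitIso (f ∣_ W)).inv ≫ (Scheme.Modules.pullback (f ∣_ W)).map σ ≫
          (pullbackUnitIso (f ∣_ W)).hom) =
        κ ≫ (Scheme.Modules.pullback (f ∣_ W)).map σ ≫ (pullbackUnitIso (f ∣_ W)).hom := by
      rw [Category.assoc, Iso.hom_inv_id_assoc]
    rw [hR, hσ', hΦ, hκ, hσ]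
    unfold pbSec
    have hL : resHom (f ⁻¹ᵁ W).ι ((pullbackUnitIso f).inv ≫ (Scheme.Modules.pullback f).map s) =
        (restrictUnitIso (f ⁻¹ᵁ W).ι).inv ≫
          (restrictFunctor (f ⁻¹ᵁ W).ι).map (pullbackUnitIso f).inv ≫
          (restrictFunctor (f ⁻¹ᵁ W).ι).map ((Scheme.Modules.pullback f).map s) := by
      unfold resHom
      rw [CategoryTheory.Functor.map_comp]
    rw [hL]
    simp only [Iso.trans_hom, Iso.app_hom, Functor.mapIso_hom, Category.assoc]
    rw [reassoc_of% nat, hs, CategoryTheory.Functor.map_comp, CategoryTheory.Functor.map_comp]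
    simp only [Category.assoc]
  have key : ∀ z : (f ⁻¹ᵁ W).toScheme, z ∈ ((f ⁻¹ᵁ W : X.Opens) : Scheme.{u}).basicOpen (endVal σ') ↔
      (f ∣_ W) z ∈ (W : Scheme.{u}).basicOpen (endVal σ) := by
    intro z
    rw [hfact, endVal_comp, endVal_conj_pullback, Scheme.basicOpen_mul,
      Scheme.basicOpen_of_isUnit _ (isUnit_endVal_of_isIso _), ← Scheme.preimage_basicOpen_top]
    exact ⟨fun h => h.2, fun h => ⟨trivial, h⟩⟩
  obtain ⟨z, hz⟩ : ∃ z : (f ⁻¹ᵁ W).toScheme, (f ⁻¹ᵁ W).ι z = x := ⟨⟨x, hxW⟩, rfl⟩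
  have hw : W.ι ((f ∣_ W) z) = f x := by
    rw [← hz, ← Scheme.Hom.comp_apply, ← Scheme.Hom.comp_apply, morphismRestrict_ι]
  rw [← hz, ← hX z, mem_genLocus_end, key z, ← mem_genLocus_end, hY, hw, hz]

theorem genLocus_pbSec {N : Y.Modules} (hN : PicF.IsInvertible N)
    (s : Coh.structureModule Y ⟶ N) :
    CohB1.genLocus _ (pbSec f s) = f ⁻¹ᵁ CohB1.genLocus N s :=
  Opens.ext (Set.ext fun x => mem_genLocus_pbSec f hN s x)

/-- The pullback of an invertible module is invertible. -/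
theorem isInvertible_pullback {N : Y.Modules} (hN : PicF.IsInvertible N) :
    PicF.IsInvertible ((Scheme.Modules.pullback f).obj N) := by
  intro x
  obtain ⟨W, hxW, ⟨e⟩⟩ := hN (f x)
  exact ⟨f ⁻¹ᵁ W, hxW, ⟨(bcIso f W).app N ≪≫ (Scheme.Modules.pullback (f ∣_ W)).mapIso e ≪≫
    pullbackUnitIso (f ∣_ W)⟩⟩

end Groth.Agent.H22.PullGen
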