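import Mathlib
import Groth.Agent.H22.SubSh
import Groth.Agent.H22.AmpleLocal

/-!
# The counit `f^* f_* M ⟶ M` is an epimorphism iff `M` is generated by relative sections (helper22)

* `epi_counit_iff`: the counit at `M` is an epimorphism iff every morphism `g : M ⟶ Q` killing
  all sections of `M` over the opens `f⁻¹(V)` is zero.
* `relSub f M`: the subsheaf of `M` of sections which are locally combinations of sections over
  opens of the form `f⁻¹(V)`; `mem_relSub_of_epi`.
* `exists_genAt_of_epi`: for `M` invertible with epimorphic counit, every point has a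
  relative section generating `M` near it.
-/

set_option autoImplicit false
set_option linter.style.haveILetI false
universe u
open CategoryTheory CategoryTheory.Limits AlgebraicGeometry TopologicalSpace Opposite

namespace Groth.Agent.H22.CounitEpi

open Groth.Agent.H8 (res_res res_smul ringRes_res)
open Groth.Agent.H18.TensorGen Groth.Agent.H22.GenSection Groth.Agent.H22.AmpleLocal
open AlgebraicGeometry.Scheme.Modules

variable {X Y : Scheme.{u}} (f : X ⟶ Y)

theorem counit_comp_eq_zero_iff {M Q : X.Modules} (g : M ⟶ Q) :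
    (pullbackPushforwardAdjunction f).counit.app M ≫ g = 0 ↔ (pushforward f).map g = 0 := by
  have h1 : ((pullbackPushforwardAdjunction f).homEquiv _ _)
      ((pullbackPushforwardAdjunction f).counit.app M ≫ g) = (pushforward f).map g := by
    rw [Adjunction.homEquiv_unit, CategoryTheory.Functor.map_comp, ← Category.assoc,
      Adjunction.right_triangle_components, Category.id_comp]
  have h0 : ((pullbackPushforwardAdjunction f).homEquiv ((pushforward f).obj M) Q) 0 = 0 := by
    rw [Adjunction.homEquiv_unit, CategoryTheory.Functor.map_zero, comp_zero]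
  constructor
  · intro h
    rw [← h1, h, h0]
  · intro h
    apply ((pullbackPushforwardAdjunction f).homEquiv _ _).injective
    rw [h1, h, h0]

theorem epi_counit_iff (M : X.Modules) :
    Epi ((pullbackPushforwardAdjunction f).counit.app M) ↔
      ∀ (Q : X.Modules) (g : M ⟶ Q),
        (∀ (V : Y.Opens) (s : Γ(M, f ⁻¹ᵁ V)), g.app (f ⁻¹ᵁ V) s = 0) → g = 0 := by
  rw [Preadditive.epi_iff_cancel_zero]
  refine forall₂_congr fun Q g => ?_
  rw [counit_comp_eq_zero_iff]
  constructor
  · intro h hg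
    apply h
    refine Scheme.Modules.hom_ext _ _ (fun V => ?_)
    refine ConcreteCategory.hom_ext _ _ (fun s => ?_)
    exact hg V s
  · intro h hg
    apply h
    intro V s
    have := congrArg (fun ψ : (pushforward f).obj M ⟶ (pushforward f).obj Q => ψ.app V s) hg
    exact this

/-- Combinations of restrictions of sections over opens of the form `f⁻¹(V)`. -/
noncomputable def RelSpan (M : X.Modules) (B : X.Opens) : Submodule Γ(X, B) Γ(M, B) :=
  Submodule.span Γ(X, B) {t | ∃ (V : Y.Opens) (h : B ≤ f ⁻¹ᵁ V) (s : Γ(M, f ⁻¹ᵁ V)),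
    t = M.presheaf.map (homOfLE h).op s}

lemma relSpan_res (M : X.Modules) {B B' : X.Opens} (hB : B' ≤ B) {m : Γ(M, B)}
    (hm : m ∈ RelSpan f M B) : M.presheaf.map (homOfLE hB).op m ∈ RelSpan f M B' := by
  refine Submodule.span_induction
    (p := fun m _ => M.presheaf.map (homOfLE hB).op m ∈ RelSpan f M B') ?_ ?_ ?_ ?_ hm
  · rintro t ⟨V, h, s, rfl⟩
    rw [res_res]
    exact Submodule.subset_span ⟨V, hB.trans h, s, rfl⟩
  · rw [map_zero]
    exact zero_mem _
  · intro m₁ m₂ _ _ h₁ h₂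
    rw [map_add]
    exact add_mem h₁ h₂
  · intro r m₁ _ h₁
    rw [res_smul]
    exact Submodule.smul_mem _ _ h₁

/-- The subsheaf of `M` of sections which are locally combinations of relative sections. -/
noncomputable def relSub (M : X.Modules) : SubSh M where
  mem A m := ∀ p ∈ A, ∃ (B : X.Opens) (h : B ≤ A), p ∈ B ∧
    M.presheaf.map (homOfLE h).op m ∈ RelSpan f M B
  zero_mem A := fun p hp => ⟨A, le_rfl, hp, by rw [map_zero]; exact zero_mem _⟩
  add_mem A x y hx hy := fun p hp => by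
    obtain ⟨B₁, h₁, hp₁, hx'⟩ := hx p hp
    obtain ⟨B₂, h₂, hp₂, hy'⟩ := hy p hp
    refine ⟨B₁ ⊓ B₂, inf_le_left.trans h₁, ⟨hp₁, hp₂⟩, ?_⟩
    rw [map_add]
    have e1 := relSpan_res f M (inf_le_left : B₁ ⊓ B₂ ≤ B₁) hx'
    have e2 := relSpan_res f M (inf_le_right : B₁ ⊓ B₂ ≤ B₂) hy'
    rw [res_res] at e1 e2
    exact add_mem e1 e2
  smul_mem A r x hx := fun p hp => by
    obtain ⟨B, h, hpB, hx'⟩ := hx p hp
    exact ⟨B, h, hpB, by rw [res_smul]; exact Submodule.smul_mem _ _ hx'⟩
  res_mem {A B} h x hx := fun p hp => by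
    obtain ⟨B₁, h₁, hp₁, hx'⟩ := hx p (h hp)
    refine ⟨B₁ ⊓ B, inf_le_right, ⟨hp₁, hp⟩, ?_⟩
    rw [res_res]
    have e1 := relSpan_res f M (inf_le_left : B₁ ⊓ B ≤ B₁) hx'
    rwa [res_res] at e1
  local_mem A x hloc := fun p hp => by
    obtain ⟨B, h, hpB, hB⟩ := hloc p hp
    obtain ⟨B', h', hpB', hx'⟩ := hB p hpB
    refine ⟨B', h'.trans h, hpB', ?_⟩
    rwa [res_res] at hx'

theorem mem_relSub_of_epi (M : X.Modules)
    (hepi : Epi ((pullbackPushforwardAdjunction f).counit.app M)) (A : X.Opens) (m : Γ(M, A)) :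
    (relSub f M).mem A m := by
  have hg : cokernel.π (relSub f M).ι = 0 := by
    apply (epi_counit_iff f M).mp hepi
    intro V s
    have hs : (relSub f M).mem (f ⁻¹ᵁ V) s := fun p hp =>
      ⟨f ⁻¹ᵁ V, le_rfl, hp, Submodule.subset_span ⟨V, le_rfl, s, rfl⟩⟩
    obtain ⟨y, hy⟩ := (relSub f M).exists_ι_app_eq hs
    rw [← hy]
    have := congrArg (fun ψ : (relSub f M).toModules ⟶ cokernel (relSub f M).ι =>
      ψ.app (f ⁻¹ᵁ V) y) (cokernel.condition (relSub f M).ι)
    exact this
  have hepiι : Epi (relSub f M).ι := Abelian.epi_of_cokernel_π_eq_zero _ hg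
  have hiso : IsIso (relSub f M).ι := isIso_of_mono_of_epi _
  have h1 : IsIso ((relSub f M).ι.app A) :=
    (Scheme.Modules.Hom.isIso_iff_isIso_app (φ := (relSub f M).ι)).mp hiso A
  obtain ⟨y, hy⟩ := ((ConcreteCategory.isIso_iff_bijective _).mp h1).2 m
  rw [← hy]
  exact (relSub f M).ι_app_mem A y

lemma mem_basicOpen_add {W : X.Opens} (z : X) (a b : Γ(X, W))
    (h : z ∈ X.basicOpen (a + b)) : z ∈ X.basicOpen a ∨ z ∈ X.basicOpen b := by
  have hz : z ∈ W := X.basicOpen_le _ h
  by_contra hcon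
  push Not at hcon
  rw [X.mem_basicOpen _ z hz] at h hcon
  rw [X.mem_basicOpen _ z hz] at hcon
  rw [map_add] at h
  have ha : (X.presheaf.germ W z hz).hom a ∈ IsLocalRing.maximalIdeal (X.presheaf.stalk z) := by
    rw [IsLocalRing.mem_maximalIdeal, mem_nonunits_iff]
    exact hcon.1
  have hb : (X.presheaf.germ W z hz).hom b ∈ IsLocalRing.maximalIdeal (X.presheaf.stalk z) := by
    rw [IsLocalRing.mem_maximalIdeal, mem_nonunits_iff]
    exact hcon.2
  have hab := (IsLocalRing.maximalIdeal (X.presheaf.stalk z)).add_mem ha hb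
  rw [IsLocalRing.mem_maximalIdeal, mem_nonunits_iff] at hab
  exact hab h

/-- For `M` invertible with epimorphic counit, every point has a relative section generating `M`
near it. -/
theorem exists_genAt_of_epi (M : X.Modules) (hM : PicF.IsInvertible M)
    (hepi : Epi ((pullbackPushforwardAdjunction f).counit.app M)) (x : X) :
    ∃ (V : Y.Opens) (s : Γ(M, f ⁻¹ᵁ V)), GenAt M s x := by
  obtain ⟨A, μ, hxA, hμ⟩ := exists_isGen hM x
  obtain ⟨B, hBA, hxB, hspan⟩ := mem_relSub_of_epi f M hepi A μ x hxA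
  have hμB := hμ.res hBA
  obtain ⟨μB, hμBdef⟩ : ∃ μB : Γ(M, B), μB = M.presheaf.map (homOfLE hBA).op μ := ⟨_, rfl⟩
  rw [← hμBdef] at hμB hspan
  have key : ∀ m ∈ RelSpan f M B, ∀ c : Γ(X, B), m = c • μB → x ∈ X.basicOpen c →
      ∃ (V : Y.Opens) (s : Γ(M, f ⁻¹ᵁ V)), GenAt M s x := by
    intro m hm
    refine Submodule.span_induction
      (p := fun m _ => ∀ c : Γ(X, B), m = c • μB → x ∈ X.basicOpen c →
        ∃ (V : Y.Opens) (s : Γ(M, f ⁻¹ᵁ V)), GenAt M s x) ?_ ?_ ?_ ?_ hm
    · rintro t ⟨V, h, s, rfl⟩ c hc hxc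
      refine ⟨V, s, X.basicOpen c, (X.basicOpen_le c).trans h, hxc, ?_⟩
      have h2 := IsGenOn.basicOpen (show IsGenOn M B μB from hμB) c
      rw [← hc, res_res] at h2
      exact h2
    · intro c hc hxc
      have hc0 : c = 0 := by
        apply hμB.self.1
        simp only
        rw [← hc, zero_smul]
      rw [hc0, Scheme.basicOpen_zero] at hxc
      exact hxc.elim
    · intro m₁ m₂ _ _ ih₁ ih₂ c hc hxc
      obtain ⟨c₁, hc₁⟩ := hμB.self.2 m₁
      obtain ⟨c₂, hc₂⟩ := hμB.self.2 m₂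
      simp only at hc₁ hc₂
      have hcc : c = c₁ + c₂ := by
        apply hμB.self.1
        simp only
        rw [← hc, add_smul, hc₁, hc₂]
      rw [hcc] at hxc
      rcases mem_basicOpen_add x c₁ c₂ hxc with h | h
      · exact ih₁ c₁ hc₁.symm h
      · exact ih₂ c₂ hc₂.symm h
    · intro r m₁ _ ih c hc hxc
      obtain ⟨c₁, hc₁⟩ := hμB.self.2 m₁
      simp only at hc₁
      have hcc : c = r * c₁ := by
        apply hμB.self.1
        simp only
        rw [← hc, mul_smul, hc₁]
      rw [hcc] at hxc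
      exact ih c₁ hc₁.symm ((mem_basicOpen_mul x hxB r c₁).mp hxc).2
  refine key μB hspan 1 (one_smul _ _).symm ?_
  rw [X.mem_basicOpen _ x hxB, map_one]
  exact isUnit_one

/-- The same over an affine open of the base, for a quasi-compact quasi-separated morphism and a
quasi-coherent module. -/
theorem exists_genAt_of_epi_affine [QuasiCompact f] [QuasiSeparated f] (M : X.Modules)
    [M.IsQuasicoherent] (hM : PicF.IsInvertible M)
    (hepi : Epi ((pullbackPushforwardAdjunction f).counit.app M))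
    (V : Y.Opens) (hV : IsAffineOpen V) (x : X) (hx : x ∈ f ⁻¹ᵁ V) :
    ∃ s : Γ(M, f ⁻¹ᵁ V), GenAt M s x := by
  obtain ⟨V', s, hs⟩ := exists_genAt_of_epi f M hM hepi x
  have hxV' : x ∈ f ⁻¹ᵁ V' := hs.mem
  obtain ⟨g, hgle, hxg⟩ := hV.exists_basicOpen_le (V := V') ⟨f x, hxV'⟩ hx
  have hD : X.basicOpen (f.app V g) = f ⁻¹ᵁ (Y.basicOpen g) := (Scheme.preimage_basicOpen f g).symm
  have hDV' : X.basicOpen (f.app V g) ≤ f ⁻¹ᵁ V' := hD ▸ f.preimage_mono hgle
  obtain ⟨k, s', hs'⟩ := Groth.Agent.H8.exists_smul_eq_res_of_qcqs M (W := f ⁻¹ᵁ V)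
    (QuasiCompact.isCompact_preimage (f := f) _ V.2 hV.isCompact)
    (f.isQuasiSeparated_preimage hV.isQuasiSeparated) (f.app V g)
    (M.presheaf.map (homOfLE hDV').op s)
  refine ⟨s', ?_⟩
  have hxD : x ∈ X.basicOpen (f.app V g) := hD ▸ hxg
  have hu : IsUnit ((X.presheaf.map (homOfLE (X.basicOpen_le (f.app V g))).op (f.app V g)) ^ k) :=
    (RingedSpace.isUnit_res_basicOpen X.toRingedSpace (f.app V g)).pow k
  rw [← genAt_res (X.basicOpen_le _) _ hxD, hs', genAt_unit_smul _ _ hu, genAt_res hDV' _ hxD]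
  exact hs

end Groth.Agent.H22.CounitEpi
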