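import Mathlib
import Groth.Agent.H22.CounitEpi
import Groth.Agent.H18.AmpleGG
import Groth.Agent.H18.RestrictTensor
import Groth.Agent.H41.BilinGlue
import Groth.Agent.H8.FinType
import Groth.Agent.H8.CohAffine
import Groth.Agent.S16909

/-!
# Relative global generation of twists by a relatively ample module (helper22)

* `nonempty_restrict_tensorMod_right`: `F|_j ⊗ B|_j ≅ (F ⊗ B)|_j` for `B|_j` invertible.
* `isCoh_restrict`: restriction to an open subscheme preserves quasi-coherent of finite type.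
* `epi_counit_of_cover`: the counit `f^* f_* M ⟶ M` is an epimorphism as soon as the restrictions
  of `M` to opens `f⁻¹(V)` covering `X` are globally generated.
* `exists_epi_counit_of_isRelAmple`: EGA II 4.6.8 (⇒).
-/

set_option autoImplicit false
set_option linter.style.haveILetI false
universe u
open CategoryTheory CategoryTheory.Limits AlgebraicGeometry TopologicalSpace Opposite

namespace Groth.Agent.H22.RelTwistGG

open Groth.Agent.H8 (res_res res_smul ringRes_res section_eq_of_cover)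
open Groth.Agent.H18.TensorGen Groth.Agent.H22.GenSection Groth.Agent.H22.AmpleLocal
open Groth.Agent.H22.QCohLimits (app_res)
open Groth.Agent.H18.SecTw Groth.Agent.H18.TensorSec Groth.Agent.H41.BilinGlue
open Groth.Agent.H18.RestrictTensor Groth.Agent.H18.TensorPowIso
open AlgebraicGeometry.Scheme.Modules
open scoped TensorProduct

variable {X : Scheme.{u}}

theorem tm_add_right (M N : X.Modules) {U : X.Opens} (m : Γ(M, U)) (n n' : Γ(N, U)) :
    tm M N m (n + n') = tm M N m n + tm M N m n' := by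
  have h1 := TensorProduct.tmul_add
    (R := ((X.sheaf.obj ⋙ forget₂ CommRingCat RingCat).obj (op U)))
    (show (CohB1.toPMod M).obj (op U) from m) (show (CohB1.toPMod N).obj (op U) from n)
    (show (CohB1.toPMod N).obj (op U) from n')
  have h2 := ((SecTwist.toTensor M N).app (op U)).hom.map_add (m ⊗ₜ n) (m ⊗ₜ n')
  exact (congrArg ((SecTwist.toTensor M N).app (op U)).hom h1).trans h2

section Restrict

variable {Y : Scheme.{u}} (j : Y ⟶ X) [IsOpenImmersion j]

/-- `F|_j ⊗ B|_j ≅ (F ⊗ B)|_j` when `B|_j` is invertible. -/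
theorem nonempty_restrict_tensorMod_right (F : X.Modules) {B : X.Modules}
    (hB : PicF.IsInvertible (B.restrict j)) :
    Nonempty (CohB1.tensorMod (F.restrict j) (B.restrict j) ≅
      (CohB1.tensorMod F B).restrict j) := by
  have hR : GlueRel (F.restrict j) (B.restrict j) ((CohB1.tensorMod F B).restrict j)
      (fun W s t w => w = toRes j _ (tm F B (ofRes j F s) (ofRes j B t))) :=
    { unique := fun W s t w w' h h' => h.trans h'.symm
      res := by
        rintro W V h s t w rfl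
        exact tm_res F B (j.image_mono h) (ofRes j F s) (ofRes j B t)
      of_local := by
        intro W s t w hloc
        refine section_eq_of_cover _ _ _ (fun x hx => ?_)
        obtain ⟨V, h, hxV, hV⟩ := hloc x hx
        refine ⟨V, h, hxV, hV.trans ?_⟩
        exact (tm_res F B (j.image_mono h) (ofRes j F s) (ofRes j B t)).symm
      exists_local := fun W s t x hx => ⟨W, le_rfl, hx, _, rfl⟩
      add_left := by
        rintro W s s' t w w' rfl rfl
        exact (tm_add_left F B (ofRes j F s) (ofRes j F s') (ofRes j B t)).symm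
      add_right := by
        rintro W s t t' w w' rfl rfl
        exact (tm_add_right F B (ofRes j F s) (ofRes j B t) (ofRes j B t')).symm
      smul_left := by
        rintro W a s t w rfl
        show a • toRes j _ (tm F B (ofRes j F s) (ofRes j B t)) =
          toRes j _ (tm F B (((j.appIso W).inv a) • ofRes j F s) (ofRes j B t))
        rw [tm_smul_left, smul_toRes]
      smul_right := by
        rintro W a s t w rfl
        show a • toRes j _ (tm F B (ofRes j F s) (ofRes j B t)) =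
          toRes j _ (tm F B (ofRes j F s) (((j.appIso W).inv a) • ofRes j B t))
        rw [tm_smul_right, smul_toRes] }
  refine hR.nonempty_iso (fun U x hx => ?_)
  obtain ⟨V₀, σ₀, hxV₀, hσ₀⟩ := exists_isGen hB x
  have hσ := hσ₀.res (inf_le_left : V₀ ⊓ U ≤ V₀)
  refine ⟨V₀ ⊓ U, inf_le_right, ⟨hxV₀, hx⟩, _, hσ.self.2, ?_⟩
  have hσX := isGen_of_restrict j B hσ
  have hb := bijective_tm (F := F) hσX
  have he : (fun s : Γ(F.restrict j, V₀ ⊓ U) => hR.mul (V₀ ⊓ U) s _) =
      fun s => toRes j _ (tm F B (ofRes j F s) (ofRes j B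
        ((B.restrict j).presheaf.map (homOfLE (inf_le_left : V₀ ⊓ U ≤ V₀)).op σ₀))) :=
    funext fun s => hR.mul_eq rfl
  rw [he]
  exact hb

theorem finite_restrict (M : X.Modules) {V : Y.Opens}
    (h : Module.Finite Γ(X, j ''ᵁ V) Γ(M, j ''ᵁ V)) : Module.Finite Γ(Y, V) Γ(M.restrict j, V) := by
  classical
  obtain ⟨S, hS⟩ := h.fg_top
  refine ⟨⟨S.image (toRes j M), ?_⟩⟩
  rw [eq_top_iff]
  rintro x -
  have hx : ofRes j M x ∈ Submodule.span Γ(X, j ''ᵁ V) (S : Set Γ(M, j ''ᵁ V)) := by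
    rw [hS]
    exact Submodule.mem_top
  refine Submodule.span_induction (p := fun y _ => toRes j M y ∈
    Submodule.span Γ(Y, V) (↑(S.image (toRes j M)) : Set Γ(M.restrict j, V))) ?_ ?_ ?_ ?_ hx
  · intro y hy
    refine Submodule.subset_span ?_
    rw [Finset.coe_image]
    exact ⟨y, hy, rfl⟩
  · exact zero_mem _
  · intro a b _ _ ha hb
    exact add_mem ha hb
  · intro r a _ ha
    have h1 : toRes j M (r • a) = ((j.appIso V).hom r) • toRes j M a := by
      rw [smul_toRes, Iso.hom_inv_id_apply]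
    rw [h1]
    exact Submodule.smul_mem _ _ ha

theorem isCoh_restrict {F : X.Modules} (hF : Coh.IsCoh F) : Coh.IsCoh (F.restrict j) := by
  haveI : F.IsQuasicoherent := hF.1
  haveI : SheafOfModules.IsFiniteType (R := X.ringCatSheaf) F := hF.2
  haveI hq : (F.restrict j).IsQuasicoherent :=
    inferInstanceAs ((Scheme.Modules.restrictFunctor j).obj F).IsQuasicoherent
  refine ⟨hq, ?_⟩
  have hcov : IsOpenCover (fun i : Y.affineOpens => (i : Y.Opens)) := by
    apply le_antisymm le_top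
    intro y _
    obtain ⟨W, hW, hyW, -⟩ := (Opens.isBasis_iff_nbhd.mp Y.isBasis_affineOpens)
      (show y ∈ (⊤ : Y.Opens) from trivial)
    exact Opens.mem_iSup.mpr ⟨⟨W, hW⟩, hyW⟩
  refine Groth.Agent.H8.isFiniteType_of_finite_sections (F.restrict j)
    (fun i : Y.affineOpens => (i : Y.Opens)) hcov (fun i => i.2) (fun i => ?_)
  exact finite_restrict j F
    (Groth.Agent.H8.finite_sections_of_isAffineOpen F (i.2.image_of_isOpenImmersion j))

end Restrict

theorem isGloballyGenerated_of_iso {P P' : X.Modules} (e : P ≅ P')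
    (h : Curv2.IsGloballyGenerated P) : Curv2.IsGloballyGenerated P' := by
  obtain ⟨ι, p, hp⟩ := h
  haveI := hp
  exact ⟨ι, p ≫ e.hom, epi_comp _ _⟩

section Counit

variable {Y : Scheme.{u}} (f : X ⟶ Y)

/-- The counit at `M` is an epimorphism as soon as the restrictions of `M` to opens `f⁻¹(V)`
covering `X` are globally generated. -/
theorem epi_counit_of_cover (M : X.Modules)
    (h : ∀ x : X, ∃ V : Y.Opens, x ∈ f ⁻¹ᵁ V ∧
      Curv2.IsGloballyGenerated (M.restrict (f ⁻¹ᵁ V).ι)) :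
    Epi ((pullbackPushforwardAdjunction f).counit.app M) := by
  rw [CounitEpi.epi_counit_iff]
  intro Q g hg
  have key : ∀ x : X, ∃ Z : X.Opens, x ∈ Z ∧ (restrictFunctor Z.ι).map g = 0 := by
    intro x
    obtain ⟨V, hxV, ι, p, hp⟩ := h x
    refine ⟨f ⁻¹ᵁ V, hxV, ?_⟩
    haveI := hp
    have hz : ∀ (A : X.Opens) (hA : A = f ⁻¹ᵁ V) (σ : Γ(M, A)), g.app A σ = 0 := by
      rintro A rfl σ
      exact hg V σ
    have h0 : p ≫ (restrictFunctor (f ⁻¹ᵁ V).ι).map g = 0 := by
      refine Sigma.hom_ext _ _ (fun i => ?_)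
      refine Eq.trans ?_ comp_zero.symm
      refine Eq.trans (Category.assoc _ _ _).symm ?_
      apply Groth.Agent.S16909.hom_eq_zero_of_app_one
      exact hz _ (Scheme.Opens.ι_image_top _) _
    exact (cancel_epi p).mp (h0.trans comp_zero.symm)
  refine Scheme.Modules.hom_ext _ _ (fun W => ?_)
  refine ConcreteCategory.hom_ext _ _ (fun s => ?_)
  show g.app W s = 0
  refine section_eq_of_cover Q _ _ (fun x hx => ?_)
  obtain ⟨Z, hxZ, hZ⟩ := key x
  refine ⟨Z ⊓ W, inf_le_right, ⟨hxZ, hx⟩, ?_⟩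
  rw [← app_res, map_zero]
  have hz : ∀ (A : X.Opens) (hA : A = Z.ι ''ᵁ (Z.ι ⁻¹ᵁ W)) (σ : Γ(M, A)), g.app A σ = 0 := by
    rintro A rfl σ
    exact congrArg (fun φ : M.restrict Z.ι ⟶ Q.restrict Z.ι => φ.app (Z.ι ⁻¹ᵁ W) σ) hZ
  refine hz _ ?_ _
  rw [Scheme.Hom.image_preimage_eq_opensRange_inf, Scheme.Opens.opensRange_ι]

/-- EGA II 4.6.8 (⇒). -/
theorem exists_epi_counit_of_isRelAmple [CompactSpace X] [QuasiSeparatedSpace X]
    [QuasiSeparated f] {L : X.Modules} (hL : PicF.IsInvertible L)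
    (h : RelAmple.IsRelAmple f L) (F : X.Modules) (hq : Coh.IsQCoh F) (hft : CohB1.IsFT F) :
    ∃ n₀ : ℕ, 0 < n₀ ∧ ∀ n : ℕ, n₀ ≤ n →
      Epi ((pullbackPushforwardAdjunction f).counit.app
        (CohB1.tensorMod F (CohB1.tensorPow L n))) := by
  haveI := h.1
  have haff : ∀ x : X, ∃ V : Y.Opens, IsAffineOpen V ∧ f x ∈ V := fun x => by
    obtain ⟨V, hV, hxV, -⟩ := (Opens.isBasis_iff_nbhd.mp Y.isBasis_affineOpens)
      (show f x ∈ (⊤ : Y.Opens) from trivial)
    exact ⟨V, hV, hxV⟩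
  choose V hV hxV using haff
  obtain ⟨T, hT⟩ := CompactSpace.elim_nhds_subcover
    (fun x => ((f ⁻¹ᵁ V x : X.Opens) : Set X)) (fun x => (f ⁻¹ᵁ V x).2.mem_nhds (hxV x))
  have hn : ∀ x : X, ∃ n₀ : ℕ, ∀ n, n₀ ≤ n → Curv2.IsGloballyGenerated
      ((CohB1.tensorMod F (CohB1.tensorPow L n)).restrict (f ⁻¹ᵁ V x).ι) := by
    intro x
    haveI : CompactSpace ((f ⁻¹ᵁ V x : X.Opens) : Scheme.{u}) :=
      isCompact_iff_compactSpace.mp
        (QuasiCompact.isCompact_preimage (f := f) _ (V x).2 (hV x).isCompact)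
    haveI : QuasiSeparatedSpace ((f ⁻¹ᵁ V x : X.Opens) : Scheme.{u}) :=
      (isQuasiSeparated_iff_quasiSeparatedSpace _ (f ⁻¹ᵁ V x).2).mp
        (f.isQuasiSeparated_preimage (hV x).isQuasiSeparated)
    have hLZ := h.2 ⟨V x, hV x⟩
    have hFZ : Coh.IsCoh (F.restrict (f ⁻¹ᵁ V x).ι) := isCoh_restrict _ ⟨hq, hft⟩
    obtain ⟨n₀, hn₀⟩ := Groth.Agent.H18.AmpleGG.exists_iso_ggAt hLZ _ hFZ
    refine ⟨n₀, fun n hn => ?_⟩
    obtain ⟨G, ⟨e⟩, hG⟩ := hn₀ n hn
    have hgg := Groth.Agent.H18.GlobGen.isGloballyGenerated_of_ggAt G hG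
    obtain ⟨ρ⟩ := nonempty_restrict_tensorPow (f ⁻¹ᵁ V x).ι hLZ.1 n
    have hLnZ : PicF.IsInvertible ((CohB1.tensorPow L n).restrict (f ⁻¹ᵁ V x).ι) :=
      Groth.Agent.H8.isInvertible_restrict _ (isInvertible_tensorPow hL n)
    obtain ⟨e1⟩ := nonempty_restrict_tensorMod_right (f ⁻¹ᵁ V x).ι F hLnZ
    obtain ⟨e2⟩ := Groth.Agent.H18.TensorModIso.nonempty_tensorMod_congr
      (Iso.refl (F.restrict (f ⁻¹ᵁ V x).ι)) ρ
    exact isGloballyGenerated_of_iso (e.symm ≪≫ e2.symm ≪≫ e1) hgg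
  choose n₀ hn₀ using hn
  refine ⟨T.sup n₀ + 1, Nat.succ_pos _, fun n hn => ?_⟩
  apply epi_counit_of_cover
  intro x
  have hx : x ∈ ⋃ t ∈ T, ((f ⁻¹ᵁ V t : X.Opens) : Set X) := hT ▸ Set.mem_univ x
  simp only [Set.mem_iUnion] at hx
  obtain ⟨t, htT, hxt⟩ := hx
  exact ⟨V t, hxt, hn₀ t n ((Finset.le_sup htT).trans ((Nat.le_succ _).trans hn))⟩

end Counit

end Groth.Agent.H22.RelTwistGG
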