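import Mathlib
import Groth.Agent.H22.PullGen
import Groth.Agent.H8.TensorQCoh
import Groth.Agent.S2126

/-!
# Pullbacks of ample modules (helper22)

* `nonempty_pullback_tensorPow`: `g^*(L^n) ≅ (g^*L)^n`.
* `exists_pbSecPow`: a section `s` of `L^n` has a pullback section `s'` of `(g^*L)^n` with
  `X'_{s'} = g⁻¹(X_s)`.
* `isAmple_pullback_of_isEmbedding`, `isAmple_pullback_of_isAffineHom`,
  `isAmple_pullback_of_isOpenImmersion`.
-/

set_option autoImplicit false
set_option linter.style.haveILetI false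
universe u
open CategoryTheory CategoryTheory.Limits AlgebraicGeometry TopologicalSpace Opposite

namespace Groth.Agent.H22.PullAmple

open Groth.Agent.H18.TensorGen Groth.Agent.H22.PullGen
open AlgebraicGeometry.Scheme.Modules

variable {X' X : Scheme.{u}} (g : X' ⟶ X)

theorem nonempty_pullback_tensorPow (L : X.Modules) (n : ℕ) :
    Nonempty ((Scheme.Modules.pullback g).obj (CohB1.tensorPow L n) ≅
      CohB1.tensorPow ((Scheme.Modules.pullback g).obj L) n) := by
  induction n with
  | zero => exact ⟨pullbackUnitIso g⟩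
  | succ n ih =>
    obtain ⟨e⟩ := ih
    obtain ⟨e1⟩ := Groth.Agent.H8.nonempty_pullback_tensorMod g (CohB1.tensorPow L n) L
    obtain ⟨e2⟩ := Groth.Agent.H18.TensorModIso.nonempty_tensorMod_congr e
      (Iso.refl ((Scheme.Modules.pullback g).obj L))
    exact ⟨e1 ≪≫ e2⟩

theorem exists_pbSecPow {L : X.Modules} (hL : PicF.IsInvertible L) (n : ℕ)
    (s : Coh.structureModule X ⟶ CohB1.tensorPow L n) :
    ∃ s' : Coh.structureModule X' ⟶ CohB1.tensorPow ((Scheme.Modules.pullback g).obj L) n,
      CohB1.genLocus _ s' = g ⁻¹ᵁ CohB1.genLocus _ s := by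
  obtain ⟨e⟩ := nonempty_pullback_tensorPow g L n
  refine ⟨pbSec g s ≫ e.hom, ?_⟩
  rw [Groth.Agent.H18.TwistAmple.genLocus_comp_iso (pbSec g s) e,
    genLocus_pbSec g (isInvertible_tensorPow hL n) s]

/-- The pullback of an ample module along a topological embedding from a quasi-compact scheme is
ample. -/
theorem isAmple_pullback_of_isEmbedding [CompactSpace X'] (hg : Topology.IsEmbedding g)
    {L : X.Modules} (hL : CohB1.IsAmple L) :
    CohB1.IsAmple ((Scheme.Modules.pullback g).obj L) := by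
  haveI : CompactSpace X := hL.2.1
  have hinv := isInvertible_pullback g hL.1
  rw [Groth.Agent.S2126.result _ hinv]
  have hB := (Groth.Agent.S2126.result L hL.1).mp hL
  rw [Opens.isBasis_iff_nbhd]
  intro U' x' hx'
  obtain ⟨U, hU, hUU'⟩ := hg.isInducing.isOpen_iff.mp U'.2
  have hxU : g x' ∈ (⟨U, hU⟩ : X.Opens) := by
    show x' ∈ g ⁻¹' U
    rw [hUU']
    exact hx'
  obtain ⟨_, ⟨n, s, rfl⟩, hxs, hsU⟩ := (Opens.isBasis_iff_nbhd.mp hB) hxU
  obtain ⟨s', hs'⟩ := exists_pbSecPow g hL.1 (n + 1) s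
  refine ⟨_, ⟨n, s', rfl⟩, ?_, ?_⟩
  · rw [hs']
    exact hxs
  · rw [hs']
    intro y hy
    have h1 : g y ∈ U := hsU hy
    have h2 : y ∈ g ⁻¹' U := h1
    rw [hUU'] at h2
    exact h2

/-- The pullback of an ample module along an affine morphism is ample. -/
theorem isAmple_pullback_of_isAffineHom [IsAffineHom g]
    {L : X.Modules} (hL : CohB1.IsAmple L) :
    CohB1.IsAmple ((Scheme.Modules.pullback g).obj L) := by
  haveI : CompactSpace X := hL.2.1
  haveI : CompactSpace X' := QuasiCompact.compactSpace_of_compactSpace g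
  refine ⟨isInvertible_pullback g hL.1, inferInstance, fun x' => ?_⟩
  obtain ⟨n, s, hxs, haff⟩ := hL.2.2 (g x')
  obtain ⟨s', hs'⟩ := exists_pbSecPow g hL.1 (n + 1) s
  refine ⟨n, s', ?_, ?_⟩
  · rw [hs']
    exact hxs
  · rw [hs']
    exact haff.preimage g

/-- The pullback of an ample module along a quasi-compact open immersion is ample. -/
theorem isAmple_pullback_of_isOpenImmersion [IsOpenImmersion g] [CompactSpace X']
    {L : X.Modules} (hL : CohB1.IsAmple L) :
    CohB1.IsAmple ((Scheme.Modules.pullback g).obj L) :=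
  Groth.Agent.H18.AmpleIso.isAmple_of_iso ((restrictFunctorIsoPullback g).app L)
    (Groth.Agent.H18.RestrictTensor.isAmple_restrict g hL)

/-- Ampleness of a pullback along a composite. -/
theorem isAmple_pullback_comp {X'' : Scheme.{u}} (h : X'' ⟶ X') {L : X.Modules}
    (hL : CohB1.IsAmple ((Scheme.Modules.pullback h).obj ((Scheme.Modules.pullback g).obj L))) :
    CohB1.IsAmple ((Scheme.Modules.pullback (h ≫ g)).obj L) :=
  Groth.Agent.H18.AmpleIso.isAmple_of_iso ((Scheme.Modules.pullbackComp h g).app L) hL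

end Groth.Agent.H22.PullAmple
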