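import Mathlib
import Groth.Agent.H22.PullAmple

/-!
# Pullbacks of relatively ample modules (helper22)

* `isRelAmple_of_iso`: relative ampleness is invariant under isomorphism of modules.
* `isRelAmple_pullback_of_isAffineHom`: `L` `f`-ample, `p : P ⟶ X` affine ⇒ `p^*L` `(p ≫ f)`-ample.
* `isRelAmple_pullback_of_isOpenImmersion`: the same for a quasi-compact open immersion.
-/

set_option autoImplicit false
set_option linter.style.haveILetI false
universe u
open CategoryTheory CategoryTheory.Limits AlgebraicGeometry TopologicalSpace Opposite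

namespace Groth.Agent.H22.PullRelAmple

open Groth.Agent.H22.PullGen Groth.Agent.H22.PullAmple
open AlgebraicGeometry.Scheme.Modules

variable {X Y : Scheme.{u}} (f : X ⟶ Y)

theorem isRelAmple_of_iso {L L' : X.Modules} (e : L ≅ L') (h : RelAmple.IsRelAmple f L) :
    RelAmple.IsRelAmple f L' :=
  ⟨h.1, fun V => Groth.Agent.H18.AmpleIso.isAmple_of_iso
    ((restrictFunctor (f ⁻¹ᵁ V.1).ι).mapIso e) (h.2 V)⟩

theorem isRelAmple_pullback_of_isAffineHom [QuasiCompact f] {P : Scheme.{u}} (p : P ⟶ X)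
    [IsAffineHom p] {L : X.Modules} (hL : RelAmple.IsRelAmple f L) :
    RelAmple.IsRelAmple (p ≫ f) ((Scheme.Modules.pullback p).obj L) := by
  refine ⟨inferInstance, fun V => ?_⟩
  show CohB1.IsAmple (((Scheme.Modules.pullback p).obj L).restrict (p ⁻¹ᵁ (f ⁻¹ᵁ V.1)).ι)
  haveI : IsAffineHom (p ∣_ (f ⁻¹ᵁ V.1)) :=
    IsZariskiLocalAtTarget.restrict (P := @IsAffineHom) inferInstance _
  exact Groth.Agent.H18.AmpleIso.isAmple_of_iso ((bcIso p (f ⁻¹ᵁ V.1)).app L).symm
    (isAmple_pullback_of_isAffineHom (p ∣_ (f ⁻¹ᵁ V.1)) (hL.2 V))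

theorem isRelAmple_pullback_of_isOpenImmersion [QuasiCompact f] {P : Scheme.{u}} (p : P ⟶ X)
    [IsOpenImmersion p] [QuasiCompact p] {L : X.Modules} (hL : RelAmple.IsRelAmple f L) :
    RelAmple.IsRelAmple (p ≫ f) ((Scheme.Modules.pullback p).obj L) := by
  refine ⟨inferInstance, fun V => ?_⟩
  show CohB1.IsAmple (((Scheme.Modules.pullback p).obj L).restrict (p ⁻¹ᵁ (f ⁻¹ᵁ V.1)).ι)
  haveI : CompactSpace ((p ⁻¹ᵁ (f ⁻¹ᵁ V.1) : P.Opens) : Scheme.{u}) :=
    isCompact_iff_compactSpace.mp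
      (QuasiCompact.isCompact_preimage (f := p ≫ f) _ V.1.2 V.2.isCompact)
  exact Groth.Agent.H18.AmpleIso.isAmple_of_iso ((bcIso p (f ⁻¹ᵁ V.1)).app L).symm
    (isAmple_pullback_of_isOpenImmersion (p ∣_ (f ⁻¹ᵁ V.1)) (hL.2 V))

/-- Transport along an equality of morphisms. -/
theorem isRelAmple_pullback_congr {X' : Scheme.{u}} {g g' : X' ⟶ X} (h : g = g') {L : X.Modules}
    (hL : RelAmple.IsRelAmple (g ≫ f) ((Scheme.Modules.pullback g).obj L)) :
    RelAmple.IsRelAmple (g' ≫ f) ((Scheme.Modules.pullback g').obj L) := by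
  subst h
  exact hL

/-- Relative ampleness of a pullback along a composite. -/
theorem isRelAmple_pullback_comp {P X' : Scheme.{u}} (c : X' ⟶ P) (p : P ⟶ X) {L : X.Modules}
    (hL : RelAmple.IsRelAmple (c ≫ p ≫ f)
      ((Scheme.Modules.pullback c).obj ((Scheme.Modules.pullback p).obj L))) :
    RelAmple.IsRelAmple ((c ≫ p) ≫ f) ((Scheme.Modules.pullback (c ≫ p)).obj L) := by
  have h1 := isRelAmple_of_iso (c ≫ p ≫ f) ((Scheme.Modules.pullbackComp c p).app L) hL
  rw [← Category.assoc] at h1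
  exact h1

end Groth.Agent.H22.PullRelAmple
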