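import Mathlib
import Groth.Agent.H22.PullRelAmple
import Groth.Agent.S4380

/-!
# Base change of relatively ample modules (helper22)

* `bcIsoLE`: `(f^* M)|_V ≅ (f.resLE U V)^* (M|_U)` for `V ≤ f⁻¹U`.
* `isRelAmple_of_local`: relative ampleness can be checked on affine opens contained in the members
  of an open cover of the base.
* `isAffineOpen_pullback_inf`: `pr₁⁻¹U ∩ pr₂⁻¹V` is affine for `U`, `V` affine over an affine `W`.
* `isAmple_restrict_pullback_fst`, `isRelAmple_baseChange` (EGA II 4.6.13 (iii)).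
-/

set_option autoImplicit false
set_option linter.style.haveILetI false
universe u
open CategoryTheory CategoryTheory.Limits AlgebraicGeometry TopologicalSpace Opposite

namespace Groth.Agent.H22.PullBC

open Groth.Agent.H22.PullGen Groth.Agent.H22.PullAmple Groth.Agent.H22.AmpleLocal
open AlgebraicGeometry.Scheme.Modules

variable {X Y : Scheme.{u}} (f : X ⟶ Y)

/-- `(f^* M)|_V ≅ (f.resLE U V)^* (M|_U)`, as an isomorphism of functors. -/
noncomputable def bcIsoLE (U : Y.Opens) (V : X.Opens) (e : V ≤ f ⁻¹ᵁ U) :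
    Scheme.Modules.pullback f ⋙ Scheme.Modules.restrictFunctor V.ι ≅
      Scheme.Modules.restrictFunctor U.ι ⋙ Scheme.Modules.pullback (f.resLE U V e) :=
  Functor.isoWhiskerLeft _ (Scheme.Modules.restrictFunctorIsoPullback _) ≪≫
    Scheme.Modules.pullbackComp V.ι f ≪≫
    Scheme.Modules.pullbackCongr (Scheme.Hom.resLE_comp_ι f e).symm ≪≫
    (Scheme.Modules.pullbackComp (f.resLE U V e) U.ι).symm ≪≫
    Functor.isoWhiskerRight (Scheme.Modules.restrictFunctorIsoPullback U.ι).symm _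

theorem isRelAmple_restrict_of_forall [QuasiCompact f] (L : X.Modules) (U : Y.Opens)
    (h : ∀ W : Y.Opens, IsAffineOpen W → W ≤ U → CohB1.IsAmple (L.restrict (f ⁻¹ᵁ W).ι)) :
    RelAmple.IsRelAmple (f ∣_ U) (L.restrict (f ⁻¹ᵁ U).ι) := by
  refine ⟨inferInstance, fun V' => ?_⟩
  have hVaff : IsAffineOpen (U.ι ''ᵁ V'.1) := V'.2.image_of_isOpenImmersion U.ι
  have h1 := h (U.ι ''ᵁ V'.1) hVaff (U.ι_image_le V'.1)
  rw [isAmple_restrict_restrict_iff]
  refine isAmple_of_opensRange_eq (f ⁻¹ᵁ (U.ι ''ᵁ V'.1)).ι _ ?_ h1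
  rw [Scheme.Hom.opensRange_comp, Scheme.Opens.opensRange_ι, Scheme.Opens.opensRange_ι,
    image_morphismRestrict_preimage]

/-- Relative ampleness can be checked on the affine opens contained in the members of an open
cover of the base. -/
theorem isRelAmple_of_local [QuasiCompact f] (L : X.Modules)
    (h : ∀ y : Y, ∃ U : Y.Opens, y ∈ U ∧ ∀ W : Y.Opens, IsAffineOpen W → W ≤ U →
      CohB1.IsAmple (L.restrict (f ⁻¹ᵁ W).ι)) :
    RelAmple.IsRelAmple f L := by
  choose U hyU hU using h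
  refine (Groth.Agent.S4380.result f L U
    (eq_top_iff.mpr fun y _ => Opens.mem_iSup.mpr ⟨y, hyU y⟩)).mpr
    (fun y => isRelAmple_restrict_of_forall f L (U y) (hU y))

lemma isAffineOpen_pullback_inf {X Y Z : Scheme.{u}} {f : X ⟶ Z} {g : Y ⟶ Z}
    {U : X.Opens} (hU : IsAffineOpen U) {V : Y.Opens} (hV : IsAffineOpen V)
    {W : Z.Opens} (hW : IsAffineOpen W) (hUW : U ≤ f ⁻¹ᵁ W) (hVW : V ≤ g ⁻¹ᵁ W) :
    IsAffineOpen (pullback.fst f g ⁻¹ᵁ U ⊓ pullback.snd f g ⁻¹ᵁ V) := by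
  have : IsAffine U.toScheme := hU
  have : IsAffine W.toScheme := hW
  have : IsAffine V.toScheme := hV
  let f' : U.toScheme ⟶ W := f.resLE _ _ hUW
  let q : V.toScheme ⟶ W := g.resLE _ _ hVW
  let p : pullback f' q ⟶ pullback f g :=
    pullback.map _ _ _ _ U.ι V.ι W.ι (by simp [f']) (by simp [q])
  have hp : p.opensRange = pullback.fst f g ⁻¹ᵁ U ⊓ pullback.snd f g ⁻¹ᵁ V := by
    ext1
    simp [p, Scheme.Pullback.range_map]
  rw [← hp]
  exact isAffineOpen_opensRange p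

variable {Y' : Scheme.{u}} (g : Y' ⟶ Y)

theorem isAmple_restrict_pullback_fst [QuasiCompact f] {L : X.Modules}
    (hL : RelAmple.IsRelAmple f L) (V : Y.Opens) (hV : IsAffineOpen V) (V'' : Y'.Opens)
    (hV'' : IsAffineOpen V'') (hle : V'' ≤ g ⁻¹ᵁ V) :
    CohB1.IsAmple (((Scheme.Modules.pullback (pullback.fst f g)).obj L).restrict
      ((pullback.snd f g) ⁻¹ᵁ V'').ι) := by
  have hWZ : (pullback.snd f g) ⁻¹ᵁ V'' ≤ (pullback.fst f g) ⁻¹ᵁ (f ⁻¹ᵁ V) := by
    intro x hx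
    have h1 : g (pullback.snd f g x) ∈ V := hle hx
    have h2 : (pullback.fst f g ≫ f) x = (pullback.snd f g ≫ g) x := by
      rw [pullback.condition]
    have h3 : (pullback.fst f g ≫ f) x ∈ V := by
      rw [h2]
      exact h1
    exact h3
  haveI : IsAffineHom ((pullback.fst f g).resLE (f ⁻¹ᵁ V) ((pullback.snd f g) ⁻¹ᵁ V'') hWZ) := by
    apply isAffineHom_of_forall_exists_isAffineOpen
    intro z
    obtain ⟨U, hU, hzU, -⟩ := (Opens.isBasis_iff_nbhd.mp
      (f ⁻¹ᵁ V).toScheme.isBasis_affineOpens) (show z ∈ (⊤ : (f ⁻¹ᵁ V).toScheme.Opens) from trivial)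
    refine ⟨U, hzU, hU, ?_⟩
    rw [← Scheme.Hom.isAffineOpen_iff_of_isOpenImmersion ((pullback.snd f g) ⁻¹ᵁ V'').ι,
      Scheme.Hom.resLE_preimage, Scheme.Hom.image_preimage_eq_opensRange_inf,
      Scheme.Opens.opensRange_ι, inf_comm]
    exact isAffineOpen_pullback_inf (hU.image_of_isOpenImmersion (f ⁻¹ᵁ V).ι) hV'' hV
      ((f ⁻¹ᵁ V).ι_image_le U) hle
  exact Groth.Agent.H18.AmpleIso.isAmple_of_iso
    ((bcIsoLE (pullback.fst f g) (f ⁻¹ᵁ V) ((pullback.snd f g) ⁻¹ᵁ V'') hWZ).app L).symm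
    (isAmple_pullback_of_isAffineHom _ (hL.2 ⟨V, hV⟩))

/-- EGA II 4.6.13 (iii): relative ampleness is stable under base change. -/
theorem isRelAmple_baseChange [QuasiCompact f] {L : X.Modules}
    (hL : RelAmple.IsRelAmple f L) :
    RelAmple.IsRelAmple (pullback.snd f g)
      ((Scheme.Modules.pullback (pullback.fst f g)).obj L) := by
  apply isRelAmple_of_local
  intro y'
  obtain ⟨V, hV, hyV, -⟩ := (Opens.isBasis_iff_nbhd.mp Y.isBasis_affineOpens)
    (show g y' ∈ (⊤ : Y.Opens) from trivial)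
  exact ⟨g ⁻¹ᵁ V, hyV, fun W hW hWle => isAmple_restrict_pullback_fst f g hL V hV W hW hWle⟩

end Groth.Agent.H22.PullBC
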