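import Mathlib
import Groth.Agent.H22.AmpleLocal

/-!
# Ampleness over a clopen decomposition (helper22)

* `exists_extend_by_zero`: extension by zero of a section across a clopen decomposition.
* `isAmple_of_clopen_cover`: a module which is ample on both members of a decomposition of a
  quasi-compact scheme into two disjoint opens is ample.
-/

set_option autoImplicit false
set_option linter.style.haveILetI false
universe u
open CategoryTheory CategoryTheory.Limits AlgebraicGeometry TopologicalSpace Opposite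

namespace Groth.Agent.H22.AmpleCoprod

open Groth.Agent.H8 (res_res res_smul ringRes_res)
open Groth.Agent.H18.SecTw Groth.Agent.H18.TensorGen Groth.Agent.H18.TensorPowIso
  Groth.Agent.H18.RestrictTensor Groth.Agent.H22.GenSection Groth.Agent.H22.AmpleLocal

variable {Z : Scheme.{u}}

/-- Sections over the empty open are unique. -/
lemma eq_of_eq_bot (N : Z.Modules) {W : Z.Opens} (hW : W = ⊥) (s t : Γ(N, W)) : s = t := by
  refine Groth.Agent.H8.section_eq_of_cover N s t (fun x hx => ?_)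
  rw [hW] at hx
  exact absurd hx (fun h => h)

/-- Extension by zero of a section across a clopen decomposition. -/
lemma exists_extend_by_zero (N : Z.Modules) (A B : Z.Opens) (hAB : A ⊔ B = ⊤)
    (hdisj : A ⊓ B = ⊥) (t : Γ(N, A)) :
    ∃ τ : Γ(N, ⊤), N.presheaf.map (homOfLE (le_top : A ≤ ⊤)).op τ = t ∧
      N.presheaf.map (homOfLE (le_top : B ≤ ⊤)).op τ = 0 := by
  obtain ⟨U, hU⟩ : ∃ U : Bool → Z.Opens, U = fun b => cond b A B := ⟨_, rfl⟩
  obtain ⟨sf, hsft, hsff⟩ : ∃ sf : ∀ b : Bool, Γ(N, cond b A B), sf true = t ∧ sf false = 0 :=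
    ⟨fun b => match b with
      | true => t
      | false => 0, rfl, rfl⟩
  have hcompat : TopCat.Presheaf.IsCompatible N.presheaf (fun b => cond b A B) sf := by
    rintro (_ | _) (_ | _)
    · rfl
    · exact eq_of_eq_bot N (by rw [inf_comm]; exact hdisj) _ _
    · exact eq_of_eq_bot N hdisj _ _
    · rfl
  obtain ⟨τ, hτ, -⟩ := TopCat.Sheaf.existsUnique_gluing' (F := ⟨N.presheaf, N.isSheaf⟩)
    (fun b => cond b A B) ⊤ (fun b => homOfLE le_top)
    (by rw [iSup_bool_eq]; exact hAB.ge) sf hcompat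
  exact ⟨τ, (hτ true).trans hsft, (hτ false).trans hsff⟩

/-- The zero section does not generate near any point. -/
lemma not_genAt_zero (N : Z.Modules) {W : Z.Opens} {x : Z} : ¬ GenAt N (0 : Γ(N, W)) x := by
  rintro ⟨V, hV, hxV, hg⟩
  rw [map_zero] at hg
  have h1 : (1 : Γ(Z, V)) = 0 := by
    apply hg.self.1
    simp
  have h2 := congrArg (Z.presheaf.germ V x hxV).hom h1
  rw [map_one, map_zero] at h2
  exact one_ne_zero h2

theorem exists_section_of_clopen (M : Z.Modules) (hM : PicF.IsInvertible M) (A B : Z.Opens)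
    (hAB : A ⊔ B = ⊤) (hdisj : A ⊓ B = ⊥) (hA : CohB1.IsAmple (M.restrict A.ι)) (z : Z)
    (hz : z ∈ A) :
    ∃ (n : ℕ) (s : Coh.structureModule Z ⟶ CohB1.tensorPow M (n + 1)),
      z ∈ CohB1.genLocus _ s ∧ IsAffineOpen (CohB1.genLocus _ s) := by
  obtain ⟨n, s, hzs, haff⟩ := hA.2.2 ⟨z, hz⟩
  obtain ⟨ρ⟩ := nonempty_restrict_tensorPow A.ι hA.1 (n + 1)
  have hs₁ : CohB1.genLocus _ (s ≫ ρ.inv) = CohB1.genLocus _ s :=
    Groth.Agent.H18.TwistAmple.genLocus_comp_iso s ρ.symm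
  obtain ⟨t₀, ht₀⟩ : ∃ t₀ : Γ(CohB1.tensorPow M (n + 1), A.ι ''ᵁ ⊤),
      t₀ = ofRes _ _ (sv (s ≫ ρ.inv) ⊤) := ⟨_, rfl⟩
  have hAtop : A ≤ A.ι ''ᵁ ⊤ := by
    rw [Scheme.Opens.ι_image_top]
  obtain ⟨t₁, ht₁⟩ : ∃ t₁ : Γ(CohB1.tensorPow M (n + 1), A),
      t₁ = (CohB1.tensorPow M (n + 1)).presheaf.map (homOfLE hAtop).op t₀ := ⟨_, rfl⟩
  obtain ⟨τ, hτA, hτB⟩ := exists_extend_by_zero (CohB1.tensorPow M (n + 1)) A B hAB hdisj t₁
  have key : ∀ x : Z, x ∈ CohB1.genLocus _ (secHom (CohB1.tensorPow M (n + 1)) τ) ↔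
      x ∈ A.ι ''ᵁ CohB1.genLocus _ s := by
    intro x
    rw [mem_genLocus_secHom]
    have hB' : ∀ x' : A.toScheme,
        GenAt (CohB1.tensorPow M (n + 1)) τ (A.ι x') ↔ x' ∈ CohB1.genLocus _ s := by
      intro x'
      have hx'A : A.ι x' ∈ A := x'.2
      rw [← genAt_res (le_top : A ≤ ⊤) _ hx'A, hτA, ht₁, genAt_res hAtop _ hx'A, ht₀,
        ← genAt_restrict, ← mem_genLocus_iff_genAt, hs₁]
    constructor
    · intro hx
      have hxA : x ∈ A := by
        by_contra hxA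
        have hxAB : x ∈ A ⊔ B := hAB ▸ (trivial : x ∈ (⊤ : Z.Opens))
        have hxB : x ∈ B := (Opens.mem_sup.mp hxAB).resolve_left hxA
        rw [← genAt_res (le_top : B ≤ ⊤) _ hxB, hτB] at hx
        exact not_genAt_zero _ hx
      exact ⟨⟨x, hxA⟩, (hB' ⟨x, hxA⟩).mp hx, rfl⟩
    · rintro ⟨x', hx', rfl⟩
      exact (hB' x').mpr hx'
  have heq : CohB1.genLocus _ (secHom (CohB1.tensorPow M (n + 1)) τ) =
      A.ι ''ᵁ CohB1.genLocus _ s := Opens.ext (Set.ext key)
  refine ⟨n, secHom (CohB1.tensorPow M (n + 1)) τ, ?_, ?_⟩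
  · rw [heq]
    exact ⟨⟨z, hz⟩, hzs, rfl⟩
  · rw [heq]
    exact haff.image_of_isOpenImmersion _

/-- A module which is ample on both members of a decomposition of a quasi-compact scheme into two
disjoint opens is ample. -/
theorem isAmple_of_clopen_cover [CompactSpace Z] (M : Z.Modules) (A B : Z.Opens)
    (hAB : A ⊔ B = ⊤) (hdisj : A ⊓ B = ⊥) (hA : CohB1.IsAmple (M.restrict A.ι))
    (hB : CohB1.IsAmple (M.restrict B.ι)) : CohB1.IsAmple M := by
  have hcov : ∀ z : Z, z ∈ A ∨ z ∈ B := fun z =>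
    Opens.mem_sup.mp (hAB ▸ (trivial : z ∈ (⊤ : Z.Opens)))
  have hM : PicF.IsInvertible M := by
    refine isInvertible_of_isGen M (fun z => ?_)
    rcases hcov z with hz | hz
    · obtain ⟨V', τ, hzV', hτ⟩ := exists_isGen hA.1 (⟨z, hz⟩ : A.toScheme)
      exact ⟨A.ι ''ᵁ V', ofRes _ M τ, ⟨⟨z, hz⟩, hzV', rfl⟩, isGen_of_restrict _ M hτ⟩
    · obtain ⟨V', τ, hzV', hτ⟩ := exists_isGen hB.1 (⟨z, hz⟩ : B.toScheme)
      exact ⟨B.ι ''ᵁ V', ofRes _ M τ, ⟨⟨z, hz⟩, hzV', rfl⟩, isGen_of_restrict _ M hτ⟩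
  refine ⟨hM, inferInstance, fun z => ?_⟩
  rcases hcov z with hz | hz
  · exact exists_section_of_clopen M hM A B hAB hdisj hA z hz
  · exact exists_section_of_clopen M hM B A (by rw [sup_comm]; exact hAB)
      (by rw [inf_comm]; exact hdisj) hB z hz

end Groth.Agent.H22.AmpleCoprod
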