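import Mathlib
import Groth.Agent.H22.AmpleCoprod

/-!
# Modules on a coproduct of schemes with prescribed restrictions (helper22)
-/

set_option autoImplicit false
set_option linter.style.haveILetI false
universe u
open CategoryTheory CategoryTheory.Limits AlgebraicGeometry TopologicalSpace Opposite

noncomputable section

namespace Groth.Agent.H22.CoprodMod

open AlgebraicGeometry.Scheme.Modules

variable {X X' : Scheme.{u}}

/-- The module on `X ⨿ X'` restricting to `L` on `X` and to `L'` on `X'`. -/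
abbrev glue (L : X.Modules) (L' : X'.Modules) : (X ⨿ X').Modules :=
  (pushforward (coprod.inl : X ⟶ X ⨿ X')).obj L ⊞
    (pushforward (coprod.inr : X' ⟶ X ⨿ X')).obj L'

lemma preimage_inr_image_inl (V : X.Opens) :
    (coprod.inr : X' ⟶ X ⨿ X') ⁻¹ᵁ ((coprod.inl : X ⟶ X ⨿ X') ''ᵁ V) = ⊥ := by
  refine eq_bot_iff.mpr fun y hy => ?_
  obtain ⟨x, -, hx⟩ := hy
  exact (inl_ne_inr X X' x y hx).elim

lemma preimage_inl_image_inr (V : X'.Opens) :
    (coprod.inl : X ⟶ X ⨿ X') ⁻¹ᵁ ((coprod.inr : X' ⟶ X ⨿ X') ''ᵁ V) = ⊥ := by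
  refine eq_bot_iff.mpr fun y hy => ?_
  obtain ⟨x, -, hx⟩ := hy
  exact (inr_ne_inl X X' y x hx).elim

theorem isIso_restrict_fst (L : X.Modules) (L' : X'.Modules) :
    IsIso ((restrictFunctor (coprod.inl : X ⟶ X ⨿ X')).map
      (biprod.fst : glue L L' ⟶ (pushforward (coprod.inl : X ⟶ X ⨿ X')).obj L)) := by
  refine ⟨⟨(restrictFunctor coprod.inl).map biprod.inl, ?_, ?_⟩⟩
  · rw [← CategoryTheory.Functor.map_comp]
    refine Scheme.Modules.hom_ext _ _ (fun V => ?_)
    refine ConcreteCategory.hom_ext _ _ (fun s => ?_)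
    change (biprod.fst ≫ biprod.inl : glue L L' ⟶ glue L L').app (coprod.inl ''ᵁ V) s = s
    have ht := congrArg (fun ψ : glue L L' ⟶ glue L L' => ψ.app (coprod.inl ''ᵁ V) s)
      (biprod.total (X := (pushforward (coprod.inl : X ⟶ X ⨿ X')).obj L)
        (Y := (pushforward (coprod.inr : X' ⟶ X ⨿ X')).obj L'))
    have h1 : (biprod.fst ≫ biprod.inl + biprod.snd ≫ biprod.inr : glue L L' ⟶ glue L L').app
        (coprod.inl ''ᵁ V) s =
        (biprod.fst ≫ biprod.inl : glue L L' ⟶ glue L L').app (coprod.inl ''ᵁ V) s +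
          (biprod.inr : _ ⟶ glue L L').app (coprod.inl ''ᵁ V)
            ((biprod.snd : glue L L' ⟶ _).app (coprod.inl ''ᵁ V) s) := rfl
    have h0 : (biprod.snd : glue L L' ⟶ _).app (coprod.inl ''ᵁ V) s = 0 :=
      AmpleCoprod.eq_of_eq_bot L' (preimage_inr_image_inl V)
        (show Γ(L', (coprod.inr : X' ⟶ X ⨿ X') ⁻¹ᵁ ((coprod.inl : X ⟶ X ⨿ X') ''ᵁ V)) from
          (biprod.snd : glue L L' ⟶ _).app (coprod.inl ''ᵁ V) s) 0
    have h2 : (𝟙 (glue L L') : glue L L' ⟶ glue L L').app (coprod.inl ''ᵁ V) s = s := rfl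
    rw [h0, map_zero, add_zero] at h1
    exact h1.symm.trans (ht.trans h2)
  · rw [← CategoryTheory.Functor.map_comp, biprod.inl_fst, CategoryTheory.Functor.map_id]

theorem isIso_restrict_snd (L : X.Modules) (L' : X'.Modules) :
    IsIso ((restrictFunctor (coprod.inr : X' ⟶ X ⨿ X')).map
      (biprod.snd : glue L L' ⟶ (pushforward (coprod.inr : X' ⟶ X ⨿ X')).obj L')) := by
  refine ⟨⟨(restrictFunctor coprod.inr).map biprod.inr, ?_, ?_⟩⟩
  · rw [← CategoryTheory.Functor.map_comp]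
    refine Scheme.Modules.hom_ext _ _ (fun V => ?_)
    refine ConcreteCategory.hom_ext _ _ (fun s => ?_)
    change (biprod.snd ≫ biprod.inr : glue L L' ⟶ glue L L').app (coprod.inr ''ᵁ V) s = s
    have ht := congrArg (fun ψ : glue L L' ⟶ glue L L' => ψ.app (coprod.inr ''ᵁ V) s)
      (biprod.total (X := (pushforward (coprod.inl : X ⟶ X ⨿ X')).obj L)
        (Y := (pushforward (coprod.inr : X' ⟶ X ⨿ X')).obj L'))
    have h1 : (biprod.fst ≫ biprod.inl + biprod.snd ≫ biprod.inr : glue L L' ⟶ glue L L').app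
        (coprod.inr ''ᵁ V) s =
        (biprod.inl : _ ⟶ glue L L').app (coprod.inr ''ᵁ V)
            ((biprod.fst : glue L L' ⟶ _).app (coprod.inr ''ᵁ V) s) +
          (biprod.snd ≫ biprod.inr : glue L L' ⟶ glue L L').app (coprod.inr ''ᵁ V) s := rfl
    have h0 : (biprod.fst : glue L L' ⟶ _).app (coprod.inr ''ᵁ V) s = 0 :=
      AmpleCoprod.eq_of_eq_bot L (preimage_inl_image_inr V)
        (show Γ(L, (coprod.inl : X ⟶ X ⨿ X') ⁻¹ᵁ ((coprod.inr : X' ⟶ X ⨿ X') ''ᵁ V)) from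
          (biprod.fst : glue L L' ⟶ _).app (coprod.inr ''ᵁ V) s) 0
    have h2 : (𝟙 (glue L L') : glue L L' ⟶ glue L L').app (coprod.inr ''ᵁ V) s = s := rfl
    rw [h0, map_zero, zero_add] at h1
    exact h1.symm.trans (ht.trans h2)
  · rw [← CategoryTheory.Functor.map_comp, biprod.inr_snd, CategoryTheory.Functor.map_id]

/-- `glue L L'` pulls back to `L` along `coprod.inl`. -/
def pullbackGlueInl (L : X.Modules) (L' : X'.Modules) :
    (Scheme.Modules.pullback (coprod.inl : X ⟶ X ⨿ X')).obj (glue L L') ≅ L :=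
  ((restrictFunctorIsoPullback (coprod.inl : X ⟶ X ⨿ X')).app (glue L L')).symm ≪≫
    @asIso _ _ _ _ _ (isIso_restrict_fst L L') ≪≫
      (restrictFunctorAdjCounitIso (coprod.inl : X ⟶ X ⨿ X')).app L

/-- `glue L L'` pulls back to `L'` along `coprod.inr`. -/
def pullbackGlueInr (L : X.Modules) (L' : X'.Modules) :
    (Scheme.Modules.pullback (coprod.inr : X' ⟶ X ⨿ X')).obj (glue L L') ≅ L' :=
  ((restrictFunctorIsoPullback (coprod.inr : X' ⟶ X ⨿ X')).app (glue L L')).symm ≪≫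
    @asIso _ _ _ _ _ (isIso_restrict_snd L L') ≪≫
      (restrictFunctorAdjCounitIso (coprod.inr : X' ⟶ X ⨿ X')).app L'

end Groth.Agent.H22.CoprodMod
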