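import Mathlib
import Groth.Prelude.Def_LCI2
import Groth.Agent.H18.ProjUPData
import Groth.Agent.S3584
import Groth.Agent.S4381
import Groth.Agent.S2332
import Groth.Agent.S2359
import Groth.Agent.S4417
import Groth.Agent.S9705

/-!
# Very ample implies relatively ample (helper22)

* `isAmple_N1`: `O(1)` is ample on `P^n_R`.
* `isRelAmple_twistOver`: `O(1)` is relatively ample on `P^n_S ⟶ S`.
* `isRelAmple_of_isRelVeryAmplePn`: a module very ample relative to a quasi-compact `f` (in the
  `P^n_S` sense) is ample relative to `f`.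
-/

set_option autoImplicit false
universe u
open CategoryTheory CategoryTheory.Limits AlgebraicGeometry TopologicalSpace Opposite

namespace Groth.Agent.H22.VeryAmpleConv

open Groth.Agent.H18.ProjUPData Groth.Agent.H18.ProjSpaceGlobal

theorem isAmple_N1 (n : ℕ) (R : Type u) [CommRing R] : CohB1.IsAmple (N1 n R) := by
  classical
  refine Groth.Agent.S3584.result (CohB1.polyGrading n R)
    (Finset.univ.image (MvPolynomial.X : Fin (n + 1) → MvPolynomial (Fin (n + 1)) R)) ?_ ?_
  · intro f hf
    obtain ⟨i, -, rfl⟩ := Finset.mem_image.mp hf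
    exact Xmem n R i
  · have hc : ((Finset.univ.image (MvPolynomial.X : Fin (n + 1) → MvPolynomial (Fin (n + 1)) R) :
        Finset _) : Set (MvPolynomial (Fin (n + 1)) R)) =
        Set.range (MvPolynomial.X : Fin (n + 1) → MvPolynomial (Fin (n + 1)) R) := by
      rw [Finset.coe_image, Finset.coe_univ, Set.image_univ]
    rw [hc]
    refine le_antisymm (irrelevant_le_span n R) ?_
    rw [Ideal.span_le]
    rintro _ ⟨i, rfl⟩
    show MvPolynomial.X i ∈ HomogeneousIdeal.irrelevant (CohB1.polyGrading n R)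
    rw [HomogeneousIdeal.mem_irrelevant_iff, GradedRing.proj_apply]
    exact DirectSum.decompose_of_mem_ne (CohB1.polyGrading n R) (Xmem n R i) (by norm_num)

theorem isRelAmple_twistOver (n : ℕ) (S : Scheme.{u}) :
    RelAmple.IsRelAmple (CohB1.ProjSpaceOver.toBase n S) (Twist.twistOver n S 1) := by
  have h1 : RelAmple.IsRelAmple (CohB1.ProjSpace.toSpec n (ULift.{u} ℤ))
      (Twist.twistProjSpace n (ULift.{u} ℤ) 1) :=
    (Groth.Agent.S4381.result (CohB1.ProjSpace.toSpec n (ULift.{u} ℤ)) _).mpr
      (isAmple_N1 n (ULift.{u} ℤ))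
  exact Groth.Agent.S2332.result (CohB1.ProjSpace.toSpec n (ULift.{u} ℤ))
    (specULiftZIsTerminal.from S) _ h1

theorem isRelAmple_of_isRelVeryAmplePn {X S : Scheme.{u}} (f : X ⟶ S) [QuasiCompact f]
    (M : X.Modules) (h : RelAmple.IsRelVeryAmplePn f M) : RelAmple.IsRelAmple f M := by
  obtain ⟨n, i, himm, hfac, ⟨e⟩⟩ := h
  have hfac' : i ≫ CohB1.ProjSpaceOver.toBase n S = f := hfac
  haveI : QuasiCompact (i ≫ CohB1.ProjSpaceOver.toBase n S) := by rw [hfac']; infer_instance
  haveI : QuasiCompact i := QuasiCompact.of_comp i (CohB1.ProjSpaceOver.toBase n S)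
  have h3 := Groth.Agent.S2359.result (CohB1.ProjSpaceOver.toBase n S) i
    i.isEmbedding (Twist.twistOver n S 1) (isRelAmple_twistOver n S)
  rw [hfac'] at h3
  exact Groth.Agent.S4417.isRelAmple_congr f e.symm h3

end Groth.Agent.H22.VeryAmpleConv
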