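import Mathlib

/-!
# Criteria for closed immersions and immersions via affine covers (helper22)

* `isClosedImmersion_of_cover`: `f : X ⟶ Y`, affine opens `V i` covering `Y` with `f⁻¹(V i)` affine
  and `Γ(Y, V i) → Γ(X, f⁻¹ V i)` surjective ⇒ `f` is a closed immersion.
* `isImmersion_of_cover`: the same with the `V i` only covering the image of `f` ⇒ immersion.
-/

set_option autoImplicit false
universe u
open CategoryTheory CategoryTheory.Limits AlgebraicGeometry TopologicalSpace Opposite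

namespace Groth.Agent.H22.ImmCrit

variable {X Y : Scheme.{u}}

theorem isClosedImmersion_of_cover (f : X ⟶ Y) {ι : Type*} (V : ι → Y.Opens)
    (hV : ∀ i, IsAffineOpen (V i)) (hcov : ⨆ i, V i = ⊤)
    (haff : ∀ i, IsAffineOpen (f ⁻¹ᵁ V i))
    (hsurj : ∀ i, Function.Surjective (f.app (V i))) :
    IsClosedImmersion f := by
  refine HasAffineProperty.of_iSup_eq_top (P := @IsClosedImmersion)
    (fun i => (⟨V i, hV i⟩ : Y.affineOpens)) hcov (fun i => ?_)
  refine ⟨haff i, ?_⟩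
  rw [morphismRestrict_appTop]
  have h1 : ∀ W : Y.Opens, W = V i → Function.Surjective (f.app W) := by
    rintro W rfl
    exact hsurj i
  have h2 := h1 _ (Scheme.Opens.ι_image_top (V i))
  obtain ⟨φ, hφ⟩ : ∃ φ, φ = X.presheaf.map
    (eqToHom (image_morphismRestrict_preimage f (V i) ⊤)).op := ⟨_, rfl⟩
  rw [← hφ]
  haveI : IsIso φ := by rw [hφ]; infer_instance
  intro y
  obtain ⟨z, hz⟩ := h2 ((inv φ).hom y)
  refine ⟨z, ?_⟩
  show φ.hom ((f.app _).hom z) = y
  have hz' : (f.app ((V i).ι ''ᵁ ⊤)).hom z = (inv φ).hom y := hz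
  rw [hz']
  exact congr($(IsIso.inv_hom_id φ) y)

lemma surjective_app_congr {f g : X ⟶ Y} (h : g = f) (V : Y.Opens)
    (hs : Function.Surjective (f.app V)) : Function.Surjective (g.app V) := by
  subst h
  exact hs

theorem isImmersion_of_cover (f : X ⟶ Y) {ι : Type*} (V : ι → Y.Opens)
    (hV : ∀ i, IsAffineOpen (V i)) (hcov : ∀ x : X, ∃ i, f x ∈ V i)
    (haff : ∀ i, IsAffineOpen (f ⁻¹ᵁ V i))
    (hsurj : ∀ i, Function.Surjective (f.app (V i))) :
    IsImmersion f := by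
  obtain ⟨P, hP⟩ : ∃ P : Y.Opens, P = ⨆ i, V i := ⟨_, rfl⟩
  have hVP : ∀ i, V i ≤ P := fun i => hP ▸ le_iSup V i
  have hrange : Set.range f ⊆ Set.range P.ι := by
    rw [Scheme.Opens.range_ι]
    rintro _ ⟨x, rfl⟩
    obtain ⟨i, hi⟩ := hcov x
    exact hVP i hi
  obtain ⟨f', hf'⟩ : ∃ f' : X ⟶ P, f' ≫ P.ι = f :=
    ⟨IsOpenImmersion.lift P.ι f hrange, IsOpenImmersion.lift_fac _ _ _⟩
  have : IsClosedImmersion f' := by
    refine isClosedImmersion_of_cover f' (fun i => P.ι ⁻¹ᵁ V i) (fun i => ?_) ?_ (fun i => ?_)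
      (fun i => ?_)
    · rw [← Scheme.Hom.isAffineOpen_iff_of_isOpenImmersion P.ι,
        Scheme.Hom.image_preimage_eq_opensRange_inf, Scheme.Opens.opensRange_ι,
        inf_eq_right.mpr (hVP i)]
      exact hV i
    · rw [eq_top_iff]
      rintro ⟨y, hy⟩ -
      rw [hP] at hy
      obtain ⟨i, hi⟩ := Opens.mem_iSup.mp hy
      exact Opens.mem_iSup.mpr ⟨i, hi⟩
    · have h1 : f' ⁻¹ᵁ (P.ι ⁻¹ᵁ V i) = f ⁻¹ᵁ V i := by
        rw [← hf']
        rfl
      rw [h1]
      exact haff i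
    · have h2 : Function.Surjective ((f' ≫ P.ι).app (V i)) :=
        surjective_app_congr hf' (V i) (hsurj i)
      rw [Scheme.Hom.comp_app] at h2
      intro y
      obtain ⟨z, hz⟩ := h2 y
      exact ⟨(P.ι.app (V i)).hom z, hz⟩
  rw [← hf']
  infer_instance

end Groth.Agent.H22.ImmCrit
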