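import Mathlib
import Groth.Prelude.Def_LCI2
import Groth.Agent.H18.ProjUPExist
import Groth.Agent.H22.ImmCrit
import Groth.Agent.H22.PullBC

/-!
# Very ampleness from sections (helper22)

`isRelVeryAmplePn_of_sections`: sections `σ 0, …, σ n` of an invertible module `M` on `X` such that
the good charts `X_{σ j}` (`j ∈ J`) are affine, cover `X`, map into affine opens `W j` of `S`, and
have coordinate rings generated by the functions from `W j` and the ratios `σ k / σ j`, give an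
immersion `X ⟶ P^n_S` over `S` pulling `O(1)` back to `M`.
-/

set_option autoImplicit false
universe u
open CategoryTheory CategoryTheory.Limits AlgebraicGeometry TopologicalSpace Opposite

namespace Groth.Agent.H22.VeryAmpleCore

open Groth.Agent.H18.ProjUPData Groth.Agent.H18.ToProjSpace Groth.Agent.H18.ProjUPExist
open Groth.Agent.H18.ProjSpaceGlobal Groth.Agent.H18.IsoOfGen
open Groth.Agent.H8 (app_res)

variable {X S : Scheme.{u}}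

lemma appLE_congr_hom {Y : Scheme.{u}} {g g' : X ⟶ Y} (h : g = g') (U : Y.Opens) (V : X.Opens)
    (e : V ≤ g ⁻¹ᵁ U) : g.appLE U V e = g'.appLE U V (h ▸ e) := by
  subst h
  rfl

lemma nonempty_pullback_congr {Y : Scheme.{u}} {g g' : X ⟶ Y} (h : g = g') (N : Y.Modules) :
    Nonempty ((Scheme.Modules.pullback g).obj N ≅ (Scheme.Modules.pullback g').obj N) := by
  subst h
  exact ⟨Iso.refl _⟩

lemma surjective_app_of_appLE {Y : Scheme.{u}} (g : X ⟶ Y) (V : Y.Opens) (U : X.Opens)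
    (h : U = g ⁻¹ᵁ V) (hs : Function.Surjective (g.appLE V U h.le)) :
    Function.Surjective (g.app V) := by
  subst h
  rwa [Scheme.Hom.appLE_eq_app] at hs

theorem isRelVeryAmplePn_of_sections (f : X ⟶ S) (M : X.Modules)
    (n : ℕ) (σ : Fin (n + 1) → Γ(M, ⊤))
    (J : Set (Fin (n + 1))) (W : Fin (n + 1) → S.Opens)
    (hcov : ∀ x : X, ∃ j ∈ J, x ∈ Us M σ j)
    (hU : ∀ j ∈ J, IsAffineOpen (Us M σ j))
    (hW : ∀ j ∈ J, IsAffineOpen (W j))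
    (hUW : ∀ j ∈ J, Us M σ j ≤ f ⁻¹ᵁ W j)
    (hgen : ∀ j (hj : j ∈ J) (T : Subring Γ(X, Us M σ j)),
      (∀ c, (f.appLE (W j) (Us M σ j) (hUW j hj)).hom c ∈ T) → (∀ k, as M σ j k ∈ T) → T = ⊤) :
    RelAmple.IsRelVeryAmplePn f M := by
  obtain ⟨q, hqdef⟩ : ∃ q : X ⟶ Spec (CommRingCat.of (ULift.{u} ℤ)),
    q = specULiftZIsTerminal.from X := ⟨_, rfl⟩
  have hcov' : ∀ x : X, ∃ i, x ∈ Us M σ i := fun x => by
    obtain ⟨j, -, hj⟩ := hcov x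
    exact ⟨j, hj⟩
  obtain ⟨r, hr⟩ := exists_glue n (ULift.{u} ℤ) (ProjUP.toGlobal q) (Us M σ) (as M σ) hcov'
    (as_self M σ) (as_cocycle M σ)
  have hpre := glue_preimage_basicOpen n (ULift.{u} ℤ) (ProjUP.toGlobal q) (Us M σ) (as M σ)
    (as_self M σ) r hr hcov' (as_basicOpen M σ)
  have hP4 : ∀ i j, (r.appLE (Dp n (ULift.{u} ℤ) i) (Us M σ i) (hpre i).ge).hom
      (uSec n (ULift.{u} ℤ) i j) = as M σ i j := fun i j =>
    glue_appLE_apply n (ULift.{u} ℤ) (ProjUP.toGlobal q) (Us M σ) (as M σ) (as_self M σ) r hr i j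
      (hpre i).ge
  obtain ⟨τ₀, hτ⟩ := exists_tau M σ r hpre hP4
  have hiso : IsIso τ₀ := by
    refine isIso_of_isGen_image
      (Groth.Agent.H22.PullGen.isInvertible_pullback r (isInvertible_N1 n (ULift.{u} ℤ))) τ₀
      (fun x => ?_)
    obtain ⟨i, hi⟩ := hcov' x
    refine ⟨Us M σ i, ((Scheme.Modules.pullback r).obj (N1 n (ULift.{u} ℤ))).presheaf.map
      (homOfLE (le_top : Us M σ i ≤ ⊤)).op (ProjUP.pullSec r (N1 n (ULift.{u} ℤ))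
        (tN n (ULift.{u} ℤ) i)), hi, ?_⟩
    rw [app_res, hτ i, ← sv_σ]
    exact isGen_sv M σ i
  obtain ⟨τ⟩ : Nonempty ((Scheme.Modules.pullback r).obj (N1 n (ULift.{u} ℤ)) ≅ M) :=
    ⟨@asIso _ _ _ _ τ₀ hiso⟩
  clear hτ hiso τ₀
  -- the morphism to `P^n_S`
  obtain ⟨r', hr'⟩ : ∃ r' : X ⟶ CohB1.ProjSpace n (ULift.{u} ℤ), r' = r := ⟨r, rfl⟩
  obtain ⟨i, hi1, hi2⟩ : ∃ i : X ⟶ CohB1.ProjSpaceOver n S,
      i ≫ pullback.fst (CohB1.ProjSpace.toSpec n (ULift.{u} ℤ)) (specULiftZIsTerminal.from S) = r' ∧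
      i ≫ pullback.snd (CohB1.ProjSpace.toSpec n (ULift.{u} ℤ)) (specULiftZIsTerminal.from S) = f :=
    ⟨pullback.lift r' f (specULiftZIsTerminal.hom_ext _ _), pullback.lift_fst _ _ _,
      pullback.lift_snd _ _ _⟩
  refine ⟨n, i, ?_, hi2, ?_⟩
  · -- immersion
    obtain ⟨p1, hp1⟩ : ∃ p1 : CohB1.ProjSpaceOver n S ⟶ Proj (CohB1.polyGrading n (ULift.{u} ℤ)),
      p1 = pullback.fst (CohB1.ProjSpace.toSpec n (ULift.{u} ℤ)) (specULiftZIsTerminal.from S) :=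
      ⟨_, rfl⟩
    obtain ⟨p2, hp2⟩ : ∃ p2 : CohB1.ProjSpaceOver n S ⟶ S,
      p2 = pullback.snd (CohB1.ProjSpace.toSpec n (ULift.{u} ℤ)) (specULiftZIsTerminal.from S) :=
      ⟨_, rfl⟩
    have hi1' : i ≫ p1 = r := by
      rw [hp1]
      exact hi1.trans hr'
    have hi2' : i ≫ p2 = f := by rw [hp2, hi2]
    have hVaff : ∀ j : J, IsAffineOpen (p1 ⁻¹ᵁ Dp n (ULift.{u} ℤ) j.1 ⊓ p2 ⁻¹ᵁ W j.1) := by
      intro j
      rw [hp1, hp2]
      exact Groth.Agent.H22.PullBC.isAffineOpen_pullback_inf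
        (Proj.isAffineOpen_basicOpen _ _ (Xmem n (ULift.{u} ℤ) j.1) Nat.one_pos) (hW j.1 j.2)
        (isAffineOpen_top (Spec (CommRingCat.of (ULift.{u} ℤ)))) le_top le_top
    have hpreV : ∀ j : J, i ⁻¹ᵁ (p1 ⁻¹ᵁ Dp n (ULift.{u} ℤ) j.1 ⊓ p2 ⁻¹ᵁ W j.1) = Us M σ j.1 := by
      intro j
      have h1 : i ⁻¹ᵁ (p1 ⁻¹ᵁ Dp n (ULift.{u} ℤ) j.1 ⊓ p2 ⁻¹ᵁ W j.1) =
          (i ≫ p1) ⁻¹ᵁ Dp n (ULift.{u} ℤ) j.1 ⊓ (i ≫ p2) ⁻¹ᵁ W j.1 := rfl
      rw [h1, hi1', hi2', hpre j.1]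
      exact inf_eq_left.mpr (hUW j.1 j.2)
    refine Groth.Agent.H22.ImmCrit.isImmersion_of_cover i
      (fun j : J => p1 ⁻¹ᵁ Dp n (ULift.{u} ℤ) j.1 ⊓ p2 ⁻¹ᵁ W j.1) hVaff (fun x => ?_)
      (fun j => ?_) (fun j => ?_)
    · obtain ⟨j, hj, hxj⟩ := hcov x
      refine ⟨⟨j, hj⟩, ?_⟩
      have h2 : x ∈ i ⁻¹ᵁ (p1 ⁻¹ᵁ Dp n (ULift.{u} ℤ) j ⊓ p2 ⁻¹ᵁ W j) := by
        rw [hpreV ⟨j, hj⟩]
        exact hxj
      exact h2
    · rw [hpreV j]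
      exact hU j.1 j.2
    · refine surjective_app_of_appLE i _ (Us M σ j.1) (hpreV j).symm ?_
      obtain ⟨g, hg⟩ : ∃ g : Γ(CohB1.ProjSpaceOver n S,
          p1 ⁻¹ᵁ Dp n (ULift.{u} ℤ) j.1 ⊓ p2 ⁻¹ᵁ W j.1) →+* Γ(X, Us M σ j.1),
        g = (i.appLE _ (Us M σ j.1) (hpreV j).symm.le).hom := ⟨_, rfl⟩
      have hT := hgen j.1 j.2 g.range ?_ ?_
      · intro y
        have hy : y ∈ g.range := by rw [hT]; trivial
        obtain ⟨z, hz⟩ := hy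
        exact ⟨z, by rw [← hz, hg]⟩
      · intro c
        have e1 := Scheme.Hom.appLE_comp_appLE i p2 (W j.1)
          (p1 ⁻¹ᵁ Dp n (ULift.{u} ℤ) j.1 ⊓ p2 ⁻¹ᵁ W j.1) (Us M σ j.1) inf_le_right
          (hpreV j).symm.le
        rw [appLE_congr_hom hi2'] at e1
        refine ⟨(p2.appLE (W j.1) _ inf_le_right).hom c, ?_⟩
        rw [hg]
        exact congr($e1 c)
      · intro k
        have e1 := Scheme.Hom.appLE_comp_appLE i p1 (Dp n (ULift.{u} ℤ) j.1)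
          (p1 ⁻¹ᵁ Dp n (ULift.{u} ℤ) j.1 ⊓ p2 ⁻¹ᵁ W j.1) (Us M σ j.1) inf_le_left
          (hpreV j).symm.le
        rw [appLE_congr_hom hi1'] at e1
        refine ⟨(p1.appLE (Dp n (ULift.{u} ℤ) j.1) _ inf_le_left).hom
          (uSec n (ULift.{u} ℤ) j.1 k), ?_⟩
        rw [hg, ← hP4 j.1 k]
        exact congr($e1 (uSec n (ULift.{u} ℤ) j.1 k))
  · -- the isomorphism
    obtain ⟨e2⟩ := nonempty_pullback_congr (hi1.trans hr') (N1 n (ULift.{u} ℤ))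
    exact ⟨τ.symm ≪≫ e2.symm ≪≫ ((Scheme.Modules.pullbackComp i _).app _).symm⟩

end Groth.Agent.H22.VeryAmpleCore
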