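import Mathlib
import Groth.Agent.H18.HomOfGens
import Groth.Agent.H18.TensorSec
import Groth.Agent.H18.IsoOfGen
import Groth.Agent.H18.SecTwGe
import Groth.Agent.H18.AmpleBasis
import Groth.Agent.H18.TwistAmple
import Groth.Agent.H22.AmpleLocal

/-!
# Sections of `L^n ⊗ L'` adapted to an affine chart `X_s` (helper22)

* `nonempty_iso_twist`: `((L^c ⊗ L') ⊗ (L^d)^e) ⊗ L^d ≅ L^n ⊗ L'` for `c + d (e + 1) = n`.
* `exists_sections_chart`: for `s ∈ Γ(L^d)` with generators of `L`, `L'` over `U = X_s` and finitely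
  many functions `g` on `U`, for all large `n` there are global sections `t₁`, `t_g` of `L^n ⊗ L'`
  with `X_{t₁} = U` and `t_g = g t₁` on `U`.
-/

set_option autoImplicit false
set_option linter.style.haveILetI false
universe u
open CategoryTheory CategoryTheory.Limits AlgebraicGeometry TopologicalSpace Opposite

namespace Groth.Agent.H22.VeryAmpleSec

noncomputable section

open Groth.Agent.H8 (res_res res_smul ringRes_res section_eq_of_cover app_res)
open Groth.Agent.H18.SecTw Groth.Agent.H18.TensorGen Groth.Agent.H18.TensorSec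
open Groth.Agent.H18.HomOfGens Groth.Agent.H18.IsoOfGen Groth.Agent.H18.TensorPowIso
open Groth.Agent.H18.SecTwGe Groth.Agent.H22.AmpleLocal Groth.Agent.H18.AmpleBasis
open Groth.Agent.H18.GenLocusGen

variable {X : Scheme.{u}}

section Iso

variable {L L' : X.Modules}

/-- The module `((L^c ⊗ L') ⊗ (L^d)^e) ⊗ L^d`. -/
abbrev modA (L L' : X.Modules) (c d e : ℕ) : X.Modules :=
  CohB1.tensorMod (CohB1.tensorMod (CohB1.tensorMod (CohB1.tensorPow L c) L')
    (CohB1.tensorPow (CohB1.tensorPow L d) e)) (CohB1.tensorPow L d)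

/-- The module `L^n ⊗ L'`. -/
abbrev modM (L L' : X.Modules) (n : ℕ) : X.Modules :=
  CohB1.tensorMod (CohB1.tensorPow L n) L'

/-- The generator of `modA` attached to generators of `L`, `L'`. -/
def genA {V : X.Opens} (τ : Γ(L, V)) (τ' : Γ(L', V)) (c d e : ℕ) : Γ(modA L L' c d e, V) :=
  tm _ _ (tm _ _ (tm _ _ (lp τ c) τ') (lp (lp τ d) e)) (lp τ d)

def genM {V : X.Opens} (τ : Γ(L, V)) (τ' : Γ(L', V)) (n : ℕ) : Γ(modM L L' n, V) :=
  tm _ _ (lp τ n) τ'

lemma genA_res {V W : X.Opens} (h : W ≤ V) (τ : Γ(L, V)) (τ' : Γ(L', V)) (c d e : ℕ) :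
    (modA L L' c d e).presheaf.map (homOfLE h).op (genA τ τ' c d e) =
      genA (L.presheaf.map (homOfLE h).op τ) (L'.presheaf.map (homOfLE h).op τ') c d e := by
  simp only [genA, tm_res, lp_res]

lemma genM_res {V W : X.Opens} (h : W ≤ V) (τ : Γ(L, V)) (τ' : Γ(L', V)) (n : ℕ) :
    (modM L L' n).presheaf.map (homOfLE h).op (genM τ τ' n) =
      genM (L.presheaf.map (homOfLE h).op τ) (L'.presheaf.map (homOfLE h).op τ') n := by
  simp only [genM, tm_res, lp_res]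

lemma isGen_genA {V : X.Opens} {τ : Γ(L, V)} {τ' : Γ(L', V)} (hτ : IsGen L V τ)
    (hτ' : IsGen L' V τ') (c d e : ℕ) : IsGen (modA L L' c d e) V (genA τ τ' c d e) :=
  isGen_tm (isGen_tm (isGen_tm (isGen_lp hτ c) hτ') (isGen_lp (isGen_lp hτ d) e)) (isGen_lp hτ d)

lemma isGen_genM {V : X.Opens} {τ : Γ(L, V)} {τ' : Γ(L', V)} (hτ : IsGen L V τ)
    (hτ' : IsGen L' V τ') (n : ℕ) : IsGen (modM L L' n) V (genM τ τ' n) :=
  isGen_tm (isGen_lp hτ n) hτ'

lemma genA_smul {V : X.Opens} (u v : Γ(X, V)) (τ : Γ(L, V)) (τ' : Γ(L', V)) (c d e : ℕ) :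
    genA (u • τ) (v • τ') c d e = (u ^ c * v * (u ^ d) ^ e * u ^ d) • genA τ τ' c d e := by
  simp only [genA, lp_smul, tm_smul_left, tm_smul_right, ← mul_smul]
  congr 1
  ring

lemma genM_smul {V : X.Opens} (u v : Γ(X, V)) (τ : Γ(L, V)) (τ' : Γ(L', V)) (n : ℕ) :
    genM (u • τ) (v • τ') n = (u ^ n * v) • genM τ τ' n := by
  simp only [genM, lp_smul, tm_smul_left, tm_smul_right, ← mul_smul]
  congr 1
  ring

theorem nonempty_iso_twist (hL : PicF.IsInvertible L) (hL' : PicF.IsInvertible L')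
    (c d e n : ℕ) (h : c + d * (e + 1) = n) :
    Nonempty (modA L L' c d e ≅ modM L L' n) := by
  let ι : Type u := {p : Σ V : X.Opens, Γ(L, V) × Γ(L', V) // IsGen L p.1 p.2.1 ∧ IsGen L' p.1 p.2.2}
  let D : ι → X.Opens := fun i => i.1.1
  let α : ∀ i : ι, Γ(modA L L' c d e, D i) := fun i => genA i.1.2.1 i.1.2.2 c d e
  let γ : ∀ i : ι, Γ(modM L L' n, D i) := fun i => genM i.1.2.1 i.1.2.2 n
  have hD : ∀ p : X, ∃ i : ι, p ∈ D i := by
    intro p
    obtain ⟨V, τ, τ', hpV, hτ, hτ'⟩ := exists_isGen_pair hL hL' p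
    exact ⟨⟨⟨V, τ, τ'⟩, hτ, hτ'⟩, hpV⟩
  have hα : ∀ i : ι, IsGen (modA L L' c d e) (D i) (α i) := fun i => isGen_genA i.2.1 i.2.2 c d e
  have hcoh : Coh D α γ := by
    intro i j V hi hj x y hxy
    obtain ⟨τ, hτdef⟩ : ∃ τ : Γ(L, V), τ = L.presheaf.map (homOfLE hi).op i.1.2.1 := ⟨_, rfl⟩
    obtain ⟨τ', hτ'def⟩ : ∃ τ' : Γ(L', V), τ' = L'.presheaf.map (homOfLE hi).op i.1.2.2 := ⟨_, rfl⟩
    have hτ : IsGen L V τ := hτdef ▸ i.2.1.res hi
    have hτ' : IsGen L' V τ' := hτ'def ▸ i.2.2.res hi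
    obtain ⟨u, hu⟩ := hτ.self.2 (L.presheaf.map (homOfLE hj).op j.1.2.1)
    obtain ⟨v, hv⟩ := hτ'.self.2 (L'.presheaf.map (homOfLE hj).op j.1.2.2)
    have hu' : u • τ = L.presheaf.map (homOfLE hj).op j.1.2.1 := hu
    have hv' : v • τ' = L'.presheaf.map (homOfLE hj).op j.1.2.2 := hv
    have e1 : (modA L L' c d e).presheaf.map (homOfLE hi).op (α i) = genA τ τ' c d e := by
      rw [hτdef, hτ'def]
      exact genA_res hi _ _ c d e
    have e2 : (modA L L' c d e).presheaf.map (homOfLE hj).op (α j) =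
        (u ^ c * v * (u ^ d) ^ e * u ^ d) • genA τ τ' c d e := by
      rw [← genA_smul, hu', hv']
      exact genA_res hj _ _ c d e
    have e3 : (modM L L' n).presheaf.map (homOfLE hi).op (γ i) = genM τ τ' n := by
      rw [hτdef, hτ'def]
      exact genM_res hi _ _ n
    have e4 : (modM L L' n).presheaf.map (homOfLE hj).op (γ j) = (u ^ n * v) • genM τ τ' n := by
      rw [← genM_smul, hu', hv']
      exact genM_res hj _ _ n
    rw [e1, e2, ← mul_smul] at hxy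
    have hx : x = y * (u ^ c * v * (u ^ d) ^ e * u ^ d) := (isGen_genA hτ hτ' c d e).self.1 hxy
    rw [e3, e4, ← mul_smul, hx]
    congr 1
    rw [← h]
    ring
  obtain ⟨φ, hφ⟩ := exists_hom_of_gens hD hα hcoh
  have hA : PicF.IsInvertible (modA L L' c d e) :=
    isInvertible_tensorMod (isInvertible_tensorMod (isInvertible_tensorMod
      (isInvertible_tensorPow hL c) hL') (isInvertible_tensorPow (isInvertible_tensorPow hL d) e))
      (isInvertible_tensorPow hL d)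
  have hiso : IsIso φ := by
    refine isIso_of_isGen_image hA φ (fun p => ?_)
    obtain ⟨i, hi⟩ := hD p
    refine ⟨D i, α i, hi, ?_⟩
    rw [hφ i]
    exact isGen_genM i.2.1 i.2.2 n
  exact ⟨@asIso _ _ _ _ φ hiso⟩

end Iso

section Chart

lemma sv_comp {A B : X.Modules} (a : Coh.structureModule X ⟶ A) (φ : A ⟶ B) (V : X.Opens) :
    sv (a ≫ φ) V = φ.app V (sv a V) := rfl

variable [CompactSpace X] [QuasiSeparatedSpace X] {L L' : X.Modules}

theorem exists_sections_chart (hL : PicF.IsInvertible L) (hL' : PicF.IsInvertible L') (d : ℕ)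
    (hd : 0 < d) (s : Coh.structureModule X ⟶ CohB1.tensorPow L d)
    (lam : Γ(L, CohB1.genLocus _ s)) (hlam : IsGen L _ lam)
    (lam' : Γ(L', CohB1.genLocus _ s)) (hlam' : IsGen L' _ lam')
    (G : Finset Γ(X, CohB1.genLocus _ s)) :
    ∃ n₀ : ℕ, ∀ n, n₀ ≤ n → ∃ t₁ : Γ(modM L L' n, ⊤),
      (∀ x : X, GenAt (modM L L' n) t₁ x ↔ x ∈ CohB1.genLocus _ s) ∧
      ∀ g ∈ G, ∃ t : Γ(modM L L' n, ⊤),
        (modM L L' n).presheaf.map (homOfLE (le_top : CohB1.genLocus _ s ≤ ⊤)).op t =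
          g • (modM L L' n).presheaf.map (homOfLE (le_top : CohB1.genLocus _ s ≤ ⊤)).op t₁ := by
  classical
  have hΛ := isInvertible_tensorPow hL d
  have hFinv : ∀ c, PicF.IsInvertible (CohB1.tensorMod (CohB1.tensorPow L c) L') := fun c =>
    isInvertible_tensorMod (isInvertible_tensorPow hL c) hL'
  have hext : ∀ (c : ℕ) (g : Γ(X, CohB1.genLocus _ s)), ∃ N : ℕ, ∀ e, N ≤ e →
      ∃ t' : Γ(CohB1.tensorMod (CohB1.tensorMod (CohB1.tensorPow L c) L')
        (CohB1.tensorPow (CohB1.tensorPow L d) e), ⊤),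
      (CohB1.tensorMod (CohB1.tensorMod (CohB1.tensorPow L c) L')
        (CohB1.tensorPow (CohB1.tensorPow L d) e)).presheaf.map
          (homOfLE (le_top : CohB1.genLocus _ s ≤ ⊤)).op t' =
        tm _ _ (g • tm _ _ (lp lam c) lam') (lp (sv s (CohB1.genLocus _ s)) e) := by
    intro c g
    haveI := isQuasicoherent_of_isInvertible (hFinv c)
    exact exists_twist_extends_ge hΛ s _ _
  choose N hN using hext
  obtain ⟨G', hG'⟩ : ∃ G' : Finset Γ(X, CohB1.genLocus _ s), G' = insert 1 G := ⟨_, rfl⟩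
  obtain ⟨N₀, hN₀⟩ : ∃ N₀, ∀ c < d, ∀ g ∈ G', N c g ≤ N₀ :=
    ⟨(Finset.range d).sup (fun c => G'.sup (N c)), fun c hc g hg =>
      (Finset.le_sup (f := N c) hg).trans
        (Finset.le_sup (f := fun c => G'.sup (N c)) (Finset.mem_range.mpr hc))⟩
  refine ⟨d * (N₀ + 2), fun n hn => ?_⟩
  obtain ⟨c, hc⟩ : ∃ c, c = n % d := ⟨_, rfl⟩
  obtain ⟨e, he⟩ : ∃ e, e = n / d - 1 := ⟨_, rfl⟩
  have hcd : c < d := hc ▸ Nat.mod_lt n hd
  have hdiv : N₀ + 2 ≤ n / d := (Nat.le_div_iff_mul_le hd).mpr (by rw [mul_comm]; exact hn)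
  have hn' : c + d * (e + 1) = n := by
    have h1 : e + 1 = n / d := by omega
    rw [h1, hc]
    exact Nat.mod_add_div n d
  have heN : N₀ ≤ e := by omega
  obtain ⟨Φ⟩ := nonempty_iso_twist hL hL' c d e n hn'
  obtain ⟨B, hBdef⟩ : ∃ B : Γ(modA L L' c d e, CohB1.genLocus _ s),
      B = tm _ _ (tm _ _ (tm _ _ (lp lam c) lam') (lp (sv s (CohB1.genLocus _ s)) e))
        (sv s (CohB1.genLocus _ s)) := ⟨_, rfl⟩
  have hB : IsGen (modA L L' c d e) _ B := by
    rw [hBdef]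
    exact isGen_tm (isGen_tm (isGen_tm (isGen_lp hlam c) hlam')
      (isGen_lp (isGen_sv_genLocus s) e)) (isGen_sv_genLocus s)
  have hFΛ : PicF.IsInvertible (CohB1.tensorMod (CohB1.tensorMod (CohB1.tensorPow L c) L')
      (CohB1.tensorPow (CohB1.tensorPow L d) e)) :=
    isInvertible_tensorMod (hFinv c) (isInvertible_tensorPow hΛ e)
  have key : ∀ g ∈ G', ∃ a : Coh.structureModule X ⟶ modA L L' c d e,
      sv a (CohB1.genLocus _ s) = g • B ∧ CohB1.genLocus _ a ≤ CohB1.genLocus _ s := by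
    intro g hg
    obtain ⟨t', ht'⟩ := hN c g e ((hN₀ c hcd g hg).trans heN)
    refine ⟨SecTwist.tmulHom (secHom _ t') s, ?_, ?_⟩
    · have h1 : sv (SecTwist.tmulHom (secHom _ t') s) (CohB1.genLocus _ s) =
          tm _ _ (sv (secHom _ t') (CohB1.genLocus _ s)) (sv s (CohB1.genLocus _ s)) :=
        SecTwist.val_tmulHom _ _ _
      rw [h1, sv_secHom, ht', hBdef, tm_smul_left, tm_smul_left]
    · rw [genLocus_tmulHom hFΛ hΛ]
      exact inf_le_right
  have h1mem : (1 : Γ(X, CohB1.genLocus _ s)) ∈ G' := by rw [hG']; exact Finset.mem_insert_self _ _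
  obtain ⟨a₁, ha₁, hle₁⟩ := key 1 h1mem
  rw [one_smul] at ha₁
  have hgl : CohB1.genLocus _ a₁ = CohB1.genLocus _ s := by
    refine le_antisymm hle₁ (fun x hx => ?_)
    rw [mem_genLocus_iff_isGen]
    exact ⟨_, hx, ha₁ ▸ hB⟩
  refine ⟨sv (a₁ ≫ Φ.hom) ⊤, fun x => ?_, fun g hg => ?_⟩
  · rw [← mem_genLocus_iff_genAt, Groth.Agent.H18.TwistAmple.genLocus_comp_iso a₁ Φ, hgl]
  · obtain ⟨a, ha, -⟩ := key g (by rw [hG']; exact Finset.mem_insert_of_mem hg)
    refine ⟨sv (a ≫ Φ.hom) ⊤, ?_⟩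
    rw [sv_res, sv_res, sv_comp, sv_comp, ha, ha₁, Scheme.Modules.Hom.app_smul]

end Chart

end

end Groth.Agent.H22.VeryAmpleSec
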