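import Mathlib
import Groth.Agent.H22.VeryAmpleSec
import Groth.Agent.H22.VeryAmpleCore
import Groth.Agent.H22.VeryAmpleConv

/-!
# Ample implies eventually very ample (helper22)

* `Chart f M`: an affine chart `U = X_{t₁}` over an affine open `W` of `S` with functions `g`
  generating `Γ(U)` over `Γ(W)` and sections `t g` of `M` with `t g = g t₁` on `U`.
* `isRelVeryAmplePn_of_charts`: finitely many charts covering `X` give an immersion into `P^N_S`.
* `eventually_isRelVeryAmplePn`: `L` ample on `X`, `f : X ⟶ S` locally of finite type, `L'`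
  invertible ⇒ `L^n ⊗ L'` is very ample relative to `f` (in the `P^N_S` sense) for all large `n`.
-/

set_option autoImplicit false
set_option linter.style.haveILetI false
universe u
open CategoryTheory CategoryTheory.Limits AlgebraicGeometry TopologicalSpace Opposite

namespace Groth.Agent.H22.VeryAmpleMain

open Groth.Agent.H8 (res_res res_smul ringRes_res section_eq_of_cover app_res)
open Groth.Agent.H18.SecTw Groth.Agent.H18.TensorGen
open Groth.Agent.H18.TensorPowIso
open Groth.Agent.H22.AmpleLocal Groth.Agent.H18.AmpleBasis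
open Groth.Agent.H18.ProjUPData
open Groth.Agent.H22.VeryAmpleSec Groth.Agent.H22.VeryAmpleCore

noncomputable section

variable {X S : Scheme.{u}}

lemma exists_finset_of_finiteType {A B : Type u} [CommRing A] [CommRing B] (φ : A →+* B)
    (h : φ.FiniteType) :
    ∃ G : Finset B, ∀ T : Subring B, (∀ c, φ c ∈ T) → (∀ g ∈ G, g ∈ T) → T = ⊤ := by
  algebraize [φ]
  obtain ⟨G, hG⟩ := (Algebra.FiniteType.out : (⊤ : Subalgebra A B).FG)
  refine ⟨G, fun T h1 h2 => ?_⟩
  let T' : Subalgebra A B := { T.toSubsemiring with algebraMap_mem' := fun c => h1 c }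
  have h3 : Algebra.adjoin A (G : Set B) ≤ T' := Algebra.adjoin_le (fun g hg => h2 g hg)
  rw [hG] at h3
  exact eq_top_iff.mpr (fun b _ => h3 (Algebra.mem_top : b ∈ (⊤ : Subalgebra A B)))

/-- An affine chart adapted to `f` with sections of `M`. -/
structure Chart (f : X ⟶ S) (M : X.Modules) where
  U : X.Opens
  W : S.Opens
  hU : IsAffineOpen U
  hW : IsAffineOpen W
  hUW : U ≤ f ⁻¹ᵁ W
  G : Finset Γ(X, U)
  hG : ∀ T : Subring Γ(X, U), (∀ c, (f.appLE W U hUW).hom c ∈ T) → (∀ g ∈ G, g ∈ T) → T = ⊤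
  t₁ : Γ(M, ⊤)
  ht₁ : ∀ x : X, GenAt M t₁ x ↔ x ∈ U
  t : Γ(X, U) → Γ(M, ⊤)
  ht : ∀ g ∈ G, M.presheaf.map (homOfLE (le_top : U ≤ ⊤)).op (t g) =
    g • M.presheaf.map (homOfLE (le_top : U ≤ ⊤)).op t₁

section Assembly

variable (f : X ⟶ S) (M : X.Modules) {κ : Type u} [Fintype κ] (C : κ → Chart f M)

/-- The index type of the sections. -/
abbrev Idx : Type u := Option (Σ k : κ, Option ↥(C k).G)

/-- The sections. -/
def sec : Idx f M C → Γ(M, ⊤)
  | none => 0
  | some ⟨k, none⟩ => (C k).t₁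
  | some ⟨k, some g⟩ => (C k).t g.1

def Wf : Idx f M C → S.Opens
  | none => ⊥
  | some ⟨k, _⟩ => (C k).W

theorem isRelVeryAmplePn_of_charts (hcov : ∀ x : X, ∃ k, x ∈ (C k).U) :
    RelAmple.IsRelVeryAmplePn f M := by
  classical
  obtain ⟨N, hN⟩ : ∃ N : ℕ, Fintype.card (Idx f M C) = N + 1 :=
    ⟨Fintype.card (Σ k : κ, Option ↥(C k).G), Fintype.card_option⟩
  obtain ⟨e⟩ : Nonempty (Fin (N + 1) ≃ Idx f M C) :=
    ⟨((Fintype.equivFin (Idx f M C)).trans (finCongr hN)).symm⟩
  obtain ⟨σF, hσF⟩ : ∃ σF : Fin (N + 1) → Γ(M, ⊤), σF = fun j => sec f M C (e j) := ⟨_, rfl⟩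
  have hUs : ∀ j k, e j = some ⟨k, none⟩ → Us M σF j = (C k).U := by
    intro j k hjk
    ext x
    show x ∈ CohB1.genLocus M (secHom M (σF j)) ↔ x ∈ (C k).U
    rw [mem_genLocus_secHom, ← (C k).ht₁ x, hσF]
    show GenAt M (sec f M C (e j)) x ↔ _
    rw [hjk]
    rfl
  refine isRelVeryAmplePn_of_sections f M N σF {j | ∃ k, e j = some ⟨k, none⟩}
    (fun j => Wf f M C (e j)) (fun x => ?_) ?_ ?_ ?_ ?_
  · obtain ⟨k, hk⟩ := hcov x
    refine ⟨e.symm (some ⟨k, none⟩), ⟨k, e.apply_symm_apply _⟩, ?_⟩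
    rw [hUs _ k (e.apply_symm_apply _)]
    exact hk
  · rintro j ⟨k, hjk⟩
    rw [hUs j k hjk]
    exact (C k).hU
  · rintro j ⟨k, hjk⟩
    show IsAffineOpen (Wf f M C (e j))
    rw [hjk]
    exact (C k).hW
  · rintro j ⟨k, hjk⟩
    show Us M σF j ≤ f ⁻¹ᵁ Wf f M C (e j)
    rw [hUs j k hjk, hjk]
    exact (C k).hUW
  · rintro j ⟨k, hjk⟩ T h1 h2
    have hU := hUs j k hjk
    -- the comparison of sections over `Us j` and `(C k).U`
    obtain ⟨ρ, hρ⟩ : ∃ ρ : Γ(X, (C k).U) →+* Γ(X, Us M σF j),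
      ρ = (X.presheaf.map (homOfLE hU.le).op).hom := ⟨_, rfl⟩
    have hρsurj : Function.Surjective ρ := by
      intro y
      refine ⟨(X.presheaf.map (homOfLE hU.ge).op).hom y, ?_⟩
      rw [hρ]
      have h3 : (X.presheaf.map (homOfLE hU.le).op).hom
          ((X.presheaf.map (homOfLE hU.ge).op).hom y) =
          (X.presheaf.map ((homOfLE hU.ge).op ≫ (homOfLE hU.le).op)).hom y := by
        rw [X.presheaf.map_comp]
        rfl
      rw [h3]
      have h4 : (homOfLE hU.ge).op ≫ (homOfLE hU.le).op = 𝟙 (op (Us M σF j)) := rfl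
      rw [h4, X.presheaf.map_id]
      rfl
    have hT' : T.comap ρ = ⊤ := by
      refine (C k).hG (T.comap ρ) (fun c => ?_) (fun g hg => ?_)
      · show ρ ((f.appLE (C k).W (C k).U (C k).hUW).hom c) ∈ T
        have h5 : ρ ((f.appLE (C k).W (C k).U (C k).hUW).hom c) =
            (f.appLE (C k).W (Us M σF j) (hU.le.trans (C k).hUW)).hom c := by
          rw [hρ]
          exact congr($(Scheme.Hom.appLE_map f (C k).hUW (homOfLE hU.le).op) c)
        rw [h5]
        have h6 : ∀ (W' : S.Opens) (hW' : Wf f M C (e j) = W') (e' : Us M σF j ≤ f ⁻¹ᵁ W')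
            (c : Γ(S, W')), (f.appLE W' (Us M σF j) e').hom c ∈ T := by
          rintro W' rfl e' c
          exact h1 c
        exact h6 (C k).W (by rw [hjk]; rfl) _ c
      · show ρ g ∈ T
        have h7 : ρ g = as M σF j (e.symm (some ⟨k, some ⟨g, hg⟩⟩)) := by
          apply (isGen_sv M σF j).self.1
          show ρ g • sv (σ M σF j) (Us M σF j) =
            as M σF j (e.symm (some ⟨k, some ⟨g, hg⟩⟩)) • sv (σ M σF j) (Us M σF j)
          rw [as_spec, sv_σ, sv_σ]
          have h8 : σF j = (C k).t₁ := by rw [hσF]; show sec f M C (e j) = _; rw [hjk]; rfl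
          have h9 : σF (e.symm (some ⟨k, some ⟨g, hg⟩⟩)) = (C k).t g := by
            rw [hσF]
            show sec f M C (e (e.symm _)) = _
            rw [e.apply_symm_apply]
            rfl
          rw [h8, h9]
          have h10 := congrArg (M.presheaf.map (homOfLE hU.le).op) ((C k).ht g hg)
          rw [res_res, res_smul, res_res] at h10
          rw [hρ]
          exact h10.symm
        rw [h7]
        exact h2 _
    rw [eq_top_iff]
    intro y _
    obtain ⟨z, rfl⟩ := hρsurj y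
    have hz : z ∈ T.comap ρ := by rw [hT']; trivial
    exact hz

end Assembly

end

end Groth.Agent.H22.VeryAmpleMain
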