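import Mathlib
import Groth.Agent.H22.VeryAmpleMain

/-!
# Ample implies eventually very ample: the theorem (helper22)

* `eventually_isRelVeryAmplePn`: `L` ample on `X`, `f : X ⟶ S` locally of finite type, `L'`
  invertible ⇒ `L^n ⊗ L'` is very ample relative to `f` (in the `P^N_S` sense) for all large `n`.
-/

set_option autoImplicit false
set_option linter.style.haveILetI false
universe u
open CategoryTheory CategoryTheory.Limits AlgebraicGeometry TopologicalSpace Opposite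

namespace Groth.Agent.H22.VeryAmpleThm

open Groth.Agent.H18.SecTw Groth.Agent.H18.TensorGen
open Groth.Agent.H22.AmpleLocal Groth.Agent.H18.AmpleBasis
open Groth.Agent.H22.VeryAmpleSec Groth.Agent.H22.VeryAmpleCore Groth.Agent.H22.VeryAmpleMain

variable {X S : Scheme.{u}}

theorem eventually_isRelVeryAmplePn (f : X ⟶ S) [LocallyOfFiniteType f] {L L' : X.Modules}
    (hL : CohB1.IsAmple L) (hL' : PicF.IsInvertible L') :
    ∃ n₀ : ℕ, ∀ n, n₀ ≤ n → RelAmple.IsRelVeryAmplePn f (modM L L' n) := by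
  classical
  haveI : CompactSpace X := hL.2.1
  haveI : QuasiSeparatedSpace X := quasiSeparatedSpace_of_isAmple hL
  have hpt : ∀ x : X, ∃ (U : X.Opens) (n₀ : ℕ), x ∈ U ∧
      ∀ n, n₀ ≤ n → ∃ C : Chart f (modM L L' n), C.U = U := by
    intro x
    obtain ⟨W, hW, hxW⟩ : ∃ W : S.Opens, IsAffineOpen W ∧ f x ∈ W := by
      obtain ⟨_, ⟨W, hW, rfl⟩, hxW, -⟩ := S.isBasis_affineOpens.exists_subset_of_mem_open
        (Set.mem_univ (f x)) isOpen_univ
      exact ⟨W, hW, hxW⟩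
    obtain ⟨V₀, τ, τ', hxV₀, hτ, hτ'⟩ := exists_isGen_pair hL.1 hL' x
    have hB := isBasis_affine_of_isAmple hL
    rw [Opens.isBasis_iff_nbhd] at hB
    obtain ⟨U, ⟨hU, m, s, rfl⟩, hxU, hle⟩ := hB (U := f ⁻¹ᵁ W ⊓ V₀) (x := x) ⟨hxW, hxV₀⟩
    have hUW : CohB1.genLocus _ s ≤ f ⁻¹ᵁ W := hle.trans inf_le_left
    have hUV : CohB1.genLocus _ s ≤ V₀ := hle.trans inf_le_right
    obtain ⟨G, hG⟩ := exists_finset_of_finiteType _
      (HasRingHomProperty.appLE (P := @LocallyOfFiniteType) f inferInstance ⟨W, hW⟩ ⟨_, hU⟩ hUW)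
    obtain ⟨n₀, hn₀⟩ := exists_sections_chart hL.1 hL' (m + 1) (Nat.succ_pos m) s _ (hτ.res hUV) _
      (hτ'.res hUV) G
    refine ⟨CohB1.genLocus _ s, n₀, hxU, fun n hn => ?_⟩
    obtain ⟨t₁, ht₁, ht⟩ := hn₀ n hn
    choose! t ht using ht
    exact ⟨{ U := CohB1.genLocus _ s, W := W, hU := hU, hW := hW, hUW := hUW, G := G, hG := hG,
             t₁ := t₁, ht₁ := ht₁, t := t, ht := ht }, rfl⟩
  choose U n₀ hxU hC using hpt
  obtain ⟨F, hF⟩ := CompactSpace.elim_nhds_subcover (fun x => (U x : Set X))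
    (fun x => (U x).isOpen.mem_nhds (hxU x))
  refine ⟨F.sup n₀, fun n hn => ?_⟩
  have hC' : ∀ k : ↥F, ∃ C : Chart f (modM L L' n), C.U = U k.1 := fun k =>
    hC k.1 n ((Finset.le_sup k.2).trans hn)
  choose C hCU using hC'
  refine isRelVeryAmplePn_of_charts f _ C (fun x => ?_)
  have hx : x ∈ ⋃ y ∈ F, (U y : Set X) := by rw [hF]; trivial
  simp only [Set.mem_iUnion] at hx
  obtain ⟨y, hy, hxy⟩ := hx
  exact ⟨⟨y, hy⟩, by rw [hCU]; exact hxy⟩

end Groth.Agent.H22.VeryAmpleThm
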