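import Mathlib
import Groth.Agent.H22.VeryAmpleThm
import Groth.Agent.H8.InvRestrict

/-!
# Unit isomorphisms for `tensorMod` and corollaries of the very-ampleness theorem (helper22)

* `nonempty_iso_of_gens`: coherent systems of local generators give an isomorphism.
* `nonempty_tensorMod_unit_right`: `A ⊗ O ≅ A` for invertible `A`.
* `nonempty_tensorPow_unit_tensor`: `O^n ⊗ L ≅ L` for invertible `L`.
* `isRelVeryAmplePn_of_iso`: `IsRelVeryAmplePn` is invariant under isomorphism.
* `eventually_isRelVeryAmplePn_tensorPow`: `L` ample, `f` locally of finite type ⇒ `L^d` is very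
  ample relative to `f` (in the `P^N_S` sense) for all large `d`.
-/

set_option autoImplicit false
set_option linter.style.haveILetI false
universe u
open CategoryTheory CategoryTheory.Limits AlgebraicGeometry TopologicalSpace Opposite

namespace Groth.Agent.H22.VeryAmpleIso

open Groth.Agent.H18.SecTw Groth.Agent.H18.TensorGen
open Groth.Agent.H18.HomOfGens Groth.Agent.H18.IsoOfGen
open Groth.Agent.H22.VeryAmpleSec

variable {X S : Scheme.{u}}

/-- The unit section of the structure module. -/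
def one (V : X.Opens) : Γ(Coh.structureModule X, V) := (1 : Γ(X, V))

lemma one_res {V W : X.Opens} (h : W ≤ V) :
    (Coh.structureModule X).presheaf.map (homOfLE h).op (one V) = one W :=
  map_one (X.presheaf.map (homOfLE h).op).hom

lemma isGen_one' (V : X.Opens) : IsGen (Coh.structureModule X) V (one V) := isGen_one V

theorem nonempty_iso_of_gens {A C : X.Modules} (hA : PicF.IsInvertible A) {ι : Type*}
    {D : ι → X.Opens} (hD : ∀ p : X, ∃ i, p ∈ D i) {α : ∀ i, Γ(A, D i)} {γ : ∀ i, Γ(C, D i)}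
    (hα : ∀ i, IsGen A (D i) (α i)) (hγ : ∀ i, IsGen C (D i) (γ i)) (hcoh : Coh D α γ) :
    Nonempty (A ≅ C) := by
  obtain ⟨φ, hφ⟩ := exists_hom_of_gens hD hα hcoh
  have hiso : IsIso φ := by
    refine isIso_of_isGen_image hA φ (fun p => ?_)
    obtain ⟨i, hi⟩ := hD p
    exact ⟨D i, α i, hi, by rw [hφ i]; exact hγ i⟩
  exact ⟨@asIso _ _ _ _ φ hiso⟩

/-- `(B ⊗ A) ≅ A` when `B` has a global generator `β` (e.g. `B = O^n`). -/
theorem nonempty_tensorMod_iso_right {A B : X.Modules} (hA : PicF.IsInvertible A)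
    (hB : PicF.IsInvertible B) (β : ∀ V : X.Opens, Γ(B, V)) (hβ : ∀ V, IsGen B V (β V))
    (hβres : ∀ (V W : X.Opens) (h : W ≤ V), B.presheaf.map (homOfLE h).op (β V) = β W) :
    Nonempty (CohB1.tensorMod B A ≅ A) := by
  let ι : Type u := {p : Σ V : X.Opens, Γ(A, V) // IsGen A p.1 p.2}
  let D : ι → X.Opens := fun i => i.1.1
  refine nonempty_iso_of_gens (isInvertible_tensorMod hB hA) (D := D)
    (α := fun i => tm B A (β (D i)) i.1.2) (γ := fun i => i.1.2) (fun p => ?_)
    (fun i => isGen_tm (hβ _) i.2) (fun i => i.2) ?_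
  · obtain ⟨V, τ, hpV, hτ⟩ := exists_isGen hA p
    exact ⟨⟨⟨V, τ⟩, hτ⟩, hpV⟩
  · intro i j V hi hj x y hxy
    obtain ⟨τ, hτdef⟩ : ∃ τ : Γ(A, V), τ = A.presheaf.map (homOfLE hi).op i.1.2 := ⟨_, rfl⟩
    have hτ : IsGen A V τ := hτdef ▸ i.2.res hi
    obtain ⟨u, hu⟩ := hτ.self.2 (A.presheaf.map (homOfLE hj).op j.1.2)
    have hu' : u • τ = A.presheaf.map (homOfLE hj).op j.1.2 := hu
    have e1 : (CohB1.tensorMod B A).presheaf.map (homOfLE hi).op (tm B A (β (D i)) i.1.2) =
        tm B A (β V) τ := by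
      rw [tm_res, hβres, hτdef]
    have e2 : (CohB1.tensorMod B A).presheaf.map (homOfLE hj).op (tm B A (β (D j)) j.1.2) =
        u • tm B A (β V) τ := by
      rw [tm_res, hβres, ← hu', tm_smul_right]
    show x • A.presheaf.map (homOfLE hi).op i.1.2 = y • A.presheaf.map (homOfLE hj).op j.1.2
    change x • (CohB1.tensorMod B A).presheaf.map (homOfLE hi).op (tm B A (β (D i)) i.1.2) =
      y • (CohB1.tensorMod B A).presheaf.map (homOfLE hj).op (tm B A (β (D j)) j.1.2) at hxy
    rw [e1, e2, ← mul_smul] at hxy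
    have hx : x = y * u := (isGen_tm (hβ V) hτ).self.1 hxy
    rw [← hτdef, ← hu', ← mul_smul, hx]

/-- `(A ⊗ B) ≅ A` when `B` has a global generator `β` (e.g. `B = O`). -/
theorem nonempty_tensorMod_iso_left {A B : X.Modules} (hA : PicF.IsInvertible A)
    (hB : PicF.IsInvertible B) (β : ∀ V : X.Opens, Γ(B, V)) (hβ : ∀ V, IsGen B V (β V))
    (hβres : ∀ (V W : X.Opens) (h : W ≤ V), B.presheaf.map (homOfLE h).op (β V) = β W) :
    Nonempty (CohB1.tensorMod A B ≅ A) := by
  let ι : Type u := {p : Σ V : X.Opens, Γ(A, V) // IsGen A p.1 p.2}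
  let D : ι → X.Opens := fun i => i.1.1
  refine nonempty_iso_of_gens (isInvertible_tensorMod hA hB) (D := D)
    (α := fun i => tm A B i.1.2 (β (D i))) (γ := fun i => i.1.2) (fun p => ?_)
    (fun i => isGen_tm i.2 (hβ _)) (fun i => i.2) ?_
  · obtain ⟨V, τ, hpV, hτ⟩ := exists_isGen hA p
    exact ⟨⟨⟨V, τ⟩, hτ⟩, hpV⟩
  · intro i j V hi hj x y hxy
    obtain ⟨τ, hτdef⟩ : ∃ τ : Γ(A, V), τ = A.presheaf.map (homOfLE hi).op i.1.2 := ⟨_, rfl⟩
    have hτ : IsGen A V τ := hτdef ▸ i.2.res hi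
    obtain ⟨u, hu⟩ := hτ.self.2 (A.presheaf.map (homOfLE hj).op j.1.2)
    have hu' : u • τ = A.presheaf.map (homOfLE hj).op j.1.2 := hu
    have e1 : (CohB1.tensorMod A B).presheaf.map (homOfLE hi).op (tm A B i.1.2 (β (D i))) =
        tm A B τ (β V) := by
      rw [tm_res, hβres, hτdef]
    have e2 : (CohB1.tensorMod A B).presheaf.map (homOfLE hj).op (tm A B j.1.2 (β (D j))) =
        u • tm A B τ (β V) := by
      rw [tm_res, hβres, ← hu', tm_smul_left]
    show x • A.presheaf.map (homOfLE hi).op i.1.2 = y • A.presheaf.map (homOfLE hj).op j.1.2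
    change x • (CohB1.tensorMod A B).presheaf.map (homOfLE hi).op (tm A B i.1.2 (β (D i))) =
      y • (CohB1.tensorMod A B).presheaf.map (homOfLE hj).op (tm A B j.1.2 (β (D j))) at hxy
    rw [e1, e2, ← mul_smul] at hxy
    have hx : x = y * u := (isGen_tm hτ (hβ V)).self.1 hxy
    rw [← hτdef, ← hu', ← mul_smul, hx]

theorem nonempty_tensorMod_unit_right {A : X.Modules} (hA : PicF.IsInvertible A) :
    Nonempty (CohB1.tensorMod A (Coh.structureModule X) ≅ A) :=
  nonempty_tensorMod_iso_left hA (Groth.Agent.H8.isInvertible_structureModule X) one isGen_one'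
    (fun _ _ h => one_res h)

theorem nonempty_tensorPow_unit_tensor {L : X.Modules} (hL : PicF.IsInvertible L) (n : ℕ) :
    Nonempty (CohB1.tensorMod (CohB1.tensorPow (Coh.structureModule X) n) L ≅ L) :=
  nonempty_tensorMod_iso_right hL
    (isInvertible_tensorPow (Groth.Agent.H8.isInvertible_structureModule X) n)
    (fun V => lp (one V) n) (fun V => isGen_lp (isGen_one' V) n)
    (fun V W h => by rw [lp_res, one_res])

theorem isRelVeryAmplePn_of_iso (f : X ⟶ S) {M M' : X.Modules} (e : M ≅ M')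
    (h : RelAmple.IsRelVeryAmplePn f M) : RelAmple.IsRelVeryAmplePn f M' := by
  obtain ⟨n, i, hi, hif, ⟨e'⟩⟩ := h
  exact ⟨n, i, hi, hif, ⟨e.symm ≪≫ e'⟩⟩

/-- EGA II 4.6.11 / 4.5.10: for ample `L` and `f` locally of finite type, `L^d` is very ample
relative to `f` for all large `d`. -/
theorem eventually_isRelVeryAmplePn_tensorPow (f : X ⟶ S) [LocallyOfFiniteType f] {L : X.Modules}
    (hL : CohB1.IsAmple L) :
    ∃ d₀ : ℕ, 0 < d₀ ∧ ∀ d : ℕ, d₀ ≤ d → RelAmple.IsRelVeryAmplePn f (CohB1.tensorPow L d) := by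
  obtain ⟨n₀, hn₀⟩ := Groth.Agent.H22.VeryAmpleThm.eventually_isRelVeryAmplePn f hL
    (Groth.Agent.H8.isInvertible_structureModule X)
  refine ⟨max n₀ 1, lt_of_lt_of_le Nat.one_pos (le_max_right _ _), fun d hd => ?_⟩
  obtain ⟨e⟩ := nonempty_tensorMod_unit_right (isInvertible_tensorPow hL.1 d)
  exact isRelVeryAmplePn_of_iso f e (hn₀ d ((le_max_left _ _).trans hd))

/-- On a quasi-affine scheme of locally finite type over `S`, every invertible module is very
ample. -/
theorem isRelVeryAmplePn_of_isQuasiAffine [X.IsQuasiAffine] (f : X ⟶ S) [LocallyOfFiniteType f]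
    {L : X.Modules} (hL : PicF.IsInvertible L) : RelAmple.IsRelVeryAmplePn f L := by
  have hO : CohB1.IsAmple (Coh.structureModule X) :=
    Groth.Agent.H18.AmpleBasis.isAmple_of_isQuasiAffine
      (Groth.Agent.H8.isInvertible_structureModule X)
  obtain ⟨n₀, hn₀⟩ := Groth.Agent.H22.VeryAmpleThm.eventually_isRelVeryAmplePn f hO hL
  obtain ⟨e⟩ := nonempty_tensorPow_unit_tensor hL n₀
  exact isRelVeryAmplePn_of_iso f e (hn₀ n₀ le_rfl)

end Groth.Agent.H22.VeryAmpleIso
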