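import Mathlib
import Groth.Agent.H22.VeryAmpleIso
import Groth.Agent.H18.TensorSec
import Groth.Agent.H18.HomOfGens
import Groth.Agent.H18.RestrictUnit
import Groth.Agent.H8.CohAffine
import Groth.Agent.H8.QCohAffine
import Groth.Agent.S4407

/-!
# Building blocks for the resolution property (helper22)

* `exists_normalized_gen`, `exists_hom_of_section`: for invertible `A`, `B` with `A ⊗ B ≅ O`, a
  global section of `M ⊗ B` gives a morphism `A ⟶ M` (`Γ(M ⊗ B) → Hom(B^{-1}, M)`).
* `exists_local_generators`: a quasi-coherent module of finite type is generated over an affine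
  open by finitely many sections.
* `isFinLocFree_sigma`: a finite coproduct of invertible modules is finite locally free.
-/

set_option autoImplicit false
set_option linter.style.haveILetI false
universe u
open CategoryTheory CategoryTheory.Limits AlgebraicGeometry TopologicalSpace Opposite

namespace Groth.Agent.H22.ResProp

open Groth.Agent.H8 (res_res res_smul ringRes_res section_eq_of_cover app_res)
open Groth.Agent.H18.SecTw Groth.Agent.H18.TensorGen Groth.Agent.H18.TensorSec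
open Groth.Agent.H18.HomOfGens Groth.Agent.H18.IsoOfGen
open Groth.Agent.H22.VeryAmpleIso

variable {X : Scheme.{u}}

section Hom

variable {A B : X.Modules}

lemma isGen_app_iso {P Q : X.Modules} (e : P ≅ Q) {V : X.Opens} {g : Γ(P, V)} (hg : IsGen P V g) :
    IsGen Q V (e.hom.app V g) := by
  intro V' h
  have hb : Function.Bijective (e.hom.app V') := by
    have h2 : IsIso (e.hom.app V') :=
      (Scheme.Modules.Hom.isIso_iff_isIso_app (φ := e.hom)).mp (Iso.isIso_hom e) V'
    exact (ConcreteCategory.isIso_iff_bijective _).mp h2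
  have he : (fun r : Γ(X, V') => r • Q.presheaf.map (homOfLE h).op (e.hom.app V g)) =
      (fun m => e.hom.app V' m) ∘ (fun r : Γ(X, V') => r • P.presheaf.map (homOfLE h).op g) := by
    funext r
    show _ = e.hom.app V' (r • P.presheaf.map (homOfLE h).op g)
    rw [Scheme.Modules.Hom.app_smul, app_res]
  rw [he]
  exact hb.comp (hg V' h)

/-- Normalised local generators: near every point of an open on which `B` has the generator `β`
there is a generator `α` of `A` with `e (α ⊗ β) = 1`. -/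
theorem exists_normalized_gen (hA : PicF.IsInvertible A)
    (e : CohB1.tensorMod A B ≅ Coh.structureModule X) {V : X.Opens} {β : Γ(B, V)}
    (hβ : IsGen B V β) (x : X) (hx : x ∈ V) :
    ∃ (V' : X.Opens) (hV' : V' ≤ V) (α : Γ(A, V')), x ∈ V' ∧ IsGen A V' α ∧
      e.hom.app V' (tm A B α (B.presheaf.map (homOfLE hV').op β)) = one V' := by
  obtain ⟨V₀, α₀, hxV₀, hα₀⟩ := exists_isGen hA x
  have hV' : V₀ ⊓ V ≤ V := inf_le_right
  have hα := hα₀.res (inf_le_left : V₀ ⊓ V ≤ V₀)
  have hβ' := hβ.res hV'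
  have hg := isGen_app_iso e (isGen_tm hα hβ')
  obtain ⟨d, hd⟩ := hg.self.2 (one (V₀ ⊓ V))
  have hd' : d • e.hom.app (V₀ ⊓ V) (tm A B (A.presheaf.map (homOfLE
      (inf_le_left : V₀ ⊓ V ≤ V₀)).op α₀) (B.presheaf.map (homOfLE hV').op β)) = one (V₀ ⊓ V) := hd
  obtain ⟨c, hc⟩ := (isGen_one' (V₀ ⊓ V)).self.2 (e.hom.app (V₀ ⊓ V)
    (tm A B (A.presheaf.map (homOfLE (inf_le_left : V₀ ⊓ V ≤ V₀)).op α₀)
      (B.presheaf.map (homOfLE hV').op β)))
  have hc' : c • one (V₀ ⊓ V) = e.hom.app (V₀ ⊓ V)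
    (tm A B (A.presheaf.map (homOfLE (inf_le_left : V₀ ⊓ V ≤ V₀)).op α₀)
      (B.presheaf.map (homOfLE hV').op β)) := hc
  have hdc : d * c = 1 := by
    apply (isGen_one' (V₀ ⊓ V)).self.1
    show (d * c) • one (V₀ ⊓ V) = (1 : Γ(X, V₀ ⊓ V)) • one (V₀ ⊓ V)
    rw [mul_smul, hc', hd', one_smul]
  have hdu : IsUnit d := IsUnit.of_mul_eq_one c hdc
  refine ⟨V₀ ⊓ V, hV', d • A.presheaf.map (homOfLE (inf_le_left : V₀ ⊓ V ≤ V₀)).op α₀,
    ⟨hxV₀, hx⟩, ?_, ?_⟩
  · refine isGen_of_isGen_smul c _ ?_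
    rw [← mul_smul, mul_comm, hdc, one_smul]
    exact hα
  · rw [tm_smul_left, Scheme.Modules.Hom.app_smul]
    exact hd'

/-- `Γ(M ⊗ B) → Hom(A, M)` for `A ⊗ B ≅ O`: a global section `t` of `M ⊗ B` gives `φ : A ⟶ M`
with `φ(α) ⊗ β = t` whenever `e (α ⊗ β) = 1`. -/
theorem exists_hom_of_section {M : X.Modules} (hA : PicF.IsInvertible A)
    (hB : PicF.IsInvertible B) (e : CohB1.tensorMod A B ≅ Coh.structureModule X)
    (t : Γ(CohB1.tensorMod M B, ⊤)) :
    ∃ φ : A ⟶ M, ∀ (V : X.Opens) (α : Γ(A, V)) (β : Γ(B, V)), IsGen A V α → IsGen B V β →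
      e.hom.app V (tm A B α β) = one V →
      tm M B (φ.app V α) β =
        (CohB1.tensorMod M B).presheaf.map (homOfLE (le_top : V ≤ ⊤)).op t := by
  let ι : Type u := {p : Σ V : X.Opens, Γ(A, V) × Γ(B, V) //
    IsGen A p.1 p.2.1 ∧ IsGen B p.1 p.2.2 ∧ e.hom.app p.1 (tm A B p.2.1 p.2.2) = one p.1}
  let D : ι → X.Opens := fun i => i.1.1
  have hγ : ∀ i : ι, ∃ m : Γ(M, D i), tm M B m i.1.2.2 =
      (CohB1.tensorMod M B).presheaf.map (homOfLE (le_top : D i ≤ ⊤)).op t :=
    fun i => (bijective_tm i.2.2.1).2 _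
  choose γ hγ using hγ
  have hD : ∀ p : X, ∃ i : ι, p ∈ D i := by
    intro p
    obtain ⟨V, β, hpV, hβ⟩ := exists_isGen hB p
    obtain ⟨V', hV', α, hpV', hα, hn⟩ := exists_normalized_gen hA e hβ p hpV
    exact ⟨⟨⟨V', α, B.presheaf.map (homOfLE hV').op β⟩, hα, hβ.res hV', hn⟩, hpV'⟩
  have hcoh : Coh D (fun i => i.1.2.1) γ := by
    intro i j V hi hj x y hxy
    obtain ⟨α, hαdef⟩ : ∃ α : Γ(A, V), α = A.presheaf.map (homOfLE hi).op i.1.2.1 := ⟨_, rfl⟩
    obtain ⟨β, hβdef⟩ : ∃ β : Γ(B, V), β = B.presheaf.map (homOfLE hi).op i.1.2.2 := ⟨_, rfl⟩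
    have hα : IsGen A V α := hαdef ▸ i.2.1.res hi
    have hβ : IsGen B V β := hβdef ▸ i.2.2.1.res hi
    obtain ⟨u, hu⟩ := hα.self.2 (A.presheaf.map (homOfLE hj).op j.1.2.1)
    obtain ⟨v, hv⟩ := hβ.self.2 (B.presheaf.map (homOfLE hj).op j.1.2.2)
    have hu' : u • α = A.presheaf.map (homOfLE hj).op j.1.2.1 := hu
    have hv' : v • β = B.presheaf.map (homOfLE hj).op j.1.2.2 := hv
    have n1 : e.hom.app V (tm A B α β) = one V := by
      have h1 := congrArg ((Coh.structureModule X).presheaf.map (homOfLE hi).op) i.2.2.2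
      rw [← app_res, tm_res, one_res] at h1
      rw [hαdef, hβdef]
      exact h1
    have n2 : e.hom.app V (tm A B (u • α) (v • β)) = one V := by
      have h1 := congrArg ((Coh.structureModule X).presheaf.map (homOfLE hj).op) j.2.2.2
      rw [← app_res, tm_res, one_res] at h1
      rw [hu', hv']
      exact h1
    rw [tm_smul_left, tm_smul_right, ← mul_smul, Scheme.Modules.Hom.app_smul, n1] at n2
    have huv : u * v = 1 := by
      apply (isGen_one' V).self.1
      show (u * v) • one V = (1 : Γ(X, V)) • one V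
      rw [n2, one_smul]
    have hxy' : x • α = (y * u) • α := by
      rw [mul_smul, hu', hαdef]
      exact hxy
    have hx : x = y * u := hα.self.1 hxy'
    have e1 : tm M B (M.presheaf.map (homOfLE hi).op (γ i)) β =
        (CohB1.tensorMod M B).presheaf.map (homOfLE (le_top : V ≤ ⊤)).op t := by
      rw [hβdef, ← tm_res, hγ i, res_res]
    have e2 : tm M B (M.presheaf.map (homOfLE hj).op (γ j)) (v • β) =
        (CohB1.tensorMod M B).presheaf.map (homOfLE (le_top : V ≤ ⊤)).op t := by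
      rw [hv', ← tm_res, hγ j, res_res]
    rw [tm_smul_right, ← tm_smul_left] at e2
    have hm : M.presheaf.map (homOfLE hi).op (γ i) =
        v • M.presheaf.map (homOfLE hj).op (γ j) := injective_tm hβ (e1.trans e2.symm)
    show x • M.presheaf.map (homOfLE hi).op (γ i) = y • M.presheaf.map (homOfLE hj).op (γ j)
    rw [hm, hx, ← mul_smul, mul_assoc, huv, mul_one]
  obtain ⟨φ, hφ⟩ := exists_hom_of_gens hD (fun i => i.2.1) hcoh
  refine ⟨φ, fun V α β hα hβ hn => ?_⟩
  have h1 := hφ ⟨⟨V, α, β⟩, hα, hβ, hn⟩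
  have h2 := hγ ⟨⟨V, α, β⟩, hα, hβ, hn⟩
  rw [← h1] at h2
  exact h2

end Hom

section Gen

/-- A quasi-coherent module of finite type is generated, over an affine open `U`, by finitely many
sections: every section over a basic open of `U` is a combination of them. -/
theorem exists_local_generators (M : X.Modules) [M.IsQuasicoherent]
    [SheafOfModules.IsFiniteType (R := X.ringCatSheaf) M] {U : X.Opens} (hU : IsAffineOpen U) :
    ∃ (r : ℕ) (m : Fin r → Γ(M, U)), ∀ (a : Γ(X, U)) (w : Γ(M, X.basicOpen a)),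
      ∃ c : Fin r → Γ(X, X.basicOpen a),
        w = ∑ k, c k • M.presheaf.map (homOfLE (X.basicOpen_le a)).op (m k) := by
  haveI : Module.Finite Γ(X, U) Γ(M, U) := Groth.Agent.H8.finite_sections_of_isAffineOpen M hU
  obtain ⟨r, m, hm⟩ := Module.Finite.exists_fin (R := Γ(X, U)) (M := Γ(M, U))
  refine ⟨r, m, fun a w => ?_⟩
  obtain ⟨n, y, hy⟩ := Groth.Agent.H8.exists_smul_eq_res hU M a w
  have hy' : y ∈ Submodule.span Γ(X, U) (Set.range m) := by rw [hm]; trivial
  obtain ⟨b, hb⟩ := (Submodule.mem_span_range_iff_exists_fun _).mp hy'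
  have hu : IsUnit ((X.presheaf.map (homOfLE (X.basicOpen_le a)).op a) ^ n) :=
    (X.toRingedSpace.isUnit_res_basicOpen a).pow n
  obtain ⟨v, hv⟩ := hu
  refine ⟨fun k => (↑v⁻¹ : Γ(X, X.basicOpen a)) *
    X.presheaf.map (homOfLE (X.basicOpen_le a)).op (b k), ?_⟩
  have h1 : w = (↑v⁻¹ : Γ(X, X.basicOpen a)) • ((v : Γ(X, X.basicOpen a)) • w) := by
    rw [← mul_smul, Units.inv_mul, one_smul]
  rw [h1, hv, hy, ← hb, map_sum, Finset.smul_sum]
  refine Finset.sum_congr rfl (fun k _ => ?_)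
  rw [res_smul, ← mul_smul]

end Gen

section Sigma

/-- A finite coproduct of invertible modules is finite locally free. -/
theorem isFinLocFree_sigma {J : Type u} [Fintype J] (A : J → X.Modules)
    (hA : ∀ j, PicF.IsInvertible (A j)) : FlatMod.IsFinLocFree (∐ A) := by
  classical
  intro x
  have h1 : ∀ j, ∃ (V : X.Opens) (τ : Γ(A j, V)), x ∈ V ∧ IsGen (A j) V τ :=
    fun j => exists_isGen (hA j) x
  choose V τ hxV hτ using h1
  obtain ⟨W, hW⟩ : ∃ W : X.Opens, W = Finset.univ.inf V := ⟨_, rfl⟩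
  have hWV : ∀ j, W ≤ V j := fun j => hW ▸ Finset.inf_le (Finset.mem_univ j)
  have hxW : x ∈ W := by
    rw [hW]
    have : ∀ s : Finset J, x ∈ s.inf V := by
      intro s
      induction s using Finset.induction_on with
      | empty => rw [Finset.inf_empty]; trivial
      | insert a s ha ih => rw [Finset.inf_insert]; exact ⟨hxV a, ih⟩
    exact this _
  refine ⟨W, Fintype.card J, hxW, ?_⟩
  have h2 : ∀ j, Nonempty ((A j).restrict W.ι ≅ Coh.structureModule (W : Scheme.{u})) := fun j =>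
    Groth.Agent.H18.RestrictUnit.nonempty_restrict_iso_unit W (A j) _ ((hτ j).res (hWV j))
  exact ⟨(PreservesCoproduct.iso (Scheme.Modules.restrictFunctor W.ι) A) ≪≫
    Sigma.whiskerEquiv (f := fun j => (A j).restrict W.ι)
      (g := fun _ : Fin (Fintype.card J) => Coh.structureModule (W : Scheme.{u}))
      (Fintype.equivFin J) (fun j => (h2 j).some.symm)⟩

end Sigma

end Groth.Agent.H22.ResProp
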