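import Mathlib
import Groth.Agent.H22.ResProp
import Groth.Agent.H95.DualInv
import Groth.Agent.H18.SecTwGe
import Groth.Agent.H18.AmpleBasis
import Groth.Agent.H18.GenLocusGen
import Groth.Prelude.Def_PerfAux

/-!
# Schemes with an ample invertible module have the resolution property (helper22)
-/

set_option autoImplicit false
set_option linter.style.haveILetI false
universe u
open CategoryTheory CategoryTheory.Limits AlgebraicGeometry TopologicalSpace Opposite

namespace Groth.Agent.H22.ResPropAmple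

open Groth.Agent.H8 (res_res res_smul ringRes_res section_eq_of_cover app_res)
open Groth.Agent.H18.SecTw Groth.Agent.H18.TensorGen Groth.Agent.H18.TensorSec
open Groth.Agent.H18.SecTwGe Groth.Agent.H18.AmpleBasis Groth.Agent.H18.GenLocusGen
open Groth.Agent.H22.ResProp Groth.Agent.H22.VeryAmpleIso

variable {X : Scheme.{u}}

/-- Local form: around each point there are finitely many morphisms from invertible modules to
`M` whose images generate `M` near the point. -/
theorem exists_local_resolution {L : X.Modules} (hL : CohB1.IsAmple L) (M : X.Modules)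
    [M.IsQuasicoherent] [SheafOfModules.IsFiniteType (R := X.ringCatSheaf) M] (x : X) :
    ∃ (U : X.Opens) (r : ℕ) (A : Fin r → X.Modules) (φ : ∀ k, A k ⟶ M),
      x ∈ U ∧ (∀ k, PicF.IsInvertible (A k)) ∧
      ∀ (W : X.Opens) (t : Γ(M, W)) (y : X), y ∈ W → y ∈ U →
        ∃ (W' : X.Opens) (hW' : W' ≤ W), y ∈ W' ∧ ∃ (s : ∀ k, Γ(A k, W')),
          M.presheaf.map (homOfLE hW').op t = ∑ k, (φ k).app W' (s k) := by
  classical
  haveI : CompactSpace X := hL.2.1
  haveI : QuasiSeparatedSpace X := quasiSeparatedSpace_of_isAmple hL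
  obtain ⟨n, s, hxs, haff⟩ := hL.2.2 x
  obtain ⟨r, m, hm⟩ := exists_local_generators M haff
  have hΛ := isInvertible_tensorPow hL.1 (n + 1)
  have hk : ∀ k : Fin r, ∃ (A : X.Modules) (φ : A ⟶ M), PicF.IsInvertible A ∧
      ∀ y ∈ CohB1.genLocus _ s, ∃ (V : X.Opens) (hV : V ≤ CohB1.genLocus _ s) (α : Γ(A, V)),
        y ∈ V ∧ φ.app V α = M.presheaf.map (homOfLE hV).op (m k) := by
    intro k
    obtain ⟨N, hN⟩ := exists_twist_extends_ge hΛ s M (m k)
    obtain ⟨t', ht'⟩ := hN N le_rfl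
    have hB := isInvertible_tensorPow hΛ N
    obtain ⟨e⟩ := Groth.Agent.H95.DualInv.nonempty_dual_tensor_iso hB
    have hA := Groth.Agent.H95.DualInv.isInvertible_dual hB
    obtain ⟨φ, hφ⟩ := exists_hom_of_section hA hB e t'
    refine ⟨_, φ, hA, fun y hy => ?_⟩
    have hβ : IsGen _ (CohB1.genLocus _ s) (lp (sv s (CohB1.genLocus _ s)) N) :=
      isGen_lp (isGen_sv_genLocus s) N
    obtain ⟨V, hV, α, hyV, hα, hn⟩ := exists_normalized_gen hA e hβ y hy
    refine ⟨V, hV, α, hyV, ?_⟩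
    have h1 := hφ V α _ hα (hβ.res hV) hn
    have h2 : (CohB1.tensorMod M (CohB1.tensorPow (CohB1.tensorPow L (n + 1)) N)).presheaf.map
        (homOfLE (le_top : V ≤ ⊤)).op t' =
        tm M _ (M.presheaf.map (homOfLE hV).op (m k))
          ((CohB1.tensorPow (CohB1.tensorPow L (n + 1)) N).presheaf.map (homOfLE hV).op
            (lp (sv s (CohB1.genLocus _ s)) N)) := by
      rw [← tm_res, ← ht', res_res]
    exact injective_tm (hβ.res hV) (h1.trans h2)
  choose A φ hA hφ using hk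
  refine ⟨CohB1.genLocus _ s, r, A, φ, hxs, hA, fun W t y hyW hyU => ?_⟩
  choose V hV α hyV hα using fun k => hφ k y hyU
  obtain ⟨W₀, hW₀⟩ : ∃ W₀ : X.Opens, W₀ = W ⊓ Finset.univ.inf V := ⟨_, rfl⟩
  have hW₀W : W₀ ≤ W := hW₀ ▸ inf_le_left
  have hW₀V : ∀ k, W₀ ≤ V k := fun k => hW₀ ▸ inf_le_right.trans (Finset.inf_le (Finset.mem_univ k))
  have hyW₀ : y ∈ W₀ := by
    rw [hW₀]
    have : ∀ S : Finset (Fin r), y ∈ S.inf V := by
      intro S
      induction S using Finset.induction_on with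
      | empty => rw [Finset.inf_empty]; trivial
      | insert a S ha ih => rw [Finset.inf_insert]; exact ⟨hyV a, ih⟩
    exact ⟨hyW, this _⟩
  obtain ⟨a, haW₀, hya⟩ := haff.exists_basicOpen_le ⟨y, hyW₀⟩ hyU
  obtain ⟨c, hc⟩ := hm a (M.presheaf.map (homOfLE (haW₀.trans hW₀W)).op t)
  refine ⟨X.basicOpen a, haW₀.trans hW₀W, hya,
    fun k => c k • (A k).presheaf.map (homOfLE (haW₀.trans (hW₀V k))).op (α k), ?_⟩
  rw [hc]
  refine Finset.sum_congr rfl (fun k _ => ?_)
  rw [Scheme.Modules.Hom.app_smul, app_res, hα k, res_res]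

theorem hasResolutionProperty_of_isAmple {L : X.Modules} (hL : CohB1.IsAmple L) :
    PerfAux.HasResolutionProperty X := by
  classical
  intro M hMq hMft
  haveI : CompactSpace X := hL.2.1
  haveI : M.IsQuasicoherent := hMq
  haveI : SheafOfModules.IsFiniteType (R := X.ringCatSheaf) M := hMft
  choose U r A φ hxU hA hloc using fun x => exists_local_resolution hL M x
  obtain ⟨F, hF⟩ := CompactSpace.elim_nhds_subcover (fun x => (U x : Set X))
    (fun x => (U x).isOpen.mem_nhds (hxU x))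
  obtain ⟨ψ, hψ⟩ : ∃ ψ : ∀ j : (Σ i : ↥F, Fin (r i.1)), A j.1.1 j.2 ⟶ M,
    ψ = fun j : (Σ i : ↥F, Fin (r i.1)) => φ j.1.1 j.2 := ⟨_, rfl⟩
  refine ⟨∐ fun j : (Σ i : ↥F, Fin (r i.1)) => A j.1.1 j.2, Sigma.desc ψ,
    isFinLocFree_sigma _ (fun j => hA _ _), ?_⟩
  apply Groth.Agent.S4407.epi_of_locally
  intro W t y hyW
  obtain ⟨i, hi, hyi⟩ : ∃ i ∈ F, y ∈ U i := by
    have : y ∈ ⋃ x ∈ F, (U x : Set X) := by rw [hF]; trivial
    obtain ⟨x, hx, hy⟩ := Set.mem_iUnion₂.mp this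
    exact ⟨x, hx, hy⟩
  obtain ⟨W', hW', hyW', s, hs⟩ := hloc i W t y hyW hyi
  refine ⟨W', hW', hyW', ∑ k : Fin (r i),
    (Sigma.ι (fun j : (Σ i : ↥F, Fin (r i.1)) => A j.1.1 j.2) ⟨⟨i, hi⟩, k⟩).app W' (s k), ?_⟩
  rw [hs, map_sum]
  refine Finset.sum_congr rfl (fun k _ => ?_)
  have h1 : Sigma.ι (fun j : (Σ i : ↥F, Fin (r i.1)) => A j.1.1 j.2) ⟨⟨i, hi⟩, k⟩ ≫
      Sigma.desc ψ = φ i k := by
    rw [Sigma.ι_desc, hψ]
  rw [← h1]
  rfl

end Groth.Agent.H22.ResPropAmple
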