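import Mathlib
import Groth.Agent.H18.AmpleTensor
import Groth.Agent.H18.AmpleBasis
import Groth.Agent.H18.GenLocusGen
import Groth.Agent.H18.SecTwGe
import Groth.Agent.H18.TensorSec
import Groth.Agent.H8.InvRestrict
import Groth.Agent.H22.AmpleLocal
import Groth.Agent.H22.PullAmple

/-!
# Ampleness for composites (EGA II 4.6.13 (ii)) (helper22)
-/

set_option autoImplicit false
universe u
open CategoryTheory CategoryTheory.Limits AlgebraicGeometry TopologicalSpace Opposite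

namespace Groth.Agent.H22.CompAmple

open Groth.Agent.H8 (res_res res_smul ringRes_res section_eq_of_cover)
open Groth.Agent.H18.SecTw Groth.Agent.H18.TensorGen Groth.Agent.H18.TensorPowIso
open Groth.Agent.H18.TensorSec Groth.Agent.H18.RestrictTensor
open Groth.Agent.H18.AmpleTensor Groth.Agent.H18 Groth.Agent.H22.AmpleLocal
open Groth.Agent.H22.GenSection

variable {X : Scheme.{u}}

/-- `c • γ` generates at `p` iff `c` does not vanish at `p`. -/
lemma genAt_smul_iff {N : X.Modules} (hN : PicF.IsInvertible N) {U : X.Opens} {γ : Γ(N, U)}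
    (hγ : IsGen N U γ) (c : Γ(X, U)) {p : X} (hp : p ∈ U) :
    GenAt N (c • γ) p ↔ p ∈ X.basicOpen c := by
  constructor
  · exact mem_basicOpen_of_genAt_smul hN c γ
  · intro hpc
    exact ⟨X.basicOpen c, X.basicOpen_le c, hpc,
      IsGenOn.basicOpen (show IsGenOn N U γ from hγ) c⟩

/-- Tensoring with a generator does not change the locus of generation. -/
lemma genAt_tm_gen_iff {F B : X.Modules} (hF : PicF.IsInvertible F) (hB : PicF.IsInvertible B)
    {W : X.Opens} (t : Γ(F, W)) {β : Γ(B, W)} (hβ : IsGen B W β) {p : X} (hp : p ∈ W) :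
    GenAt (CohB1.tensorMod F B) (tm F B t β) p ↔ GenAt F t p := by
  obtain ⟨V₀, φ₀, hpV₀, hφ₀⟩ := exists_isGen hF p
  have hV : V₀ ⊓ W ≤ W := inf_le_right
  have hpV : p ∈ V₀ ⊓ W := ⟨hpV₀, hp⟩
  have hφ := hφ₀.res (inf_le_left : V₀ ⊓ W ≤ V₀)
  have hβ' := hβ.res hV
  obtain ⟨c, hc⟩ := hφ.self.2 (F.presheaf.map (homOfLE hV).op t)
  have hc' : c • F.presheaf.map (homOfLE (inf_le_left : V₀ ⊓ W ≤ V₀)).op φ₀ =
      F.presheaf.map (homOfLE hV).op t := hc
  rw [← genAt_res hV _ hpV, ← genAt_res hV t hpV, tm_res, ← hc', tm_smul_left,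
    genAt_smul_iff (isInvertible_tensorMod hF hB) (isGen_tm hφ hβ') c hpV,
    genAt_smul_iff hF hφ c hpV]

/-- A section of a power of the restriction of `L` to an open `U` gives a section over `U` of the
power of `L`, with the same locus of generation. -/
theorem exists_section_restrict {L : X.Modules} (hL : PicF.IsInvertible L) (U : X.Opens) (k : ℕ)
    (t₀ : Coh.structureModule U.toScheme ⟶ CohB1.tensorPow (L.restrict U.ι) k) :
    ∃ t : Γ(CohB1.tensorPow L k, U), ∀ y : U.toScheme,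
      GenAt (CohB1.tensorPow L k) t (U.ι y) ↔ y ∈ CohB1.genLocus _ t₀ := by
  have hLU : PicF.IsInvertible (L.restrict U.ι) := Groth.Agent.H8.isInvertible_restrict U.ι hL
  obtain ⟨ρ⟩ := nonempty_restrict_tensorPow U.ι hLU k
  obtain ⟨t₁, ht₁⟩ : ∃ t₁ : Γ((CohB1.tensorPow L k).restrict U.ι, ⊤),
    t₁ = sv (t₀ ≫ ρ.inv) ⊤ := ⟨_, rfl⟩
  have htop : U ≤ U.ι ''ᵁ ⊤ := by rw [Scheme.Opens.ι_image_top]
  refine ⟨(CohB1.tensorPow L k).presheaf.map (homOfLE htop).op (ofRes U.ι _ t₁), fun y => ?_⟩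
  have h1 := TwistAmple.genLocus_comp_iso t₀ ρ.symm
  rw [Iso.symm_hom] at h1
  rw [genAt_res htop _ (show U.ι y ∈ U from y.2), ← genAt_restrict, ht₁,
    ← mem_genLocus_iff_genAt, h1]

/-- Extension of a section over `X_σ` of an invertible module to a global section of a twist,
with control of the locus of generation. -/
theorem exists_tmul_extends [CompactSpace X] [QuasiSeparatedSpace X] {F B : X.Modules}
    (hF : PicF.IsInvertible F) (hB : PicF.IsInvertible B)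
    (σ : Coh.structureModule X ⟶ B) (t : Γ(F, CohB1.genLocus B σ)) :
    ∃ N : ℕ, ∀ N' : ℕ, N ≤ N' → ∃ τ : Coh.structureModule X ⟶
        CohB1.tensorMod (CohB1.tensorMod F (CohB1.tensorPow B N')) B,
      ∀ p : X, p ∈ CohB1.genLocus _ τ ↔ p ∈ CohB1.genLocus B σ ∧ GenAt F t p := by
  haveI : F.IsQuasicoherent := AmpleBasis.isQuasicoherent_of_isInvertible hF
  obtain ⟨N, hN⟩ := SecTwGe.exists_twist_extends_ge hB σ F t
  refine ⟨N, fun N' hN' => ?_⟩
  obtain ⟨t', ht'⟩ := hN N' hN'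
  have hBN : PicF.IsInvertible (CohB1.tensorPow B N') := isInvertible_tensorPow hB N'
  have hFB : PicF.IsInvertible (CohB1.tensorMod F (CohB1.tensorPow B N')) :=
    isInvertible_tensorMod hF hBN
  have hβ : IsGen (CohB1.tensorPow B N') (CohB1.genLocus B σ)
      (lp (sv σ (CohB1.genLocus B σ)) N') := isGen_lp (GenLocusGen.isGen_sv_genLocus σ) N'
  have key : ∀ p : X, p ∈ CohB1.genLocus B σ →
      (p ∈ CohB1.genLocus _ (secHom _ t') ↔ GenAt F t p) := by
    intro p hp2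
    rw [mem_genLocus_secHom, ← genAt_res (le_top : CohB1.genLocus B σ ≤ ⊤) t' hp2, ht',
      genAt_tm_gen_iff hF hBN t hβ hp2]
  refine ⟨SecTwist.tmulHom (secHom _ t') σ, fun p => ?_⟩
  rw [genLocus_tmulHom hFB hB (secHom _ t') σ]
  constructor
  · rintro ⟨hp1, hp2⟩
    exact ⟨hp2, (key p hp2).mp hp1⟩
  · rintro ⟨hp2, hp3⟩
    exact ⟨(key p hp2).mpr hp3, hp2⟩

/-! ### The comparison isomorphism -/

theorem tripleSys_big {L A : X.Modules} (hL : PicF.IsInvertible L) (hA : PicF.IsInvertible A)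
    (a m N b n : ℕ) (h : m * (N + 1) + b = n * a) :
    TripleSys
      (CohB1.tensorPow (CohB1.tensorMod (CohB1.tensorMod (CohB1.tensorPow L a)
        (CohB1.tensorPow (CohB1.tensorPow A m) N)) (CohB1.tensorPow A m)) m)
      (CohB1.tensorPow (CohB1.tensorPow A m) b)
      (CohB1.tensorPow (CohB1.tensorMod L (CohB1.tensorPow A n)) (a * m))
      (fun V α β γ => ∃ (τ : Γ(L, V)) (ν : Γ(A, V)), IsGen L V τ ∧ IsGen A V ν ∧
        α = lp (tm _ _ (tm _ _ (lp τ a) (lp (lp ν m) N)) (lp ν m)) m ∧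
        β = lp (lp ν m) b ∧ γ = lp (tm _ _ τ (lp ν n)) (a * m)) where
  gen := by
    rintro V α β γ ⟨τ, ν, hτ, hν, rfl, rfl, rfl⟩
    exact ⟨isGen_lp (isGen_tm (isGen_tm (isGen_lp hτ a) (isGen_lp (isGen_lp hν m) N))
      (isGen_lp hν m)) m, isGen_lp (isGen_lp hν m) b, isGen_lp (isGen_tm hτ (isGen_lp hν n)) _⟩
  res := by
    rintro V W hWV α β γ ⟨τ, ν, hτ, hν, rfl, rfl, rfl⟩
    refine ⟨L.presheaf.map (homOfLE hWV).op τ, A.presheaf.map (homOfLE hWV).op ν, hτ.res hWV,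
      hν.res hWV, ?_, ?_, ?_⟩
    · simp only [lp_res, tm_res]
    · simp only [lp_res]
    · simp only [lp_res, tm_res]
  cover := by
    intro x
    obtain ⟨V, τ, ν, hxV, hτ, hν⟩ := exists_isGen_pair hL hA x
    exact ⟨V, _, _, _, hxV, τ, ν, hτ, hν, rfl, rfl, rfl⟩
  compat := by
    rintro V α α' β β' γ γ' u v ⟨τ, ν, hτ, hν, rfl, rfl, rfl⟩
      ⟨τ', ν', hτ', hν', rfl, rfl, rfl⟩ hu hv
    obtain ⟨c, hc⟩ := hτ.self.2 τ'
    obtain ⟨d, hd⟩ := hν.self.2 ν'
    have hc₁ : c • τ = τ' := hc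
    have hd₁ : d • ν = ν' := hd
    rw [← hc₁, ← hd₁] at hu
    rw [← hd₁] at hv
    simp only [lp_smul, tm_smul_left, tm_smul_right, ← mul_smul] at hu hv
    have hu' := (isGen_lp (isGen_tm (isGen_tm (isGen_lp hτ a) (isGen_lp (isGen_lp hν m) N))
      (isGen_lp hν m)) m).self.1 hu
    have hv' := (isGen_lp (isGen_lp hν m) b).self.1 hv
    rw [← hc₁, ← hd₁]
    simp only [lp_smul, tm_smul_left, tm_smul_right, ← mul_smul]
    congr 1
    rw [← hu', ← hv']
    have h2 : n * (a * m) = (m * (N + 1) + b) * m := by rw [← mul_assoc, ← h]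
    rw [mul_pow (d ^ n) c, ← pow_mul d n, h2]
    ring

/-- `((L^a ⊗ (A^m)^N) ⊗ A^m)^m ⊗ (A^m)^b ≅ (L ⊗ A^n)^(a m)` when `m (N + 1) + b = n a`. -/
theorem nonempty_big_iso {L A : X.Modules} (hL : PicF.IsInvertible L) (hA : PicF.IsInvertible A)
    (a m N b n : ℕ) (h : m * (N + 1) + b = n * a) :
    Nonempty (CohB1.tensorMod
      (CohB1.tensorPow (CohB1.tensorMod (CohB1.tensorMod (CohB1.tensorPow L a)
        (CohB1.tensorPow (CohB1.tensorPow A m) N)) (CohB1.tensorPow A m)) m)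
      (CohB1.tensorPow (CohB1.tensorPow A m) b) ≅
      CohB1.tensorPow (CohB1.tensorMod L (CohB1.tensorPow A n)) (a * m)) :=
  nonempty_iso_of_tripleSys (tripleSys_big hL hA a m N b n h)

/-! ### The main local statement -/

/-- Local step: around each point there is an affine open which is the non-vanishing locus of a
section of a power of `L ⊗ A^n`, for every large `n`. -/
theorem exists_affine_genLocus [CompactSpace X] [QuasiSeparatedSpace X] {L A : X.Modules}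
    (hL : PicF.IsInvertible L) (hA : PicF.IsInvertible A) (x : X) (m : ℕ)
    (σ : Coh.structureModule X ⟶ CohB1.tensorPow A (m + 1))
    (hxσ : x ∈ CohB1.genLocus _ σ)
    (hamp : CohB1.IsAmple (L.restrict (CohB1.genLocus _ σ).ι)) :
    ∃ (e : ℕ) (D : X.Opens), x ∈ D ∧ IsAffineOpen D ∧ ∀ n, e ≤ n →
      ∃ (c : ℕ) (s : Coh.structureModule X ⟶
        CohB1.tensorPow (CohB1.tensorMod L (CohB1.tensorPow A n)) (c + 1)),
        CohB1.genLocus _ s = D := by
  obtain ⟨U, hU⟩ : ∃ U : X.Opens, U = CohB1.genLocus _ σ := ⟨_, rfl⟩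
  have hB : PicF.IsInvertible (CohB1.tensorPow A (m + 1)) := isInvertible_tensorPow hA _
  obtain ⟨k, t₀, hx₀, haff₀⟩ := hamp.2.2 ⟨x, hxσ⟩
  have hF : PicF.IsInvertible (CohB1.tensorPow L (k + 1)) := isInvertible_tensorPow hL _
  obtain ⟨t, ht⟩ := exists_section_restrict hL (CohB1.genLocus _ σ) (k + 1) t₀
  obtain ⟨N, hN⟩ := exists_tmul_extends hF hB σ t
  obtain ⟨τ, hτ⟩ := hN N le_rfl
  have hM : PicF.IsInvertible (CohB1.tensorMod (CohB1.tensorMod (CohB1.tensorPow L (k + 1))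
      (CohB1.tensorPow (CohB1.tensorPow A (m + 1)) N)) (CohB1.tensorPow A (m + 1))) :=
    isInvertible_tensorMod (isInvertible_tensorMod hF (isInvertible_tensorPow hB N)) hB
  have hDU : CohB1.genLocus _ τ ≤ CohB1.genLocus _ σ := fun p hp => ((hτ p).mp hp).1
  have hDeq : CohB1.genLocus _ τ = (CohB1.genLocus _ σ).ι ''ᵁ (CohB1.genLocus _ t₀) := by
    ext p
    constructor
    · intro hp
      obtain ⟨hp1, hp2⟩ := (hτ p).mp hp
      exact ⟨⟨p, hp1⟩, (ht ⟨p, hp1⟩).mp hp2, rfl⟩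
    · rintro ⟨y, hy, rfl⟩
      exact (hτ _).mpr ⟨y.2, (ht y).mpr hy⟩
  refine ⟨(m + 1) * (N + 1) + 1, CohB1.genLocus _ τ, ?_, ?_, fun n hn => ?_⟩
  · rw [hDeq]
    exact ⟨⟨x, hxσ⟩, hx₀, rfl⟩
  · rw [hDeq]
    exact haff₀.image_of_isOpenImmersion _
  · obtain ⟨b, hb⟩ : ∃ b : ℕ, (m + 1) * (N + 1) + (b + 1) = n * (k + 1) := by
      have h1 : n ≤ n * (k + 1) := Nat.le_mul_of_pos_right n (Nat.succ_pos k)
      exact ⟨n * (k + 1) - (m + 1) * (N + 1) - 1, by omega⟩
    obtain ⟨e1⟩ := nonempty_big_iso hL hA (k + 1) (m + 1) N (b + 1) n hb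
    obtain ⟨e2⟩ := nonempty_tensorPow_congr (CohB1.tensorMod L (CohB1.tensorPow A n))
      (show (k + 1) * (m + 1) = ((k + 1) * (m + 1) - 1) + 1 from by
        have : 0 < (k + 1) * (m + 1) := Nat.mul_pos (Nat.succ_pos _) (Nat.succ_pos _)
        omega)
    refine ⟨(k + 1) * (m + 1) - 1,
      SecTwist.tmulHom (SecTwist.powHom τ (m + 1)) (SecTwist.powHom σ (b + 1)) ≫
        (e1 ≪≫ e2).hom, ?_⟩
    rw [TwistAmple.genLocus_comp_iso,
      genLocus_tmulHom (isInvertible_tensorPow hM (m + 1)) (isInvertible_tensorPow hB (b + 1)),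
      genLocus_powHom_succ hM τ m, genLocus_powHom_succ hB σ b]
    exact inf_eq_left.mpr hDU

/-- EGA II 4.6.13 (ii), absolute form: if `X` is covered by opens `X_σ` (`σ` sections of powers
of `A`) on which `L` is ample, then `L ⊗ A^n` is ample for all large `n`. -/
theorem exists_isAmple_tensor_pow [CompactSpace X] [QuasiSeparatedSpace X] {L A : X.Modules}
    (hL : PicF.IsInvertible L) (hA : PicF.IsInvertible A)
    (h : ∀ x : X, ∃ (m : ℕ) (σ : Coh.structureModule X ⟶ CohB1.tensorPow A (m + 1)),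
      x ∈ CohB1.genLocus _ σ ∧ CohB1.IsAmple (L.restrict (CohB1.genLocus _ σ).ι)) :
    ∃ n₁ : ℕ, ∀ n, n₁ ≤ n → CohB1.IsAmple (CohB1.tensorMod L (CohB1.tensorPow A n)) := by
  have h1 : ∀ x : X, ∃ (e : ℕ) (D : X.Opens), x ∈ D ∧ IsAffineOpen D ∧ ∀ n, e ≤ n →
      ∃ (c : ℕ) (s : Coh.structureModule X ⟶
        CohB1.tensorPow (CohB1.tensorMod L (CohB1.tensorPow A n)) (c + 1)),
        CohB1.genLocus _ s = D := by
    intro x
    obtain ⟨m, σ, hxσ, hamp⟩ := h x
    exact exists_affine_genLocus hL hA x m σ hxσ hamp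
  choose e D hxD hD hs using h1
  obtain ⟨ι, hι⟩ := CompactSpace.elim_nhds_subcover (fun x => ((D x : X.Opens) : Set X))
    (fun x => (D x).2.mem_nhds (hxD x))
  refine ⟨ι.sup e, fun n hn => ?_⟩
  refine ⟨isInvertible_tensorMod hL (isInvertible_tensorPow hA n), inferInstance, fun y => ?_⟩
  obtain ⟨x, hxι, hyx⟩ : ∃ x ∈ ι, y ∈ D x := by
    have : y ∈ ⋃ x ∈ ι, ((D x : X.Opens) : Set X) := by rw [hι]; trivial
    obtain ⟨x, hx, hy⟩ := Set.mem_iUnion₂.mp this
    exact ⟨x, hx, hy⟩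
  obtain ⟨c, s, hcs⟩ := hs x n ((Finset.le_sup hxι).trans hn)
  refine ⟨c, s, ?_, ?_⟩
  · rw [hcs]
    exact hyx
  · rw [hcs]
    exact hD x

end Groth.Agent.H22.CompAmple
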