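import Groth.Prelude.Def_LinTop
import Mathlib.Topology.Algebra.InfiniteSum.Nonarchimedean
import Mathlib.Topology.Algebra.InfiniteSum.Ring
import Mathlib.RingTheory.Jacobson.Ideal

set_option autoImplicit false
set_option linter.unusedSectionVars false

namespace Groth.Agent.H22

open Filter Topology

universe u

variable (A : Type u) [CommRing A] [UniformSpace A] [IsUniformAddGroup A] [IsTopologicalRing A]

theorem nonarchimedeanAddGroup_of_isLinearTopology [IsLinearTopology A A] :
    NonarchimedeanAddGroup A where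
  is_nonarchimedean U hU := by
    obtain ⟨I, hI, hIU⟩ := (IsLinearTopology.hasBasis_open_ideal (R := A)).mem_iff.mp hU
    exact ⟨⟨I.toAddSubgroup, hI⟩, hIU⟩

variable {A}

theorem tendsto_pow_of_mem_idealOfDefinition {J : Ideal A}
    (hJ : LinTop.IsIdealOfDefinition A J) {x : A} (hx : x ∈ J) :
    Tendsto (fun n : ℕ => x ^ n) atTop (𝓝 0) := by
  rw [tendsto_def]
  intro U hU
  obtain ⟨m, -, hm⟩ := hJ.2 U hU
  rw [mem_atTop_sets]
  refine ⟨m, fun n hn => hm ?_⟩
  exact Ideal.pow_le_pow_right hn (Ideal.pow_mem_pow hx n)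

theorem isUnit_one_sub_of_mem_idealOfDefinition (hA : LinTop.IsAdmissible A) {J : Ideal A}
    (hJ : LinTop.IsIdealOfDefinition A J) {x : A} (hx : x ∈ J) : IsUnit (1 - x) := by
  obtain ⟨⟨hlin, -⟩, hT2, hC⟩ := hA
  have := nonarchimedeanAddGroup_of_isLinearTopology A
  have hs : Summable (fun n : ℕ => x ^ n) := by
    apply NonarchimedeanAddGroup.summable_of_tendsto_cofinite_zero
    rw [Nat.cofinite_eq_atTop]
    exact tendsto_pow_of_mem_idealOfDefinition hJ hx
  exact IsUnit.of_mul_eq_one _ hs.one_sub_mul_tsum_pow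

theorem le_jacobson_bot_of_isIdealOfDefinition (hA : LinTop.IsAdmissible A) {J : Ideal A}
    (hJ : LinTop.IsIdealOfDefinition A J) : J ≤ (⊥ : Ideal A).jacobson := by
  intro x hx
  rw [Ideal.mem_jacobson_bot]
  intro y
  have : x * y + 1 = 1 - (-(x * y)) := by ring
  rw [this]
  exact isUnit_one_sub_of_mem_idealOfDefinition hA hJ (neg_mem (J.mul_mem_right y hx))

end Groth.Agent.H22
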