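import Mathlib
import Groth.Prelude.Def_RelSpec

/-!
# Quasi-coherent algebras from presheaves of rings on the affine opens (helper22)

A presheaf of rings `F` on the small affine Zariski site of `S` with a structure map `α` from the
structure sheaf which is coequifibered (`F(D(f)) = F(U)[1/f]`) comes from a quasi-coherent algebra
`A` on `S`: `exists_qcAlg`.  (`A` is the direct image of the structure sheaf of the scheme glued
from the `Spec F(U)`.)
-/

set_option autoImplicit false
set_option linter.style.haveILetI false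
universe u
open CategoryTheory CategoryTheory.Limits AlgebraicGeometry TopologicalSpace Opposite

noncomputable section

namespace Groth.Agent.H22.AffGlue

variable {S : Scheme.{u}} {F : S.AffineZariskiSiteᵒᵖ ⥤ CommRingCat.{u}}
  {α : (Scheme.AffineZariskiSite.toOpensFunctor S).op ⋙ S.presheaf ⟶ F} (H : α.Coequifibered)

/-- The relative gluing datum. -/
def gd : (Scheme.AffineZariskiSite.directedCover S).RelativeGluingData :=
  Scheme.AffineZariskiSite.relativeGluingData H

instance : ((gd H).functor ⋙ Scheme.forget).IsLocallyDirected :=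
  Scheme.Cover.RelativeGluingData.instIsLocallyDirectedI₀CompFunctorForgetOfIsThin ..

/-- The glued scheme. -/
def V : Scheme.{u} := (gd H).glued

/-- The structure morphism. -/
def π : V H ⟶ S := (gd H).toBase

variable (U : S.Opens) (hU : IsAffineOpen U)

/-- The charts. -/
def ι : Spec (F.obj (op ⟨U, hU⟩)) ⟶ V H := (gd H).cover.f ⟨U, hU⟩

instance : IsOpenImmersion (ι H U hU) := (gd H).cover.map_prop _

theorem ι_π : ι H U hU ≫ π H = Spec.map (α.app (op ⟨U, hU⟩)) ≫ hU.fromSpec :=
  colimit.ι_desc _ _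

theorem π_preimage : π H ⁻¹ᵁ U = (ι H U hU).opensRange := by
  simpa using! (gd H).toBase_preimage_eq_opensRange_ι ⟨U, hU⟩

theorem top_le_preimage :
    (⊤ : (Spec (F.obj (op ⟨U, hU⟩))).Opens) ≤ ι H U hU ⁻¹ᵁ (π H ⁻¹ᵁ U) := by
  rw [← Scheme.Hom.comp_preimage, ι_π, Scheme.Hom.comp_preimage]
  erw [hU.fromSpec_preimage_self]
  exact le_top

instance isAffineHom_π : IsAffineHom (π H) where
  isAffine_preimage U hU := by
    rw [π_preimage H U hU]
    exact isAffineOpen_opensRange (ι H U hU)

/-- Sections over the preimage of an affine open. -/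
def gammaAff : Γ(V H, π H ⁻¹ᵁ U) ⟶ F.obj (op ⟨U, hU⟩) :=
  (ι H U hU).appLE (π H ⁻¹ᵁ U) ⊤ (top_le_preimage H U hU) ≫
    (Scheme.ΓSpecIso (F.obj (op ⟨U, hU⟩))).hom

theorem isIso_gammaAff : IsIso (gammaAff H U hU) := by
  have h1 : IsIso ((ι H U hU).app (π H ⁻¹ᵁ U)) :=
    Scheme.Hom.isIso_app (ι H U hU) _ (π_preimage H U hU).le
  have h2 : IsIso (homOfLE (top_le_preimage H U hU)) :=
    ⟨⟨homOfLE le_top, Subsingleton.elim _ _, Subsingleton.elim _ _⟩⟩
  have h3 : IsIso ((Spec (F.obj (op ⟨U, hU⟩))).presheaf.map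
      (homOfLE (top_le_preimage H U hU)).op) := Functor.map_isIso _ _
  unfold gammaAff Scheme.Hom.appLE
  infer_instance

theorem ι_res {U W : S.AffineZariskiSite} (i : W ⟶ U) :
    Spec.map (F.map i.op) ≫ ι H U.1 U.2 = ι H W.1 W.2 :=
  colimit.w (gd H).functor i

set_option backward.isDefEq.respectTransparency false in
/-- The identifications over the affine opens, as a natural transformation. -/
def gammaRestrict :
    (Scheme.AffineZariskiSite.toOpensFunctor S).op ⋙ ((π H).base _* (V H).presheaf) ⟶ F where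
  app U := gammaAff H U.unop.1 U.unop.2
  naturality U W i := by
    change (V H).presheaf.map
        (homOfLE ((π H).preimage_mono (Scheme.AffineZariskiSite.toOpens_mono i.unop.le))).op ≫
        gammaAff H W.unop.1 W.unop.2 = gammaAff H U.unop.1 U.unop.2 ≫ F.map i
    simp only [gammaAff, Category.assoc, ← Scheme.ΓSpecIso_naturality]
    simp only [← Category.assoc]
    congr 1
    simp only [Scheme.Hom.appTop, Scheme.Hom.appLE, Category.assoc]
    have h1 := (Scheme.Hom.comp_app (Spec.map (F.map i)) (ι H U.unop.1 U.unop.2)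
      (π H ⁻¹ᵁ U.unop.1)).symm
    have h3 : Spec.map (F.map i) ≫ ι H U.unop.1 U.unop.2 = ι H W.unop.1 W.unop.2 :=
      ι_res H i.unop
    rw [Scheme.Hom.naturality_assoc, Scheme.Hom.naturality, reassoc_of% h1,
      Scheme.Hom.congr_app h3, Category.assoc, ← Functor.map_comp,
      ← Functor.map_comp]
    rfl

set_option backward.isDefEq.respectTransparency false in
theorem π_app_gammaAff : (π H).app U ≫ gammaAff H U hU = α.app (op ⟨U, hU⟩) := by
  have h1 := Scheme.Hom.congr_app (ι_π H U hU) U
  have h2 := (Scheme.Hom.comp_app (ι H U hU) (π H) U).symm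
  have hk : ∀ k : (op ⊤ : (Spec (F.obj (op ⟨U, hU⟩))).Opensᵒᵖ) ⟶ op ⊤,
      (Spec (F.obj (op ⟨U, hU⟩))).presheaf.map k = 𝟙 _ := fun k => by
    rw [Subsingleton.elim k (𝟙 _)]; exact CategoryTheory.Functor.map_id _ _
  simp only [gammaAff, Scheme.Hom.appLE, Category.assoc]
  rw [reassoc_of% h2, h1, Scheme.Hom.comp_app, hU.fromSpec_app_self]
  simp only [Category.assoc]
  rw [Scheme.Hom.naturality_assoc]
  simp only [← Functor.map_comp_assoc]
  erw [hk, Category.id_comp]
  rw [← cancel_epi (Scheme.ΓSpecIso Γ(S, U)).hom, Iso.hom_inv_id_assoc]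
  erw [Scheme.ΓSpecIso_naturality]
  rfl

/-- The quasi-coherent algebra. -/
def qcAlg : RelSpec.QCAlg S := RelSpec.QCAlg.directImage (π H)

instance isIso_gammaRestrict : IsIso (gammaRestrict H) :=
  haveI : ∀ U, IsIso ((gammaRestrict H).app U) := fun U => isIso_gammaAff H U.unop.1 U.unop.2
  NatIso.isIso_of_isIso_app _

/-- The identification of the sections of `qcAlg` over affine opens with `F`. -/
def gammaIso : (Scheme.AffineZariskiSite.toOpensFunctor S).op ⋙ (qcAlg H).presheaf ≅ F :=
  @asIso _ _ _ _ (gammaRestrict H) (isIso_gammaRestrict H)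

theorem str_gammaIso :
    (Scheme.AffineZariskiSite.toOpensFunctor S).op.whiskerLeft (qcAlg H).str ≫ (gammaIso H).hom =
      α := by
  ext U : 2
  refine Eq.trans ?_ (π_app_gammaAff H U.unop.1 U.unop.2)
  rfl

include H in
/-- **A coequifibered presheaf of rings on the affine opens comes from a quasi-coherent algebra.** -/
theorem exists_qcAlg :
    ∃ (A : RelSpec.QCAlg S)
      (γ : (Scheme.AffineZariskiSite.toOpensFunctor S).op ⋙ A.presheaf ≅ F),
      (Scheme.AffineZariskiSite.toOpensFunctor S).op.whiskerLeft A.str ≫ γ.hom = α :=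
  ⟨qcAlg H, gammaIso H, str_gammaIso H⟩

end Groth.Agent.H22.AffGlue
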