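import Mathlib
import Groth.Agent.H93.AffCompl
import Groth.Agent.H93.PurUFD

/-!
# Opens with affine inclusion containing a dense open of a Noetherian separated scheme

For a Noetherian scheme `S` and a dense open `U`, every open `V ⊇ U` with affine inclusion has
complement equal to the closure of a subset of the (finitely many) minimal points of `S ∖ U`.
Hence there are only finitely many such `V`; for separated `S` they are closed under `⊓`.
-/

open AlgebraicGeometry CategoryTheory TopologicalSpace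

universe u

namespace Groth.Agent.H22.AffInclFinite

variable (S : Scheme.{u})

/-- Minimal points (for specialization) of the complement of `U`. -/
def minPts (U : S.Opens) : Set S := {ξ : S | ξ ∉ U ∧ ∀ y : S, y ∉ U → y ⤳ ξ → y = ξ}

theorem finite_minPts [IsNoetherian S] (U : S.Opens) : (minPts S U).Finite := by
  have hcl : IsClosed ((U : Set S)ᶜ) := U.isOpen.isClosed_compl
  obtain ⟨F, hFfin, hFcl, hFirr, hFU⟩ :=
    NoetherianSpace.exists_finite_set_isClosed_irreducible hcl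
  have hfin : (⋃ t ∈ F, {x : S | IsGenericPoint x t}).Finite := by
    refine Set.Finite.biUnion hFfin fun t _ => Set.Subsingleton.finite ?_
    intro x hx y hy
    exact IsGenericPoint.eq hx hy
  refine hfin.subset ?_
  rintro ξ ⟨hξU, hmin⟩
  have hξ : ξ ∈ (U : Set S)ᶜ := hξU
  rw [hFU] at hξ
  obtain ⟨t, ht, hξt⟩ := hξ
  obtain ⟨η, hη⟩ := QuasiSober.sober (hFirr t ht) (hFcl t ht)
  have hηt : η ∈ t := hη.mem
  have hηU : η ∉ U := by
    have : η ∈ (U : Set S)ᶜ := by rw [hFU]; exact ⟨t, ht, hηt⟩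
    exact this
  have hsp : η ⤳ ξ := by
    rw [specializes_iff_mem_closure, hη.def]; exact hξt
  have := hmin η hηU hsp
  subst this
  exact Set.mem_biUnion ht hη

/-- Every point outside `V` is a specialization of a minimal point of `S ∖ U` outside `V`. -/
theorem exists_minPt [IsNoetherian S] (U V : S.Opens) (hU : Dense (U : Set S)) (hUV : U ≤ V)
    [IsAffineHom V.ι] (x : S) (hx : x ∉ V) :
    ∃ ξ ∈ minPts S U, ξ ∉ V ∧ ξ ⤳ x := by
  -- choose `ξ ∉ V`, `ξ ⤳ x` with minimal local dimension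
  have hwf : WellFounded ((· < ·) : WithBot ℕ∞ → WithBot ℕ∞ → Prop) := wellFounded_lt
  let T : Set S := {ξ : S | ξ ∉ V ∧ ξ ⤳ x}
  have hT : (T.image fun ξ => ringKrullDim (S.presheaf.stalk ξ)).Nonempty :=
    ⟨_, ⟨x, ⟨hx, specializes_rfl⟩, rfl⟩⟩
  obtain ⟨d, ⟨ξ, ⟨hξV, hξx⟩, rfl⟩, hmin⟩ := hwf.has_min _ hT
  have hminT : ∀ y : S, y ∉ V → y ⤳ x →
      ¬ ringKrullDim (S.presheaf.stalk y) < ringKrullDim (S.presheaf.stalk ξ) := by
    intro y hyV hyx
    exact hmin _ ⟨y, ⟨hyV, hyx⟩, rfl⟩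
  have hminV : ∀ y : S, y ∉ V → y ⤳ ξ → y = ξ := by
    intro y hyV hyξ
    by_contra hne
    exact hminT y hyV (hyξ.trans hξx) (Groth.Agent.H93.PurUFD.dim_lt_of_specializes hyξ hne)
  have hVdense : Dense (V : Set S) := hU.mono hUV
  have hdim : ringKrullDim (S.presheaf.stalk ξ) = 1 :=
    Groth.Agent.H93.AffCompl.dim_eq_one S V ξ hξV hminV (hVdense.closure_eq ▸ Set.mem_univ ξ)
  refine ⟨ξ, ⟨fun h => hξV (hUV h), ?_⟩, hξV, hξx⟩
  intro y hyU hyξ
  by_contra hne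
  have hlt := Groth.Agent.H93.PurUFD.dim_lt_of_specializes hyξ hne
  rw [hdim] at hlt
  obtain ⟨z, hzU, hzy⟩ := Groth.Agent.H93.AffCompl.exists_generization_mem S U y
    (hU.closure_eq ▸ Set.mem_univ y)
  have h1 := Groth.Agent.H93.AffCompl.one_le_dim S U y hyU z hzU hzy
  exact absurd (lt_of_le_of_lt h1 hlt) (lt_irrefl _)

theorem finite_affineIncl [IsNoetherian S] (U : S.Opens) (hU : Dense (U : Set S)) :
    Set.Finite {V : S.Opens | U ≤ V ∧ IsAffineHom V.ι} := by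
  have hG := finite_minPts S U
  refine Set.Finite.of_injOn (f := fun V : S.Opens => minPts S U ∩ (V : Set S)ᶜ)
    (t := {a | a ⊆ minPts S U}) ?_ ?_ hG.finite_subsets
  · intro V _
    exact Set.inter_subset_left
  · rintro V ⟨hUV, hV⟩ V' ⟨hUV', hV'⟩ heq
    have heq' : minPts S U ∩ (V : Set S)ᶜ = minPts S U ∩ (V' : Set S)ᶜ := heq
    have key : ∀ (V V' : S.Opens), U ≤ V → IsAffineHom V.ι →
        minPts S U ∩ (V : Set S)ᶜ ⊆ minPts S U ∩ (V' : Set S)ᶜ → V' ≤ V := by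
      intro V V' hUV hV hsub x hxV'
      by_contra hxV
      obtain ⟨ξ, hξG, hξV, hξx⟩ := exists_minPt S U V hU hUV x hxV
      have : ξ ∈ minPts S U ∩ (V' : Set S)ᶜ := hsub ⟨hξG, hξV⟩
      exact this.2 (hξx.mem_open V'.isOpen hxV')
    exact le_antisymm (key V' V hUV' hV' heq'.ge) (key V V' hUV hV heq'.le)

theorem isAffineHom_ι_iff (V : S.Opens) :
    IsAffineHom V.ι ↔ ∀ W : S.Opens, IsAffineOpen W → IsAffineOpen (V ⊓ W) := by
  constructor
  · intro h W hW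
    have h1 : IsAffineOpen (V.ι ⁻¹ᵁ W) := h.isAffine_preimage W hW
    have h2 := (Scheme.Hom.isAffineOpen_iff_of_isOpenImmersion V.ι).mpr h1
    rwa [Scheme.Hom.image_preimage_eq_opensRange_inf, Scheme.Opens.opensRange_ι] at h2
  · intro h
    refine ⟨fun W hW => ?_⟩
    rw [← Scheme.Hom.isAffineOpen_iff_of_isOpenImmersion V.ι,
      Scheme.Hom.image_preimage_eq_opensRange_inf, Scheme.Opens.opensRange_ι]
    exact h W hW

theorem isAffineHom_inf [S.IsSeparated] (V₁ V₂ : S.Opens) [h₁ : IsAffineHom V₁.ι]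
    [h₂ : IsAffineHom V₂.ι] : IsAffineHom (V₁ ⊓ V₂).ι := by
  rw [isAffineHom_ι_iff] at h₁ h₂ ⊢
  intro W hW
  have : V₁ ⊓ V₂ ⊓ W = (V₁ ⊓ W) ⊓ (V₂ ⊓ W) := by
    rw [inf_inf_distrib_right]
  rw [this]
  exact (h₁ W hW).inf (h₂ W hW)

theorem main [IsNoetherian S] [S.IsSeparated] (U : S.Opens) (hU : Dense (U : Set S)) :
    Set.Finite {V : S.Opens | U ≤ V ∧ IsAffineHom V.ι} ∧
      ∃ V₀ : S.Opens, (U ≤ V₀ ∧ IsAffineHom V₀.ι) ∧
        ∀ V : S.Opens, U ≤ V → IsAffineHom V.ι → V₀ ≤ V := by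
  have hfin := finite_affineIncl S U hU
  refine ⟨hfin, hfin.toFinset.inf id, ?_, ?_⟩
  · refine Finset.inf_induction (p := fun V : S.Opens => U ≤ V ∧ IsAffineHom V.ι)
      ⟨le_top, (isAffineHom_ι_iff S ⊤).mpr fun W hW => by rwa [top_inf_eq]⟩ ?_ ?_
    · rintro V₁ ⟨h₁, h₁'⟩ V₂ ⟨h₂, h₂'⟩
      exact ⟨le_inf h₁ h₂, isAffineHom_inf S V₁ V₂⟩
    · intro V hV
      exact hfin.mem_toFinset.mp hV
  · intro V hUV hV
    exact Finset.inf_le (f := id) (hfin.mem_toFinset.mpr ⟨hUV, hV⟩)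

end Groth.Agent.H22.AffInclFinite
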