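import Mathlib
import Groth.Agent.H22.VeryAmpleCore
import Groth.Agent.H22.CounitEpi
import Groth.Agent.S9705

/-!
# Affineness of `X_s` for universally closed morphisms (helper22)

`isAffineOpen_of_sections`: let `g : Y ⟶ T` be universally closed with `T` affine, `M` an
`O_Y`-module with global sections `σ 0, …, σ n` such that the `Y_{σ j}`, `j ∈ J`, are affine and
cover `Y`.  Then every `Y_{σ i}` is affine.
-/

set_option autoImplicit false
set_option linter.style.haveILetI false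
universe u
open CategoryTheory CategoryTheory.Limits AlgebraicGeometry TopologicalSpace Opposite

namespace Groth.Agent.H22.AffineGenLocus

open Groth.Agent.H18.ProjUPData Groth.Agent.H18.ToProjSpace Groth.Agent.H18.ProjUPExist
open Groth.Agent.H18.ProjSpaceGlobal
open Groth.Agent.H22.VeryAmpleCore Groth.Agent.S9705

variable {Y T : Scheme.{u}}

theorem isAffineOpen_of_sections (g : Y ⟶ T) [IsAffine T] [UniversallyClosed g] (M : Y.Modules)
    (n : ℕ) (σs : Fin (n + 1) → Γ(M, ⊤)) (i₀ : Fin (n + 1)) (J : Set (Fin (n + 1)))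
    (hcov : ∀ x : Y, ∃ j ∈ J, x ∈ Us M σs j) (hJ : ∀ j ∈ J, IsAffineOpen (Us M σs j)) :
    IsAffineOpen (Us M σs i₀) := by
  classical
  obtain ⟨q, hqdef⟩ : ∃ q : Y ⟶ Spec (CommRingCat.of (ULift.{u} ℤ)),
    q = specULiftZIsTerminal.from Y := ⟨_, rfl⟩
  have hcov' : ∀ x : Y, ∃ i, x ∈ Us M σs i := fun x => by
    obtain ⟨j, -, hj⟩ := hcov x
    exact ⟨j, hj⟩
  obtain ⟨r, hr⟩ := exists_glue n (ULift.{u} ℤ) (ProjUP.toGlobal q) (Us M σs) (as M σs) hcov'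
    (as_self M σs) (as_cocycle M σs)
  have hpre := glue_preimage_basicOpen n (ULift.{u} ℤ) (ProjUP.toGlobal q) (Us M σs) (as M σs)
    (as_self M σs) r hr hcov' (as_basicOpen M σs)
  have hP4 : ∀ i j, (r.appLE (Dp n (ULift.{u} ℤ) i) (Us M σs i) (hpre i).ge).hom
      (uSec n (ULift.{u} ℤ) i j) = as M σs i j := fun i j =>
    glue_appLE_apply n (ULift.{u} ℤ) (ProjUP.toGlobal q) (Us M σs) (as M σs) (as_self M σs) r hr i j
      (hpre i).ge
  obtain ⟨p1, hp1⟩ : ∃ p1 : CohB1.ProjSpaceOver n T ⟶ Proj (CohB1.polyGrading n (ULift.{u} ℤ)),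
    p1 = pullback.fst (CohB1.ProjSpace.toSpec n (ULift.{u} ℤ)) (specULiftZIsTerminal.from T) :=
    ⟨_, rfl⟩
  obtain ⟨p2, hp2⟩ : ∃ p2 : CohB1.ProjSpaceOver n T ⟶ T,
    p2 = pullback.snd (CohB1.ProjSpace.toSpec n (ULift.{u} ℤ)) (specULiftZIsTerminal.from T) :=
    ⟨_, rfl⟩
  obtain ⟨ι, hι1, hι2⟩ : ∃ ι : Y ⟶ CohB1.ProjSpaceOver n T, ι ≫ p1 = r ∧ ι ≫ p2 = g := by
    refine ⟨pullback.lift r g (specULiftZIsTerminal.hom_ext _ _), ?_, ?_⟩
    · rw [hp1]; exact pullback.lift_fst _ _ _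
    · rw [hp2]; exact pullback.lift_snd _ _ _
  haveI : IsSeparated p2 := by
    rw [hp2]
    exact inferInstanceAs (IsSeparated (CohB1.ProjSpaceOver.toBase n T))
  haveI : UniversallyClosed (ι ≫ p2) := by rw [hι2]; infer_instance
  haveI : UniversallyClosed ι := UniversallyClosed.of_comp_of_isSeparated ι p2
  have hZ : IsClosed (Set.range ι) := ι.isClosedMap.isClosed_range
  obtain ⟨D₀, hD₀def⟩ : ∃ D₀ : (CohB1.ProjSpaceOver n T).Opens,
    D₀ = p1 ⁻¹ᵁ Dp n (ULift.{u} ℤ) i₀ ⊓ p2 ⁻¹ᵁ ⊤ := ⟨_, rfl⟩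
  have hD₀ : IsAffineOpen D₀ := by
    rw [hD₀def, hp1, hp2]
    exact Groth.Agent.H22.PullBC.isAffineOpen_pullback_inf
      (Proj.isAffineOpen_basicOpen _ _ (Xmem n (ULift.{u} ℤ) i₀) Nat.one_pos) (isAffineOpen_top T)
      (isAffineOpen_top (Spec (CommRingCat.of (ULift.{u} ℤ)))) le_top le_top
  have hD₀p1 : D₀ ≤ p1 ⁻¹ᵁ Dp n (ULift.{u} ℤ) i₀ := hD₀def ▸ inf_le_left
  have hpreD : ι ⁻¹ᵁ D₀ = Us M σs i₀ := by
    have h1 : ι ⁻¹ᵁ D₀ = (ι ≫ p1) ⁻¹ᵁ Dp n (ULift.{u} ℤ) i₀ ⊓ (ι ≫ p2) ⁻¹ᵁ ⊤ := by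
      rw [hD₀def]; rfl
    rw [h1, hι1, hpre i₀]
    exact inf_eq_left.mpr le_top
  obtain ⟨ρ, hρ⟩ : ∃ ρ : Γ(CohB1.ProjSpaceOver n T, D₀) →+* Γ(Y, Us M σs i₀),
    ρ = (ι.appLE D₀ (Us M σs i₀) hpreD.ge).hom := ⟨_, rfl⟩
  obtain ⟨y, hy⟩ : ∃ y : Fin (n + 1) → Γ(CohB1.ProjSpaceOver n T, D₀),
    y = fun k => (p1.appLE (Dp n (ULift.{u} ℤ) i₀) D₀ hD₀p1).hom (uSec n (ULift.{u} ℤ) i₀ k) :=
    ⟨_, rfl⟩
  have hρy : ∀ k, ρ (y k) = as M σs i₀ k := by
    intro k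
    have e1 := Scheme.Hom.appLE_comp_appLE ι p1 (Dp n (ULift.{u} ℤ) i₀) D₀ (Us M σs i₀) hD₀p1
      hpreD.ge
    rw [appLE_congr_hom hι1] at e1
    rw [hρ, hy, ← hP4 i₀ k]
    exact congr($e1 (uSec n (ULift.{u} ℤ) i₀ k))
  have hbo : ∀ a : Γ(CohB1.ProjSpaceOver n T, D₀),
      Y.basicOpen (ρ a) = Us M σs i₀ ⊓ ι ⁻¹ᵁ ((CohB1.ProjSpaceOver n T).basicOpen a) := by
    intro a
    rw [hρ]
    exact Scheme.basicOpen_appLE ι _ _ _ a
  -- the vanishing ideal of the image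
  let I : Ideal Γ(CohB1.ProjSpaceOver n T, D₀) :=
    { carrier := {a | ∀ z ∈ Set.range ι, z ∉ (CohB1.ProjSpaceOver n T).basicOpen a}
      add_mem' := by
        intro a b ha hb z hz hzab
        rcases Groth.Agent.H22.CounitEpi.mem_basicOpen_add z a b hzab with h | h
        · exact ha z hz h
        · exact hb z hz h
      zero_mem' := by
        intro z _ hz0
        rw [Scheme.basicOpen_zero] at hz0
        exact hz0
      smul_mem' := by
        intro c a ha z hz hzca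
        rw [smul_eq_mul, Scheme.basicOpen_mul] at hzca
        exact ha z hz hzca.2 }
  have hspan : Ideal.span ((I : Set Γ(CohB1.ProjSpaceOver n T, D₀)) ∪
      Set.range (fun k : J => y k.1)) = ⊤ := by
    rw [← hD₀.self_le_iSup_basicOpen_iff]
    intro p hp
    rw [Opens.mem_iSup]
    by_cases hpZ : p ∈ Set.range ι
    · obtain ⟨x, rfl⟩ := hpZ
      have hx0 : x ∈ Us M σs i₀ := by rw [← hpreD]; exact hp
      obtain ⟨j, hj, hxj⟩ := hcov x
      refine ⟨⟨y j, Or.inr ⟨⟨j, hj⟩, rfl⟩⟩, ?_⟩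
      have h1 : x ∈ Y.basicOpen (ρ (y j)) := by
        rw [hρy, as_basicOpen]
        exact ⟨hxj, hx0⟩
      rw [hbo] at h1
      exact h1.2
    · have hopen : IsOpen ((Set.range ι)ᶜ) := hZ.isOpen_compl
      obtain ⟨a, haV, hpa⟩ := hD₀.exists_basicOpen_le (V := ⟨(Set.range ι)ᶜ, hopen⟩) ⟨p, hpZ⟩ hp
      refine ⟨⟨a, Or.inl ?_⟩, hpa⟩
      intro z hz hza
      exact haV hza hz
  -- decompose `1`
  have h1 : (1 : Γ(CohB1.ProjSpaceOver n T, D₀)) ∈ Ideal.span ((I : Set _) ∪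
      Set.range (fun k : J => y k.1)) := by rw [hspan]; trivial
  rw [Ideal.span_union, Ideal.span_eq, Submodule.mem_sup] at h1
  obtain ⟨a, ha, b, hb, hab⟩ := h1
  -- the ideal generated by the ratios on `Y_{σ i₀}`
  obtain ⟨S, hS⟩ : ∃ S : Set Γ(Y, Us M σs i₀), S = Set.range (fun k : J => as M σs i₀ k.1) :=
    ⟨_, rfl⟩
  have hρb : ρ b ∈ Ideal.span S := by
    have hle : Ideal.span (Set.range (fun k : J => y k.1)) ≤ (Ideal.span S).comap ρ := by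
      rw [Ideal.span_le]
      rintro _ ⟨k, rfl⟩
      show ρ (y k.1) ∈ Ideal.span S
      rw [hρy, hS]
      exact Ideal.subset_span ⟨k, rfl⟩
    exact hle hb
  have hρa : Y.basicOpen (ρ a) = ⊥ := by
    rw [hbo, eq_bot_iff]
    rintro x ⟨-, hx⟩
    exact (ha (ι x) ⟨x, rfl⟩ hx).elim
  have hunit : IsUnit (ρ b) := by
    refine Y.toRingedSpace.isUnit_of_isUnit_germ (Us M σs i₀) (ρ b) (fun x hx => ?_)
    rw [← Y.mem_basicOpen (ρ b) x hx]
    have h2 : ρ a + ρ b = 1 := by rw [← map_add, hab, map_one]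
    have h3 : x ∈ Y.basicOpen (ρ a + ρ b) := by
      rw [h2, Scheme.basicOpen_one]
      exact hx
    rcases Groth.Agent.H22.CounitEpi.mem_basicOpen_add x _ _ h3 with h | h
    · rw [hρa] at h
      exact h.elim
    · exact h
  have hStop : Ideal.span S = ⊤ := Ideal.eq_top_of_isUnit_mem _ hρb hunit
  refine isAffineOpen_of_isAffineOpen_basicOpen (Us M σs i₀) S hStop ?_
  intro f hf
  rw [hS] at hf
  obtain ⟨k, rfl⟩ := hf
  have h4 : Y.basicOpen (as M σs i₀ k.1) = Y.basicOpen (as M σs k.1 i₀) := by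
    rw [as_basicOpen, as_basicOpen, inf_comm]
  rw [h4]
  exact (hJ k.1 k.2).basicOpen _

end Groth.Agent.H22.AffineGenLocus
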