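import Mathlib
import Groth.Agent.H22.AffineGenLocus
import Groth.Agent.H22.VeryAmpleThm
import Groth.Agent.H22.VeryAmpleIso
import Groth.Agent.H18.RestrictTensor

/-!
# `X_s` is affine over the base for universally closed morphisms (helper22)

* `isAffineOpen_genLocus_of_isAmple`: `g : Y ⟶ T` universally closed, `T` affine, `L` ample on `Y`,
  `s` a global section of `L` ⇒ `Y_s` is affine.
* `isAffineHom_genLocus_of_isRelAmple`: EGA II 5.5.7 type statement: `f : X ⟶ S` universally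
  closed, `L` `f`-ample ⇒ `X_s ⟶ S` is affine.
-/

set_option autoImplicit false
set_option linter.style.haveILetI false
universe u
open CategoryTheory CategoryTheory.Limits AlgebraicGeometry TopologicalSpace Opposite

namespace Groth.Agent.H22.AffineGenLocusAmple

open Groth.Agent.H18.SecTw Groth.Agent.H18.TensorGen Groth.Agent.H18.TensorPowIso
open Groth.Agent.H22.AmpleLocal Groth.Agent.H18.AmpleBasis
open Groth.Agent.H18.ProjUPData
open Groth.Agent.H22.VeryAmpleSec Groth.Agent.H22.VeryAmpleIso Groth.Agent.H22.AffineGenLocus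

variable {Y T : Scheme.{u}}

lemma genLocus_id : CohB1.genLocus (Coh.structureModule Y) (𝟙 _) = ⊤ := by
  rw [eq_top_iff]
  intro x _
  rw [mem_genLocus_iff_isGen]
  exact ⟨⊤, trivial, isGen_one' ⊤⟩

theorem isAffineOpen_genLocus_of_isAmple (g : Y ⟶ T) [IsAffine T] [UniversallyClosed g]
    {L : Y.Modules} (hL : CohB1.IsAmple L) (s : Coh.structureModule Y ⟶ L) :
    IsAffineOpen (CohB1.genLocus L s) := by
  classical
  haveI : CompactSpace Y := hL.2.1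
  haveI : QuasiSeparatedSpace Y := quasiSeparatedSpace_of_isAmple hL
  have hO := Groth.Agent.H8.isInvertible_structureModule Y
  have hpt : ∀ x : Y, ∃ (U : Y.Opens) (n₀ : ℕ), x ∈ U ∧ IsAffineOpen U ∧
      ∀ n, n₀ ≤ n → ∃ t₁ : Γ(modM L (Coh.structureModule Y) n, ⊤),
        ∀ z : Y, GenAt (modM L (Coh.structureModule Y) n) t₁ z ↔ z ∈ U := by
    intro x
    obtain ⟨V₀, τ, hxV₀, hτ⟩ := exists_isGen hL.1 x
    have hB := isBasis_affine_of_isAmple hL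
    rw [Opens.isBasis_iff_nbhd] at hB
    obtain ⟨U, ⟨hU, m, σ, rfl⟩, hxU, hle⟩ := hB (U := V₀) (x := x) hxV₀
    obtain ⟨n₀, hn₀⟩ := exists_sections_chart hL.1 hO (m + 1) (Nat.succ_pos m) σ _ (hτ.res hle)
      _ (isGen_one' _) ∅
    refine ⟨_, n₀, hxU, hU, fun n hn => ?_⟩
    obtain ⟨t₁, ht₁, -⟩ := hn₀ n hn
    exact ⟨t₁, ht₁⟩
  choose U n₀ hxU hUaff ht using hpt
  obtain ⟨F, hF⟩ := CompactSpace.elim_nhds_subcover (fun x => (U x : Set Y))
    (fun x => (U x).isOpen.mem_nhds (hxU x))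
  obtain ⟨N, hN⟩ : ∃ N : ℕ, N = F.sup n₀ := ⟨_, rfl⟩
  obtain ⟨r, ⟨e⟩⟩ : ∃ r : ℕ, Nonempty (Fin r ≃ ↥F) :=
    ⟨Fintype.card ↥F, ⟨(Fintype.equivFin ↥F).symm⟩⟩
  have ht' : ∀ k : Fin r, ∃ t₁ : Γ(modM L (Coh.structureModule Y) (N + 1), ⊤),
      ∀ z : Y, GenAt (modM L (Coh.structureModule Y) (N + 1)) t₁ z ↔ z ∈ U (e k).1 := fun k =>
    ht (e k).1 (N + 1) (((Finset.le_sup (e k).2).trans hN.ge).trans (Nat.le_succ N))
  choose t htl using ht'
  -- the section `s^(N+1) ⊗ 1`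
  obtain ⟨a₀, ha₀⟩ : ∃ a₀ : Coh.structureModule Y ⟶ modM L (Coh.structureModule Y) (N + 1),
    a₀ = SecTwist.tmulHom (SecTwist.powHom s (N + 1)) (𝟙 _) := ⟨_, rfl⟩
  have hg₀ : CohB1.genLocus _ a₀ = CohB1.genLocus L s := by
    rw [ha₀, genLocus_tmulHom (isInvertible_tensorPow hL.1 (N + 1)) hO, genLocus_powHom_succ hL.1,
      genLocus_id]
    exact inf_eq_left.mpr le_top
  obtain ⟨σs, hσs⟩ : ∃ σs : Fin (r + 1) → Γ(modM L (Coh.structureModule Y) (N + 1), ⊤),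
    σs = Fin.cons (sv a₀ ⊤) t := ⟨_, rfl⟩
  have hUs0 : Us _ σs 0 = CohB1.genLocus L s := by
    rw [← hg₀]
    refine Opens.ext (Set.ext fun x => ?_)
    show x ∈ CohB1.genLocus _ (secHom _ (σs 0)) ↔ x ∈ CohB1.genLocus _ a₀
    rw [mem_genLocus_secHom, mem_genLocus_iff_genAt, hσs]
    rfl
  have hUsk : ∀ k : Fin r, Us _ σs k.succ = U (e k).1 := by
    intro k
    refine Opens.ext (Set.ext fun x => ?_)
    show x ∈ CohB1.genLocus _ (secHom _ (σs k.succ)) ↔ x ∈ U (e k).1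
    rw [mem_genLocus_secHom, ← htl k x, hσs]
    rfl
  rw [← hUs0]
  refine isAffineOpen_of_sections g _ r σs 0 {j | j ≠ 0} (fun x => ?_) (fun j hj => ?_)
  · have hx : x ∈ ⋃ y ∈ F, (U y : Set Y) := by rw [hF]; trivial
    obtain ⟨y, hy, hxy⟩ := Set.mem_iUnion₂.mp hx
    refine ⟨(e.symm ⟨y, hy⟩).succ, Fin.succ_ne_zero _, ?_⟩
    rw [hUsk, e.apply_symm_apply]
    exact hxy
  · obtain ⟨k, rfl⟩ := Fin.exists_succ_eq.mpr hj
    rw [hUsk]
    exact hUaff _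

theorem isAffineHom_genLocus_of_isRelAmple {X S : Scheme.{u}} (f : X ⟶ S) [UniversallyClosed f]
    (L : X.Modules) (hL : RelAmple.IsRelAmple f L) (s : Coh.structureModule X ⟶ L) :
    IsAffineHom ((CohB1.genLocus L s).ι ≫ f) := by
  refine ⟨fun V hV => ?_⟩
  have hA : CohB1.IsAmple (L.restrict (f ⁻¹ᵁ V).ι) := hL.2 ⟨V, hV⟩
  haveI : IsAffine (V : Scheme.{u}) := hV
  have h1 := isAffineOpen_genLocus_of_isAmple (f ∣_ V) hA
    (Groth.Agent.H18.RestrictTensor.resHom (f ⁻¹ᵁ V).ι s)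
  rw [Groth.Agent.H18.RestrictTensor.genLocus_resHom] at h1
  have h2 := h1.image_of_isOpenImmersion (f ⁻¹ᵁ V).ι
  rw [Scheme.Hom.image_preimage_eq_opensRange_inf, Scheme.Opens.opensRange_ι] at h2
  -- `h2 : IsAffineOpen (f ⁻¹ᵁ V ⊓ genLocus L s)`
  rw [← Scheme.Hom.isAffineOpen_iff_of_isOpenImmersion (CohB1.genLocus L s).ι]
  have h3 : (CohB1.genLocus L s).ι ''ᵁ (((CohB1.genLocus L s).ι ≫ f) ⁻¹ᵁ V) =
      f ⁻¹ᵁ V ⊓ CohB1.genLocus L s := by
    have h4 : ((CohB1.genLocus L s).ι ≫ f) ⁻¹ᵁ V = (CohB1.genLocus L s).ι ⁻¹ᵁ (f ⁻¹ᵁ V) := rfl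
    rw [h4, Scheme.Hom.image_preimage_eq_opensRange_inf, Scheme.Opens.opensRange_ι, inf_comm]
  rw [h3]
  exact h2

end Groth.Agent.H22.AffineGenLocusAmple
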