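import Mathlib
import Groth.Agent.H22.CounitEpi
import Groth.Agent.H22.SerreAffine
import Groth.Agent.H41.BilinGlue
import Groth.Agent.H18.TensorSec
import Groth.Agent.H18.TensorCoh
import Groth.Agent.H8.InvRestrict
import Groth.Agent.S9819

/-!
# Twists of ideals: the multiplication map `J ⊗ N ⟶ N` (helper22)

* `mulHom i N : tensorMod G N ⟶ N` for `i : G ⟶ O_X`, with `mulHom_tm : a ⊗ ℓ ↦ i(a) • ℓ`.
* `VanishAt i y`: all sections of `G` vanish at `y` (via `i`); `not_genAt_mulHom`.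
* `exists_genAt_map_of_epi(_affine)`: relative sections through a morphism `ψ : M ⟶ N`.
-/

set_option autoImplicit false
set_option linter.style.haveILetI false
universe u
open CategoryTheory CategoryTheory.Limits AlgebraicGeometry TopologicalSpace Opposite

namespace Groth.Agent.H22.IdealTwist

open Groth.Agent.H8 (res_res res_smul ringRes_res section_eq_of_cover)
open Groth.Agent.H18.TensorGen Groth.Agent.H22.GenSection Groth.Agent.H22.AmpleLocal
open Groth.Agent.H22.QCohLimits (app_res)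
open Groth.Agent.H18.SecTw Groth.Agent.H18.TensorSec Groth.Agent.H41.BilinGlue
open AlgebraicGeometry.Scheme.Modules

variable {X : Scheme.{u}}

section Mul

variable {G : X.Modules} (i : G ⟶ Coh.structureModule X) (N : X.Modules)

/-- The coefficient function `i(a)`. -/
noncomputable def coef {W : X.Opens} (a : Γ(G, W)) : Γ(X, W) := i.app W a

lemma coef_res {W V : X.Opens} (h : V ≤ W) (a : Γ(G, W)) :
    coef i (G.presheaf.map (homOfLE h).op a) = X.presheaf.map (homOfLE h).op (coef i a) :=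
  app_res i h a

lemma coef_add {W : X.Opens} (a b : Γ(G, W)) : coef i (a + b) = coef i a + coef i b :=
  (i.app W).hom.map_add a b

lemma coef_smul {W : X.Opens} (r : Γ(X, W)) (a : Γ(G, W)) : coef i (r • a) = r * coef i a :=
  Scheme.Modules.Hom.app_smul i r a

/-- The relation `w = i(a) • ℓ`. -/
def MulRel : ∀ W : X.Opens, Γ(G, W) → Γ(N, W) → Γ(N, W) → Prop :=
  fun _ a ℓ w => w = coef i a • ℓ

theorem glueRel : GlueRel G N N (MulRel i N) where
  unique W s t w w' h h' := h.trans h'.symm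
  res h s t w hw := by
    show _ = _
    rw [hw, res_smul, coef_res]
  of_local W s t w hloc := by
    refine section_eq_of_cover N _ _ (fun x hx => ?_)
    obtain ⟨V, h, hxV, hR⟩ := hloc x hx
    refine ⟨V, h, hxV, ?_⟩
    rw [res_smul, ← coef_res]
    exact hR
  exists_local W s t x hx := ⟨W, le_rfl, hx, _, rfl⟩
  add_left W s s' t w w' h h' := by
    show _ = _
    rw [h, h', coef_add, add_smul]
  add_right W s t t' w w' h h' := by
    show _ = _
    rw [h, h', smul_add]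
  smul_left W a s t w h := by
    show _ = _
    rw [h, coef_smul, mul_smul]
  smul_right W a s t w h := by
    show _ = _
    rw [h, ← mul_smul, ← mul_smul, mul_comm a (coef i s)]

/-- The multiplication map `G ⊗ N ⟶ N`, `a ⊗ ℓ ↦ i(a) • ℓ`. -/
noncomputable def mulHom : CohB1.tensorMod G N ⟶ N :=
  (PresheafOfModules.sheafificationHomEquiv (𝟙 X.ringCatSheaf.obj)).symm (glueRel i N).hom

set_option backward.isDefEq.respectTransparency false in
theorem mulHom_tm {W : X.Opens} (a : Γ(G, W)) (ℓ : Γ(N, W)) :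
    (mulHom i N).app W (tm G N a ℓ) = coef i a • ℓ := by
  have h1 : (PresheafOfModules.sheafificationHomEquiv (𝟙 X.ringCatSheaf.obj)) (mulHom i N) =
      (glueRel i N).hom := Equiv.apply_symm_apply _ _
  have h2 : ((glueRel i N).hom.app (op W)).hom (pt G N a ℓ) = (glueRel i N).mul W a ℓ :=
    rfl
  have h3 : ((PresheafOfModules.sheafificationHomEquiv (𝟙 X.ringCatSheaf.obj)
      (mulHom i N)).app (op W)).hom (pt G N a ℓ) = (mulHom i N).app W (tm G N a ℓ) := rfl
  exact h3.symm.trans ((congrArg (fun φ => (φ.app (op W)).hom (pt G N a ℓ)) h1).trans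
    (h2.trans ((glueRel i N).mul_eq rfl)))

end Mul

section Vanish

variable {G : X.Modules} (i : G ⟶ Coh.structureModule X)

/-- All sections of `G` vanish at `y` (through `i`). -/
def VanishAt (y : X) : Prop :=
  ∀ (W : X.Opens) (a : Γ(G, W)), y ∉ X.basicOpen (coef i a)

theorem not_genAt_mulHom {N : X.Modules} (hN : PicF.IsInvertible N) {y : X} (hy : VanishAt i y)
    {W : X.Opens} (w : Γ(CohB1.tensorMod G N, W)) : ¬ GenAt N ((mulHom i N).app W w) y := by
  intro h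
  have hyW := h.mem
  obtain ⟨A, lam, hyA, hlam⟩ := exists_isGen hN y
  have hlam' := hlam.res (inf_le_left : A ⊓ W ≤ A)
  obtain ⟨a, ha⟩ := surjective_tm (F := G) hlam'
    ((CohB1.tensorMod G N).presheaf.map (homOfLE (inf_le_right : A ⊓ W ≤ W)).op w)
  simp only at ha
  have h1 := (genAt_res (inf_le_right : A ⊓ W ≤ W) _ ⟨hyA, hyW⟩).mpr h
  rw [← app_res, ← ha, mulHom_tm] at h1
  exact hy _ a (mem_basicOpen_of_genAt_smul hN _ _ h1)

end Vanish

section Epi

variable {Y : Scheme.{u}} (f : X ⟶ Y)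

/-- If some local section of `M` maps under `ψ` to a generator of `N` near `x` and the counit at
`M` is an epimorphism, then a relative section does. -/
theorem exists_genAt_map_of_epi {M N : X.Modules} (ψ : M ⟶ N)
    (hepi : Epi ((pullbackPushforwardAdjunction f).counit.app M)) (x : X)
    (hx : ∃ (A : X.Opens) (m : Γ(M, A)), GenAt N (ψ.app A m) x) :
    ∃ (V : Y.Opens) (s : Γ(M, f ⁻¹ᵁ V)), GenAt N (ψ.app (f ⁻¹ᵁ V) s) x := by
  obtain ⟨A, m, A', hA', hxA', hgen⟩ := hx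
  obtain ⟨B₀, hB₀A, hxB₀, hspan₀⟩ := CounitEpi.mem_relSub_of_epi f M hepi A m x (hA' hxA')
  obtain ⟨B, hB⟩ : ∃ B : X.Opens, B = B₀ ⊓ A' := ⟨_, rfl⟩
  have hBB₀ : B ≤ B₀ := hB ▸ inf_le_left
  have hBA' : B ≤ A' := hB ▸ inf_le_right
  have hxB : x ∈ B := hB ▸ ⟨hxB₀, hxA'⟩
  have hspan := CounitEpi.relSpan_res f M hBB₀ hspan₀
  rw [res_res] at hspan
  have hγ := hgen.res hBA'
  rw [res_res] at hγ
  obtain ⟨γ, hγdef⟩ : ∃ γ : Γ(N, B),
    γ = N.presheaf.map (homOfLE (hBA'.trans hA')).op (ψ.app A m) := ⟨_, rfl⟩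
  rw [← hγdef] at hγ
  have hψm : ψ.app B (M.presheaf.map (homOfLE (hBB₀.trans hB₀A)).op m) = γ := by
    rw [app_res, hγdef]
  have key : ∀ m' ∈ CounitEpi.RelSpan f M B, ∀ c : Γ(X, B), ψ.app B m' = c • γ →
      x ∈ X.basicOpen c → ∃ (V : Y.Opens) (s : Γ(M, f ⁻¹ᵁ V)), GenAt N (ψ.app (f ⁻¹ᵁ V) s) x := by
    intro m' hm'
    refine Submodule.span_induction
      (p := fun m' _ => ∀ c : Γ(X, B), ψ.app B m' = c • γ → x ∈ X.basicOpen c →
        ∃ (V : Y.Opens) (s : Γ(M, f ⁻¹ᵁ V)), GenAt N (ψ.app (f ⁻¹ᵁ V) s) x) ?_ ?_ ?_ ?_ hm'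
    · rintro t ⟨V, h, s, rfl⟩ c hc hxc
      refine ⟨V, s, X.basicOpen c, (X.basicOpen_le c).trans h, hxc, ?_⟩
      have h2 := IsGenOn.basicOpen (show IsGenOn N B γ from hγ) c
      rw [← hc, app_res, res_res] at h2
      exact h2
    · intro c hc hxc
      have hc0 : c = 0 := by
        apply hγ.self.1
        simp only
        rw [← hc, map_zero, zero_smul]
      rw [hc0, Scheme.basicOpen_zero] at hxc
      exact hxc.elim
    · intro m₁ m₂ _ _ ih₁ ih₂ c hc hxc
      obtain ⟨c₁, hc₁⟩ := hγ.self.2 (ψ.app B m₁)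
      obtain ⟨c₂, hc₂⟩ := hγ.self.2 (ψ.app B m₂)
      simp only at hc₁ hc₂
      have hcc : c = c₁ + c₂ := by
        apply hγ.self.1
        simp only
        rw [← hc, map_add, add_smul, hc₁, hc₂]
      rw [hcc] at hxc
      rcases CounitEpi.mem_basicOpen_add x c₁ c₂ hxc with h | h
      · exact ih₁ c₁ hc₁.symm h
      · exact ih₂ c₂ hc₂.symm h
    · intro r m₁ _ ih c hc hxc
      obtain ⟨c₁, hc₁⟩ := hγ.self.2 (ψ.app B m₁)
      simp only at hc₁
      have hcc : c = r * c₁ := by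
        apply hγ.self.1
        simp only
        rw [← hc, Scheme.Modules.Hom.app_smul, mul_smul, hc₁]
      rw [hcc] at hxc
      exact ih c₁ hc₁.symm ((mem_basicOpen_mul x hxB r c₁).mp hxc).2
  refine key _ hspan 1 (by rw [hψm, one_smul]) ?_
  rw [X.mem_basicOpen _ x hxB, map_one]
  exact isUnit_one

/-- The same over an affine open of the base, for `f` quasi-compact quasi-separated and `M`
quasi-coherent. -/
theorem exists_genAt_map_of_epi_affine [QuasiCompact f] [QuasiSeparated f] {M N : X.Modules}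
    [M.IsQuasicoherent] (ψ : M ⟶ N)
    (hepi : Epi ((pullbackPushforwardAdjunction f).counit.app M))
    (V : Y.Opens) (hV : IsAffineOpen V) (x : X) (hx : x ∈ f ⁻¹ᵁ V)
    (hx' : ∃ (A : X.Opens) (m : Γ(M, A)), GenAt N (ψ.app A m) x) :
    ∃ s : Γ(M, f ⁻¹ᵁ V), GenAt N (ψ.app (f ⁻¹ᵁ V) s) x := by
  obtain ⟨V', s, hs⟩ := exists_genAt_map_of_epi f ψ hepi x hx'
  have hxV' : x ∈ f ⁻¹ᵁ V' := hs.mem
  obtain ⟨g, hgle, hxg⟩ := hV.exists_basicOpen_le (V := V') ⟨f x, hxV'⟩ hx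
  have hD : X.basicOpen (f.app V g) = f ⁻¹ᵁ (Y.basicOpen g) := (Scheme.preimage_basicOpen f g).symm
  have hDV' : X.basicOpen (f.app V g) ≤ f ⁻¹ᵁ V' := hD ▸ f.preimage_mono hgle
  obtain ⟨k, s', hs'⟩ := Groth.Agent.H8.exists_smul_eq_res_of_qcqs M (W := f ⁻¹ᵁ V)
    (QuasiCompact.isCompact_preimage (f := f) _ V.2 hV.isCompact)
    (f.isQuasiSeparated_preimage hV.isQuasiSeparated) (f.app V g)
    (M.presheaf.map (homOfLE hDV').op s)
  refine ⟨s', ?_⟩
  have hxD : x ∈ X.basicOpen (f.app V g) := hD ▸ hxg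
  have hu : IsUnit ((X.presheaf.map (homOfLE (X.basicOpen_le (f.app V g))).op (f.app V g)) ^ k) :=
    (RingedSpace.isUnit_res_basicOpen X.toRingedSpace (f.app V g)).pow k
  rw [← genAt_res (X.basicOpen_le _) _ hxD, ← app_res, hs', Scheme.Modules.Hom.app_smul,
    genAt_unit_smul _ _ hu, app_res, genAt_res hDV' _ hxD]
  exact hs

end Epi

section Ideal

open Groth.Agent.H22.SerreAffine Groth.Agent.H8

/-- On a quasi-compact quasi-separated scheme, for an affine open `U` there is a quasi-coherent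
ideal of finite type whose sections vanish outside `U` and which contains `1` over `U`. -/
theorem exists_ideal [CompactSpace X] [QuasiSeparatedSpace X] (U : X.Opens)
    (hU : IsAffineOpen U) :
    ∃ (G : X.Modules) (i : G ⟶ Coh.structureModule X), Mono i ∧ Coh.IsQCoh G ∧ CohB1.IsFT G ∧
      (∃ g : Γ(G, U), coef i g = 1) ∧ ∀ y : X, y ∉ U → VanishAt i y := by
  classical
  let Yc : Closeds X := ⟨(U : Set X)ᶜ, U.2.isClosed_compl⟩
  obtain ⟨IY, hsY⟩ : ∃ IY : X.IdealSheafData, (IY.support : Set X) = (Yc : Set X) :=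
    ⟨Scheme.IdealSheafData.vanishingIdeal Yc, Scheme.IdealSheafData.coe_support_vanishingIdeal Yc⟩
  have hdisj : Disjoint (U : Set X) (IY.support : Set X) := by
    rw [hsY]
    exact Set.disjoint_left.mpr (fun y hy hyY => hyY hy)
  obtain ⟨t, ht⟩ := exists_lift_of_disjoint IY U hdisj
    (show Γ(Coh.structureModule X, U) from (1 : Γ(X, U)))
  haveI hMq : Coh.IsQCoh (kernel (ClSub.toSubscheme IY)) := inferInstance
  obtain ⟨G, j, hjmono, hGq, hGft, gU, hgU⟩ :=
    Groth.Agent.S9819.result (kernel (ClSub.toSubscheme IY)) ⟨U, hU⟩ t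
  haveI := hjmono
  refine ⟨G, j ≫ kernel.ι (ClSub.toSubscheme IY), mono_comp _ _, hGq, hGft, ⟨gU, ?_⟩, ?_⟩
  · have hjg : j.app U gU = t := hgU
    show (kernel.ι (ClSub.toSubscheme IY)).app U (j.app U gU) = _
    rw [hjg, ht]
  · intro y hyU W a hy
    obtain ⟨z, rfl⟩ : ∃ z : IY.subscheme, IY.subschemeι z = y := by
      have h5 : y ∈ Set.range IY.subschemeι := by
        rw [IY.range_subschemeι, hsY]
        exact hyU
      exact h5
    have h0 : (IY.subschemeι.app W).hom (coef (j ≫ kernel.ι (ClSub.toSubscheme IY)) a) = 0 := by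
      have h6 := app_comp_eq_zero (ShortComplex.mk (kernel.ι (ClSub.toSubscheme IY))
        (ClSub.toSubscheme IY) (kernel.condition _)) W (j.app W a)
      exact h6
    have h1 : z ∈ IY.subschemeι ⁻¹ᵁ
        X.basicOpen (coef (j ≫ kernel.ι (ClSub.toSubscheme IY)) a) := hy
    rw [Scheme.preimage_basicOpen] at h1
    have h3 : (IY.subschemeι.app W) (coef (j ≫ kernel.ι (ClSub.toSubscheme IY)) a) = 0 := h0
    rw [h3, Scheme.basicOpen_zero] at h1
    exact h1

end Ideal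

section Ample

open Groth.Agent.H18.RestrictTensor Groth.Agent.H18.TensorPowIso

/-- Ampleness of the restriction to a quasi-compact open from sections over it with affine
non-vanishing loci. -/
theorem isAmple_restrict_of_sections {L : X.Modules} (hL : PicF.IsInvertible L) (Z : X.Opens)
    [CompactSpace Z]
    (h : ∀ x ∈ Z, ∃ (n : ℕ) (t : Γ(CohB1.tensorPow L (n + 1), Z)) (D : X.Opens),
      IsAffineOpen D ∧ D ≤ Z ∧ x ∈ D ∧ ∀ y ∈ Z, GenAt (CohB1.tensorPow L (n + 1)) t y ↔ y ∈ D) :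
    CohB1.IsAmple (L.restrict Z.ι) := by
  have hLZ : PicF.IsInvertible (L.restrict Z.ι) := Groth.Agent.H8.isInvertible_restrict Z.ι hL
  refine ⟨hLZ, inferInstance, fun z => ?_⟩
  obtain ⟨n, t, D, hD, hDZ, hzD, hiff⟩ := h z.1 z.2
  obtain ⟨ρ⟩ := nonempty_restrict_tensorPow Z.ι hLZ (n + 1)
  have htop : Z.ι ''ᵁ ⊤ ≤ Z := by rw [Scheme.Opens.ι_image_top]
  obtain ⟨t', ht'⟩ : ∃ t' : Γ((CohB1.tensorPow L (n + 1)).restrict Z.ι, ⊤),
    t' = toRes Z.ι _ ((CohB1.tensorPow L (n + 1)).presheaf.map (homOfLE htop).op t) := ⟨_, rfl⟩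
  have hs : CohB1.genLocus _ (secHom _ t' ≫ ρ.hom) = CohB1.genLocus _ (secHom _ t') :=
    Groth.Agent.H18.TwistAmple.genLocus_comp_iso _ ρ
  have key : ∀ y : Z.toScheme, y ∈ CohB1.genLocus _ (secHom _ t') ↔ Z.ι y ∈ D := by
    intro y
    rw [mem_genLocus_secHom, genAt_restrict, ht']
    show GenAt _ ((CohB1.tensorPow L (n + 1)).presheaf.map (homOfLE htop).op t) (Z.ι y) ↔ _
    exact (genAt_res htop t ⟨y, trivial, rfl⟩).trans (hiff _ y.2)
  have heq : CohB1.genLocus _ (secHom _ t') = Z.ι ⁻¹ᵁ D := Opens.ext (Set.ext key)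
  refine ⟨n, secHom _ t' ≫ ρ.hom, ?_, ?_⟩
  · rw [hs, heq]
    exact hzD
  · rw [hs, heq]
    have h1 : Z.ι ''ᵁ (Z.ι ⁻¹ᵁ D) = D := by
      rw [Scheme.Hom.image_preimage_eq_opensRange_inf, Scheme.Opens.opensRange_ι]
      exact inf_eq_right.mpr hDZ
    have h2 : IsAffineOpen (Z.ι ''ᵁ (Z.ι ⁻¹ᵁ D)) := by
      rw [h1]
      exact hD
    exact (Scheme.Hom.isAffineOpen_iff_of_isOpenImmersion Z.ι).mp h2

variable {Y : Scheme.{u}} (f : X ⟶ Y)

/-- The key step of EGA II 4.6.8: from epimorphic counits at twisted ideals to sections with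
affine non-vanishing loci. -/
theorem exists_section_of_epi [CompactSpace X] [QuasiSeparatedSpace X] [QuasiCompact f]
    [QuasiSeparated f] {L : X.Modules} (hL : PicF.IsInvertible L) (V : Y.Opens)
    (hV : IsAffineOpen V)
    (h : ∀ (J : X.Modules) (i : J ⟶ Coh.structureModule X), Mono i → Coh.IsQCoh J →
      CohB1.IsFT J → ∃ n : ℕ, 0 < n ∧ Epi ((pullbackPushforwardAdjunction f).counit.app
        (CohB1.tensorMod J (CohB1.tensorPow L n))))
    (x : X) (hx : x ∈ f ⁻¹ᵁ V) :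
    ∃ (n : ℕ) (t : Γ(CohB1.tensorPow L (n + 1), f ⁻¹ᵁ V)) (D : X.Opens),
      IsAffineOpen D ∧ D ≤ f ⁻¹ᵁ V ∧ x ∈ D ∧
        ∀ y ∈ f ⁻¹ᵁ V, GenAt (CohB1.tensorPow L (n + 1)) t y ↔ y ∈ D := by
  obtain ⟨A, μ, hxA, hμ⟩ := exists_isGen hL x
  have hmem : x ∈ A ⊓ f ⁻¹ᵁ V := ⟨hxA, hx⟩
  obtain ⟨U, hU, hxU, hUle⟩ :=
    (Opens.isBasis_iff_nbhd.mp X.isBasis_affineOpens) hmem
  have hUA : U ≤ A := hUle.trans inf_le_left
  have hUZ : U ≤ f ⁻¹ᵁ V := hUle.trans inf_le_right
  obtain ⟨G, i, hmono, hq, hft, ⟨g, hg⟩, hvan⟩ := exists_ideal U hU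
  obtain ⟨n, hn, hepi⟩ := h G i hmono hq hft
  obtain ⟨n', rfl⟩ : ∃ n', n = n' + 1 := ⟨n - 1, by omega⟩
  have hN : PicF.IsInvertible (CohB1.tensorPow L (n' + 1)) := isInvertible_tensorPow hL _
  haveI : G.IsQuasicoherent := hq
  haveI : (CohB1.tensorMod G (CohB1.tensorPow L (n' + 1))).IsQuasicoherent :=
    Groth.Agent.H18.TensorCoh.isQuasicoherent_tensorMod G _ hN
  have hγ : IsGen (CohB1.tensorPow L (n' + 1)) U (lp (L.presheaf.map (homOfLE hUA).op μ) (n' + 1)) :=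
    isGen_lp (hμ.res hUA) (n' + 1)
  obtain ⟨γ, hγdef⟩ : ∃ γ : Γ(CohB1.tensorPow L (n' + 1), U),
    γ = lp (L.presheaf.map (homOfLE hUA).op μ) (n' + 1) := ⟨_, rfl⟩
  rw [← hγdef] at hγ
  have hloc : ∃ (A : X.Opens) (m : Γ(CohB1.tensorMod G (CohB1.tensorPow L (n' + 1)), A)),
      GenAt (CohB1.tensorPow L (n' + 1)) ((mulHom i (CohB1.tensorPow L (n' + 1))).app A m) x := by
    refine ⟨U, tm G _ g γ, U, le_rfl, hxU, ?_⟩
    rw [mulHom_tm, hg, one_smul, res_self']
    exact hγ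
  obtain ⟨s, hs⟩ := exists_genAt_map_of_epi_affine f (mulHom i (CohB1.tensorPow L (n' + 1)))
    hepi V hV x hx hloc
  obtain ⟨c, hc⟩ := hγ.self.2 ((CohB1.tensorPow L (n' + 1)).presheaf.map (homOfLE hUZ).op
    ((mulHom i (CohB1.tensorPow L (n' + 1))).app (f ⁻¹ᵁ V) s))
  simp only at hc
  have hiff : ∀ y ∈ f ⁻¹ᵁ V, GenAt (CohB1.tensorPow L (n' + 1))
      ((mulHom i (CohB1.tensorPow L (n' + 1))).app (f ⁻¹ᵁ V) s) y ↔ y ∈ X.basicOpen c := by
    intro y hy
    constructor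
    · intro hgen
      have hyU : y ∈ U := by
        by_contra hyU
        exact not_genAt_mulHom i hN (hvan y hyU) s hgen
      have h1 := (genAt_res hUZ _ hyU).mpr hgen
      rw [← hc] at h1
      exact mem_basicOpen_of_genAt_smul hN c γ h1
    · intro hyc
      have h2 := IsGenOn.basicOpen (show IsGenOn _ U γ from hγ) c
      rw [hc, res_res] at h2
      exact ⟨X.basicOpen c, _, hyc, h2⟩
  exact ⟨n', _, X.basicOpen c, hU.basicOpen c, (X.basicOpen_le c).trans hUZ,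
    (hiff x hx).mp hs, hiff⟩

end Ample

end Groth.Agent.H22.IdealTwist
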