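import Mathlib
import Groth.Agent.H22.AmpleDescent
import Groth.Agent.H22.PullBC
import Groth.Agent.S0079

/-!
# Faithfully flat descent of relative ampleness (helper22)

* `pullback_map_app_eq_zero`: flat base change over an affine base, sections over `f'⁻¹(V')`.
* `isGloballyGenerated_of_epi_counit_pullback`: over an affine base, if the pullback of `F` along a
  flat surjective base change (of arbitrary source) has epimorphic counit, then `F` is globally
  generated.
* `isAmple_of_isRelAmple_pullback`, `isRelAmple_of_isRelAmple_pullback`.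
-/

set_option autoImplicit false
set_option linter.style.haveILetI false
universe u
open CategoryTheory CategoryTheory.Limits AlgebraicGeometry TopologicalSpace Opposite TensorProduct

namespace Groth.Agent.H22.AmpleDescentRel

open Groth.Agent.H8 (res_res res_smul ringRes_res section_eq_of_cover)
open Groth.Agent.H22.QCohLimits (app_res)
open Groth.Agent.H18.TensorGen Groth.Agent.H22.GenSection Groth.Agent.H22.AmpleLocal
open Groth.Agent.H18.TensorPowIso Groth.Agent.H89.GlobGenDescent
open AlgebraicGeometry.Scheme.Modules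

section Descent

variable {X S S' X' : Scheme.{u}} {f : X ⟶ S} {g : S' ⟶ S} {g' : X' ⟶ X} {f' : X' ⟶ S'}
  (h : IsPullback g' f' f g) [IsAffine S] [QuasiCompact f] [QuasiSeparated f]
  [Flat g] (F : X.Modules) [F.IsQuasicoherent]

open Groth.Agent.H8.AffBC Groth.Agent.H39.PullTrack in
include h in
/-- Flat base change over an affine base: a morphism killing the global sections of `F` kills,
after pulling back, all sections over preimages of affine opens. -/
theorem pullback_map_app_eq_zero {Q : X.Modules} (π : F ⟶ Q)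
    (hπ : ∀ m : Γ(F, f ⁻¹ᵁ ⊤), π.app (f ⁻¹ᵁ ⊤) m = 0) (V' : S'.Opens) (hV' : IsAffineOpen V')
    (t' : Γ((Scheme.Modules.pullback g').obj F, f' ⁻¹ᵁ V')) :
    ((Scheme.Modules.pullback g').map π).app (f' ⁻¹ᵁ V') t' = 0 := by
  have hV : IsAffineOpen (⊤ : S.Opens) := isAffineOpen_top S
  have hle : V' ≤ g ⁻¹ᵁ ⊤ := le_top
  obtain ⟨w, rfl⟩ := (Groth.Agent.H8.FlatBC.uMap_app_bijective_of_flat h F hV hV' hle).2 t'
  haveI : ((Scheme.Modules.pushforward f).obj F).IsQuasicoherent :=
    Groth.Agent.H8.isQuasicoherent_pushforward f F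
  letI := (g.appLE ⊤ V' hle).hom.toAlgebra
  obtain ⟨E, hE⟩ := exists_sectionsPullbackEquiv g ((Scheme.Modules.pushforward f).obj F) hV hV' hle
  obtain ⟨z, rfl⟩ := E.symm.surjective w
  let Ψ : (Scheme.Modules.pullback g).obj ((Scheme.Modules.pushforward f).obj F) ⟶
      (Scheme.Modules.pushforward f').obj ((Scheme.Modules.pullback g').obj Q) :=
    uMap f g g' f' h.w F ≫ (Scheme.Modules.pushforward f').map ((Scheme.Modules.pullback g').map π)
  show Ψ.app V' (E.symm z) = 0
  induction z using TensorProduct.induction_on with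
  | zero => rw [map_zero, map_zero]
  | tmul a m =>
    have h0 : (a ⊗ₜ[Γ(S, ⊤)] m : TensorProduct Γ(S, ⊤) Γ(S', V') Γ((Scheme.Modules.pushforward f).obj F, ⊤)) =
        a • ((1 : Γ(S', V')) ⊗ₜ[Γ(S, ⊤)] m) := by
      rw [TensorProduct.smul_tmul', smul_eq_mul, mul_one]
    have h1 : E.symm (a ⊗ₜ[Γ(S, ⊤)] m) =
        a • pullSectLE g ((Scheme.Modules.pushforward f).obj F) ⊤ V' hle m := by
      rw [h0, LinearEquiv.map_smul, ← hE m, LinearEquiv.symm_apply_apply]
    rw [h1, Scheme.Modules.Hom.app_smul]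
    have h2 : Ψ.app V' (pullSectLE g ((Scheme.Modules.pushforward f).obj F) ⊤ V' hle m) = 0 := by
      show ((Scheme.Modules.pullback g').map π).app (f' ⁻¹ᵁ V')
        ((uMap f g g' f' h.w F).app V' (pullSectLE g ((Scheme.Modules.pushforward f).obj F) ⊤ V' hle m)) = 0
      rw [uMap_pullSectLE, map_pullSectLE, hπ, map_zero]
    rw [h2, smul_zero]
  | add x y hx hy => rw [map_add, map_add, hx, hy, add_zero]

include h in
/-- Over an affine base: if the pullback of `F` along a flat surjective base change has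
epimorphic counit, then `F` is globally generated. -/
theorem isGloballyGenerated_of_epi_counit_pullback [Surjective g]
    (hepi : Epi ((pullbackPushforwardAdjunction f').counit.app
      ((Scheme.Modules.pullback g').obj F))) : Curv2.IsGloballyGenerated F := by
  apply isGloballyGenerated_of_isZero_cokernel
  have hπ : ∀ m : Γ(F, f ⁻¹ᵁ ⊤), (cokernel.π (ev F)).app (f ⁻¹ᵁ ⊤) m = 0 :=
    fun m => cokernel_π_ev_app_top F m
  have h1 : (Scheme.Modules.pullback g').map (cokernel.π (ev F)) = 0 := by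
    apply (Groth.Agent.H22.CounitEpi.epi_counit_iff f' _).mp hepi
    intro V' s
    refine section_eq_of_cover _ _ _ (fun x hx => ?_)
    obtain ⟨W, hW, hxW, hWV'⟩ := (Opens.isBasis_iff_nbhd.mp S'.isBasis_affineOpens)
      (show f' x ∈ V' from hx)
    refine ⟨f' ⁻¹ᵁ W, f'.preimage_mono hWV', hxW, ?_⟩
    rw [← app_res, map_zero]
    exact pullback_map_app_eq_zero h F (cokernel.π (ev F)) hπ W hW _
  haveI : (Scheme.Modules.pullback g').IsLeftAdjoint :=
    (Scheme.Modules.pullbackPushforwardAdjunction g').isLeftAdjoint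
  haveI : Epi ((Scheme.Modules.pullback g').map (cokernel.π (ev F))) := inferInstance
  have hz : IsZero ((Scheme.Modules.pullback g').obj (cokernel (ev F))) :=
    IsZero.of_epi_eq_zero _ h1
  haveI : Flat g' := MorphismProperty.of_isPullback (P := @Flat) h.flip inferInstance
  haveI : Surjective g' := MorphismProperty.of_isPullback (P := @Surjective) h.flip inferInstance
  haveI := Groth.Agent.H8.faithful_pullback g'
  haveI : (Scheme.Modules.pullback g').Additive := Functor.additive_of_preserves_binary_products _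
  rw [IsZero.iff_id_eq_zero]
  apply (Scheme.Modules.pullback g').map_injective
  rw [CategoryTheory.Functor.map_id, CategoryTheory.Functor.map_zero]
  exact (IsZero.iff_id_eq_zero _).mp hz

end Descent

section Counit

variable {X Y : Scheme.{u}} (f : X ⟶ Y)

/-- Epimorphy of the counit is invariant under isomorphisms. -/
theorem epi_counit_of_iso {A B : X.Modules} (e : A ≅ B)
    (hA : Epi ((pullbackPushforwardAdjunction f).counit.app A)) :
    Epi ((pullbackPushforwardAdjunction f).counit.app B) := by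
  have hnat := (pullbackPushforwardAdjunction f).counit.naturality e.hom
  have h2 : (pullbackPushforwardAdjunction f).counit.app B =
      (pushforward f ⋙ Scheme.Modules.pullback f).map e.inv ≫
        (pullbackPushforwardAdjunction f).counit.app A ≫ e.hom := by
    have h3 : (pullbackPushforwardAdjunction f).counit.app A ≫ e.hom =
      (pushforward f ⋙ Scheme.Modules.pullback f).map e.hom ≫
        (pullbackPushforwardAdjunction f).counit.app B := hnat.symm
    rw [h3, ← Category.assoc, ← CategoryTheory.Functor.map_comp, e.inv_hom_id,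
      CategoryTheory.Functor.map_id, Category.id_comp]
  rw [h2]
  haveI : Epi ((pushforward f ⋙ Scheme.Modules.pullback f).map e.inv) :=
    (IsIso.epi_of_iso _)
  haveI : Epi ((pullbackPushforwardAdjunction f).counit.app A ≫ e.hom) := epi_comp _ _
  exact epi_comp _ _

end Counit

section Variant

open Groth.Agent.H22.RelTwistGG Groth.Agent.H18.RestrictTensor

variable {X Y : Scheme.{u}} (f : X ⟶ Y)

/-- A morphism carrying a relatively ample module is quasi-separated. -/
theorem quasiSeparated_of_isRelAmple {M : X.Modules} (h : RelAmple.IsRelAmple f M) :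
    QuasiSeparated f := by
  rw [HasAffineProperty.eq_targetAffineLocally (P := @QuasiSeparated)]
  intro U
  exact Groth.Agent.H18.AmpleBasis.quasiSeparatedSpace_of_isAmple (h.2 U)

/-- EGA II 4.6.8 (⇒), without assuming the source quasi-separated. -/
theorem exists_epi_counit_of_isRelAmple' [CompactSpace X] {L : X.Modules}
    (hL : PicF.IsInvertible L)
    (h : RelAmple.IsRelAmple f L) (F : X.Modules) (hq : Coh.IsQCoh F) (hft : CohB1.IsFT F) :
    ∃ n₀ : ℕ, 0 < n₀ ∧ ∀ n : ℕ, n₀ ≤ n →
      Epi ((pullbackPushforwardAdjunction f).counit.app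
        (CohB1.tensorMod F (CohB1.tensorPow L n))) := by
  haveI := h.1
  have haff : ∀ x : X, ∃ V : Y.Opens, IsAffineOpen V ∧ f x ∈ V := fun x => by
    obtain ⟨V, hV, hxV, -⟩ := (Opens.isBasis_iff_nbhd.mp Y.isBasis_affineOpens)
      (show f x ∈ (⊤ : Y.Opens) from trivial)
    exact ⟨V, hV, hxV⟩
  choose V hV hxV using haff
  obtain ⟨T, hT⟩ := CompactSpace.elim_nhds_subcover
    (fun x => ((f ⁻¹ᵁ V x : X.Opens) : Set X)) (fun x => (f ⁻¹ᵁ V x).2.mem_nhds (hxV x))
  have hn : ∀ x : X, ∃ n₀ : ℕ, ∀ n, n₀ ≤ n → Curv2.IsGloballyGenerated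
      ((CohB1.tensorMod F (CohB1.tensorPow L n)).restrict (f ⁻¹ᵁ V x).ι) := by
    intro x
    have hLZ := h.2 ⟨V x, hV x⟩
    haveI : CompactSpace ((f ⁻¹ᵁ V x : X.Opens) : Scheme.{u}) := hLZ.2.1
    haveI : QuasiSeparatedSpace ((f ⁻¹ᵁ V x : X.Opens) : Scheme.{u}) :=
      Groth.Agent.H18.AmpleBasis.quasiSeparatedSpace_of_isAmple hLZ
    have hFZ : Coh.IsCoh (F.restrict (f ⁻¹ᵁ V x).ι) := isCoh_restrict _ ⟨hq, hft⟩
    obtain ⟨n₀, hn₀⟩ := Groth.Agent.H18.AmpleGG.exists_iso_ggAt hLZ _ hFZ
    refine ⟨n₀, fun n hn => ?_⟩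
    obtain ⟨G, ⟨e⟩, hG⟩ := hn₀ n hn
    have hgg := Groth.Agent.H18.GlobGen.isGloballyGenerated_of_ggAt G hG
    obtain ⟨ρ⟩ := nonempty_restrict_tensorPow (f ⁻¹ᵁ V x).ι hLZ.1 n
    have hLnZ : PicF.IsInvertible ((CohB1.tensorPow L n).restrict (f ⁻¹ᵁ V x).ι) :=
      Groth.Agent.H8.isInvertible_restrict _ (isInvertible_tensorPow hL n)
    obtain ⟨e1⟩ := nonempty_restrict_tensorMod_right (f ⁻¹ᵁ V x).ι F hLnZ
    obtain ⟨e2⟩ := Groth.Agent.H18.TensorModIso.nonempty_tensorMod_congr
      (Iso.refl (F.restrict (f ⁻¹ᵁ V x).ι)) ρ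
    exact isGloballyGenerated_of_iso (e.symm ≪≫ e2.symm ≪≫ e1) hgg
  choose n₀ hn₀ using hn
  refine ⟨T.sup n₀ + 1, Nat.succ_pos _, fun n hn => ?_⟩
  apply epi_counit_of_cover
  intro x
  have hx : x ∈ ⋃ t ∈ T, ((f ⁻¹ᵁ V t : X.Opens) : Set X) := hT ▸ Set.mem_univ x
  simp only [Set.mem_iUnion] at hx
  obtain ⟨t, htT, hxt⟩ := hx
  exact ⟨V t, hxt, hn₀ t n ((Finset.le_sup htT).trans ((Nat.le_succ _).trans hn))⟩

end Variant

section Main

open Groth.Agent.H22.AmpleDescent Groth.Agent.H22.PullGen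

/-- **Descent of ampleness** along a flat surjective base change from a quasi-compact scheme to
an affine base, from relative ampleness upstairs. -/
theorem isAmple_of_isRelAmple_pullback {X Y Y' X' : Scheme.{u}} [IsAffine Y] [CompactSpace Y']
    {f : X ⟶ Y} {g : Y' ⟶ Y} {pr : X' ⟶ X} {f' : X' ⟶ Y'} (sq : IsPullback pr f' f g)
    [QuasiCompact f] [Flat g] [Surjective g] (L : X.Modules) (hL : PicF.IsInvertible L)
    (h : RelAmple.IsRelAmple f' ((Scheme.Modules.pullback pr).obj L)) : CohB1.IsAmple L := by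
  haveI : QuasiCompact f' := h.1
  haveI : CompactSpace X' := QuasiCompact.compactSpace_of_compactSpace f'
  haveI : QuasiSeparated f' := quasiSeparated_of_isRelAmple f' h
  haveI : QuasiCompact g := inferInstance
  haveI : QuasiSeparated f := by
    haveI := Groth.Agent.S0080.result
    exact MorphismProperty.of_isPullback_of_descendsAlong (P := @QuasiSeparated)
      (Q := (@Surjective ⊓ @Flat ⊓ @QuasiCompact : MorphismProperty Scheme.{u})) sq.flip
      ⟨⟨inferInstance, inferInstance⟩, inferInstance⟩ inferInstance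
  haveI : CompactSpace X := (quasiCompact_iff_compactSpace f).mp inferInstance
  haveI : QuasiSeparatedSpace X := (quasiSeparated_iff_quasiSeparatedSpace f).mp inferInstance
  have hL' : PicF.IsInvertible ((Scheme.Modules.pullback pr).obj L) := isInvertible_pullback pr hL
  refine isAmple_of_forall_epi_counit f hL (fun J i _ hq hft => ?_)
  haveI : J.IsQuasicoherent := hq
  haveI : SheafOfModules.IsFiniteType (R := X.ringCatSheaf) J := hft
  obtain ⟨n₀, hn₀pos, hn₀⟩ := exists_epi_counit_of_isRelAmple' f' hL' h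
    ((Scheme.Modules.pullback pr).obj J) (Groth.Agent.H8.isQuasicoherent_pullback pr J)
    (Groth.Agent.H8.isFiniteType_pullback pr J)
  have hepi := hn₀ n₀ le_rfl
  obtain ⟨e1⟩ := Groth.Agent.H8.nonempty_pullback_tensorMod pr J (CohB1.tensorPow L n₀)
  obtain ⟨e2⟩ := Groth.Agent.H22.PullAmple.nonempty_pullback_tensorPow pr L n₀
  obtain ⟨e3⟩ := Groth.Agent.H18.TensorModIso.nonempty_tensorMod_congr
    (Iso.refl ((Scheme.Modules.pullback pr).obj J)) e2
  have hepi' := epi_counit_of_iso f' (e3.symm ≪≫ e1.symm) hepi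
  haveI : (CohB1.tensorMod J (CohB1.tensorPow L n₀)).IsQuasicoherent :=
    Groth.Agent.H18.TensorCoh.isQuasicoherent_tensorMod J _ (isInvertible_tensorPow hL _)
  have hgg := isGloballyGenerated_of_epi_counit_pullback sq
    (CohB1.tensorMod J (CohB1.tensorPow L n₀)) hepi'
  exact ⟨n₀, hn₀pos, epi_counit_of_isGloballyGenerated f _ hgg⟩

/-- **Descent of relative ampleness** along a quasi-compact flat surjective base change. -/
theorem isRelAmple_of_isRelAmple_pullback {X S S' : Scheme.{u}} (f : X ⟶ S) (L : X.Modules)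
    (hL : PicF.IsInvertible L) (g : S' ⟶ S) [QuasiCompact g] [Flat g] [Surjective g]
    (h : RelAmple.IsRelAmple (pullback.snd f g)
      ((Scheme.Modules.pullback (pullback.fst f g)).obj L)) :
    RelAmple.IsRelAmple f L := by
  haveI : QuasiCompact (pullback.snd f g) := h.1
  haveI : QuasiCompact f := by
    haveI := Groth.Agent.S0079.result
    exact MorphismProperty.of_pullback_snd_of_descendsAlong (P := @QuasiCompact)
      (Q := (@Surjective ⊓ @Flat ⊓ @QuasiCompact : MorphismProperty Scheme.{u}))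
      (f := f) (g := g) ⟨⟨inferInstance, inferInstance⟩, inferInstance⟩ inferInstance
  refine ⟨inferInstance, fun V => ?_⟩
  have e : pullback.snd f g ⁻¹ᵁ (g ⁻¹ᵁ V.1) ≤ pullback.fst f g ⁻¹ᵁ (f ⁻¹ᵁ V.1) := by
    intro x hx
    have h1 : (pullback.snd f g ≫ g) x ∈ V.1 := hx
    rw [← pullback.condition] at h1
    exact h1
  have sqA := (isPullback_morphismRestrict (pullback.snd f g) (g ⁻¹ᵁ V.1)).flip
  have sqB : IsPullback (pullback.fst f g) (pullback.snd f g) f g := IsPullback.of_hasPullback f g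
  have sqAB := sqA.paste_horiz sqB
  have sqC := (isPullback_morphismRestrict f V.1).flip
  have hι : (g ⁻¹ᵁ V.1).ι ≫ g = (g ∣_ V.1) ≫ V.1.ι := (morphismRestrict_ι g V.1).symm
  have hpr : (pullback.fst f g).resLE (f ⁻¹ᵁ V.1) (pullback.snd f g ⁻¹ᵁ (g ⁻¹ᵁ V.1)) e ≫
      (f ⁻¹ᵁ V.1).ι = (pullback.snd f g ⁻¹ᵁ (g ⁻¹ᵁ V.1)).ι ≫ pullback.fst f g :=
    Scheme.Hom.resLE_comp_ι (pullback.fst f g) e
  have hcomm : (pullback.fst f g).resLE (f ⁻¹ᵁ V.1) (pullback.snd f g ⁻¹ᵁ (g ⁻¹ᵁ V.1)) e ≫
      (f ∣_ V.1) = (pullback.snd f g ∣_ (g ⁻¹ᵁ V.1)) ≫ (g ∣_ V.1) := by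
    rw [← cancel_mono V.1.ι, Category.assoc, Category.assoc, morphismRestrict_ι,
      ← Category.assoc, hpr, Category.assoc, pullback.condition, morphismRestrict_ι,
      ← Category.assoc (pullback.snd f g ∣_ (g ⁻¹ᵁ V.1)), morphismRestrict_ι, Category.assoc]
  have sqV : IsPullback
      ((pullback.fst f g).resLE (f ⁻¹ᵁ V.1) (pullback.snd f g ⁻¹ᵁ (g ⁻¹ᵁ V.1)) e)
      (pullback.snd f g ∣_ (g ⁻¹ᵁ V.1)) (f ∣_ V.1) (g ∣_ V.1) := by
    refine IsPullback.of_right ?_ hcomm sqC
    rw [hpr, ← hι]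
    exact sqAB
  haveI : IsAffine V.1.toScheme := V.2
  haveI : CompactSpace (g ⁻¹ᵁ V.1).toScheme :=
    isCompact_iff_compactSpace.mp (QuasiCompact.isCompact_preimage (f := g) _ V.1.2 V.2.isCompact)
  haveI : Flat (g ∣_ V.1) :=
    MorphismProperty.of_isPullback (P := @Flat) (isPullback_morphismRestrict g V.1).flip inferInstance
  haveI : Surjective (g ∣_ V.1) :=
    MorphismProperty.of_isPullback (P := @Surjective) (isPullback_morphismRestrict g V.1).flip
      inferInstance
  haveI : QuasiCompact (f ∣_ V.1) :=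
    MorphismProperty.of_isPullback (P := @QuasiCompact) (isPullback_morphismRestrict f V.1).flip
      inferInstance
  have hLV : PicF.IsInvertible (L.restrict (f ⁻¹ᵁ V.1).ι) :=
    Groth.Agent.H8.isInvertible_restrict _ hL
  have hrel : RelAmple.IsRelAmple (pullback.snd f g ∣_ (g ⁻¹ᵁ V.1))
      ((Scheme.Modules.pullback
        ((pullback.fst f g).resLE (f ⁻¹ᵁ V.1) (pullback.snd f g ⁻¹ᵁ (g ⁻¹ᵁ V.1)) e)).obj
        (L.restrict (f ⁻¹ᵁ V.1).ι)) :=
    Groth.Agent.H22.PullRelAmple.isRelAmple_of_iso _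
      ((Groth.Agent.H22.PullBC.bcIsoLE (pullback.fst f g) (f ⁻¹ᵁ V.1)
        (pullback.snd f g ⁻¹ᵁ (g ⁻¹ᵁ V.1)) e).app L)
      (Groth.Agent.H22.PullBC.isRelAmple_restrict_of_forall (pullback.snd f g) _ (g ⁻¹ᵁ V.1)
        (fun W hW _ => h.2 ⟨W, hW⟩))
  exact isAmple_of_isRelAmple_pullback sqV _ hLV hrel

end Main

end Groth.Agent.H22.AmpleDescentRel
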