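import Mathlib
import Groth.Agent.S8914
import Groth.Agent.H95.DualInv
import Groth.Agent.H18.FreeEpi
import Groth.Agent.H18.TensorCoh
import Groth.Agent.H18.GlobGenConv

/-!
# The canonical section of `O(D)` for an invertible ideal sheaf (helper22)

For a quasi-coherent ideal `𝓘` whose module `ClSub.idealMod 𝓘` is invertible, the dual
`A = 𝓗om(𝓘, O)` is invertible and the inclusion `𝓘 ⟶ O` is a global section `σ` of `A` whose
non-vanishing locus is the complement of the support of `𝓘`.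
-/

set_option autoImplicit false
set_option linter.style.haveILetI false
universe u
open CategoryTheory CategoryTheory.Limits AlgebraicGeometry TopologicalSpace Opposite

namespace Groth.Agent.H22.CartierSec

open Groth.Agent.H18.TensorGen (IsGen isGen_one exists_isGen)
open Groth.Agent.H18.SecTw (sv)
open Groth.Agent.H95.RefGen

variable {X : Scheme.{u}}

/-- A global section of `M` is the value of a morphism `O ⟶ M`. -/
theorem exists_hom_of_top (M : X.Modules) (t : Γ(M, ⊤)) :
    ∃ s : Coh.structureModule X ⟶ M, ∀ V : X.Opens,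
      sv s V = M.presheaf.map (homOfLE (le_top : V ≤ ⊤)).op t := by
  refine ⟨(SheafOfModules.unitHomEquiv (R := X.ringCatSheaf) M).symm
    (Groth.Agent.S4407.secOfTop M t), fun V => ?_⟩
  have h := Groth.Agent.H18.FreeEpi.unitHomEquiv_symm_app_apply M
    (Groth.Agent.S4407.secOfTop M t) V (1 : Γ(X, V))
  rw [one_smul] at h
  exact h

theorem exists_section_of_invertible_ideal (𝓘 : X.IdealSheafData)
    (hI : PicF.IsInvertible (ClSub.idealMod 𝓘)) :
    ∃ (A : X.Modules) (σ : Coh.structureModule X ⟶ A), PicF.IsInvertible A ∧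
      CohB1.genLocus A σ = 𝓘.support.compl := by
  obtain ⟨σ, hσ⟩ := exists_hom_of_top (RefHull.dual (ClSub.idealMod 𝓘))
    (RefHull.ofHom (ClSub.idealModι 𝓘) ⊤)
  refine ⟨RefHull.dual (ClSub.idealMod 𝓘), σ, Groth.Agent.H95.DualInv.isInvertible_dual hI, ?_⟩
  ext x
  obtain ⟨V, τ, hV, hxV, hτ⟩ := Groth.Agent.H18.TensorCoh.exists_affine_gen hI x
  obtain ⟨a, ha⟩ : ∃ a : Γ(X, V), a = (show Γ(X, V) from (ClSub.idealModι 𝓘).app V τ) := ⟨_, rfl⟩
  obtain ⟨θ, hθ, hθτ⟩ := isGen_homSh hτ (isGen_one V)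
  -- the ideal of `𝓘` on `V` is generated by `a`
  have hideal : 𝓘.ideal ⟨V, hV⟩ = Ideal.span {a} := by
    apply le_antisymm
    · intro b hb
      obtain ⟨t, ht⟩ := Groth.Agent.S8914.exists_of_mem_ideal 𝓘 ⟨V, hV⟩ b hb
      obtain ⟨r, hr⟩ := hτ.self.2 t
      have hr' : r • τ = t := hr
      rw [Ideal.mem_span_singleton']
      refine ⟨r, ?_⟩
      have h1 := Groth.Agent.S8914.ι_smul 𝓘 V r τ
      rw [hr'] at h1
      rw [ha]
      exact h1.symm.trans ht
    · rw [Ideal.span_le, Set.singleton_subset_iff, ha]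
      exact Groth.Agent.S8914.ι_mem_ideal 𝓘 ⟨V, hV⟩ τ
  -- the section `σ` is `a • θ` on `V`
  have hsv : sv σ V = a • θ := by
    rw [hσ V]
    refine Subtype.ext (funext fun y => LinearMap.ext fun t => ?_)
    obtain ⟨r, hr⟩ := (freeAt_of_isGen hτ y.1 y.2).2 t
    have hr' : r • (ClSub.idealMod 𝓘).presheaf.germ V y.1 y.2 τ = t := hr
    have h1 : (((RefHull.dual (ClSub.idealMod 𝓘)).presheaf.map (homOfLE (le_top : V ≤ ⊤)).op
        (RefHull.ofHom (ClSub.idealModι 𝓘) ⊤)).1 y) = RefHull.stalkMapₗ (ClSub.idealModι 𝓘) y.1 :=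
      rfl
    have h2 : (a • θ).1 y = X.presheaf.germ V y.1 y.2 a • θ.1 y := rfl
    rw [h1, h2, ← hr', map_smul, map_smul, RefHull.stalkMapₗ_germ, LinearMap.smul_apply,
      hθτ y.1 y.2]
    congr 1
    have h3 : (ClSub.idealModι 𝓘).app V τ =
        a • (show Γ(Coh.structureModule X, V) from (1 : Γ(X, V))) := by
      rw [ha]
      exact (mul_one (show Γ(X, V) from (ClSub.idealModι 𝓘).app V τ)).symm
    rw [h3, Mero.germ_smul]
  have hgen := Groth.Agent.H18.TensorGen.mem_genLocus_iff_of_isGen σ hθ a hsv x hxV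
  have hsup : x ∈ 𝓘.support ↔ x ∉ X.basicOpen a := by
    rw [Scheme.IdealSheafData.mem_support_iff_of_mem (U := ⟨V, hV⟩) hxV, hideal,
      Scheme.zeroLocus_span, Scheme.zeroLocus_singleton]
    rfl
  refine hgen.trans ?_
  show x ∈ X.basicOpen a ↔ x ∉ 𝓘.support
  rw [hsup, not_not]

end Groth.Agent.H22.CartierSec
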