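import Mathlib
import Groth.Agent.H93.EffCompl
import Groth.Agent.S8914
import Groth.Agent.H22.CartierSec
import Groth.Agent.H22.VeryAmpleIso
import Groth.Agent.H18.TwistAmple
import Groth.Prelude.Def_MoreMor

/-!
# Locally factorial Noetherian schemes with affine diagonal are divisorial (helper22)

* `exists_dense_affine`: on a Noetherian scheme every point has a dense affine open neighbourhood.
* `hasAmpleFamily_of_ufd`: a Noetherian scheme whose local rings are factorial and whose affine
  opens have affine inclusions has an ample family of invertible modules.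
-/

set_option autoImplicit false
set_option linter.style.haveILetI false
universe u
open CategoryTheory CategoryTheory.Limits AlgebraicGeometry TopologicalSpace Opposite

namespace Groth.Agent.H22.AmpleFamilyUFD

variable {X : Scheme.{u}}

/-- On a Noetherian scheme every point has a dense affine open neighbourhood. -/
theorem exists_dense_affine [IsNoetherian X] (x : X) :
    ∃ U : X.Opens, IsAffineOpen U ∧ x ∈ U ∧ Dense (U : Set X) := by
  let S : Set X.Opens := {U | IsAffineOpen U ∧ x ∈ U}
  have hne : S.Nonempty := by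
    obtain ⟨U, hU, hxU, -⟩ := (Opens.isBasis_iff_nbhd.mp X.isBasis_affineOpens)
      (show x ∈ (⊤ : X.Opens) from trivial)
    exact ⟨U, hU, hxU⟩
  haveI : WellFoundedGT X.Opens :=
    (inferInstance : TopologicalSpace.NoetherianSpace X)
  obtain ⟨U, ⟨hU, hxU⟩, hmax⟩ := (wellFounded_gt (α := X.Opens)).has_min S hne
  refine ⟨U, hU, hxU, ?_⟩
  by_contra hd
  rw [dense_iff_closure_eq] at hd
  obtain ⟨y, hy⟩ : ∃ y : X, y ∉ closure (U : Set X) := by
    by_contra h
    push Not at h
    exact hd (Set.eq_univ_of_forall h)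
  let W : X.Opens := ⟨(closure (U : Set X))ᶜ, isClosed_closure.isOpen_compl⟩
  obtain ⟨V, hV, hyV, hVW⟩ := (Opens.isBasis_iff_nbhd.mp X.isBasis_affineOpens)
    (show y ∈ W from hy)
  have hdisj : Disjoint U V := by
    rw [← Opens.coe_disjoint]
    refine Set.disjoint_left.mpr (fun z hzU hzV => ?_)
    exact hVW hzV (subset_closure hzU)
  have haff : IsAffineOpen (U ⊔ V) := hU.sup_of_disjoint hV hdisj
  have hlt : U < U ⊔ V := by
    refine lt_of_le_of_ne le_sup_left (fun h => ?_)
    have hyU : y ∈ U := by
      rw [h]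
      exact Or.inr hyV
    exact hy (subset_closure hyU)
  exact hmax (U ⊔ V) ⟨haff, Or.inl hxU⟩ hlt

/-- A Noetherian scheme whose local rings are factorial and whose affine opens have affine
inclusions has an ample family of invertible modules. -/
theorem hasAmpleFamily_of_ufd [IsNoetherian X]
    (hufd : ∀ x : X, IsDomain (X.presheaf.stalk x) ∧
      UniqueFactorizationMonoid (X.presheaf.stalk x))
    (haff : ∀ U : X.Opens, IsAffineOpen U → IsAffineHom U.ι) : MoreMor.HasAmpleFamily X := by
  refine ⟨inferInstance, fun x => ?_⟩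
  obtain ⟨U, hU, hxU, hdense⟩ := exists_dense_affine x
  haveI := haff U hU
  obtain ⟨D, hD, hsupp⟩ := Groth.Agent.H93.EffCompl.main X U hdense (fun y _ => hufd y)
  have hI : PicF.IsInvertible (ClSub.idealMod D) := (Groth.Agent.S8914.result D).mpr hD
  obtain ⟨A, σ, hA, hσ⟩ := Groth.Agent.H22.CartierSec.exists_section_of_invertible_ideal D hI
  have hσU : CohB1.genLocus A σ = U := by
    rw [hσ]
    apply Opens.ext
    show ((D.support : Set X))ᶜ = (U : Set X)
    rw [hsupp, compl_compl]
  obtain ⟨e⟩ := Groth.Agent.H22.VeryAmpleIso.nonempty_tensorPow_unit_tensor hA 0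
  let e' : A ≅ CohB1.tensorPow A 1 := e.symm
  have hg : CohB1.genLocus (CohB1.tensorPow A 1) (σ ≫ e'.hom) = U := by
    rw [Groth.Agent.H18.TwistAmple.genLocus_comp_iso σ e', hσU]
  refine ⟨A, 1, σ ≫ e'.hom, hA, le_rfl, ?_, ?_⟩
  · rw [hg]
    exact hxU
  · rw [hg]
    exact hU

end Groth.Agent.H22.AmpleFamilyUFD
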