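import Groth.Agent.H82.HHFinite

/-!
# `H^{j+1}(A) ≃+ H^{j+1}(B)` when kernel and cokernel of `A ⟶ B` have no cohomology nearby
-/

set_option autoImplicit false
set_option linter.style.haveILetI false
universe u
open CategoryTheory CategoryTheory.Limits AlgebraicGeometry

namespace Groth.Agent.H22.CdIsoL

open Groth.Agent.H82.HHA (abMap)
open Groth.Agent.H22.SerreH1 (toAbF constZ)
open Groth.Agent.H82.HHFinite (δ δ_exact δ_map)

variable {X : Scheme.{u}}

/-- `H^n(g)` is bijective when `H^n(X₁) = H^{n+1}(X₁) = 0`. -/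
theorem bijective_map_g (S : ShortComplex X.Modules) (hS : S.ShortExact) (n : ℕ)
    (h1 : Subsingleton (Coh.HH X S.X₁ n)) (h2 : Subsingleton (Coh.HH X S.X₁ (n + 1))) :
    Function.Bijective (Sheaf.H.map (abMap S.g) n) := by
  constructor
  · rw [injective_iff_map_eq_zero]
    intro x hx
    obtain ⟨x₁, hx₁⟩ :=
      Abelian.Ext.covariant_sequence_exact₂ (constZ X) (hS.map_of_exact (toAbF X)) x hx
    have : x₁ = 0 := @Subsingleton.elim (Coh.HH X S.X₁ n) h1 x₁ 0
    rw [← hx₁, this]
    exact Abelian.Ext.zero_comp ..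
  · intro x₃
    exact δ_exact S hS n x₃ (@Subsingleton.elim (Coh.HH X S.X₁ (n + 1)) h2 _ _)

/-- `H^{n+1}(f)` is bijective when `H^n(X₃) = H^{n+1}(X₃) = 0`. -/
theorem bijective_map_f (S : ShortComplex X.Modules) (hS : S.ShortExact) (n : ℕ)
    (h3 : Subsingleton (Coh.HH X S.X₃ n)) (h4 : Subsingleton (Coh.HH X S.X₃ (n + 1))) :
    Function.Bijective (Sheaf.H.map (abMap S.f) (n + 1)) := by
  constructor
  · rw [injective_iff_map_eq_zero]
    intro x hx
    obtain ⟨x₃, hx₃⟩ :=
      Abelian.Ext.covariant_sequence_exact₁ (constZ X) (hS.map_of_exact (toAbF X)) x hx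
        (n₀ := n) rfl
    have : x₃ = 0 := @Subsingleton.elim (Coh.HH X S.X₃ n) h3 x₃ 0
    rw [← hx₃, this]
    exact Abelian.Ext.zero_comp ..
  · intro x₂
    exact Abelian.Ext.covariant_sequence_exact₂ (constZ X) (hS.map_of_exact (toAbF X)) x₂
      (@Subsingleton.elim (Coh.HH X S.X₃ (n + 1)) h4 _ _)

/-- an isomorphism of modules induces an additive equivalence on cohomology -/
noncomputable def addEquivOfIso {K K' : X.Modules} (e : K ≅ K') (i : ℕ) :
    Coh.HH X K i ≃+ Coh.HH X K' i :=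
  { Sheaf.H.map (abMap e.hom) i with
    invFun := Sheaf.H.map (abMap e.inv) i
    left_inv := fun z => by
      change Sheaf.H.map (abMap e.inv) i (Sheaf.H.map (abMap e.hom) i z) = z
      rw [← Sheaf.H.map_comp_apply]
      have : abMap e.hom ≫ abMap e.inv = 𝟙 _ := ((toAbF X).mapIso e).hom_inv_id
      rw [this, Sheaf.H.map_id_apply]
    right_inv := fun z => by
      change Sheaf.H.map (abMap e.hom) i (Sheaf.H.map (abMap e.inv) i z) = z
      rw [← Sheaf.H.map_comp_apply]
      have : abMap e.inv ≫ abMap e.hom = 𝟙 _ := ((toAbF X).mapIso e).inv_hom_id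
      rw [this, Sheaf.H.map_id_apply] }

/-- (L) -/
theorem nonempty_addEquiv_of_ker_coker (X : Scheme.{u}) {A B : X.Modules} (f : A ⟶ B) (j : ℕ)
    (h1 : Subsingleton (Coh.HH X (kernel f) (j + 1))) (h2 : Subsingleton (Coh.HH X (kernel f) (j + 2)))
    (h3 : Subsingleton (Coh.HH X (cokernel f) j)) (h4 : Subsingleton (Coh.HH X (cokernel f) (j + 1))) :
    Nonempty (Coh.HH X A (j + 1) ≃+ Coh.HH X B (j + 1)) := by
  let S1 : ShortComplex X.Modules :=
    ShortComplex.mk (kernel.ι f) (cokernel.π (kernel.ι f)) (cokernel.condition _)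
  have hS1 : S1.ShortExact :=
    { exact := ShortComplex.exact_of_g_is_cokernel _ (cokernelIsCokernel _)
      mono_f := inferInstanceAs (Mono (kernel.ι f))
      epi_g := inferInstanceAs (Epi (cokernel.π (kernel.ι f))) }
  let S2 : ShortComplex X.Modules :=
    ShortComplex.mk (kernel.ι (cokernel.π f)) (cokernel.π f) (kernel.condition _)
  have hS2 : S2.ShortExact :=
    { exact := ShortComplex.exact_of_f_is_kernel _ (kernelIsKernel _)
      mono_f := inferInstanceAs (Mono (kernel.ι (cokernel.π f)))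
      epi_g := inferInstanceAs (Epi (cokernel.π f)) }
  have b1 := bijective_map_g S1 hS1 (j + 1) h1 h2
  have b2 := bijective_map_f S2 hS2 j h3 h4
  exact ⟨(AddEquiv.ofBijective (Sheaf.H.map (abMap S1.g) (j + 1)) b1).trans <|
    (addEquivOfIso (Abelian.coimageIsoImage f) (j + 1)).trans
      (AddEquiv.ofBijective (Sheaf.H.map (abMap S2.f) (j + 1)) b2)⟩

end Groth.Agent.H22.CdIsoL
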