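import Groth.Agent.S0012
import Groth.Agent.H36.IdealMulAffine
import Groth.Agent.H8.ClosedImmUnit
import Groth.Agent.H8.PullbackStalk
import Groth.Agent.H8.QCohPush
import Groth.Agent.H18.Serre.Generation
import Groth.Agent.H82.HHAction
import Groth.Agent.H22.SerreH1

/-!
# A quasi-coherent module killed by the ideal of `Z` has no cohomology above `cd Z`
-/

set_option autoImplicit false
set_option linter.style.haveILetI false
universe u
open CategoryTheory CategoryTheory.Limits AlgebraicGeometry TensorProduct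

namespace Groth.Agent.H22.CdIsoV1

open Groth.Agent.H82.HHA (abMap)

/-- an isomorphism of modules transports vanishing of cohomology -/
theorem subsingleton_HH_of_iso {X : Scheme.{u}} {K K' : X.Modules} (e : K ≅ K') (i : ℕ)
    (h : Subsingleton (Coh.HH X K' i)) : Subsingleton (Coh.HH X K i) := by
  have hinj : Function.Injective (Sheaf.H.map (abMap e.hom) i) := by
    intro x y hxy
    have key : ∀ z : Coh.HH X K i, Sheaf.H.map (abMap e.inv) i (Sheaf.H.map (abMap e.hom) i z) = z := by
      intro z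
      rw [← Sheaf.H.map_comp_apply]
      have : abMap e.hom ≫ abMap e.inv = 𝟙 _ :=
        ((Groth.Agent.H22.SerreH1.toAbF X).mapIso e).hom_inv_id
      rw [this, Sheaf.H.map_id_apply]
    rw [← key x, ← key y, hxy]
  exact hinj.subsingleton

/-- the unit `K ⟶ i_* i^* K` is an epimorphism for a closed immersion and quasi-coherent `K` -/
theorem epi_unitJ {X : Scheme.{u}} (J : X.IdealSheafData) (K : X.Modules) [K.IsQuasicoherent] :
    Epi (Groth.Agent.H36.IdealMul.unitJ J K) := by
  have hcov : TopologicalSpace.IsOpenCover (fun i : X.affineOpens => (i : X.Opens)) :=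
    iSup_affineOpens_eq_top X
  have haff : ∀ i : X.affineOpens, IsAffineOpen (i : X.Opens) := fun i => i.2
  haveI h1 : ((Scheme.Modules.pullback J.subschemeι).obj K).IsQuasicoherent :=
    Groth.Agent.H8.isQuasicoherent_pullback _ _
  haveI : ((Scheme.Modules.pullback J.subschemeι ⋙
      Scheme.Modules.pushforward J.subschemeι).obj K).IsQuasicoherent :=
    Groth.Agent.H8.isQuasicoherent_pushforward J.subschemeι _
  refine Groth.Agent.H18.Serre.epi_of_surjective_affine_cover _ _ hcov haff (fun W a => ?_)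
  letI := (J.subschemeι.appLE W.1 (J.subschemeι ⁻¹ᵁ W.1) le_rfl).hom.toAlgebra
  obtain ⟨E, hE⟩ := Groth.Agent.H8.exists_unit_app_equiv J.subschemeι K W
  have hsurj := Groth.Agent.H8.algebraMap_surjective_of_isClosedImmersion J.subschemeι W
  -- every element of `B ⊗ M` is `1 ⊗ m`
  have key : ∀ z : TensorProduct Γ(X, W.1) Γ(J.subscheme, J.subschemeι ⁻¹ᵁ W.1) Γ(K, W.1),
      ∃ m : Γ(K, W.1), z = (1 : Γ(J.subscheme, J.subschemeι ⁻¹ᵁ W.1)) ⊗ₜ[Γ(X, W.1)] m := by
    intro z
    induction z using TensorProduct.induction_on with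
    | zero => exact ⟨0, (TensorProduct.tmul_zero _ _).symm⟩
    | tmul b m =>
      obtain ⟨a, rfl⟩ := hsurj b
      refine ⟨a • m, ?_⟩
      rw [TensorProduct.tmul_smul, TensorProduct.smul_tmul', Algebra.smul_def, mul_one]
    | add x y hx hy =>
      obtain ⟨m, rfl⟩ := hx
      obtain ⟨n, rfl⟩ := hy
      exact ⟨m + n, (TensorProduct.tmul_add _ _ _).symm⟩
  obtain ⟨m, hm⟩ := key (E a)
  refine ⟨m, ?_⟩
  apply E.injective
  rw [hm]
  exact hE m

/-- (V1) module killed by the ideal of `Z` has no cohomology above `k` -/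
theorem subsingleton_HH_of_idealMul_eq_zero (X : Scheme.{u}) [IsNoetherian X] {Z : Scheme.{u}}
    (ι : Z ⟶ X) [IsClosedImmersion ι] (k : ℕ)
    (hcd : ∀ G : Z.Modules, Coh.IsQCoh G → ∀ i : ℕ, k + 1 ≤ i → Subsingleton (Coh.HH Z G i))
    (K : X.Modules) (hK : Coh.IsQCoh K)
    (hJK : ∀ (W : X.Opens) (s : Γ((Dual3.idealMul ι.ker).obj K, W)), s = 0)
    (i : ℕ) (hi : k + 1 ≤ i) : Subsingleton (Coh.HH X K i) := by
  haveI : K.IsQuasicoherent := hK
  haveI : Epi (Groth.Agent.H36.IdealMul.unitJ ι.ker K) := epi_unitJ ι.ker K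
  haveI : Mono (Groth.Agent.H36.IdealMul.unitJ ι.ker K) := by
    apply Preadditive.mono_of_kernel_zero
    change Dual3.idealMulι ι.ker K = 0
    ext W s
    rw [hJK W s]
    simp
  haveI : IsIso (Groth.Agent.H36.IdealMul.unitJ ι.ker K) := isIso_of_mono_of_epi _
  refine subsingleton_HH_of_iso (asIso (Groth.Agent.H36.IdealMul.unitJ ι.ker K)) i ?_
  haveI hq : Coh.IsQCoh ((Scheme.Modules.pullback ι.ker.subschemeι).obj K) :=
    Groth.Agent.H8.isQuasicoherent_pullback _ _
  obtain ⟨e1⟩ := Groth.Agent.S0012.result ι.ker.subschemeι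
    ((Scheme.Modules.pullback ι.ker.subschemeι).obj K) i
  haveI : Coh.IsQCoh ((Scheme.Modules.pushforward (inv ι.toImage)).obj
      ((Scheme.Modules.pullback ι.ker.subschemeι).obj K)) :=
    Groth.Agent.H8.isQuasicoherent_pushforward _ _
  obtain ⟨e2⟩ := Groth.Agent.S0012.result (inv ι.toImage)
    ((Scheme.Modules.pullback ι.ker.subschemeι).obj K) i
  haveI := hcd _ (Groth.Agent.H8.isQuasicoherent_pushforward (inv ι.toImage)
    ((Scheme.Modules.pullback ι.ker.subschemeι).obj K)) i hi
  haveI : Subsingleton (Coh.HH ι.ker.subscheme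
      ((Scheme.Modules.pullback ι.ker.subschemeι).obj K) i) := e2.injective.subsingleton
  exact e1.symm.injective.subsingleton

end Groth.Agent.H22.CdIsoV1
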