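import Mathlib
import Groth.Prelude.Def_Coh
import Groth.Prelude.Def_CohB1

/-!
# The support of the pushforward along a closed immersion lies in its range
-/

set_option autoImplicit false
set_option linter.style.haveILetI false
universe u
open CategoryTheory CategoryTheory.Limits AlgebraicGeometry Opposite

namespace Groth.Agent.H22.ChevSUPP

/-- sections of a module over the empty open are trivial -/
theorem subsingleton_sections_of_eq_bot {Z : Scheme.{u}} (H : Z.Modules) (W : Z.Opens)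
    (hW : W = ⊥) : Subsingleton Γ(H, W) := by
  have hT : IsTerminal ((Coh.toAb H).obj.obj (op W)) :=
    TopCat.Sheaf.isTerminalOfEqEmpty (Coh.toAb H) hW
  have hZ : IsZero ((Coh.toAb H).obj.obj (op W)) := by
    rw [IsZero.iff_id_eq_zero]
    exact hT.hom_ext _ _
  exact AddCommGrpCat.subsingleton_of_isZero hZ

theorem support_push_subset_range {Z X : Scheme.{u}} (i : Z ⟶ X) [IsClosedImmersion i]
    (H : Z.Modules) : CohB1.support ((Coh.push i).obj H) ⊆ Set.range ⇑i := by
  intro x hx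
  by_contra hxr
  apply hx
  have hcl : IsClosed (Set.range ⇑i) := i.isClosedEmbedding.isClosed_range
  let U : X.Opens := ⟨(Set.range ⇑i)ᶜ, hcl.isOpen_compl⟩
  have hxU : x ∈ U := hxr
  refine ⟨fun a b => ?_⟩
  obtain ⟨Va, hxVa, sa, rfl⟩ := TopCat.Presheaf.exists_germ_eq _ a
  obtain ⟨Vb, hxVb, sb, rfl⟩ := TopCat.Presheaf.exists_germ_eq _ b
  let W : X.Opens := Va ⊓ Vb ⊓ U
  have hxW : x ∈ W := ⟨⟨hxVa, hxVb⟩, hxU⟩
  have hWa : W ≤ Va := inf_le_left.trans inf_le_left
  have hWb : W ≤ Vb := inf_le_left.trans inf_le_right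
  have hbot : i ⁻¹ᵁ W = ⊥ := by
    rw [eq_bot_iff]
    intro z hz
    exact (hz.2 ⟨z, rfl⟩).elim
  haveI : Subsingleton Γ((Coh.push i).obj H, W) :=
    subsingleton_sections_of_eq_bot H (i ⁻¹ᵁ W) hbot
  rw [← TopCat.Presheaf.germ_res_apply _ (homOfLE hWa) x hxW sa,
    ← TopCat.Presheaf.germ_res_apply _ (homOfLE hWb) x hxW sb]
  congr 1
  exact Subsingleton.elim _ _

end Groth.Agent.H22.ChevSUPP
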