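import Mathlib

/-!
# `(CFACT)`: a field-valued point landing in a closed subscheme factors through it
-/

set_option autoImplicit false
universe u
open AlgebraicGeometry CategoryTheory Limits

namespace Groth.Agent.H22.ConnCountCFACT

theorem exists_factor_of_isClosedImmersion {Y' Y : Scheme.{u}} (i : Y' ⟶ Y) [IsClosedImmersion i]
    {K : Type u} [Field K] (q : Spec (CommRingCat.of K) ⟶ Y) (hq : ∀ t, q t ∈ Set.range i) :
    ∃ q' : Spec (CommRingCat.of K) ⟶ Y', q' ≫ i = q := by
  haveI : Surjective (pullback.snd i q) := by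
    refine ⟨fun t => ?_⟩
    obtain ⟨w, hw⟩ := hq t
    obtain ⟨z, -, hz⟩ := Scheme.Pullback.exists_preimage_pullback w t hw
    exact ⟨z, hz⟩
  haveI : IsIso (pullback.snd i q) := isIso_of_isClosedImmersion_of_surjective _
  refine ⟨inv (pullback.snd i q) ≫ pullback.fst i q, ?_⟩
  rw [Category.assoc, pullback.condition, IsIso.inv_hom_id_assoc]

end Groth.Agent.H22.ConnCountCFACT
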