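import Mathlib

/-!
# `(CIRR)`: a closed subscheme with range `closure {y}` is irreducible with generic point over `y`
-/

set_option autoImplicit false
universe u
open AlgebraicGeometry CategoryTheory Limits

namespace Groth.Agent.H22.ConnCountCIRR

theorem exists_irreducibleSpace_of_range_eq_closure {Y' Y : Scheme.{u}} (i : Y' ⟶ Y)
    [IsClosedImmersion i] (y : Y) (h : Set.range i = closure {y}) :
    ∃ (_ : IrreducibleSpace ↥Y'), i (genericPoint ↥Y') = y := by
  have hemb : Topology.IsClosedEmbedding i := i.isClosedEmbedding
  have hy : y ∈ Set.range i := by rw [h]; exact subset_closure rfl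
  obtain ⟨y', rfl⟩ := hy
  -- closure {y'} = univ
  have hcl : closure ({y'} : Set Y') = Set.univ := by
    have h1 : closure (i '' {y'}) = i '' closure ({y'} : Set Y') :=
      hemb.closure_image_eq _
    rw [Set.image_singleton, ← h, ← Set.image_univ] at h1
    exact (hemb.injective.image_injective h1).symm
  have hirr : IsIrreducible (Set.univ : Set Y') := by
    rw [← hcl]
    exact isIrreducible_singleton.closure
  have hI : IrreducibleSpace Y' :=
    { isPreirreducible_univ := hirr.2
      toNonempty := ⟨y'⟩ }
  refine ⟨hI, ?_⟩
  have hg : IsGenericPoint y' (⊤ : Set Y') := hcl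
  rw [(genericPoint_spec Y').eq hg]

end Groth.Agent.H22.ConnCountCIRR
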