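import Mathlib

/-!
# `(COPEN)`: images of opens of a closed subscheme with range `closure {y}` are relatively open
-/

set_option autoImplicit false
universe u
open AlgebraicGeometry CategoryTheory Limits

namespace Groth.Agent.H22.ConnCountCOPEN

theorem isOpen_preimage_val_image {Y' Y : Scheme.{u}} (i : Y' ⟶ Y) [IsClosedImmersion i] (y : Y)
    (h : Set.range i = closure {y}) (V' : Y'.Opens) :
    IsOpen (Subtype.val ⁻¹' (i '' (V' : Set Y')) : Set ↑(closure ({y} : Set ↑Y))) := by
  have hind : Topology.IsInducing i := i.isEmbedding.isInducing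
  obtain ⟨U, hU, hUV⟩ := hind.isOpen_iff.mp V'.2
  have : (Subtype.val ⁻¹' (i '' (V' : Set Y')) : Set ↑(closure ({y} : Set ↑Y))) =
      Subtype.val ⁻¹' U := by
    ext ⟨z, hz⟩
    simp only [Set.mem_preimage, Set.mem_image]
    constructor
    · rintro ⟨w, hw, rfl⟩
      have : w ∈ i ⁻¹' U := by rw [hUV]; exact hw
      exact this
    · intro hzU
      rw [← h] at hz
      obtain ⟨w, rfl⟩ := hz
      refine ⟨w, ?_, rfl⟩
      have : w ∈ i ⁻¹' U := hzU
      rw [hUV] at this
      exact this
  rw [this]
  exact hU.preimage continuous_subtype_val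

end Groth.Agent.H22.ConnCountCOPEN
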