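import Mathlib
import Groth.Agent.H22.FTExt
import Groth.Agent.H22.GenLocus
import Groth.Agent.H8.Coh

/-!
# Subsheaves given on an open subscheme (helper22)

* `SubSh.range i`: the image of a monomorphism, sectionwise.
* `SubSh.ext U L`: the canonical extension to `X` of a subsheaf `L` of `F|_U`.
* `SubSh.exists_iso_of_mem_iff`: identifying the restriction of `K.toModules` to `U`.
-/

set_option autoImplicit false
set_option linter.style.haveILetI false
set_option linter.unusedSectionVars false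
universe u
open CategoryTheory CategoryTheory.Limits AlgebraicGeometry TopologicalSpace Opposite

namespace Groth.Agent.H22

open Groth.Agent.H8 Groth.Agent.H22.QCohLimits

namespace SubSh

section Range

variable {Y : Scheme.{u}} {G H : Y.Modules} (i : G ⟶ H) [Mono i]

/-- The image of a monomorphism, as a sectionwise subsheaf. -/
noncomputable def range : SubSh H where
  mem O z := z ∈ Set.range (i.app O)
  zero_mem O := ⟨0, by rw [map_zero]⟩
  add_mem O x y := by
    rintro ⟨a, rfl⟩ ⟨b, rfl⟩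
    exact ⟨a + b, by rw [map_add]⟩
  smul_mem O r x := by
    rintro ⟨a, rfl⟩
    exact ⟨r • a, Scheme.Modules.Hom.app_smul i r a⟩
  res_mem h x := by
    rintro ⟨a, rfl⟩
    exact ⟨G.presheaf.map (homOfLE h).op a, app_res i h a⟩
  local_mem O z hz := by
    let S : ShortComplex Y.Modules := ShortComplex.mk i (cokernel.π i) (cokernel.condition i)
    have hS : S.Exact := ShortComplex.exact_of_g_is_cokernel S (cokernelIsCokernel i)
    haveI : Mono S.f := ‹Mono i›
    refine exists_app_eq_of_exact S hS O z ?_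
    refine section_eq_of_cover (cokernel i) _ 0 (fun p hp => ?_)
    obtain ⟨B, hB, hpB, a, ha⟩ := hz p hp
    refine ⟨B, hB, hpB, ?_⟩
    rw [map_zero, ← app_res, ← ha]
    exact app_comp_eq_zero S B a

lemma mem_range {O : Y.Opens} {z : Γ(H, O)} : (range i).mem O z ↔ z ∈ Set.range (i.app O) :=
  Iff.rfl

theorem range_QC [G.IsQuasicoherent] : (range i).QC := by
  intro A hA a y hy
  obtain ⟨y', rfl⟩ := hy
  obtain ⟨n, x', hx'⟩ := exists_smul_eq_res hA G a y'
  refine ⟨n, i.app A x', ⟨x', rfl⟩, ?_⟩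
  rw [← Scheme.Modules.Hom.app_smul, hx', app_res]

theorem range_fg (O : Y.Opens) (h : Module.Finite Γ(Y, O) Γ(G, O)) : ((range i).sub O).FG := by
  have h1 : (range i).sub O = LinearMap.range (appₗ i O) := by
    ext z
    exact Iff.rfl
  rw [h1, LinearMap.range_eq_map]
  exact Module.Finite.fg_top.map _

end Range

section Ext

variable {X : Scheme.{u}} {F : X.Modules} (U : X.Opens) (L : SubSh (F.restrict U.ι))

/-- The canonical extension to `X` of a subsheaf of `F|_U`. -/
noncomputable def ext : SubSh F where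
  mem A x := ∀ (O : U.toScheme.Opens) (h : U.ι ''ᵁ O ≤ A),
    L.mem O (F.presheaf.map (homOfLE h).op x)
  zero_mem A := fun O h => by
    rw [map_zero]
    exact L.zero_mem O
  add_mem A x y hx hy := fun O h => by
    rw [map_add]
    exact L.add_mem O _ _ (hx O h) (hy O h)
  smul_mem A r x hx := fun O h => by
    rw [res_smul]
    have h1 := L.smul_mem O (show Γ(↑U, O) from X.presheaf.map (homOfLE h).op r)
      (show Γ(F.restrict U.ι, O) from F.presheaf.map (homOfLE h).op x) (hx O h)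
    exact Eq.mp (congrArg (L.mem O) (GenLocus.smul_restrict_ι F O _ _)) h1
  res_mem {A B} hBA x hx := fun O h => by
    rw [res_res]
    exact hx O (h.trans hBA)
  local_mem A x hx := fun O h => by
    apply L.local_mem
    intro q hq
    have hp : U.ι q ∈ A := h ⟨q, hq, rfl⟩
    obtain ⟨B, hBA, hpB, hB⟩ := hx _ hp
    have h' : U.ι ''ᵁ (O ⊓ U.ι ⁻¹ᵁ B) ≤ B :=
      (U.ι.image_mono inf_le_right).trans (U.ι.image_preimage_le B)
    refine ⟨O ⊓ U.ι ⁻¹ᵁ B, inf_le_left, ⟨hq, hpB⟩, ?_⟩
    have e1 : (F.restrict U.ι).presheaf.map (homOfLE (inf_le_left : O ⊓ U.ι ⁻¹ᵁ B ≤ O)).op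
        (F.presheaf.map (homOfLE h).op x) = F.presheaf.map (homOfLE (h'.trans hBA)).op x :=
      res_res F (U.ι.image_mono inf_le_left) h x
    rw [e1]
    have h2 := hB _ h'
    rw [res_res] at h2
    exact h2

lemma mem_ext_image (O : U.toScheme.Opens) (x : Γ(F, U.ι ''ᵁ O)) :
    (ext U L).mem (U.ι ''ᵁ O) x ↔ L.mem O x := by
  constructor
  · intro h
    have h1 := h O le_rfl
    rw [res_self'] at h1
    exact h1
  · intro h O' h'
    have hO' : O' ≤ O := (U.ι.image_le_image_iff O' O).mp h'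
    exact L.res_mem hO' x h

lemma ext_isSat : (ext U L).IsSat U := by
  intro A x h O hO
  have h' : U.ι ''ᵁ O ≤ A ⊓ U := le_inf hO (U.ι_image_le O)
  have h1 := h O h'
  rw [res_res] at h1
  exact h1

lemma image_basicOpen' (O : U.toScheme.Opens) (b : Γ(X, U.ι ''ᵁ O)) :
    U.ι ''ᵁ (U.toScheme.basicOpen (show Γ(↑U, O) from b)) = X.basicOpen b := by
  have h := Scheme.image_basicOpen U.ι (show Γ(↑U, O) from b)
  rw [Scheme.Opens.ι_appIso] at h
  exact h

lemma smul_pow_restrict_ι (O : U.toScheme.Opens) (b : Γ(X, U.ι ''ᵁ O)) (n : ℕ)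
    (W : U.toScheme.Opens) (hW : W ≤ O)
    (y : Γ(F, U.ι ''ᵁ W)) :
    ((↑U : Scheme.{u}).presheaf.map (homOfLE hW).op (show Γ(↑U, O) from b)) ^ n •
      (show Γ(F.restrict U.ι, W) from y) =
    (X.presheaf.map (homOfLE (U.ι.image_mono hW)).op b) ^ n • y := by
  induction n generalizing y with
  | zero =>
    rw [pow_zero, pow_zero, one_smul, one_smul]
  | succ n ih =>
    rw [pow_succ, pow_succ, mul_smul, mul_smul, ← ih]
    congr 1
    exact GenLocus.smul_restrict_ι F W (X.presheaf.map (homOfLE (U.ι.image_mono hW)).op b) y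

theorem ext_QCOn (hL : L.QC) : (ext U L).QCOn U := by
  intro B hB hBU b y hy
  obtain ⟨O, rfl⟩ := GenLocus.exists_eq_image hBU
  have hO : IsAffineOpen O := (U.ι.isAffineOpen_iff_of_isOpenImmersion).mp hB
  have e := image_basicOpen' U O b
  have hy₂ := hy _ e.le
  obtain ⟨n, x, hx, hxy⟩ := hL O hO (show Γ(↑U, O) from b) _ hy₂
  refine ⟨n, x, (mem_ext_image U L O x).mpr hx, ?_⟩
  have hxy' := (smul_pow_restrict_ι U O b n _ (U.toScheme.basicOpen_le (show Γ(↑U, O) from b))
    (F.presheaf.map (homOfLE e.le).op y)).symm.trans hxy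
  have h3 := congrArg (F.presheaf.map (homOfLE e.ge).op) hxy'
  rw [res_smul, map_pow, ringRes_res, res_res] at h3
  rw [res_self'] at h3
  refine h3.trans ?_
  exact res_res F e.ge (U.ι.image_mono (U.toScheme.basicOpen_le (show Γ(↑U, O) from b))) x

theorem ext_fg (O : U.toScheme.Opens) (h : (L.sub O).FG) :
    ((ext U L).sub (U.ι ''ᵁ O)).FG := by
  obtain ⟨n, g, hg⟩ := Submodule.fg_iff_exists_fin_generating_family.mp h
  have hgL : ∀ j, L.mem O (g j) := fun j => by
    have h1 : g j ∈ L.sub O := by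
      rw [← hg]
      exact Submodule.subset_span ⟨j, rfl⟩
    exact h1
  obtain ⟨φ, hφ0, hφadd, hφsmul, hφmem, hφmem'⟩ :
      ∃ φ : Γ(F.restrict U.ι, O) → Γ(F, U.ι ''ᵁ O),
      φ 0 = 0 ∧ (∀ a b, φ (a + b) = φ a + φ b) ∧
      (∀ (r : Γ(↑U, O)) a, φ (r • a) = (show Γ(X, U.ι ''ᵁ O) from r) • φ a) ∧
      (∀ a, L.mem O a → (ext U L).mem (U.ι ''ᵁ O) (φ a)) ∧
      (∀ x, (ext U L).mem (U.ι ''ᵁ O) x → ∃ a, L.mem O a ∧ φ a = x) :=
    ⟨fun a => a, rfl, fun _ _ => rfl, fun r a => GenLocus.smul_restrict_ι F O r a,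
      fun a ha => (mem_ext_image U L O a).mpr ha,
      fun x hx => ⟨x, (mem_ext_image U L O x).mp hx, rfl⟩⟩
  have key : ∀ x' : Γ(F.restrict U.ι, O), x' ∈ Submodule.span Γ(↑U, O) (Set.range g) →
      φ x' ∈ Submodule.span Γ(X, U.ι ''ᵁ O) (Set.range (fun j => φ (g j))) := by
    intro x' hx'
    induction hx' using Submodule.span_induction with
    | mem y hy =>
      obtain ⟨j, rfl⟩ := hy
      exact Submodule.subset_span ⟨j, rfl⟩
    | zero =>
      rw [hφ0]
      exact Submodule.zero_mem _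
    | add y z _ _ hy hz =>
      rw [hφadd]
      exact Submodule.add_mem _ hy hz
    | smul r y _ hy =>
      rw [hφsmul]
      exact Submodule.smul_mem _ _ hy
  refine Submodule.fg_iff_exists_fin_generating_family.mpr ⟨n, fun j => φ (g j), ?_⟩
  apply le_antisymm
  · rw [Submodule.span_le]
    rintro _ ⟨j, rfl⟩
    exact hφmem _ (hgL j)
  · intro x hx
    obtain ⟨a, ha, rfl⟩ := hφmem' x hx
    have ha' : a ∈ L.sub O := ha
    rw [← hg] at ha'
    exact key a ha'

/-- If the sections of `K` over the opens of `U` are exactly the image of `i`, the restriction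
of `K.toModules` to `U` is isomorphic to the source of `i`, compatibly with the inclusions. -/
theorem exists_iso_of_mem_iff {G : U.toScheme.Modules} (i : G ⟶ F.restrict U.ι) [Mono i]
    (K : SubSh F)
    (h : ∀ (O : U.toScheme.Opens) (x : Γ(F, U.ι ''ᵁ O)),
      K.mem (U.ι ''ᵁ O) x ↔ x ∈ Set.range (i.app O)) :
    ∃ e : K.toModules.restrict U.ι ≅ G,
      e.hom ≫ i = (Scheme.Modules.restrictFunctor U.ι).map K.ι := by
  obtain ⟨ρ, hρdef⟩ : ∃ ρ, ρ = (Scheme.Modules.restrictFunctor U.ι).map K.ι := ⟨_, rfl⟩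
  have hρ : ∀ (O : U.toScheme.Opens) (z : Γ(K.toModules.restrict U.ι, O)),
      ρ.app O z = K.ι.app (U.ι ''ᵁ O) z := fun O z => by
    rw [hρdef]
    rfl
  have hzero : ρ ≫ cokernel.π i = 0 := by
    refine Scheme.Modules.hom_ext _ _ (fun O => ?_)
    ext z
    obtain ⟨y, hy⟩ := (h O _).mp (K.ι_app_mem (U.ι ''ᵁ O) z)
    show (cokernel.π i).app O (ρ.app O z) = 0
    rw [hρ, ← hy]
    exact app_comp_eq_zero (ShortComplex.mk i (cokernel.π i) (cokernel.condition i)) O y
  obtain ⟨θ, hθdef⟩ : ∃ θ, θ = Abelian.monoLift i ρ hzero := ⟨_, rfl⟩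
  have hθ : θ ≫ i = ρ := by
    rw [hθdef]
    exact Abelian.monoLift_comp i ρ hzero
  have hθapp : ∀ (O : U.toScheme.Opens) (z : Γ(K.toModules.restrict U.ι, O)),
      i.app O (θ.app O z) = ρ.app O z := fun O z => by
    rw [← hθ]
    rfl
  have hbij : ∀ O : U.toScheme.Opens, Function.Bijective (θ.app O) := by
    intro O
    constructor
    · intro z z' hzz
      apply K.ι_app_injective (U.ι ''ᵁ O)
      have h1 : ρ.app O z = ρ.app O z' := by
        rw [← hθapp, ← hθapp, hzz]
      rw [hρ, hρ] at h1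
      exact h1
    · intro y
      obtain ⟨z, hz⟩ := K.exists_ι_app_eq ((h O _).mpr ⟨y, rfl⟩)
      refine ⟨z, app_injective_of_mono i O ?_⟩
      rw [hθapp, hρ]
      exact hz
  haveI : IsIso θ := by
    rw [Scheme.Modules.Hom.isIso_iff_isIso_app]
    intro O
    rw [ConcreteCategory.isIso_iff_bijective]
    exact hbij O
  refine ⟨asIso θ, ?_⟩
  rw [← hρdef]
  exact hθ

end Ext

end SubSh

end Groth.Agent.H22
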