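import Mathlib
import Groth.Prelude.Def_RelSpec
import Groth.Agent.H22.FTExt
import Groth.Agent.H22.FTExtOpen
import Groth.Agent.H22.QCohAbelian
import Groth.Agent.H22.QCohH1
import Groth.Agent.H8.QCohCriterion

/-!
# Quasi-coherent algebras of finite type are generated by a submodule of finite type (helper22)

* `toModule_isQuasicoherent`: the module underlying a quasi-coherent algebra is quasi-coherent.
* `SubSh.exists_sup`: sum of two quasi-coherent subsheaves of finite type.
* `SubSh.exists_through_sections`: a quasi-coherent subsheaf of finite type through finitely many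
  sections over finitely many affine opens (qcqs).
* `closure_eq_top_of_cover`: generation of the algebra, local to global.
-/

set_option autoImplicit false
set_option linter.style.haveILetI false
set_option linter.unusedSectionVars false
universe u
open CategoryTheory CategoryTheory.Limits AlgebraicGeometry TopologicalSpace Opposite

namespace Groth.Agent.H22

open Groth.Agent.H8 Groth.Agent.H22.QCohLimits Groth.Agent.H22.QCohAbelian

section ToModule

variable {X : Scheme.{u}} (B : RelSpec.QCAlg X)

/-- A section of the underlying module, as an element of the ring of sections. -/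
def toB (A : X.Opens) (m : Γ(B.toModule, A)) : B.presheaf.obj (op A) := m

/-- An element of the ring of sections, as a section of the underlying module. -/
def ofB (A : X.Opens) (b : B.presheaf.obj (op A)) : Γ(B.toModule, A) := b

lemma toB_injective (A : X.Opens) : Function.Injective (toB B A) := fun _ _ h => h

lemma toB_ofB (A : X.Opens) (b : B.presheaf.obj (op A)) : toB B A (ofB B A b) = b := rfl

lemma ofB_toB (A : X.Opens) (m : Γ(B.toModule, A)) : ofB B A (toB B A m) = m := rfl

lemma toB_zero (A : X.Opens) : toB B A 0 = 0 := rfl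

lemma toB_smul (A : X.Opens) (r : Γ(X, A)) (m : Γ(B.toModule, A)) :
    toB B A (r • m) = (B.str.app (op A)).hom r * toB B A m := rfl

lemma toB_res {A A' : X.Opens} (h : A' ≤ A) (m : Γ(B.toModule, A)) :
    toB B A' (B.toModule.presheaf.map (homOfLE h).op m) =
      (B.presheaf.map (homOfLE h).op).hom (toB B A m) := rfl

lemma str_res {A A' : X.Opens} (h : A' ≤ A) (r : Γ(X, A)) :
    (B.str.app (op A')).hom (X.presheaf.map (homOfLE h).op r) =
      (B.presheaf.map (homOfLE h).op).hom ((B.str.app (op A)).hom r) := by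
  have h1 := B.str.naturality (homOfLE h).op
  exact congrArg (fun ψ => ψ.hom r) h1

theorem toModule_isQuasicoherent : B.toModule.IsQuasicoherent := by
  refine isQuasicoherent_of_sections _ ?_ ?_
  · intro U hU a y
    letI := (B.presheaf.map (homOfLE (X.basicOpen_le a)).op).hom.toAlgebra
    haveI hloc : IsLocalization.Away ((B.str.app (op U)).hom a)
        (B.presheaf.obj (op (X.basicOpen a))) := B.isQC U hU a
    obtain ⟨n, x, hx⟩ := IsLocalization.Away.surj ((B.str.app (op U)).hom a)
      (toB B (X.basicOpen a) y)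
    have hx' : toB B (X.basicOpen a) y *
        ((B.presheaf.map (homOfLE (X.basicOpen_le a)).op).hom ((B.str.app (op U)).hom a)) ^ n =
        (B.presheaf.map (homOfLE (X.basicOpen_le a)).op).hom x := hx
    refine ⟨n, ofB B U x, toB_injective B _ ?_⟩
    rw [toB_smul, map_pow, str_res, toB_res, toB_ofB, mul_comm]
    exact hx'
  · intro U hU a x hx0
    letI := (B.presheaf.map (homOfLE (X.basicOpen_le a)).op).hom.toAlgebra
    haveI hloc : IsLocalization.Away ((B.str.app (op U)).hom a)
        (B.presheaf.obj (op (X.basicOpen a))) := B.isQC U hU a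
    have h0 : algebraMap (B.presheaf.obj (op U)) (B.presheaf.obj (op (X.basicOpen a)))
        (toB B U x) = algebraMap (B.presheaf.obj (op U)) (B.presheaf.obj (op (X.basicOpen a))) 0 := by
      rw [map_zero]
      have h1 := congrArg (toB B (X.basicOpen a)) hx0
      rw [toB_res] at h1
      exact h1
    obtain ⟨n, hn⟩ := IsLocalization.Away.exists_of_eq ((B.str.app (op U)).hom a) h0
    refine ⟨n, toB_injective B _ ?_⟩
    rw [toB_smul, map_pow, hn, mul_zero]
    rfl

end ToModule

namespace SubSh

section Sup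

variable {X : Scheme.{u}} {F : X.Modules}

/-- The zero subsheaf. -/
noncomputable def bot (F : X.Modules) : SubSh F where
  mem _ x := x = 0
  zero_mem _ := rfl
  add_mem _ x y hx hy := by rw [hx, hy, add_zero]
  smul_mem _ r x hx := by rw [hx, smul_zero]
  res_mem h x hx := by rw [hx, map_zero]
  local_mem A x hx := by
    refine section_eq_of_cover F x 0 (fun p hp => ?_)
    obtain ⟨B, hBA, hpB, hB⟩ := hx p hp
    exact ⟨B, hBA, hpB, by rw [hB, map_zero]⟩

lemma bot_QC : (bot F).QC := by
  intro A hA a y hy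
  refine ⟨0, 0, rfl, ?_⟩
  rw [hy, smul_zero, map_zero]

lemma bot_FTOn (V : X.Opens) : (bot F).FTOn V := by
  intro A hA _
  have h1 : (bot F).sub A = ⊥ := by
    rw [eq_bot_iff]
    intro x hx
    exact hx
  rw [h1]
  exact Submodule.fg_bot

variable [F.IsQuasicoherent]

/-- The sum of two quasi-coherent subsheaves of finite type. -/
theorem exists_sup (K₁ K₂ : SubSh F) (h₁ : K₁.QC) (h₂ : K₂.QC) (f₁ : K₁.FTOn ⊤)
    (f₂ : K₂.FTOn ⊤) :
    ∃ K : SubSh F, K.QC ∧ K.FTOn ⊤ ∧ (∀ (A : X.Opens) (x : Γ(F, A)), K₁.mem A x → K.mem A x) ∧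
      (∀ (A : X.Opens) (x : Γ(F, A)), K₂.mem A x → K.mem A x) := by
  haveI := K₁.isQuasicoherent_toModules h₁
  haveI := K₂.isQuasicoherent_toModules h₂
  haveI hMq : (K₁.toModules ⊞ K₂.toModules).IsQuasicoherent := isQuasicoherent_biprod _ _
  obtain ⟨φ, hφ⟩ : ∃ φ : K₁.toModules ⊞ K₂.toModules ⟶ F, φ = biprod.desc K₁.ι K₂.ι := ⟨_, rfl⟩
  haveI hIq : (Abelian.image φ).IsQuasicoherent := isQuasicoherent_image φ
  have hπj : Abelian.factorThruImage φ ≫ Abelian.image.ι φ = φ := Abelian.image.fac φ
  haveI : (kernel (Abelian.factorThruImage φ)).IsQuasicoherent :=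
    isQuasicoherent_kernel (Abelian.factorThruImage φ)
  refine ⟨range (Abelian.image.ι φ), range_QC (Abelian.image.ι φ), ?_, ?_, ?_⟩
  · intro A hA _
    refine range_fg (Abelian.image.ι φ) A ?_
    let S : ShortComplex X.Modules := ShortComplex.mk (kernel.ι (Abelian.factorThruImage φ))
      (Abelian.factorThruImage φ) (kernel.condition _)
    have hS : S.ShortExact :=
      { exact := ShortComplex.exact_of_f_is_kernel S (kernelIsKernel _)
        mono_f := inferInstanceAs (Mono (kernel.ι (Abelian.factorThruImage φ)))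
        epi_g := inferInstanceAs (Epi (Abelian.factorThruImage φ)) }
    haveI : S.X₁.IsQuasicoherent :=
      inferInstanceAs (kernel (Abelian.factorThruImage φ)).IsQuasicoherent
    have hsurj : Function.Surjective ((Abelian.factorThruImage φ).app A) :=
      QCohH1.app_surjective S hS hA
    haveI hfin1 : Module.Finite Γ(X, A) Γ(K₁.toModules, A) :=
      (K₁.finite_iff A).mpr (f₁ A hA le_top)
    haveI hfin2 : Module.Finite Γ(X, A) Γ(K₂.toModules, A) :=
      (K₂.finite_iff A).mpr (f₂ A hA le_top)
    have hfinM : Module.Finite Γ(X, A) Γ(K₁.toModules ⊞ K₂.toModules, A) := by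
      refine Module.Finite.of_surjective
        ((appₗ (biprod.inl : K₁.toModules ⟶ K₁.toModules ⊞ K₂.toModules) A).coprod
          (appₗ (biprod.inr : K₂.toModules ⟶ K₁.toModules ⊞ K₂.toModules) A)) ?_
      intro z
      refine ⟨((biprod.fst : K₁.toModules ⊞ K₂.toModules ⟶ K₁.toModules).app A z,
        (biprod.snd : K₁.toModules ⊞ K₂.toModules ⟶ K₂.toModules).app A z), ?_⟩
      rw [LinearMap.coprod_apply]
      exact biprod_total_app A z
    haveI := hfinM
    exact Module.Finite.of_surjective (appₗ (Abelian.factorThruImage φ) A) hsurj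
  · intro A x hx
    obtain ⟨y, hy⟩ := K₁.exists_ι_app_eq hx
    have e1 : (biprod.inl ≫ Abelian.factorThruImage φ) ≫ Abelian.image.ι φ = K₁.ι := by
      rw [Category.assoc, hπj, hφ, biprod.inl_desc]
    have e2 := congrArg (fun ψ : K₁.toModules ⟶ F => ψ.app A y) e1
    refine ⟨(Abelian.factorThruImage φ).app A
      ((biprod.inl : K₁.toModules ⟶ K₁.toModules ⊞ K₂.toModules).app A y), ?_⟩
    exact e2.trans hy
  · intro A x hx
    obtain ⟨y, hy⟩ := K₂.exists_ι_app_eq hx
    have e1 : (biprod.inr ≫ Abelian.factorThruImage φ) ≫ Abelian.image.ι φ = K₂.ι := by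
      rw [Category.assoc, hπj, hφ, biprod.inr_desc]
    have e2 := congrArg (fun ψ : K₂.toModules ⟶ F => ψ.app A y) e1
    refine ⟨(Abelian.factorThruImage φ).app A
      ((biprod.inr : K₂.toModules ⟶ K₁.toModules ⊞ K₂.toModules).app A y), ?_⟩
    exact e2.trans hy

/-- A quasi-coherent subsheaf of finite type through finitely many sections over one affine. -/
theorem exists_ft_through [CompactSpace X] [QuasiSeparatedSpace X] (W : X.affineOpens)
    {ι₀ : Type u} [Fintype ι₀] (t₀ : ι₀ → Γ(F, W.1)) :
    ∃ K : SubSh F, K.QC ∧ K.FTOn ⊤ ∧ ∀ i, K.mem W.1 (t₀ i) := by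
  obtain ⟨S, hSfin, hS⟩ := (isCompact_and_isOpen_iff_finite_and_eq_biUnion_affineOpens
    (X := X) (U := Set.univ)).mp ⟨isCompact_univ, isOpen_univ⟩
  have hcompU : ∀ A : X.Opens, IsAffineOpen A →
      IsCompact ((A ⊓ W.1 : X.Opens) : Set X) := fun A hA =>
    QuasiSeparatedSpace.inter_isCompact _ _ A.2 hA.isCompact W.1.2 W.2.isCompact
  have hbot : IsCompact (((⊥ : X.Opens) ⊓ W.1 : X.Opens) : Set X) := by
    have h1 : (((⊥ : X.Opens) ⊓ W.1 : X.Opens) : Set X) = ∅ := by simp
    rw [h1]
    exact isCompact_empty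
  obtain ⟨K₁, hK₁, -, -, hfg₁, hs₁⟩ := (top F).exists_shrink QC_top ⊥ (ftOn_bot _) W.1 W.2
    hbot hcompU t₀ (fun _ => trivial)
  have hft₁ : K₁.FTOn W.1 := K₁.ftOn_of_fg hK₁ W.2 hfg₁
  obtain ⟨K', hK', hle', hge', hft'⟩ :=
    exists_ft_of_list hSfin.toFinset.toList K₁ hK₁ W.1 W.2.isCompact hft₁
  have htop : W.1 ⊔ listSup hSfin.toFinset.toList = ⊤ := by
    rw [eq_top_iff]
    intro p _
    have hp : p ∈ (Set.univ : Set X) := trivial
    rw [hS] at hp
    obtain ⟨V, hV, hpV⟩ := Set.mem_iUnion₂.mp hp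
    exact Opens.mem_sup.mpr (Or.inr
      (le_listSup (Finset.mem_toList.mpr (hSfin.mem_toFinset.mpr hV)) hpV))
  rw [htop] at hft'
  exact ⟨K', hK', hft', fun i => hge' W.1 le_rfl _ (hs₁ i)⟩

/-- A quasi-coherent subsheaf of finite type through finitely many sections over finitely many
affine opens. -/
theorem exists_through_sections [CompactSpace X] [QuasiSeparatedSpace X]
    (t : ∀ W : X.affineOpens, Finset Γ(F, W.1)) (l : List X.affineOpens) :
    ∃ K : SubSh F, K.QC ∧ K.FTOn ⊤ ∧ ∀ W ∈ l, ∀ x ∈ t W, K.mem W.1 x := by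
  induction l with
  | nil => exact ⟨bot F, bot_QC, bot_FTOn ⊤, fun W hW => (List.not_mem_nil hW).elim⟩
  | cons W l ih =>
    obtain ⟨K₂, hK₂, hft₂, hmem₂⟩ := ih
    obtain ⟨K₁, hK₁, hft₁, hmem₁⟩ := exists_ft_through W (fun i : ↥(t W) => (i.1 : Γ(F, W.1)))
    obtain ⟨K, hK, hft, hle₁, hle₂⟩ := exists_sup K₁ K₂ hK₁ hK₂ hft₁ hft₂
    refine ⟨K, hK, hft, fun W' hW' x hx => ?_⟩
    rcases List.mem_cons.mp hW' with rfl | hW'l
    · exact hle₁ _ _ (hmem₁ ⟨x, hx⟩)
    · exact hle₂ _ _ (hmem₂ W' hW'l x hx)

end Sup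

end SubSh

section Generation

variable {X : Scheme.{u}} (B : RelSpec.QCAlg X) (K : SubSh B.toModule)

/-- The subring generated by the functions and the sections of `K`. -/
noncomputable def genRing (A : X.Opens) : Subring (B.presheaf.obj (op A)) :=
  Subring.closure (Set.range (B.str.app (op A)).hom ∪ {x | K.mem A (ofB B A x)})

lemma str_mem_genRing (A : X.Opens) (r : Γ(X, A)) : (B.str.app (op A)).hom r ∈ genRing B K A :=
  Subring.subset_closure (Or.inl ⟨r, rfl⟩)

lemma mem_genRing_of_mem (A : X.Opens) (x : B.presheaf.obj (op A)) (hx : K.mem A (ofB B A x)) :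
    x ∈ genRing B K A :=
  Subring.subset_closure (Or.inr hx)

lemma res_mem_genRing {A A' : X.Opens} (h : A' ≤ A) (x : B.presheaf.obj (op A))
    (hx : x ∈ genRing B K A) :
    (B.presheaf.map (homOfLE h).op).hom x ∈ genRing B K A' := by
  have h1 : genRing B K A ≤ (genRing B K A').comap (B.presheaf.map (homOfLE h).op).hom := by
    refine (Subring.closure_le (t := (genRing B K A').comap
      (B.presheaf.map (homOfLE h).op).hom)).mpr ?_
    rintro y (⟨r, rfl⟩ | hy)
    · show (B.presheaf.map (homOfLE h).op).hom ((B.str.app (op A)).hom r) ∈ genRing B K A'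
      rw [← str_res]
      exact str_mem_genRing B K A' _
    · show (B.presheaf.map (homOfLE h).op).hom y ∈ genRing B K A'
      exact mem_genRing_of_mem B K A' _ (K.res_mem h _ hy)
  exact h1 hx

/-- If the algebra is generated over the affine `W`, the same holds on the basic opens of `W`. -/
lemma genRing_eq_top_basicOpen {W : X.Opens} (hW : IsAffineOpen W) (hWtop : genRing B K W = ⊤)
    (g : Γ(X, W)) (D : X.Opens) (hD : D = X.basicOpen g) : genRing B K D = ⊤ := by
  subst hD
  rw [eq_top_iff]
  intro y _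
  letI := (B.presheaf.map (homOfLE (X.basicOpen_le g)).op).hom.toAlgebra
  haveI hloc : IsLocalization.Away ((B.str.app (op W)).hom g)
      (B.presheaf.obj (op (X.basicOpen g))) := B.isQC W hW g
  obtain ⟨n, x, hx⟩ := IsLocalization.Away.surj ((B.str.app (op W)).hom g) y
  have hx' : y * ((B.presheaf.map (homOfLE (X.basicOpen_le g)).op).hom
      ((B.str.app (op W)).hom g)) ^ n =
      (B.presheaf.map (homOfLE (X.basicOpen_le g)).op).hom x := hx
  have hunit : IsUnit (X.presheaf.map (homOfLE (X.basicOpen_le g)).op g) :=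
    X.toRingedSpace.isUnit_res_basicOpen g
  obtain ⟨v, hv⟩ := hunit.exists_left_inv
  have hxW : x ∈ genRing B K W := by
    rw [hWtop]
    trivial
  have h1 := res_mem_genRing B K (X.basicOpen_le g) x hxW
  rw [← hx', ← str_res] at h1
  have h2 : y = (y * ((B.str.app (op (X.basicOpen g))).hom
      (X.presheaf.map (homOfLE (X.basicOpen_le g)).op g)) ^ n) *
      ((B.str.app (op (X.basicOpen g))).hom v) ^ n := by
    rw [mul_assoc, ← mul_pow, ← map_mul, mul_comm _ v, hv, map_one, one_pow, mul_one]
  rw [h2]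
  exact Subring.mul_mem _ h1 (Subring.pow_mem _ (str_mem_genRing B K _ v) n)

/-- Clearing denominators in the generated subring. -/
lemma exists_pow_mul_mem {U : X.Opens} (hU : IsAffineOpen U) (hK : K.QC) (g : Γ(X, U))
    (c : B.presheaf.obj (op (X.basicOpen g))) (hc : c ∈ genRing B K (X.basicOpen g)) :
    ∃ (n : ℕ) (c' : B.presheaf.obj (op U)), c' ∈ genRing B K U ∧
      ((B.presheaf.map (homOfLE (X.basicOpen_le g)).op).hom ((B.str.app (op U)).hom g)) ^ n * c =
        (B.presheaf.map (homOfLE (X.basicOpen_le g)).op).hom c' := by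
  obtain ⟨ρ, hρ⟩ : ∃ ρ : B.presheaf.obj (op U) →+* B.presheaf.obj (op (X.basicOpen g)),
      ρ = (B.presheaf.map (homOfLE (X.basicOpen_le g)).op).hom := ⟨_, rfl⟩
  obtain ⟨G, hG⟩ : ∃ G : B.presheaf.obj (op U), G = (B.str.app (op U)).hom g := ⟨_, rfl⟩
  have hGmem : G ∈ genRing B K U := by
    rw [hG]
    exact str_mem_genRing B K U g
  have key : ∀ c : B.presheaf.obj (op (X.basicOpen g)), c ∈ genRing B K (X.basicOpen g) →
      ∃ (n : ℕ) (c' : B.presheaf.obj (op U)), c' ∈ genRing B K U ∧ (ρ G) ^ n * c = ρ c' := by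
    intro c hc
    induction hc using Subring.closure_induction with
    | mem x hx =>
      rcases hx with ⟨r, rfl⟩ | hx
      · obtain ⟨N, b, hb⟩ := SubSh.exists_pow_mul_eq_res hU g (fun _ : PUnit.{1} => r)
        refine ⟨N, (B.str.app (op U)).hom (b PUnit.unit), str_mem_genRing B K U _, ?_⟩
        rw [hρ, hG, ← str_res, ← str_res, ← map_pow, ← map_mul, hb PUnit.unit]
      · obtain ⟨n, x', hx', hxx⟩ := hK U hU g (ofB B _ x) hx
        refine ⟨n, toB B U x', mem_genRing_of_mem B K U _ hx', ?_⟩
        have h3 := congrArg (toB B (X.basicOpen g)) hxx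
        rw [toB_smul, map_pow, str_res, toB_res] at h3
        rw [hρ, hG]
        exact h3
    | zero => exact ⟨0, 0, Subring.zero_mem _, by rw [mul_zero, map_zero]⟩
    | one => exact ⟨0, 1, Subring.one_mem _, by rw [pow_zero, one_mul, map_one]⟩
    | add x y _ _ hx hy =>
      obtain ⟨n, x', hx', ex⟩ := hx
      obtain ⟨m, y', hy', ey⟩ := hy
      refine ⟨n + m, G ^ m * x' + G ^ n * y', Subring.add_mem _
        (Subring.mul_mem _ (Subring.pow_mem _ hGmem m) hx')
        (Subring.mul_mem _ (Subring.pow_mem _ hGmem n) hy'), ?_⟩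
      rw [map_add, map_mul, map_mul, map_pow, map_pow, ← ex, ← ey]
      ring
    | neg x _ hx =>
      obtain ⟨n, x', hx', ex⟩ := hx
      exact ⟨n, -x', Subring.neg_mem _ hx', by rw [map_neg, ← ex, mul_neg]⟩
    | mul x y _ _ hx hy =>
      obtain ⟨n, x', hx', ex⟩ := hx
      obtain ⟨m, y', hy', ey⟩ := hy
      refine ⟨n + m, x' * y', Subring.mul_mem _ hx' hy', ?_⟩
      rw [map_mul, ← ex, ← ey]
      ring
  obtain ⟨n, c', hc', e⟩ := key c hc
  refine ⟨n, c', hc', ?_⟩
  rw [← hρ, ← hG]
  exact e

/-- **Generation is local**: if the algebra is generated by the functions and the sections of the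
quasi-coherent subsheaf `K` over the members of an affine open cover, then it is so over every affine
open. -/
theorem genRing_eq_top_of_cover (hK : K.QC)
    (hcov : ∀ p : X, ∃ W : X.Opens, IsAffineOpen W ∧ p ∈ W ∧ genRing B K W = ⊤)
    {U : X.Opens} (hU : IsAffineOpen U) : genRing B K U = ⊤ := by
  rw [eq_top_iff]
  intro b _
  let I : Ideal Γ(X, U) :=
    { carrier := {r | (B.str.app (op U)).hom r * b ∈ genRing B K U}
      add_mem' := fun {r s} hr hs => by
        show (B.str.app (op U)).hom (r + s) * b ∈ genRing B K U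
        rw [map_add, add_mul]
        exact Subring.add_mem _ hr hs
      zero_mem' := by
        show (B.str.app (op U)).hom 0 * b ∈ genRing B K U
        rw [map_zero, zero_mul]
        exact Subring.zero_mem _
      smul_mem' := fun c r hr => by
        show (B.str.app (op U)).hom (c • r) * b ∈ genRing B K U
        rw [smul_eq_mul, map_mul, mul_assoc]
        exact Subring.mul_mem _ (str_mem_genRing B K U c) hr }
  have hI : ∀ p ∈ U, ∃ f ∈ I, p ∈ X.basicOpen f := by
    intro p hp
    obtain ⟨W, hW, hpW, hWtop⟩ := hcov p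
    obtain ⟨f, g', hfg, hpf⟩ := exists_basicOpen_le_affine_inter hU hW p ⟨hp, hpW⟩
    have hDtop : genRing B K (X.basicOpen f) = ⊤ :=
      genRing_eq_top_basicOpen B K hW hWtop g' _ hfg
    have hb : (B.presheaf.map (homOfLE (X.basicOpen_le f)).op).hom b ∈
        genRing B K (X.basicOpen f) := by
      rw [hDtop]
      trivial
    obtain ⟨n, c', hc', e⟩ := exists_pow_mul_mem B K hU hK f _ hb
    letI := (B.presheaf.map (homOfLE (X.basicOpen_le f)).op).hom.toAlgebra
    haveI hloc : IsLocalization.Away ((B.str.app (op U)).hom f)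
        (B.presheaf.obj (op (X.basicOpen f))) := B.isQC U hU f
    have h0 : algebraMap (B.presheaf.obj (op U)) (B.presheaf.obj (op (X.basicOpen f)))
        (((B.str.app (op U)).hom f) ^ n * b) =
        algebraMap (B.presheaf.obj (op U)) (B.presheaf.obj (op (X.basicOpen f))) c' := by
      show (B.presheaf.map (homOfLE (X.basicOpen_le f)).op).hom
        (((B.str.app (op U)).hom f) ^ n * b) =
        (B.presheaf.map (homOfLE (X.basicOpen_le f)).op).hom c'
      rw [map_mul, map_pow]
      exact e
    obtain ⟨m, hm⟩ := IsLocalization.Away.exists_of_eq ((B.str.app (op U)).hom f) h0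
    refine ⟨f ^ (m + n + 1), ?_, ?_⟩
    · show (B.str.app (op U)).hom (f ^ (m + n + 1)) * b ∈ genRing B K U
      have h4 : (B.str.app (op U)).hom (f ^ (m + n + 1)) * b =
          (B.str.app (op U)).hom f *
            (((B.str.app (op U)).hom f) ^ m * (((B.str.app (op U)).hom f) ^ n * b)) := by
        rw [map_pow]
        ring
      rw [h4, hm]
      exact Subring.mul_mem _ (str_mem_genRing B K U f)
        (Subring.mul_mem _ (Subring.pow_mem _ (str_mem_genRing B K U f) m) hc')
    · rw [X.basicOpen_pow f (Nat.succ_pos _)]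
      exact hpf
  have hspan : Ideal.span (I : Set Γ(X, U)) = ⊤ :=
    (hU.self_le_iSup_basicOpen_iff (s := (I : Set Γ(X, U)))).mp (fun p hp => by
      obtain ⟨f, hfI, hpf⟩ := hI p hp
      exact Opens.mem_iSup.mpr ⟨⟨f, hfI⟩, hpf⟩)
  rw [Ideal.span_eq] at hspan
  have h1 : (1 : Γ(X, U)) ∈ I := by
    rw [hspan]
    trivial
  have h1' : (B.str.app (op U)).hom 1 * b ∈ genRing B K U := h1
  rw [map_one, one_mul] at h1'
  exact h1'

/-- A quasi-coherent algebra of finite type on a quasi-compact quasi-separated scheme is generated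
by a quasi-coherent submodule of finite type. -/
theorem exists_generating_submodule [CompactSpace X] [QuasiSeparatedSpace X]
    (hB : ∀ U : X.affineOpens, (B.str.app (op (U : X.Opens))).hom.FiniteType) :
    ∃ (E : X.Modules) (j : E ⟶ B.toModule), Mono j ∧ E.IsQuasicoherent ∧
      SheafOfModules.IsFiniteType (R := X.ringCatSheaf) E ∧
      ∀ U : X.affineOpens,
        Subring.closure (Set.range (B.str.app (op (U : X.Opens))).hom ∪
          Set.range (fun e : E.val.obj (op (U : X.Opens)) ↦
            (show B.presheaf.obj (op (U : X.Opens)) from (j.val.app (op (U : X.Opens))).hom e))) = ⊤ := by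
  haveI := toModule_isQuasicoherent B
  have hgen : ∀ W : X.affineOpens, ∃ s : Finset Γ(B.toModule, W.1),
      Subring.closure (Set.range (B.str.app (op W.1)).hom ∪ (toB B W.1 '' (s : Set _))) = ⊤ := by
    intro W
    letI := (B.str.app (op W.1)).hom.toAlgebra
    have hft : Algebra.FiniteType Γ(X, W.1) (B.presheaf.obj (op W.1)) := hB W
    obtain ⟨s₀, hs₀⟩ := hft.out
    refine ⟨(show Finset Γ(B.toModule, W.1) from s₀), ?_⟩
    have h1 := Algebra.adjoin_eq_ring_closure (R := Γ(X, W.1)) (s₀ : Set (B.presheaf.obj (op W.1)))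
    rw [hs₀, Algebra.top_toSubring] at h1
    rw [h1]
    congr 2
    ext x
    constructor
    · rintro ⟨y, hy, rfl⟩
      exact hy
    · intro hx
      exact ⟨x, hx, rfl⟩
  choose t ht using hgen
  obtain ⟨S, hSfin, hS⟩ := (isCompact_and_isOpen_iff_finite_and_eq_biUnion_affineOpens
    (X := X) (U := Set.univ)).mp ⟨isCompact_univ, isOpen_univ⟩
  obtain ⟨K, hK, hft, hmem⟩ := SubSh.exists_through_sections t hSfin.toFinset.toList
  have hcov : ∀ p : X, ∃ W : X.Opens, IsAffineOpen W ∧ p ∈ W ∧ genRing B K W = ⊤ := by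
    intro p
    have hp : p ∈ (Set.univ : Set X) := trivial
    rw [hS] at hp
    obtain ⟨W, hW, hpW⟩ := Set.mem_iUnion₂.mp hp
    refine ⟨W.1, W.2, hpW, ?_⟩
    rw [eq_top_iff, ← ht W]
    refine Subring.closure_mono (Set.union_subset_union_right _ ?_)
    rintro _ ⟨y, hy, rfl⟩
    exact hmem W (Finset.mem_toList.mpr (hSfin.mem_toFinset.mpr hW)) y hy
  refine ⟨K.toModules, K.ι, inferInstance, K.isQuasicoherent_toModules hK,
    K.isFiniteType_toModules hK hft, fun U => ?_⟩
  rw [eq_top_iff, ← genRing_eq_top_of_cover B K hK hcov U.2]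
  refine Subring.closure_mono (Set.union_subset_union_right _ ?_)
  intro x hx
  obtain ⟨y, hy⟩ := K.exists_ι_app_eq hx
  exact ⟨y, hy⟩

end Generation

end Groth.Agent.H22
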