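import Mathlib

/-!
# The trace of a finite free algebra commutes with localization, in ring-homomorphism form (helper22)
-/

set_option autoImplicit false
set_option linter.style.haveILetI false
universe u

namespace Groth.Agent.H22.TraceLoc

/-- Trace commutes with localization at one element. All algebra structures are given by ring
homomorphisms. -/
theorem trace_comm {R S R' S' : Type u} [CommRing R] [CommRing S] [CommRing R'] [CommRing S']
    (sR : R →+* S) (sR' : R' →+* S') (ρ : R →+* R') (σ : S →+* S')
    (hcomm : ∀ r, σ (sR r) = sR' (ρ r)) (f : R)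
    (hR' : @IsLocalization.Away R _ f R' _ ρ.toAlgebra)
    (hS' : @IsLocalization.Away S _ (sR f) S' _ σ.toAlgebra)
    (hfree : @Module.Free R S _ _ sR.toAlgebra.toModule)
    (hfin : @Module.Finite R S _ _ sR.toAlgebra.toModule) (a : S) :
    @Algebra.trace R' S' _ _ sR'.toAlgebra (σ a) = ρ (@Algebra.trace R S _ _ sR.toAlgebra a) := by
  letI : Algebra R S := sR.toAlgebra
  letI : Algebra R R' := ρ.toAlgebra
  letI : Algebra S S' := σ.toAlgebra
  letI : Algebra R' S' := sR'.toAlgebra
  letI : Algebra R S' := (σ.comp sR).toAlgebra
  haveI : IsScalarTower R R' S' := IsScalarTower.of_algebraMap_eq (fun r => hcomm r)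
  haveI : IsScalarTower R S S' := IsScalarTower.of_algebraMap_eq (fun r => rfl)
  haveI : IsLocalization (Submonoid.powers f) R' := hR'
  haveI : IsLocalization (Algebra.algebraMapSubmonoid S (Submonoid.powers f)) S' := by
    have : Algebra.algebraMapSubmonoid S (Submonoid.powers f) = Submonoid.powers (sR f) :=
      Submonoid.map_powers _ _
    rw [this]
    exact hS'
  exact Algebra.trace_localization R (Submonoid.powers f) a

end Groth.Agent.H22.TraceLoc
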