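import Mathlib
import Groth.Agent.S19694

/-!
# The relative spectrum of a locally free algebra of rank `d` is a cover of degree `d`
-/

set_option autoImplicit false
set_option linter.style.haveILetI false
universe u
open CategoryTheory CategoryTheory.Limits AlgebraicGeometry Opposite TopologicalSpace

namespace Groth.Agent.H22.RelSpecCover

open Groth.Agent.H22 Groth.Agent.H8 Groth.Agent.S19694

variable {X : Scheme.{u}} (A : RelSpec.QCAlg X)

/-- The chart `Spec A(U) ⟶ Spec A` is the base change of `Spec A ⟶ X` along `U ⟶ X`. -/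
theorem isPullback_ι (U : X.Opens) (hU : IsAffineOpen U) :
    IsPullback (Spec.map (A.str.app (op U))) (A.ι U hU) hU.fromSpec A.π := by
  refine IsOpenImmersion.isPullback _ _ _ _ (A.ι_π U hU) ?_
  rw [hU.opensRange_fromSpec, A.π_preimage U hU]

/-- A local-on-the-target property that holds for the base change along a jointly surjective family
of open immersions holds. -/
theorem of_forall_exists_isPullback {P : MorphismProperty Scheme.{u}} [IsZariskiLocalAtTarget P]
    {Y Z : Scheme.{u}} (f : Y ⟶ Z)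
    (h : ∀ z : Z, ∃ (V W : Scheme.{u}) (j : V ⟶ Z) (_ : IsOpenImmersion j) (g : W ⟶ V)
      (j' : W ⟶ Y), z ∈ Set.range j ∧ IsPullback g j' j f ∧ P g) : P f := by
  choose V W j hj g j' hz hpb hP using h
  refine IsZariskiLocalAtTarget.of_iSup_eq_top (P := P) (fun z : Z => (j z).opensRange) ?_ ?_
  · refine eq_top_iff.mpr fun z _ => Opens.mem_iSup.mpr ⟨z, hz z⟩
  · intro z
    -- `f ∣_ range j` is a base change of `f` along `(range j).ι`, hence isomorphic to `g`
    have h1 := (isPullback_morphismRestrict f (j z).opensRange).flip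
    -- h1 : IsPullback (f⁻¹U).ι (f ∣_ U) f U.ι
    let e : V z ≅ ((j z).opensRange : Scheme.{u}) := (j z).isoOpensRange
    have he : e.hom ≫ (j z).opensRange.ι = j z := (j z).isoOpensRange_hom_ι
    have h2 : IsPullback (j' z) (g z ≫ e.hom) f (j z).opensRange.ι := by
      have := (hpb z).flip
      -- this : IsPullback j' g f j
      refine IsPullback.of_iso this (Iso.refl _) (Iso.refl _) e (Iso.refl _) ?_ ?_ ?_ ?_ <;>
        simp [he]
    let φ := h2.isoIsPullback _ _ h1
    have hφ : φ.hom ≫ (f ∣_ (j z).opensRange) = g z ≫ e.hom := h2.isoIsPullback_hom_snd _ _ h1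
    have h3 : P (g z ≫ e.hom) := (P.cancel_right_of_respectsIso (g z) e.hom).mpr (hP z)
    rw [← hφ] at h3
    exact (P.cancel_left_of_respectsIso φ.hom _).mp h3

end Groth.Agent.H22.RelSpecCover

namespace Groth.Agent.H22.RelSpecCover

open Groth.Agent.H22 Groth.Agent.H8 Groth.Agent.S19694

variable {X : Scheme.{u}} (A : RelSpec.QCAlg X)

/-- Data on a trivialising affine open: `A(U)` is finite free of rank `d` over `Γ(X, U)`. -/
theorem chart_facts (d : ℕ) (hA : FlatMod.IsFinLocFreeOfRank d A.toModule) (x : X) :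
    ∃ (U : X.Opens) (_ : IsAffineOpen U), x ∈ U ∧
      (A.str.app (op U)).hom.Finite ∧ (A.str.app (op U)).hom.Flat ∧
      (A.str.app (op U)).hom.FinitePresentation ∧
      ∀ p, (A.str.app (op U)).hom.finrank p = d := by
  obtain ⟨W, hxW, ⟨e⟩⟩ := hA x
  obtain ⟨_, ⟨U, hU, rfl⟩, hxU, hUW⟩ := X.isBasis_affineOpens.exists_subset_of_mem_open hxW W.2
  obtain ⟨eU⟩ := nonempty_restrict_iso_freeMod_of_le A.toModule hUW d e
  obtain ⟨e'⟩ := nonempty_sections_equiv_of_le A.toModule eU (le_refl U)
  obtain ⟨hfree, hfin⟩ := free_finite_of_equiv A U d e'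
  letI : Algebra Γ(X, U) (A.presheaf.obj (op U)) := (A.str.app (op U)).hom.toAlgebra
  let e'' : A.presheaf.obj (op U) ≃ₗ[Γ(X, U)] (Fin d → Γ(X, U)) :=
    { toFun := fun a => e' (ofB A U a)
      map_add' := fun a b => e'.map_add _ _
      map_smul' := fun r a => e'.map_smul r (ofB A U a)
      invFun := fun v => toB A U (e'.symm v)
      left_inv := e'.left_inv
      right_inv := e'.right_inv }
  haveI : Module.Free Γ(X, U) (A.presheaf.obj (op U)) := hfree
  haveI : Module.Finite Γ(X, U) (A.presheaf.obj (op U)) := hfin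
  refine ⟨U, hU, hxU, hfin, ?_, ?_, ?_⟩
  · show Module.Flat Γ(X, U) (A.presheaf.obj (op U))
    infer_instance
  · show Algebra.FinitePresentation Γ(X, U) (A.presheaf.obj (op U))
    haveI : Module.FinitePresentation Γ(X, U) (A.presheaf.obj (op U)) :=
      Module.finitePresentation_of_projective _ _
    infer_instance
  · intro p
    show Module.rankAtStalk (R := Γ(X, U)) (A.presheaf.obj (op U)) p = d
    haveI : Nontrivial Γ(X, U) :=
      ⟨⟨0, 1, fun h => p.2.ne_top ((Ideal.eq_top_iff_one _).mpr (h ▸ Ideal.zero_mem _))⟩⟩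
    rw [Module.rankAtStalk_eq_finrank_of_free, Pi.natCast_apply, Nat.cast_id, e''.finrank_eq,
      Module.finrank_fin_fun]

theorem prop_π (d : ℕ) (hA : FlatMod.IsFinLocFreeOfRank d A.toModule)
    {P : MorphismProperty Scheme.{u}} [IsZariskiLocalAtTarget P]
    (hP : ∀ (U : X.Opens) (_ : IsAffineOpen U), (A.str.app (op U)).hom.Finite →
      (A.str.app (op U)).hom.Flat → (A.str.app (op U)).hom.FinitePresentation →
      P (Spec.map (A.str.app (op U)))) : P A.π := by
  refine of_forall_exists_isPullback A.π fun z => ?_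
  obtain ⟨U, hU, hzU, h1, h2, h3, -⟩ := chart_facts A d hA z
  refine ⟨_, _, hU.fromSpec, inferInstance, Spec.map (A.str.app (op U)), A.ι U hU, ?_,
    isPullback_ι A U hU, hP U hU h1 h2 h3⟩
  rw [hU.range_fromSpec]
  exact hzU

theorem main (d : ℕ) (hA : FlatMod.IsFinLocFreeOfRank d A.toModule) :
    (IsFinite A.π ∧ Flat A.π ∧ LocallyOfFinitePresentation A.π) ∧ ∀ y : X, A.π.finrank y = d := by
  have hfin : IsFinite A.π := prop_π A d hA (P := @IsFinite)
    fun U hU h1 _ _ => (IsFinite.SpecMap_iff _).mpr h1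
  have hflat : Flat A.π := prop_π A d hA (P := @Flat)
    fun U hU _ h2 _ => Flat.SpecMap_iff.mpr h2
  have hfp : LocallyOfFinitePresentation A.π := prop_π A d hA (P := @LocallyOfFinitePresentation)
    fun U hU _ _ h3 => (LocallyOfFinitePresentation.SpecMap_iff _).mpr h3
  refine ⟨⟨hfin, hflat, hfp⟩, fun y => ?_⟩
  obtain ⟨U, hU, hyU, h1, h2, h3, hrank⟩ := chart_facts A d hA y
  have hy' : y ∈ Set.range hU.fromSpec := by rw [hU.range_fromSpec]; exact hyU
  obtain ⟨y', rfl⟩ := hy'
  rw [← Scheme.Hom.finrank_of_isPullback (A.ι U hU) (Spec.map (A.str.app (op U))) A.π hU.fromSpec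
    (isPullback_ι A U hU).flip y', Scheme.Hom.finrank_SpecMap_eq_finrank h1 h2]
  exact hrank y'

end Groth.Agent.H22.RelSpecCover
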