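import Mathlib
import Groth.Agent.H22.RelSpecCover
import Groth.Agent.H17.LocFreeRank
import Groth.Agent.H8.QCohPush
import Groth.Agent.H8.StructureCoh

/-!
# Covers of degree `d` = affine morphisms with `f_* O_X` locally free of rank `d`
-/

set_option autoImplicit false
set_option linter.style.haveILetI false
universe u
open CategoryTheory CategoryTheory.Limits AlgebraicGeometry Opposite TopologicalSpace

namespace Groth.Agent.H22.CoverIff

open Groth.Agent.H22 Groth.Agent.H8 Groth.Agent.H22.RelSpecCover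

section Ring

/-- A ring map making the target free of rank `d` is finite, flat, finitely presented, of rank `d`. -/
theorem ringHom_facts {R S : Type u} [CommRing R] [CommRing S] (φ : R →+* S) (d : ℕ)
    (e : @LinearEquiv R R _ _ (RingHom.id R) (RingHom.id R) _ _ S (Fin d → R) _ _
      φ.toAlgebra.toModule _) :
    φ.Finite ∧ φ.Flat ∧ φ.FinitePresentation ∧ ∀ p, φ.finrank p = d := by
  letI : Algebra R S := φ.toAlgebra
  haveI hfree : Module.Free R S := Module.Free.of_equiv e.symm
  haveI hfin : Module.Finite R S := Module.Finite.equiv e.symm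
  refine ⟨hfin, ?_, ?_, ?_⟩
  · show Module.Flat R S
    infer_instance
  · show Algebra.FinitePresentation R S
    haveI : Module.FinitePresentation R S := Module.finitePresentation_of_projective _ _
    infer_instance
  · intro p
    show Module.rankAtStalk (R := R) S p = d
    haveI : Nontrivial R :=
      ⟨⟨0, 1, fun h => p.2.ne_top ((Ideal.eq_top_iff_one _).mpr (h ▸ Ideal.zero_mem _))⟩⟩
    rw [Module.rankAtStalk_eq_finrank_of_free, Pi.natCast_apply, Nat.cast_id, e.finrank_eq,
      Module.finrank_fin_fun]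

end Ring

variable {X Y : Scheme.{u}} (f : X ⟶ Y)

theorem isPullback_fromSpec {U : Y.Opens} (hU : IsAffineOpen U)
    (hfU : IsAffineOpen (f ⁻¹ᵁ U)) :
    IsPullback (Spec.map (f.app U)) hfU.fromSpec hU.fromSpec f := by
  refine IsOpenImmersion.isPullback _ _ _ _ ?_ ?_
  · rw [Scheme.Hom.app_eq_appLE]
    exact (IsAffineOpen.SpecMap_appLE_fromSpec f hU hfU le_rfl).symm
  · rw [hU.opensRange_fromSpec, hfU.opensRange_fromSpec]

/-- The pushforward of the structure sheaf. -/
noncomputable abbrev pushO : Y.Modules :=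
  (Scheme.Modules.pushforward f).obj (Coh.structureModule X)

theorem chart_facts [IsAffineHom f] (d : ℕ) (hF : FlatMod.IsFinLocFreeOfRank d (pushO f)) (y : Y) :
    ∃ (U : Y.Opens) (_ : IsAffineOpen U), y ∈ U ∧
      (f.app U).hom.Finite ∧ (f.app U).hom.Flat ∧ (f.app U).hom.FinitePresentation ∧
      ∀ p, (f.app U).hom.finrank p = d := by
  obtain ⟨W, hyW, ⟨e⟩⟩ := hF y
  obtain ⟨_, ⟨U, hU, rfl⟩, hyU, hUW⟩ := Y.isBasis_affineOpens.exists_subset_of_mem_open hyW W.2
  obtain ⟨eU⟩ := nonempty_restrict_iso_freeMod_of_le (pushO f) hUW d e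
  obtain ⟨e'⟩ := nonempty_sections_equiv_of_le (pushO f) eU (le_refl U)
  refine ⟨U, hU, hyU, ?_⟩
  letI : Algebra Γ(Y, U) Γ(X, f ⁻¹ᵁ U) := (f.app U).hom.toAlgebra
  let e'' : Γ(X, f ⁻¹ᵁ U) ≃ₗ[Γ(Y, U)] (Fin d → Γ(Y, U)) :=
    { toFun := fun a => e' a
      map_add' := fun a b => e'.map_add a b
      map_smul' := fun r a => e'.map_smul r a
      invFun := fun v => e'.symm v
      left_inv := e'.left_inv
      right_inv := e'.right_inv }
  exact ringHom_facts (f.app U).hom d e''

theorem prop_of_locFree [IsAffineHom f] (d : ℕ) (hF : FlatMod.IsFinLocFreeOfRank d (pushO f))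
    {P : MorphismProperty Scheme.{u}} [IsZariskiLocalAtTarget P]
    (hP : ∀ (U : Y.Opens) (_ : IsAffineOpen U), (f.app U).hom.Finite →
      (f.app U).hom.Flat → (f.app U).hom.FinitePresentation → P (Spec.map (f.app U))) : P f := by
  refine of_forall_exists_isPullback f fun z => ?_
  obtain ⟨U, hU, hzU, h1, h2, h3, -⟩ := chart_facts f d hF z
  have hfU : IsAffineOpen (f ⁻¹ᵁ U) := hU.preimage f
  refine ⟨_, _, hU.fromSpec, inferInstance, Spec.map (f.app U), hfU.fromSpec, ?_,
    isPullback_fromSpec f hU hfU, hP U hU h1 h2 h3⟩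
  rw [hU.range_fromSpec]
  exact hzU

theorem cover_of_locFree [IsAffineHom f] (d : ℕ) (hF : FlatMod.IsFinLocFreeOfRank d (pushO f)) :
    (IsFinite f ∧ Flat f ∧ LocallyOfFinitePresentation f) ∧ ∀ y : Y, f.finrank y = d := by
  have hfin : IsFinite f := prop_of_locFree f d hF (P := @IsFinite)
    fun U hU h1 _ _ => (IsFinite.SpecMap_iff _).mpr h1
  have hflat : Flat f := prop_of_locFree f d hF (P := @Flat)
    fun U hU _ h2 _ => Flat.SpecMap_iff.mpr h2
  have hfp : LocallyOfFinitePresentation f :=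
    prop_of_locFree f d hF (P := @LocallyOfFinitePresentation)
      fun U hU _ _ h3 => (LocallyOfFinitePresentation.SpecMap_iff _).mpr h3
  refine ⟨⟨hfin, hflat, hfp⟩, fun y => ?_⟩
  obtain ⟨U, hU, hyU, h1, h2, h3, hrank⟩ := chart_facts f d hF y
  have hfU : IsAffineOpen (f ⁻¹ᵁ U) := hU.preimage f
  have hy' : y ∈ Set.range hU.fromSpec := by rw [hU.range_fromSpec]; exact hyU
  obtain ⟨y', rfl⟩ := hy'
  rw [← Scheme.Hom.finrank_of_isPullback hfU.fromSpec (Spec.map (f.app U)) f hU.fromSpec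
    (isPullback_fromSpec f hU hfU).flip y', Scheme.Hom.finrank_SpecMap_eq_finrank h1 h2]
  exact hrank y'

section LocFree

open AlgebraicGeometry.Scheme.Modules Groth.Agent.H17.LocFreeRank

set_option backward.isDefEq.respectTransparency false in
/-- A quasi-coherent module whose sections over an affine open `U` are finitely presented and flat
with rank `n` at the prime of `y ∈ U` is free of rank `n` on a basic open neighbourhood of `y`. -/
theorem exists_basicOpen_restrict_iso_freeMod_of_rankAtStalk (F : Y.Modules) [F.IsQuasicoherent]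
    {U : Y.Opens} (hU : IsAffineOpen U)
    [Module.FinitePresentation Γ(Y, U) Γ(F, U)] [Module.Flat Γ(Y, U) Γ(F, U)]
    (y : Y) (hy : y ∈ U) (n : ℕ)
    (hn : Module.rankAtStalk (R := Γ(Y, U)) Γ(F, U) (hU.primeIdealOf ⟨y, hy⟩) = n) :
    ∃ r : Γ(Y, U), y ∈ Y.basicOpen r ∧
      Nonempty (F.restrict (Y.basicOpen r).ι ≅ FlatMod.freeMod (Y.basicOpen r) n) := by
  haveI : Module.Finite Γ(Y, U) Γ(F, U) := inferInstance
  obtain ⟨r, hr, ⟨e⟩⟩ : ∃ r ∈ (hU.primeIdealOf ⟨y, hy⟩).asIdeal.primeCompl,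
      Nonempty (LocalizedModule.Away r Γ(F, U) ≃ₗ[Localization.Away r]
        (Fin n → Localization.Away r)) := by
    haveI : Module.Free (Localization.AtPrime (hU.primeIdealOf ⟨y, hy⟩).asIdeal)
        (LocalizedModule (hU.primeIdealOf ⟨y, hy⟩).asIdeal.primeCompl Γ(F, U)) :=
      Module.free_of_flat_of_isLocalRing
    exact exists_free_away_of_free_rank Γ(F, U) (hU.primeIdealOf ⟨y, hy⟩).asIdeal.primeCompl
      (Localization.AtPrime (hU.primeIdealOf ⟨y, hy⟩).asIdeal)
      (LocalizedModule.mkLinearMap (hU.primeIdealOf ⟨y, hy⟩).asIdeal.primeCompl Γ(F, U)) n hn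
  refine ⟨r, (mem_basicOpen_iff_notMem_primeIdealOf hU y hy r).mpr hr, ?_⟩
  letI := moduleSectionBasicOpen F r
  haveI : IsScalarTower Γ(Y, U) Γ(Y, Y.basicOpen r) Γ(F, Y.basicOpen r) :=
    IsScalarTower.of_algebraMap_smul fun _ _ => rfl
  haveI := isLocalizedModule_resBasicOpenₗ hU F r
  haveI : IsLocalization (Submonoid.powers r) Γ(Y, Y.basicOpen r) := hU.isLocalization_basicOpen r
  exact nonempty_restrict_iso_freeMod (hU.basicOpen r) F n
    (linearEquivOfIsLocalizedModule (Submonoid.powers r)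
      (LocalizedModule.mkLinearMap (Submonoid.powers r) Γ(F, U)) (resBasicOpenₗ F r) e)

theorem locFree_of_cover [IsFinite f] [Flat f] [LocallyOfFinitePresentation f] (d : ℕ)
    (hrank : ∀ y : Y, f.finrank y = d) : FlatMod.IsFinLocFreeOfRank d (pushO f) := by
  haveI := isQuasicoherent_structureModule' X
  haveI : (pushO f).IsQuasicoherent := isQuasicoherent_pushforward f _
  intro y
  obtain ⟨_, ⟨U, hU, rfl⟩, hyU, -⟩ :=
    Y.isBasis_affineOpens.exists_subset_of_mem_open (Set.mem_univ y) isOpen_univ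
  have hfU : IsAffineOpen (f ⁻¹ᵁ U) := hU.preimage f
  have h1 : (f.app U).hom.Finite := f.finite_app U hU
  have h2 : (f.app U).hom.Flat := by
    rw [Scheme.Hom.app_eq_appLE]; exact f.flat_appLE hU hfU le_rfl
  have h3 : (f.app U).hom.FinitePresentation := by
    rw [Scheme.Hom.app_eq_appLE]; exact f.finitePresentation_appLE hU hfU le_rfl
  have h4 : ∀ p, (f.app U).hom.finrank p = d := fun p => by
    rw [← Scheme.Hom.finrank_SpecMap_eq_finrank h1 h2,
      Scheme.Hom.finrank_of_isPullback hfU.fromSpec (Spec.map (f.app U)) f hU.fromSpec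
        (isPullback_fromSpec f hU hfU).flip p]
    exact hrank _
  haveI hfin : Module.Finite Γ(Y, U) Γ(pushO f, U) := h1
  haveI hflat : Module.Flat Γ(Y, U) Γ(pushO f, U) := h2
  haveI hfp : Module.FinitePresentation Γ(Y, U) Γ(pushO f, U) := by
    letI : Algebra Γ(Y, U) Γ(X, f ⁻¹ᵁ U) := (f.app U).hom.toAlgebra
    haveI : Module.Finite Γ(Y, U) Γ(X, f ⁻¹ᵁ U) := h1
    haveI : Algebra.FinitePresentation Γ(Y, U) Γ(X, f ⁻¹ᵁ U) := h3
    exact Module.FinitePresentation.of_finite_of_finitePresentation Γ(Y, U) Γ(X, f ⁻¹ᵁ U)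
  obtain ⟨r, hyr, hiso⟩ := exists_basicOpen_restrict_iso_freeMod_of_rankAtStalk (pushO f) hU y hyU d
    (h4 _)
  exact ⟨Y.basicOpen r, hyr, hiso⟩

end LocFree

end Groth.Agent.H22.CoverIff
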