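import Mathlib

/-!
# The ring `R ⊕ M` attached to a symmetric associative pairing `M × M → R`

For a module `M` over a commutative ring `R` and a pairing `μ : M → M → R` which is bilinear,
symmetric and satisfies `μ a b • c = μ b c • a` (automatic for `M` invertible), the product
`(s, l) (s', l') = (s s' + μ l l', s l' + s' l)` makes `R × M` a commutative ring.
-/

set_option autoImplicit false

namespace Groth.Agent.H22.DblRing

/-- A symmetric, associative bilinear pairing on `M` with values in `R`. -/
structure DblData (R M : Type*) [CommRing R] [AddCommGroup M] [Module R M] where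
  /-- the pairing -/
  μ : M → M → R
  add_left : ∀ a b c, μ (a + b) c = μ a c + μ b c
  smul_left : ∀ (r : R) a b, μ (r • a) b = r * μ a b
  symm : ∀ a b, μ a b = μ b a
  assoc : ∀ a b c, μ a b • c = μ b c • a

variable {R M : Type*} [CommRing R] [AddCommGroup M] [Module R M]

namespace DblData

variable (D : DblData R M)

lemma add_right (a b c : M) : D.μ a (b + c) = D.μ a b + D.μ a c := by
  rw [D.symm, D.add_left, D.symm b, D.symm c]

lemma smul_right (r : R) (a b : M) : D.μ a (r • b) = r * D.μ a b := by
  rw [D.symm, D.smul_left, D.symm]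

lemma zero_left (a : M) : D.μ 0 a = 0 := by
  have h := D.smul_left 0 0 a
  rwa [zero_smul, zero_mul] at h

lemma zero_right (a : M) : D.μ a 0 = 0 := by
  rw [D.symm, D.zero_left]

end DblData

/-- The underlying type of the ring `R ⊕ M`. -/
@[ext]
structure Dbl (D : DblData R M) where
  /-- the component in `R` -/
  fst : R
  /-- the component in `M` -/
  snd : M

namespace Dbl

variable {D : DblData R M}

instance : Zero (Dbl D) := ⟨⟨0, 0⟩⟩
instance : One (Dbl D) := ⟨⟨1, 0⟩⟩
instance : Add (Dbl D) := ⟨fun x y => ⟨x.fst + y.fst, x.snd + y.snd⟩⟩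
instance : Neg (Dbl D) := ⟨fun x => ⟨-x.fst, -x.snd⟩⟩
instance : Mul (Dbl D) :=
  ⟨fun x y => ⟨x.fst * y.fst + D.μ x.snd y.snd, x.fst • y.snd + y.fst • x.snd⟩⟩

@[simp] lemma zero_fst : (0 : Dbl D).fst = 0 := rfl
@[simp] lemma zero_snd : (0 : Dbl D).snd = 0 := rfl
@[simp] lemma one_fst : (1 : Dbl D).fst = 1 := rfl
@[simp] lemma one_snd : (1 : Dbl D).snd = 0 := rfl
@[simp] lemma add_fst (x y : Dbl D) : (x + y).fst = x.fst + y.fst := rfl
@[simp] lemma add_snd (x y : Dbl D) : (x + y).snd = x.snd + y.snd := rfl
@[simp] lemma neg_fst (x : Dbl D) : (-x).fst = -x.fst := rfl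
@[simp] lemma neg_snd (x : Dbl D) : (-x).snd = -x.snd := rfl
@[simp] lemma mul_fst (x y : Dbl D) : (x * y).fst = x.fst * y.fst + D.μ x.snd y.snd := rfl
@[simp] lemma mul_snd (x y : Dbl D) : (x * y).snd = x.fst • y.snd + y.fst • x.snd := rfl

instance : CommRing (Dbl D) :=
  CommRing.ofMinimalAxioms
    (by intro a b c; ext <;> simp [add_assoc])
    (by intro a; ext <;> simp)
    (by intro a; ext <;> simp)
    (by
      intro a b c
      ext
      · simp only [mul_fst, mul_snd, D.add_left, D.add_right, D.smul_left, D.smul_right]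
        ring
      · simp only [mul_fst, mul_snd, smul_add, add_smul, mul_smul, D.assoc a.snd b.snd c.snd]
        rw [smul_comm c.fst a.fst b.snd, smul_comm c.fst b.fst a.snd]
        abel)
    (by
      intro a b
      ext
      · simp only [mul_fst, D.symm a.snd b.snd, mul_comm]
      · simp only [mul_snd, add_comm])
    (by intro a; ext <;> simp [D.zero_left])
    (by
      intro a b c
      ext
      · simp only [mul_fst, add_fst, add_snd, D.add_right]
        ring
      · simp only [mul_snd, add_fst, add_snd, smul_add, add_smul]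
        abel)

/-- The structure map `R → R ⊕ M`. -/
def of (D : DblData R M) : R →+* Dbl D where
  toFun r := ⟨r, 0⟩
  map_one' := rfl
  map_mul' a b := by ext <;> simp [D.zero_left]
  map_zero' := rfl
  map_add' a b := by ext <;> simp

@[simp] lemma of_fst (r : R) : (of D r).fst = r := rfl
@[simp] lemma of_snd (r : R) : (of D r).snd = 0 := rfl

/-- The inclusion of `M`. -/
def inr (D : DblData R M) (l : M) : Dbl D := ⟨0, l⟩

@[simp] lemma inr_fst (l : M) : (inr D l).fst = 0 := rfl
@[simp] lemma inr_snd (l : M) : (inr D l).snd = l := rfl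

lemma of_add_inr (x : Dbl D) : of D x.fst + inr D x.snd = x := by ext <;> simp

lemma inr_mul_inr (l l' : M) : inr D l * inr D l' = of D (D.μ l l') := by ext <;> simp

lemma of_mul (r : R) (x : Dbl D) : of D r * x = ⟨r * x.fst, r • x.snd⟩ := by
  ext <;> simp [D.zero_left]

variable {R' M' : Type*} [CommRing R'] [AddCommGroup M'] [Module R' M'] {D' : DblData R' M'}

/-- Functoriality of the construction. -/
def map (f : R →+* R') (g : M →+ M') (hg : ∀ (r : R) (l : M), g (r • l) = f r • g l)
    (hμ : ∀ a b, D'.μ (g a) (g b) = f (D.μ a b)) : Dbl D →+* Dbl D' where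
  toFun x := ⟨f x.fst, g x.snd⟩
  map_one' := by ext <;> simp
  map_mul' a b := by ext <;> simp [hg, hμ]
  map_zero' := by ext <;> simp
  map_add' a b := by ext <;> simp

@[simp] lemma map_fst (f : R →+* R') (g : M →+ M') (hg) (hμ) (x : Dbl D) :
    (map (D := D) (D' := D') f g hg hμ x).fst = f x.fst := rfl
@[simp] lemma map_snd (f : R →+* R') (g : M →+ M') (hg) (hμ) (x : Dbl D) :
    (map (D := D) (D' := D') f g hg hμ x).snd = g x.snd := rfl

end Dbl

end Groth.Agent.H22.DblRing
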