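import Mathlib
import Groth.Prelude.Def_FinCov
import Groth.Agent.H22.DblRing
import Groth.Agent.H22.QCohLimits
import Groth.Agent.H22.GenLocus
import Groth.Agent.H18.SecTw
import Groth.Agent.H8.QCohAffine

/-!
# The quasi-coherent algebra `O_X ⊕ L` attached to a pairing `L ⊗ L → O_X`, `L` invertible
-/

set_option autoImplicit false
set_option linter.style.haveILetI false
universe u

noncomputable section

namespace Groth.Agent.H22.DblSheaf

open CategoryTheory AlgebraicGeometry Opposite TopologicalSpace TensorProduct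
open Groth.Agent.H8 (res_res res_smul section_eq_of_cover)
open Groth.Agent.H18.SecTw Groth.Agent.H22.DblRing

variable {X : Scheme.{u}} (L : X.Modules) (m : CohB1.tensorMod L L ⟶ Coh.structureModule X)

theorem tm_add_left (M N : X.Modules) {U : X.Opens} (a a' : Γ(M, U)) (b : Γ(N, U)) :
    tm M N (a + a') b = tm M N a b + tm M N a' b := by
  have h1 := TensorProduct.add_tmul
    (R := ((X.sheaf.obj ⋙ forget₂ CommRingCat RingCat).obj (op U)))
    (show (CohB1.toPMod M).obj (op U) from a) (show (CohB1.toPMod M).obj (op U) from a')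
    (show (CohB1.toPMod N).obj (op U) from b)
  exact (congrArg ((SecTwist.toTensor M N).app (op U)).hom h1).trans
    (((SecTwist.toTensor M N).app (op U)).hom.map_add _ _)

/-- The pairing on sections. -/
def pair (U : X.Opens) (a b : Γ(L, U)) : Γ(X, U) := m.app U (tm L L a b)

lemma pair_res {U V : X.Opens} (h : V ≤ U) (a b : Γ(L, U)) :
    X.presheaf.map (homOfLE h).op (pair L m U a b) =
      pair L m V (L.presheaf.map (homOfLE h).op a) (L.presheaf.map (homOfLE h).op b) := by
  unfold pair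
  rw [← tm_res]
  exact (QCohLimits.app_res m h _).symm

lemma pair_add_left (U : X.Opens) (a a' b : Γ(L, U)) :
    pair L m U (a + a') b = pair L m U a b + pair L m U a' b := by
  unfold pair
  rw [tm_add_left, map_add]
  rfl

lemma pair_smul_left (U : X.Opens) (r : Γ(X, U)) (a b : Γ(L, U)) :
    pair L m U (r • a) b = r * pair L m U a b := by
  unfold pair
  rw [tm_smul_left, Scheme.Modules.Hom.app_smul]
  rfl

lemma pair_smul_right (U : X.Opens) (r : Γ(X, U)) (a b : Γ(L, U)) :
    pair L m U a (r • b) = r * pair L m U a b := by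
  unfold pair
  rw [tm_smul_right, Scheme.Modules.Hom.app_smul]
  rfl

variable (hL : PicF.IsInvertible L)

include hL in
/-- Local frames. -/
lemma exists_frame {U : X.Opens} (x : X) (hx : x ∈ U) :
    ∃ (V : X.Opens) (_ : V ≤ U) (σ : Γ(L, V)), x ∈ V ∧
      Function.Bijective (fun r : Γ(X, V) => r • σ) := by
  obtain ⟨U₀, hxU₀, ⟨e⟩⟩ := hL x
  obtain ⟨σ, hσ⟩ := GenLocus.exists_generator L U₀ e
  exact ⟨U ⊓ U₀, inf_le_left, _, ⟨hx, hxU₀⟩, hσ (U ⊓ U₀) inf_le_right⟩

include hL in
lemma pair_symm (U : X.Opens) (a b : Γ(L, U)) : pair L m U a b = pair L m U b a := by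
  refine section_eq_of_cover (Coh.structureModule X) _ _ (fun x hx => ?_)
  obtain ⟨V, hV, σ, hxV, hσ⟩ := exists_frame L hL x hx
  refine ⟨V, hV, hxV, ?_⟩
  show X.presheaf.map (homOfLE hV).op (pair L m U a b) =
    X.presheaf.map (homOfLE hV).op (pair L m U b a)
  rw [pair_res, pair_res]
  obtain ⟨α, hα⟩ := hσ.2 (L.presheaf.map (homOfLE hV).op a)
  obtain ⟨β, hβ⟩ := hσ.2 (L.presheaf.map (homOfLE hV).op b)
  have hα' : α • σ = L.presheaf.map (homOfLE hV).op a := hα
  have hβ' : β • σ = L.presheaf.map (homOfLE hV).op b := hβ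
  rw [← hα', ← hβ', pair_smul_left, pair_smul_right, pair_smul_left, pair_smul_right]
  ring

include hL in
lemma pair_assoc (U : X.Opens) (a b c : Γ(L, U)) :
    pair L m U a b • c = pair L m U b c • a := by
  refine section_eq_of_cover L _ _ (fun x hx => ?_)
  obtain ⟨V, hV, σ, hxV, hσ⟩ := exists_frame L hL x hx
  refine ⟨V, hV, hxV, ?_⟩
  rw [res_smul, res_smul, pair_res, pair_res]
  obtain ⟨α, hα⟩ := hσ.2 (L.presheaf.map (homOfLE hV).op a)
  obtain ⟨β, hβ⟩ := hσ.2 (L.presheaf.map (homOfLE hV).op b)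
  obtain ⟨γ, hγ⟩ := hσ.2 (L.presheaf.map (homOfLE hV).op c)
  have hα' : α • σ = L.presheaf.map (homOfLE hV).op a := hα
  have hβ' : β • σ = L.presheaf.map (homOfLE hV).op b := hβ
  have hγ' : γ • σ = L.presheaf.map (homOfLE hV).op c := hγ
  rw [← hα', ← hβ', ← hγ', pair_smul_left, pair_smul_right, pair_smul_left, pair_smul_right,
    smul_smul, smul_smul]
  congr 1
  ring

/-- The pairing data over `U`. -/
def data (U : X.Opens) : DblData Γ(X, U) Γ(L, U) where
  μ := pair L m U
  add_left := pair_add_left L m U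
  smul_left := pair_smul_left L m U
  symm := pair_symm L m hL U
  assoc := pair_assoc L m hL U

/-- The restriction maps of `O ⊕ L`. -/
def resMap {U V : X.Opens} (h : V ≤ U) : Dbl (data L m hL U) →+* Dbl (data L m hL V) :=
  Dbl.map (X.presheaf.map (homOfLE h).op).hom (L.presheaf.map (homOfLE h).op).hom
    (fun r l => res_smul L h r l) (fun a b => (pair_res L m h a b).symm)

/-- The presheaf of rings `O ⊕ L`. -/
def presheaf : TopCat.Presheaf CommRingCat.{u} X.carrier where
  obj U := CommRingCat.of (Dbl (data L m hL U.unop))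
  map {U V} i := CommRingCat.ofHom (resMap L m hL i.unop.le)
  map_id U := by
    ext x
    · show X.presheaf.map (𝟙 U) x.fst = x.fst
      rw [X.presheaf.map_id]
      rfl
    · show L.presheaf.map (𝟙 U) x.snd = x.snd
      rw [L.presheaf.map_id]
      rfl
  map_comp {U V W} i j := by
    ext x
    · show X.presheaf.map (i ≫ j) x.fst = X.presheaf.map j (X.presheaf.map i x.fst)
      rw [X.presheaf.map_comp]
      rfl
    · show L.presheaf.map (i ≫ j) x.snd = L.presheaf.map j (L.presheaf.map i x.snd)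
      rw [L.presheaf.map_comp]
      rfl

/-- The structure map. -/
def str : X.presheaf ⟶ presheaf L m hL where
  app U := CommRingCat.ofHom (Dbl.of (data L m hL U.unop))
  naturality U V i := by
    ext r
    refine Dbl.ext rfl ?_
    show (0 : Γ(L, V.unop)) = L.presheaf.map i (0 : Γ(L, U.unop))
    rw [map_zero]

lemma presheaf_map_fst {U V : (Opens X)ᵒᵖ} (i : U ⟶ V) (x : Dbl (data L m hL U.unop)) :
    (((presheaf L m hL).map i).hom x).fst = X.presheaf.map i x.fst := rfl

lemma presheaf_map_snd {U V : (Opens X)ᵒᵖ} (i : U ⟶ V) (x : Dbl (data L m hL U.unop)) :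
    (((presheaf L m hL).map i).hom x).snd = L.presheaf.map i x.snd := rfl

theorem presheaf_isSheaf : (presheaf L m hL).IsSheaf := by
  rw [TopCat.Presheaf.isSheaf_iff_isSheafUniqueGluing]
  intro ι U sf hcompat
  have hc1 : TopCat.Presheaf.IsCompatible X.sheaf.1 U
      (fun i => (show Dbl (data L m hL (U i)) from sf i).fst) := by
    intro i j
    exact congrArg Dbl.fst (hcompat i j)
  have hc2 : TopCat.Presheaf.IsCompatible L.presheaf U
      (fun i => (show Dbl (data L m hL (U i)) from sf i).snd) := by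
    intro i j
    exact congrArg Dbl.snd (hcompat i j)
  obtain ⟨s₁, hs₁, hu₁⟩ := TopCat.Sheaf.existsUnique_gluing X.sheaf U _ hc1
  obtain ⟨s₂, hs₂, hu₂⟩ := TopCat.Sheaf.existsUnique_gluing
    (⟨L.presheaf, L.isSheaf⟩ : TopCat.Sheaf Ab X) U _ hc2
  refine ⟨(⟨s₁, s₂⟩ : Dbl (data L m hL (iSup U))), ?_, ?_⟩
  · intro i
    exact Dbl.ext (hs₁ i) (hs₂ i)
  · intro t ht
    have h1 := hu₁ (show Dbl (data L m hL (iSup U)) from t).fst
      (fun i => congrArg Dbl.fst (ht i))
    have h2 := hu₂ (show Dbl (data L m hL (iSup U)) from t).snd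
      (fun i => congrArg Dbl.snd (ht i))
    exact Dbl.ext h1 h2

lemma resMap_of {U V : X.Opens} (h : V ≤ U) (r : Γ(X, U)) :
    resMap L m hL h (Dbl.of (data L m hL U) r) =
      Dbl.of (data L m hL V) (X.presheaf.map (homOfLE h).op r) :=
  Dbl.ext rfl (map_zero (L.presheaf.map (homOfLE h).op).hom)

lemma of_pow_mul {U : X.Opens} (r : Γ(X, U)) (n : ℕ) (x : Dbl (data L m hL U)) :
    (Dbl.of (data L m hL U) r) ^ n * x = ⟨r ^ n * x.fst, r ^ n • x.snd⟩ := by
  rw [← map_pow, Dbl.of_mul]

theorem presheaf_isQC [L.IsQuasicoherent] : RelSpec.IsQC (presheaf L m hL) (str L m hL) := by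
  intro U hU r
  letI alg : Algebra (Dbl (data L m hL U)) (Dbl (data L m hL (X.basicOpen r))) :=
    (resMap L m hL (X.basicOpen_le r)).toAlgebra
  have halg : ∀ x : Dbl (data L m hL U),
      algebraMap (Dbl (data L m hL U)) (Dbl (data L m hL (X.basicOpen r))) x =
        resMap L m hL (X.basicOpen_le r) x := fun x => rfl
  have hO : IsLocalization.Away r Γ(X, X.basicOpen r) := hU.isLocalization_basicOpen r
  obtain ⟨r', hr'⟩ : ∃ r' : Γ(X, X.basicOpen r),
      r' = X.presheaf.map (homOfLE (X.basicOpen_le r)).op r := ⟨_, rfl⟩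
  have hunit : IsUnit r' := by
    rw [hr']
    exact X.toRingedSpace.isUnit_res_basicOpen r
  show IsLocalization (Submonoid.powers (Dbl.of (data L m hL U) r))
    (Dbl (data L m hL (X.basicOpen r)))
  rw [isLocalization_iff]
  refine ⟨?_, ?_, ?_⟩
  · rintro ⟨_, n, rfl⟩
    rw [halg, map_pow, resMap_of, ← hr']
    exact (hunit.map (Dbl.of (data L m hL (X.basicOpen r)))).pow n
  · intro z
    obtain ⟨⟨s₀, ⟨_, n, rfl⟩⟩, hs⟩ := IsLocalization.surj (Submonoid.powers r) z.fst
    have hs' : z.fst * r' ^ n = X.presheaf.map (homOfLE (X.basicOpen_le r)).op s₀ := by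
      rw [hr', ← map_pow]
      exact hs
    obtain ⟨k, l₀, hl⟩ := Groth.Agent.H8.exists_smul_eq_res hU L r z.snd
    rw [← hr'] at hl
    refine ⟨(⟨s₀ * r ^ k, r ^ n • l₀⟩,
      ⟨(Dbl.of (data L m hL U) r) ^ (n + k), n + k, rfl⟩), ?_⟩
    rw [halg, halg]
    show z * resMap L m hL (X.basicOpen_le r) ((Dbl.of (data L m hL U) r) ^ (n + k)) = _
    rw [map_pow, resMap_of, ← hr', mul_comm, of_pow_mul]
    refine Dbl.ext ?_ ?_
    · show r' ^ (n + k) * z.fst =
        X.presheaf.map (homOfLE (X.basicOpen_le r)).op (s₀ * r ^ k)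
      rw [map_mul, map_pow, ← hr', ← hs']
      ring
    · show r' ^ (n + k) • z.snd = L.presheaf.map (homOfLE (X.basicOpen_le r)).op (r ^ n • l₀)
      rw [res_smul, ← hl, map_pow, ← hr', smul_smul, pow_add]
  · intro x y hxy
    rw [halg, halg] at hxy
    have h1 : X.presheaf.map (homOfLE (X.basicOpen_le r)).op x.fst =
        X.presheaf.map (homOfLE (X.basicOpen_le r)).op y.fst := congrArg Dbl.fst hxy
    have h2 : L.presheaf.map (homOfLE (X.basicOpen_le r)).op x.snd =
        L.presheaf.map (homOfLE (X.basicOpen_le r)).op y.snd := congrArg Dbl.snd hxy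
    obtain ⟨⟨_, n, rfl⟩, hn⟩ := IsLocalization.exists_of_eq (M := Submonoid.powers r) h1
    have hn' : r ^ n * x.fst = r ^ n * y.fst := hn
    obtain ⟨k, hk⟩ := Groth.Agent.H8.exists_smul_eq_zero hU L r (x.snd - y.snd)
      (by rw [map_sub, h2, sub_self])
    rw [smul_sub, sub_eq_zero] at hk
    refine ⟨⟨(Dbl.of (data L m hL U) r) ^ (n + k), n + k, rfl⟩, ?_⟩
    show (Dbl.of (data L m hL U) r) ^ (n + k) * x = (Dbl.of (data L m hL U) r) ^ (n + k) * y
    rw [of_pow_mul, of_pow_mul]
    refine Dbl.ext ?_ ?_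
    · show r ^ (n + k) * x.fst = r ^ (n + k) * y.fst
      rw [pow_add, mul_comm (r ^ n), mul_assoc, hn', mul_assoc]
    · show r ^ (n + k) • x.snd = r ^ (n + k) • y.snd
      rw [pow_add, mul_smul, hk, mul_smul]

end Groth.Agent.H22.DblSheaf
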