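import Mathlib

/-!
# Étale algebras with a point of prescribed finite separable residue extension (helper22)

`FracSurj ρ` : every element of the field `κ` is a fraction of elements in the image of `ρ : A →+* κ`.
`exists_etale_with_point` : for such `ρ` and `k/κ` finite separable, there is an étale `A`-algebra
`B` (a standard étale algebra over a localization `A[1/e]`) with `ψ : B →+* k` over `ρ`, again
fraction-surjective.
-/

set_option autoImplicit false
set_option linter.style.haveILetI false
universe u

namespace Groth.Agent.H22.EtaleNbhd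

open Polynomial IntermediateField

/-- Every element of the field `κ` is a fraction of elements in the image of `ρ`. -/
def FracSurj {A κ : Type*} [CommRing A] [Field κ] (ρ : A →+* κ) : Prop :=
  ∀ x : κ, ∃ a b : A, ρ b ≠ 0 ∧ x * ρ b = ρ a

theorem exists_common_denominator {A κ : Type*} [CommRing A] [Field κ] (ρ : A →+* κ)
    (hρ : FracSurj ρ) (q : κ[X]) :
    ∃ e : A, ρ e ≠ 0 ∧ ∃ Q : A[X], Q.map ρ = C (ρ e) * q := by
  refine Polynomial.induction_on' q ?_ ?_
  · rintro q₁ q₂ ⟨e₁, he₁, Q₁, hQ₁⟩ ⟨e₂, he₂, Q₂, hQ₂⟩
    refine ⟨e₁ * e₂, by rw [map_mul]; exact mul_ne_zero he₁ he₂, C e₂ * Q₁ + C e₁ * Q₂, ?_⟩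
    rw [Polynomial.map_add, Polynomial.map_mul, Polynomial.map_mul, Polynomial.map_C,
      Polynomial.map_C, hQ₁, hQ₂, map_mul, C_mul]
    ring
  · intro n c
    obtain ⟨a, b, hb, hab⟩ := hρ c
    refine ⟨b, hb, monomial n a, ?_⟩
    rw [Polynomial.map_monomial, C_mul_monomial, ← hab, mul_comm]

theorem exists_etale_with_point {A κ : Type u} [CommRing A] [Field κ] (ρ : A →+* κ)
    (hρ : FracSurj ρ) (k : Type u) [Field k] [Algebra κ k] [FiniteDimensional κ k]
    [Algebra.IsSeparable κ k] :
    ∃ (B : Type u) (_ : CommRing B) (_ : Algebra A B) (ψ : B →+* k), Algebra.Etale A B ∧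
      ψ.comp (algebraMap A B) = (algebraMap κ k).comp ρ ∧ FracSurj ψ := by
  classical
  obtain ⟨α, hα⟩ := Field.exists_primitive_element κ k
  have hint : IsIntegral κ α := Algebra.IsIntegral.isIntegral α
  obtain ⟨e, he, Q, hQ⟩ := exists_common_denominator ρ hρ (minpoly κ α)
  have hunit : IsUnit (ρ e) := Ne.isUnit he
  let ρ' : Localization.Away e →+* κ := IsLocalization.Away.lift e hunit
  have hρ' : ∀ a, ρ' (algebraMap A (Localization.Away e) a) = ρ a :=
    fun a => IsLocalization.Away.lift_eq e hunit a
  have hlift : minpoly κ α ∈ Polynomial.lifts ρ' := by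
    rw [Polynomial.lifts_iff_coeff_lifts]
    intro n
    have h1 : ρ (Q.coeff n) = ρ e * (minpoly κ α).coeff n := by
      have := congrArg (fun p => p.coeff n) hQ
      simpa [Polynomial.coeff_map, Polynomial.coeff_C_mul] using this
    refine ⟨IsLocalization.mk' (Localization.Away e) (Q.coeff n)
      (⟨e, Submonoid.mem_powers e⟩ : Submonoid.powers e), ?_⟩
    have h2 : ρ' (IsLocalization.mk' (Localization.Away e) (Q.coeff n)
        (⟨e, Submonoid.mem_powers e⟩ : Submonoid.powers e)) * ρ e = ρ (Q.coeff n) := by
      rw [← hρ' e, ← map_mul]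
      have := IsLocalization.mk'_spec (Localization.Away e) (Q.coeff n)
        (⟨e, Submonoid.mem_powers e⟩ : Submonoid.powers e)
      rw [this, hρ']
    exact mul_right_cancel₀ he (by rw [h2, h1, mul_comm])
  obtain ⟨f, hf, -, hmonic⟩ :=
    Polynomial.lifts_and_natDegree_eq_and_monic hlift (minpoly.monic hint)
  let P : StandardEtalePair (Localization.Away e) :=
    { f := f, monic_f := hmonic, g := derivative f, cond := ⟨1, 0, 1, by simp⟩ }
  letI : Algebra (Localization.Away e) k := ((algebraMap κ k).comp ρ').toAlgebra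
  have halg : ∀ x : Localization.Away e,
      algebraMap (Localization.Away e) k x = algebraMap κ k (ρ' x) := fun x => rfl
  have haeval : ∀ p : (Localization.Away e)[X], aeval α p = aeval α (p.map ρ') := by
    intro p
    rw [aeval_def, aeval_def, eval₂_map]
    rfl
  have hmap : P.HasMap α := by
    constructor
    · show aeval α f = 0
      rw [haeval, hf]
      exact minpoly.aeval κ α
    · show IsUnit (aeval α (derivative f))
      rw [haeval, ← derivative_map, hf]
      exact Ne.isUnit ((Algebra.IsSeparable.isSeparable κ α).aeval_derivative_ne_zero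
        (minpoly.aeval κ α))
  let ψ₀ : P.Ring →ₐ[Localization.Away e] k := P.lift α hmap
  letI : Algebra A P.Ring :=
    ((algebraMap (Localization.Away e) P.Ring).comp (algebraMap A (Localization.Away e))).toAlgebra
  haveI : IsScalarTower A (Localization.Away e) P.Ring :=
    IsScalarTower.of_algebraMap_eq (fun a => rfl)
  haveI : Algebra.Etale A P.Ring := Algebra.Etale.comp A (Localization.Away e) P.Ring
  have hcomm : ∀ a : A, ψ₀ (algebraMap (Localization.Away e) P.Ring
      (algebraMap A (Localization.Away e) a)) = algebraMap κ k (ρ a) := by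
    intro a
    rw [ψ₀.commutes, halg, hρ']
  refine ⟨P.Ring, inferInstance, inferInstance, (ψ₀ : P.Ring →+* k), inferInstance, ?_, ?_⟩
  · ext a
    exact hcomm a
  · intro y
    have hy : y ∈ (κ⟮α⟯).toSubalgebra := by
      rw [hα]
      trivial
    rw [IntermediateField.adjoin_simple_toSubalgebra_of_isAlgebraic hint.isAlgebraic,
      Algebra.adjoin_singleton_eq_range_aeval] at hy
    obtain ⟨q, rfl⟩ := hy
    obtain ⟨d, hd, R, hR⟩ := exists_common_denominator ρ hρ q
    refine ⟨aeval P.X (R.map (algebraMap A (Localization.Away e))),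
      algebraMap (Localization.Away e) P.Ring (algebraMap A (Localization.Away e) d), ?_, ?_⟩
    · show ψ₀ (algebraMap (Localization.Away e) P.Ring
        (algebraMap A (Localization.Away e) d)) ≠ 0
      rw [hcomm]
      exact fun h => hd ((map_eq_zero (algebraMap κ k)).mp h)
    · show aeval α q * ψ₀ (algebraMap (Localization.Away e) P.Ring
          (algebraMap A (Localization.Away e) d)) =
        ψ₀ (aeval P.X (R.map (algebraMap A (Localization.Away e))))
      have hcomp : ρ'.comp (algebraMap A (Localization.Away e)) = ρ := RingHom.ext hρ'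
      rw [hcomm, ← Polynomial.aeval_algHom_apply, P.lift_X, haeval, Polynomial.map_map, hcomp, hR,
        map_mul, aeval_C, mul_comm]

end Groth.Agent.H22.EtaleNbhd
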