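import Mathlib
import Groth.Agent.H18.AmpleTensor
import Groth.Agent.H22.PullAmple

/-!
# External tensor products of ample modules (helper22)

* `isAmple_tensorMod_of_affine_inf`: `A ⊗ B` is ample if the `X_s ∩ X_{s'}` are affine and cover.
* `isAmple_tensorMod_pullback`: `r₁^*L₁ ⊗ r₂^*L₂` is ample when `L₁`, `L₂` are and
  `r₁⁻¹D₁ ∩ r₂⁻¹D₂` is affine for affine `D₁`, `D₂`.
* `isAffineOpen_inf_preimage`.
-/

set_option autoImplicit false
universe u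
open CategoryTheory CategoryTheory.Limits AlgebraicGeometry TopologicalSpace Opposite

namespace Groth.Agent.H22.ExtTensor

open Groth.Agent.H18.SecTw Groth.Agent.H18.TensorGen Groth.Agent.H18.TensorPowIso
open Groth.Agent.H18.AmpleTensor Groth.Agent.H18 Groth.Agent.H22.PullAmple Groth.Agent.H22.PullGen

variable {X : Scheme.{u}}

/-- `A ⊗ B` is ample if the affine opens `X_s ∩ X_{s'}` cover. -/
theorem isAmple_tensorMod_of_affine_inf [CompactSpace X] {L L' : X.Modules}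
    (hinv : PicF.IsInvertible L) (hL' : PicF.IsInvertible L')
    (h : ∀ x : X, ∃ (n : ℕ) (s : Coh.structureModule X ⟶ CohB1.tensorPow L (n + 1)) (m : ℕ)
      (s' : Coh.structureModule X ⟶ CohB1.tensorPow L' (m + 1)),
      x ∈ CohB1.genLocus _ s ∧ x ∈ CohB1.genLocus _ s' ∧
        IsAffineOpen (CohB1.genLocus _ s ⊓ CohB1.genLocus _ s')) :
    CohB1.IsAmple (CohB1.tensorMod L L') := by
  refine ⟨isInvertible_tensorMod hinv hL', inferInstance, fun x => ?_⟩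
  obtain ⟨n, s, m, s', hxs, hxs', haff⟩ := h x
  obtain ⟨e1⟩ := nonempty_tensorPow_tensorPow hinv (n + 1) (m + 1)
  obtain ⟨e2⟩ := nonempty_tensorPow_tensorPow hL' (m + 1) (n + 1)
  obtain ⟨e3⟩ := nonempty_tensorPow_congr L' (Nat.mul_comm (m + 1) (n + 1))
  obtain ⟨e4⟩ := nonempty_tensorPow_tensorMod hinv hL' ((n + 1) * (m + 1))
  obtain ⟨e5⟩ := nonempty_tensorPow_congr (CohB1.tensorMod L L')
    (show (n + 1) * (m + 1) = ((n + 1) * (m + 1) - 1) + 1 from by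
      have : 0 < (n + 1) * (m + 1) := Nat.mul_pos (Nat.succ_pos _) (Nat.succ_pos _)
      omega)
  obtain ⟨a, ha_def⟩ : ∃ a : Coh.structureModule X ⟶ CohB1.tensorPow L ((n + 1) * (m + 1)),
      a = SecTwist.powHom s (m + 1) ≫ e1.hom := ⟨_, rfl⟩
  obtain ⟨b, hb_def⟩ : ∃ b : Coh.structureModule X ⟶ CohB1.tensorPow L' ((n + 1) * (m + 1)),
      b = SecTwist.powHom s' (n + 1) ≫ (e2 ≪≫ e3).hom := ⟨_, rfl⟩
  have ha : CohB1.genLocus _ a = CohB1.genLocus _ s := by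
    rw [ha_def, TwistAmple.genLocus_comp_iso,
      genLocus_powHom_succ (isInvertible_tensorPow hinv (n + 1)) s m]
  have hb : CohB1.genLocus _ b = CohB1.genLocus _ s' := by
    rw [hb_def, TwistAmple.genLocus_comp_iso,
      genLocus_powHom_succ (isInvertible_tensorPow hL' (m + 1)) s' n]
  have hab := genLocus_tmulHom (isInvertible_tensorPow hinv ((n + 1) * (m + 1)))
    (isInvertible_tensorPow hL' ((n + 1) * (m + 1))) a b
  have hfin : CohB1.genLocus _ (SecTwist.tmulHom a b ≫ (e4 ≪≫ e5).hom) =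
      CohB1.genLocus _ s ⊓ CohB1.genLocus _ s' := by
    rw [TwistAmple.genLocus_comp_iso, hab, ha, hb]
  refine ⟨(n + 1) * (m + 1) - 1, SecTwist.tmulHom a b ≫ (e4 ≪≫ e5).hom, ?_, ?_⟩
  · rw [hfin]
    exact ⟨hxs, hxs'⟩
  · rw [hfin]
    exact haff

/-- The tensor product of pullbacks of ample modules along `r₁`, `r₂` is ample when
`r₁⁻¹D₁ ∩ r₂⁻¹D₂` is affine for all affine opens `D₁`, `D₂`. -/
theorem isAmple_tensorMod_pullback {Z X₁ X₂ : Scheme.{u}} [CompactSpace Z] (r₁ : Z ⟶ X₁)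
    (r₂ : Z ⟶ X₂) {L₁ : X₁.Modules} {L₂ : X₂.Modules} (hL₁ : CohB1.IsAmple L₁)
    (hL₂ : CohB1.IsAmple L₂)
    (haff : ∀ (D₁ : X₁.Opens) (D₂ : X₂.Opens), IsAffineOpen D₁ → IsAffineOpen D₂ →
      IsAffineOpen (r₁ ⁻¹ᵁ D₁ ⊓ r₂ ⁻¹ᵁ D₂)) :
    CohB1.IsAmple (CohB1.tensorMod ((Scheme.Modules.pullback r₁).obj L₁)
      ((Scheme.Modules.pullback r₂).obj L₂)) := by
  have hA := isInvertible_pullback r₁ hL₁.1
  have hB := isInvertible_pullback r₂ hL₂.1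
  refine isAmple_tensorMod_of_affine_inf hA hB (fun z => ?_)
  obtain ⟨n, s, hzs, haff₁⟩ := hL₁.2.2 (r₁ z)
  obtain ⟨m, s', hzs', haff₂⟩ := hL₂.2.2 (r₂ z)
  obtain ⟨t, ht⟩ := exists_pbSecPow r₁ hL₁.1 (n + 1) s
  obtain ⟨t', ht'⟩ := exists_pbSecPow r₂ hL₂.1 (m + 1) s'
  refine ⟨n, t, m, t', ?_, ?_, ?_⟩
  · rw [ht]
    exact hzs
  · rw [ht']
    exact hzs'
  · rw [ht, ht']
    exact haff _ _ haff₁ haff₂

/-- For `F : P ⟶ Q`, an affine open `E` of `P` mapping into an affine open `O` of `Q` and an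
affine open `T ≤ O`, the open `E ∩ F⁻¹T` is affine. -/
theorem isAffineOpen_inf_preimage {P Q : Scheme.{u}} (F : P ⟶ Q) {E : P.Opens}
    (hE : IsAffineOpen E) {O : Q.Opens} (hO : IsAffineOpen O) (hEO : E ≤ F ⁻¹ᵁ O)
    {T : Q.Opens} (hT : IsAffineOpen T) (hTO : T ≤ O) : IsAffineOpen (E ⊓ F ⁻¹ᵁ T) := by
  haveI : IsAffine E.toScheme := hE
  haveI : IsAffine O.toScheme := hO
  have hT' : IsAffineOpen (O.ι ⁻¹ᵁ T) := by
    rw [← Scheme.Hom.isAffineOpen_iff_of_isOpenImmersion O.ι,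
      Scheme.Hom.image_preimage_eq_opensRange_inf, Scheme.Opens.opensRange_ι,
      inf_eq_right.mpr hTO]
    exact hT
  have h1 : IsAffineOpen ((F.resLE O E hEO) ⁻¹ᵁ (O.ι ⁻¹ᵁ T)) := hT'.preimage (F.resLE O E hEO)
  have h2 : (F.resLE O E hEO) ⁻¹ᵁ (O.ι ⁻¹ᵁ T) = E.ι ⁻¹ᵁ (F ⁻¹ᵁ T) := by
    show (F.resLE O E hEO ≫ O.ι) ⁻¹ᵁ T = (E.ι ≫ F) ⁻¹ᵁ T
    rw [Scheme.Hom.resLE_comp_ι]
  rw [h2, ← Scheme.Hom.isAffineOpen_iff_of_isOpenImmersion E.ι,
    Scheme.Hom.image_preimage_eq_opensRange_inf, Scheme.Opens.opensRange_ι] at h1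
  exact h1

end Groth.Agent.H22.ExtTensor
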