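import Mathlib
import Groth.Prelude
import Groth.Agent.S14090
import Groth.Agent.H54.CD_FLAT
import Groth.Agent.H9.ComapIdeal

/-!
# (AFF) the affine blow-up criterion S14090, transported to `f ∣_ U`
-/

set_option autoImplicit false
set_option linter.style.haveILetI false
universe u
open CategoryTheory CategoryTheory.Limits AlgebraicGeometry

namespace Groth.Agent.H22.FBAFF

/-- (ISO) blow-ups transport along isomorphisms of arrows -/
theorem ISO {X X' Y Y' : Scheme.{u}} (b : X ⟶ Y) (b' : X' ⟶ Y') (eX : X' ≅ X) (eY : Y' ≅ Y)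
    (w : eX.hom ≫ b = b' ≫ eY.hom) (I : Y.IdealSheafData) (h : BlowUp.IsBlowUp b I) :
    BlowUp.IsBlowUp b' (I.comap eY.hom) := by
  refine ⟨?_, ?_⟩
  · rw [← Scheme.IdealSheafData.comap_comp, ← w, Scheme.IdealSheafData.comap_comp]
    exact Groth.Agent.H54.CD_FLAT.FLAT eX.hom _ h.1
  · intro T g hg
    rw [← Scheme.IdealSheafData.comap_comp] at hg
    obtain ⟨k, hk, hku⟩ := h.2 T (g ≫ eY.hom) hg
    have w' : eX.inv ≫ b' = b ≫ eY.inv := by
      rw [Iso.inv_comp_eq, ← Category.assoc, w, Category.assoc, Iso.hom_inv_id, Category.comp_id]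
    refine ⟨k ≫ eX.inv, ?_, ?_⟩
    · change (k ≫ eX.inv) ≫ b' = g
      rw [Category.assoc, w', ← Category.assoc, hk, Category.assoc, Iso.hom_inv_id,
        Category.comp_id]
    · intro k' hk'
      have : k' ≫ eX.hom = k := by
        apply hku
        change (k' ≫ eX.hom) ≫ b = g ≫ eY.hom
        rw [Category.assoc, w, ← Category.assoc, hk']
      rw [← this, Category.assoc, Iso.hom_inv_id, Category.comp_id]

/-- identification of the two ideal sheaves on the affine open -/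
theorem comap_isoSpec_eq {Y : Scheme.{u}} (I : Y.IdealSheafData) (U : Y.affineOpens) :
    (Curv2.idealSheaf Γ(Y, U.1) (I.ideal U)).comap U.2.isoSpec.hom = I.comap U.1.ι := by
  haveI : IsAffine U.1.toScheme := U.2
  apply Scheme.IdealSheafData.ext_of_isAffine
  rw [Groth.Agent.S14090.comap_idealSheaf_ideal,
    Groth.Agent.H9.comap_ideal U.1.ι I U ⟨⊤, isAffineOpen_top _⟩ (by simp)]
  congr 1
  unfold Groth.Agent.H54.BlowUpAffine.sharp
  rw [IsAffineOpen.isoSpec_hom, ← CommRingCat.hom_comp]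
  congr 1
  rw [Scheme.Opens.toSpecΓ_appTop]
  simp only [Scheme.Opens.topIso, Scheme.Hom.appLE, Functor.mapIso_inv, Iso.op_inv, eqToIso.inv,
    eqToHom_op, Scheme.Opens.ι_app]
  erw [Iso.inv_hom_id_assoc]
  rw [Scheme.Opens.toScheme_presheaf_map, Scheme.Opens.toScheme_presheaf_map]
  erw [← CategoryTheory.Functor.map_comp, ← CategoryTheory.Functor.map_comp]
  congr 1

/-- (AFF) -/
theorem AFF {X Y : Scheme.{u}} (f : X ⟶ Y) (I : Y.IdealSheafData) (U : Y.affineOpens)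
    (hV : IsAffineOpen (f ⁻¹ᵁ U.1)) (hinj : Function.Injective (f.app U.1).hom)
    (hIB : ∀ a ∈ Ideal.map (f.app U.1).hom (I.ideal U), ∃ b ∈ I.ideal U, (f.app U.1).hom b = a)
    (s : Γ(X, f ⁻¹ᵁ U.1)) (hs : s ∈ nonZeroDivisors Γ(X, f ⁻¹ᵁ U.1))
    (hgen : Ideal.map (f.app U.1).hom (I.ideal U) = Ideal.span {s}) :
    BlowUp.IsBlowUp (f ∣_ U.1) (I.comap U.1.ι) := by
  letI : Algebra Γ(Y, U.1) Γ(X, f ⁻¹ᵁ U.1) := (f.app U.1).hom.toAlgebra
  have h0 := Groth.Agent.S14090.result Γ(Y, U.1) Γ(X, f ⁻¹ᵁ U.1) hinj (I.ideal U) (by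
      rintro a ha
      obtain ⟨b, hb, rfl⟩ := hIB a ha
      exact ⟨b, hb, rfl⟩) s hs hgen
  have h1 := ISO (Spec.map (CommRingCat.ofHom (algebraMap Γ(Y, U.1) Γ(X, f ⁻¹ᵁ U.1))))
    (f ∣_ U.1) hV.isoSpec U.2.isoSpec (Scheme.Opens.toSpecΓ_naturality f U.1) _ h0
  rw [← comap_isoSpec_eq I U]
  exact h1

end Groth.Agent.H22.FBAFF
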