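import Mathlib.Topology.NoetherianSpace
import Mathlib.Topology.Sets.Opens

set_option autoImplicit false

namespace Groth.Agent.H22

open TopologicalSpace

/-- In a space where every point has a Noetherian open neighbourhood, every subset of a compact
set is compact. -/
theorem isCompact_of_subset_of_locallyNoetherian {X : Type*} [TopologicalSpace X]
    (hX : ∀ x : X, ∃ U : Opens X, x ∈ U ∧ NoetherianSpace U)
    {K T : Set X} (hK : IsCompact K) (hT : T ⊆ K) : IsCompact T := by
  choose U hxU hU using hX
  obtain ⟨t, -, ht⟩ := hK.elim_nhds_subcover (fun x => (U x : Set X))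
    (fun x _ => (U x).2.mem_nhds (hxU x))
  have : NoetherianSpace (⋃ x : t, (U x : Set X)) := by
    have : ∀ x : t, NoetherianSpace ((U x : Opens X) : Set X) := fun x => hU x
    exact NoetherianSpace.iUnion _
  have hsub : T ⊆ ⋃ x : t, (U x : Set X) := by
    refine hT.trans (ht.trans ?_)
    intro y hy
    simp only [Set.mem_iUnion] at hy ⊢
    obtain ⟨x, hx, hy⟩ := hy
    exact ⟨⟨x, hx⟩, hy⟩
  exact (noetherianSpace_set_iff _).mp this T hsub

end Groth.Agent.H22
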