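import Mathlib
import Groth.Agent.H22.FTExtOpen
import Groth.Agent.H22.LocNoeth

/-!
# Extending quasi-coherent subsheaves of finite type on locally Noetherian schemes (helper22)

The transfinite (Zorn) version of the extension of quasi-coherent subsheaves of finite type:
`SubSh.exists_ft_extension`.  The hypothesis `hN` (the intersection of an affine open with any open
is quasi-compact) holds on schemes whose underlying space is locally Noetherian
(`isCompact_inf_of_locallyNoetherian`).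
-/

set_option autoImplicit false
set_option linter.style.haveILetI false
set_option linter.unusedSectionVars false
universe u
open CategoryTheory CategoryTheory.Limits AlgebraicGeometry TopologicalSpace Opposite

namespace Groth.Agent.H22

open Groth.Agent.H8 Groth.Agent.H22.QCohLimits

/-- On a scheme with locally Noetherian underlying space, the intersection of an affine open with
any open is quasi-compact. -/
theorem isCompact_inf_of_locallyNoetherian {X : Scheme.{u}}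
    (hX : ∀ x : X, ∃ U : X.Opens, x ∈ U ∧ TopologicalSpace.NoetherianSpace (U : Set X))
    (A : X.Opens) (hA : IsAffineOpen A) (W : X.Opens) :
    IsCompact ((A ⊓ W : X.Opens) : Set X) := by
  refine isCompact_of_subset_of_locallyNoetherian (X := X) (fun x => ?_) hA.isCompact
    (show ((A ⊓ W : X.Opens) : Set X) ⊆ (A : Set X) from fun p hp => hp.1)
  obtain ⟨U, hxU, hU⟩ := hX x
  exact ⟨U, hxU, hU⟩

namespace SubSh

variable {X : Scheme.{u}} {F : X.Modules}

/-- Saturation of `K` with respect to `W`: sections whose restriction to `W` lies in `K`. -/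
noncomputable def sat (W : X.Opens) (K : SubSh F) : SubSh F where
  mem A x := K.mem (A ⊓ W) (F.presheaf.map (homOfLE (inf_le_left : A ⊓ W ≤ A)).op x)
  zero_mem A := by
    rw [map_zero]
    exact K.zero_mem _
  add_mem A x y hx hy := by
    rw [map_add]
    exact K.add_mem _ _ _ hx hy
  smul_mem A r x hx := by
    rw [res_smul]
    exact K.smul_mem _ _ _ hx
  res_mem {A B} h x hx := by
    rw [res_res]
    have h1 := K.res_mem (inf_le_inf_right W h : B ⊓ W ≤ A ⊓ W) _ hx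
    rw [res_res] at h1
    exact h1
  local_mem A x hx := by
    apply K.local_mem
    intro p hp
    obtain ⟨B, hBA, hpB, hB⟩ := hx p hp.1
    refine ⟨B ⊓ W, inf_le_inf_right W hBA, ⟨hpB, hp.2⟩, ?_⟩
    rw [res_res]
    rw [res_res] at hB
    exact hB

lemma sat_isSat (W : X.Opens) (K : SubSh F) : (sat W K).IsSat W := by
  intro A x h
  have h' : K.mem ((A ⊓ W) ⊓ W) (F.presheaf.map (homOfLE (inf_le_left : (A ⊓ W) ⊓ W ≤ A ⊓ W)).op
      (F.presheaf.map (homOfLE (inf_le_left : A ⊓ W ≤ A)).op x)) := h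
  have h1 := K.res_mem (le_inf le_rfl inf_le_right : A ⊓ W ≤ (A ⊓ W) ⊓ W) _ h'
  rw [res_res, res_res] at h1
  exact h1

lemma mem_sat_iff_of_le {W A : X.Opens} (hA : A ≤ W) (K : SubSh F) (x : Γ(F, A)) :
    (sat W K).mem A x ↔ K.mem A x := by
  constructor
  · intro h
    have h' : K.mem (A ⊓ W) (F.presheaf.map (homOfLE (inf_le_left : A ⊓ W ≤ A)).op x) := h
    have h1 := K.res_mem (le_inf le_rfl hA : A ≤ A ⊓ W) _ h'
    rw [res_res, res_self'] at h1
    exact h1
  · intro h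
    exact K.res_mem inf_le_left x h

lemma sat_QCOn (W : X.Opens) (K : SubSh F) (hK : K.QC) : (sat W K).QCOn W := by
  intro A hA hAW a y hy
  have hy' : K.mem (X.basicOpen a) y :=
    (mem_sat_iff_of_le ((X.basicOpen_le a).trans hAW) K y).mp hy
  obtain ⟨n, x, hx, hxy⟩ := hK A hA a y hy'
  exact ⟨n, x, (mem_sat_iff_of_le hAW K x).mpr hx, hxy⟩

lemma sat_QC [F.IsQuasicoherent] (W : X.Opens) (K : SubSh F) (hK : K.QC)
    (hcomp : ∀ A : X.Opens, IsAffineOpen A → IsCompact ((A ⊓ W : X.Opens) : Set X)) :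
    (sat W K).QC :=
  QC_of_isSat _ W (sat_isSat W K) (sat_QCOn W K hK) hcomp

/-- A stage of the transfinite extension. -/
structure Stage (K₀ : SubSh F) (U : X.Opens) where
  V : X.Opens
  K : SubSh F
  hUV : U ≤ V
  sat : K.IsSat V
  qc : K.QC
  ft : K.FTOn V
  agree : ∀ A : X.Opens, A ≤ U → ∀ x : Γ(F, A), K.mem A x ↔ K₀.mem A x

namespace Stage

variable {K₀ : SubSh F} {U : X.Opens}

/-- The extension order on stages. -/
def rel (m m' : Stage K₀ U) : Prop :=
  m.V ≤ m'.V ∧ ∀ A : X.Opens, A ≤ m.V → ∀ x : Γ(F, A), m'.K.mem A x ↔ m.K.mem A x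

lemma rel_refl (m : Stage K₀ U) : rel m m := ⟨le_rfl, fun _ _ _ => Iff.rfl⟩

lemma rel_trans {a b c : Stage K₀ U} (hab : rel a b) (hbc : rel b c) : rel a c :=
  ⟨hab.1.trans hbc.1, fun A hA x => (hbc.2 A (hA.trans hab.1) x).trans (hab.2 A hA x)⟩

/-- Chains of stages have upper bounds. -/
theorem exists_ub [F.IsQuasicoherent]
    (hN : ∀ A : X.Opens, IsAffineOpen A → ∀ W : X.Opens, IsCompact ((A ⊓ W : X.Opens) : Set X))
    (m₀ : Stage K₀ U) (c : Set (Stage K₀ U)) (hc : IsChain rel c) :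
    ∃ ub : Stage K₀ U, ∀ a ∈ c, rel a ub := by
  rcases c.eq_empty_or_nonempty with hce | ⟨m₁, hm₁⟩
  · exact ⟨m₀, fun a ha => by rw [hce] at ha; exact (Set.notMem_empty a ha).elim⟩
  have htot : ∀ a ∈ c, ∀ b ∈ c, rel a b ∨ rel b a := by
    intro a ha b hb
    by_cases hab : a = b
    · subst hab
      exact Or.inl (rel_refl a)
    · exact hc ha hb hab
  obtain ⟨Vs, hVs⟩ : ∃ Vs : X.Opens, Vs = ⨆ m : c, m.1.V := ⟨_, rfl⟩
  have hleV : ∀ m ∈ c, m.V ≤ Vs := fun m hm => by
    rw [hVs]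
    exact le_iSup (fun m : c => m.1.V) ⟨m, hm⟩
  let Ks : SubSh F :=
    { mem := fun A x => ∀ m ∈ c, m.K.mem A x
      zero_mem := fun A m _ => m.K.zero_mem A
      add_mem := fun A x y hx hy m hm => m.K.add_mem A x y (hx m hm) (hy m hm)
      smul_mem := fun A r x hx m hm => m.K.smul_mem A r x (hx m hm)
      res_mem := fun h x hx m hm => m.K.res_mem h x (hx m hm)
      local_mem := fun A x h m hm => m.K.local_mem A x (fun p hp => by
        obtain ⟨B, hB, hpB, hmem⟩ := h p hp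
        exact ⟨B, hB, hpB, hmem m hm⟩) }
  have hagree : ∀ m ∈ c, ∀ A : X.Opens, A ≤ m.V → ∀ x : Γ(F, A),
      Ks.mem A x ↔ m.K.mem A x := by
    intro m hm A hA x
    refine ⟨fun h => h m hm, fun h m' hm' => ?_⟩
    rcases htot m hm m' hm' with hr | hr
    · exact (hr.2 A hA x).mpr h
    · apply m'.sat A x
      exact (hr.2 (A ⊓ m'.V) inf_le_right _).mp (m.K.res_mem inf_le_left x h)
  have hsat : Ks.IsSat Vs := by
    intro A x h m hm
    apply m.sat A x
    have h1 := m.K.res_mem (inf_le_inf_left A (hleV m hm) : A ⊓ m.V ≤ A ⊓ Vs) _ (h m hm)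
    rw [res_res] at h1
    exact h1
  have haff : ∀ A : X.Opens, IsAffineOpen A → A ≤ Vs → ∃ m ∈ c, A ≤ m.V := by
    intro A hA hAV
    haveI : Nonempty c := ⟨⟨m₁, hm₁⟩⟩
    have hcov : (A : Set X) ⊆ ⋃ m : c, (m.1.V : Set X) := by
      intro p hp
      have hp' : p ∈ Vs := hAV hp
      rw [hVs] at hp'
      obtain ⟨m, hpm⟩ := Opens.mem_iSup.mp hp'
      exact Set.mem_iUnion.mpr ⟨m, hpm⟩
    have hdir : Directed (· ⊆ ·) (fun m : c => (m.1.V : Set X)) := by
      intro a b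
      rcases htot a.1 a.2 b.1 b.2 with hr | hr
      · exact ⟨b, fun p hp => hr.1 hp, fun p hp => hp⟩
      · exact ⟨a, fun p hp => hp, fun p hp => hr.1 hp⟩
    obtain ⟨m, hm⟩ := hA.isCompact.elim_directed_cover (fun m : c => (m.1.V : Set X))
      (fun m => m.1.V.2) hcov hdir
    exact ⟨m.1, m.2, fun p hp => hm hp⟩
  have hft : Ks.FTOn Vs := by
    intro A hA hAV
    obtain ⟨m, hm, hAm⟩ := haff A hA hAV
    rw [sub_congr (hagree m hm A hAm)]
    exact m.ft A hA hAm
  have hqcon : Ks.QCOn Vs := by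
    intro A hA hAV a y hy
    obtain ⟨m, hm, hAm⟩ := haff A hA hAV
    obtain ⟨n, x, hx, hxy⟩ := m.qc A hA a y (hy m hm)
    exact ⟨n, x, (hagree m hm A hAm x).mpr hx, hxy⟩
  have hqc : Ks.QC := QC_of_isSat Ks Vs hsat hqcon (fun A hA => hN A hA Vs)
  refine ⟨⟨Vs, Ks, m₁.hUV.trans (hleV m₁ hm₁), hsat, hqc, hft, fun A hA x => ?_⟩,
    fun a ha => ⟨hleV a ha, fun A hA x => hagree a ha A hA x⟩⟩
  exact (hagree m₁ hm₁ A (hA.trans m₁.hUV) x).trans (m₁.agree A hA x)

/-- A stage can be extended over any affine open. -/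
theorem exists_extend [F.IsQuasicoherent]
    (hN : ∀ A : X.Opens, IsAffineOpen A → ∀ W : X.Opens, IsCompact ((A ⊓ W : X.Opens) : Set X))
    (m : Stage K₀ U) (W : X.Opens) (hW : IsAffineOpen W) :
    ∃ m' : Stage K₀ U, rel m m' ∧ W ≤ m'.V := by
  have hVW : IsCompact ((m.V ⊓ W : X.Opens) : Set X) := by
    rw [inf_comm]
    exact hN W hW m.V
  obtain ⟨K', hK', hle, hge, hfg, -⟩ := m.K.exists_shrink m.qc m.V m.ft W hW hVW
    (fun A hA => hN A hA W) (fun i : PEmpty.{u + 1} => i.elim) (fun i => i.elim)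
  have ftV : K'.FTOn m.V :=
    FTOn.congr (K := m.K) (K' := K') (fun A hA x => ⟨hle A x, hge A hA x⟩) m.ft
  have ftW : K'.FTOn W := K'.ftOn_of_fg hK' hW hfg
  have ftVW : K'.FTOn (m.V ⊔ W) := FTOn.sup K' hK' ftV ftW
  have hsatle : ∀ A : X.Opens, A ≤ m.V ⊔ W → ∀ x : Γ(F, A),
      (SubSh.sat (m.V ⊔ W) K').mem A x ↔ K'.mem A x := fun A hA x => mem_sat_iff_of_le hA K' x
  refine ⟨⟨m.V ⊔ W, SubSh.sat (m.V ⊔ W) K', m.hUV.trans le_sup_left, sat_isSat _ _,
    sat_QC _ _ hK' (fun A hA => hN A hA _),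
    FTOn.congr (K := K') (K' := SubSh.sat (m.V ⊔ W) K') hsatle ftVW, fun A hA x => ?_⟩,
    ⟨le_sup_left, fun A hA x => ?_⟩, le_sup_right⟩
  · exact ((hsatle A ((hA.trans m.hUV).trans le_sup_left) x).trans
      ⟨hle A x, hge A (hA.trans m.hUV) x⟩).trans (m.agree A hA x)
  · exact (hsatle A (hA.trans le_sup_left) x).trans ⟨hle A x, hge A hA x⟩

end Stage

/-- **Extension of quasi-coherent subsheaves of finite type, locally Noetherian case.** -/
theorem exists_ft_extension [F.IsQuasicoherent]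
    (hN : ∀ A : X.Opens, IsAffineOpen A → ∀ W : X.Opens, IsCompact ((A ⊓ W : X.Opens) : Set X))
    (K₀ : SubSh F) (U : X.Opens) (hsat : K₀.IsSat U) (hqc : K₀.QC) (hft : K₀.FTOn U) :
    ∃ K : SubSh F, K.QC ∧ K.FTOn ⊤ ∧
      ∀ A : X.Opens, A ≤ U → ∀ x : Γ(F, A), K.mem A x ↔ K₀.mem A x := by
  have m₀ : Stage K₀ U := ⟨U, K₀, le_rfl, hsat, hqc, hft, fun _ _ _ => Iff.rfl⟩
  obtain ⟨m, hm⟩ := exists_maximal_of_chains_bounded (r := Stage.rel (K₀ := K₀) (U := U))
    (fun c hc => Stage.exists_ub hN m₀ c hc) (fun hab hbc => Stage.rel_trans hab hbc)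
  have htop : m.V = ⊤ := by
    rw [eq_top_iff]
    intro p _
    obtain ⟨_, ⟨W, hW, rfl⟩, hpW, -⟩ :=
      X.isBasis_affineOpens.exists_subset_of_mem_open (Set.mem_univ p) isOpen_univ
    obtain ⟨m', hr, hWm'⟩ := m.exists_extend hN W hW
    exact (hm m' hr).1 (hWm' hpW)
  refine ⟨m.K, m.qc, ?_, m.agree⟩
  rw [← htop]
  exact m.ft

end SubSh

end Groth.Agent.H22
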