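import Mathlib
import Groth.Agent.H22.FTExtZorn

/-!
# Extending quasi-coherent subsheaves of finite type along a well-ordered affine cover (helper22)

The scheme `X` has a cover by affine opens `V l`, `l : L` a well-ordered set, such that
`V l ∩ ⋃ m < l, V m` is quasi-compact for every `l`.  Then `X` is quasi-separated, the opens
`⋃ m ∈ I, V m` for lower sets `I` are retrocompact, and the Zorn argument of `FTExtZorn` goes through
along the stages `U ⊔ ⋃ m ∈ I, V m`.
-/

set_option autoImplicit false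
set_option linter.style.haveILetI false
set_option linter.unusedSectionVars false
universe u v
open CategoryTheory CategoryTheory.Limits AlgebraicGeometry TopologicalSpace Opposite

namespace Groth.Agent.H22

open Groth.Agent.H8 Groth.Agent.H22.QCohLimits

section Topology

variable {X : Scheme.{u}}

/-- A union of affine opens with pairwise quasi-compact intersections is quasi-separated. -/
theorem isQuasiSeparated_iUnion_of_affine {ι : Type*} (W : ι → X.Opens)
    (hW : ∀ i, IsAffineOpen (W i)) (hWW : ∀ i j, IsCompact ((W i : Set X) ∩ (W j : Set X))) :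
    IsQuasiSeparated (⋃ i, (W i : Set X)) := by
  obtain ⟨T, hT⟩ : ∃ T : X.Opens, T = ⨆ i, W i := ⟨_, rfl⟩
  have hle : ∀ i, W i ≤ T := fun i => hT ▸ le_iSup W i
  have hTset : (⋃ i, (W i : Set X)) = (T : Set X) := by
    rw [hT]; simp
  rw [hTset]
  refine (isQuasiSeparated_iff_quasiSeparatedSpace (T : Set X) T.2).mpr ?_
  refine Scheme.quasiSeparatedSpace_of_isOpenCover (X := T.toScheme)
    (fun i => T.ι ⁻¹ᵁ W i) ?_ ?_ ?_
  · change ⨆ i, T.ι ⁻¹ᵁ W i = ⊤
    rw [← Scheme.Hom.preimage_iSup, ← hT]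
    exact T.ι_preimage_self
  · intro i
    rw [← T.ι.isAffineOpen_iff_of_isOpenImmersion, Scheme.Hom.image_preimage_eq_opensRange_inf,
      Scheme.Opens.opensRange_ι, inf_eq_right.mpr (hle i)]
    exact hW i
  · intro i j
    have h1 : ((T.ι ⁻¹ᵁ W i : T.toScheme.Opens) : Set T.toScheme) ∩ (T.ι ⁻¹ᵁ W j : T.toScheme.Opens) =
        T.ι ⁻¹' ((W i : Set X) ∩ (W j : Set X)) := rfl
    rw [h1, T.ι.isOpenEmbedding.isCompact_iff, Set.image_preimage_eq_inter_range,
      Scheme.Opens.range_ι, Set.inter_eq_left.mpr]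
    · exact hWW i j
    · exact fun p hp => hle i hp.1

variable {L : Type v} [LinearOrder L] [WellFoundedLT L]
  (V : L → X.Opens) (hV : ∀ l, IsAffineOpen (V l))
  (hW : ∀ l, IsCompact ((V l : Set X) ∩ ⋃ m ∈ Set.Iio l, (V m : Set X)))

include hV hW in
/-- Pairwise intersections of the members of the well-ordered cover are quasi-compact. -/
theorem isCompact_inter_of_wo (l : L) :
    ∀ a b, a ≤ l → b ≤ l → IsCompact ((V a : Set X) ∩ (V b : Set X)) := by
  induction l using WellFoundedLT.induction with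
  | ind l ih =>
  have key : ∀ b, b < l → IsCompact ((V l : Set X) ∩ (V b : Set X)) := by
    intro b hb
    have hqs : IsQuasiSeparated (⋃ m : Set.Iio l, (V m.1 : Set X)) :=
      isQuasiSeparated_iUnion_of_affine (fun m : Set.Iio l => V m.1) (fun m => hV m.1)
        (fun m m' => ih (max m.1 m'.1) (max_lt m.2 m'.2) m.1 m'.1 (le_max_left _ _)
          (le_max_right _ _))
    have e : (V l : Set X) ∩ (V b : Set X) =
        ((V l : Set X) ∩ ⋃ m ∈ Set.Iio l, (V m : Set X)) ∩ (V b : Set X) := by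
      ext p
      constructor
      · rintro ⟨h1, h2⟩
        exact ⟨⟨h1, Set.mem_biUnion hb h2⟩, h2⟩
      · rintro ⟨⟨h1, -⟩, h2⟩
        exact ⟨h1, h2⟩
    rw [e]
    refine hqs _ _ ?_ ?_ (hW l) ?_ (V b).2 (hV b).isCompact
    · rintro p ⟨-, hp⟩
      obtain ⟨m, hm, hpm⟩ := Set.mem_iUnion₂.mp hp
      exact Set.mem_iUnion.mpr ⟨⟨m, hm⟩, hpm⟩
    · exact (V l).2.inter (isOpen_biUnion fun m _ => (V m).2)
    · intro p hp
      exact Set.mem_iUnion.mpr ⟨⟨b, hb⟩, hp⟩
  intro a b ha hb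
  rcases lt_or_eq_of_le ha with ha' | rfl
  · rcases lt_or_eq_of_le hb with hb' | rfl
    · exact ih (max a b) (max_lt ha' hb') a b (le_max_left _ _) (le_max_right _ _)
    · rw [Set.inter_comm]
      exact key a ha'
  · rcases lt_or_eq_of_le hb with hb' | rfl
    · exact key b hb'
    · rw [Set.inter_self]
      exact (hV _).isCompact

include hV hW in
/-- A scheme with such a well-ordered affine cover is quasi-separated. -/
theorem quasiSeparatedSpace_of_wo (hcov : ⨆ l, V l = ⊤) : QuasiSeparatedSpace X :=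
  Scheme.quasiSeparatedSpace_of_isOpenCover V hcov hV
    (fun a b => isCompact_inter_of_wo V hV hW (max a b) a b (le_max_left _ _) (le_max_right _ _))

include hV hW in
/-- `V l ∩ ⋃ m ∈ I, V m` is quasi-compact for every lower set `I`. -/
theorem isCompact_inter_lower [QuasiSeparatedSpace X] (l : L) :
    ∀ I : Set L, IsLowerSet I → IsCompact ((V l : Set X) ∩ ⋃ m ∈ I, (V m : Set X)) := by
  induction l using WellFoundedLT.induction with
  | ind l ih =>
  intro I hI
  by_cases hl : l ∈ I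
  · rw [Set.inter_eq_left.mpr (Set.subset_biUnion_of_mem (u := fun m => (V m : Set X)) hl)]
    exact (hV l).isCompact
  · have hlt : ∀ m ∈ I, m < l := by
      intro m hm
      by_contra h
      exact hl (hI (not_lt.mp h) hm)
    have hC := hW l
    obtain ⟨b', hb', hfin, hcov⟩ := hC.elim_finite_subcover_image
      (b := Set.Iio l) (c := fun m => (V m : Set X)) (fun m _ => (V m).2) Set.inter_subset_right
    have e : (V l : Set X) ∩ ⋃ m ∈ I, (V m : Set X) =
        ⋃ k ∈ b', ((V l : Set X) ∩ ⋃ m ∈ Set.Iio l, (V m : Set X)) ∩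
          ((V k : Set X) ∩ ⋃ m ∈ I, (V m : Set X)) := by
      ext p
      constructor
      · rintro ⟨h1, h2⟩
        obtain ⟨m, hm, hpm⟩ := Set.mem_iUnion₂.mp h2
        have hpC : p ∈ (V l : Set X) ∩ ⋃ m ∈ Set.Iio l, (V m : Set X) :=
          ⟨h1, Set.mem_biUnion (hlt m hm) hpm⟩
        obtain ⟨k, hk, hpk⟩ := Set.mem_iUnion₂.mp (hcov hpC)
        exact Set.mem_iUnion₂.mpr ⟨k, hk, hpC, hpk, h2⟩
      · intro hp
        obtain ⟨k, hk, hpC, hpk, h2⟩ := Set.mem_iUnion₂.mp hp
        exact ⟨hpC.1, h2⟩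
    rw [e]
    refine hfin.isCompact_biUnion fun k hk => ?_
    exact QuasiSeparatedSpace.inter_isCompact _ _
      ((V l).2.inter (isOpen_biUnion fun m _ => (V m).2)) hC
      ((V k).2.inter (isOpen_biUnion fun m _ => (V m).2)) (ih k (hb' hk) I hI)

include hV hW in
/-- `⋃ m ∈ I, V m` is retrocompact for every lower set `I`. -/
theorem isCompact_inter_lower_of_isCompact [QuasiSeparatedSpace X] (hcov : ⨆ l, V l = ⊤)
    (I : Set L) (hI : IsLowerSet I) (A : Set X) (hAo : IsOpen A) (hAc : IsCompact A) :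
    IsCompact (A ∩ ⋃ m ∈ I, (V m : Set X)) := by
  have hsub : A ⊆ ⋃ l, (V l : Set X) := by
    intro p _
    have hp : p ∈ (⨆ l, V l : X.Opens) := by rw [hcov]; trivial
    obtain ⟨l, hl⟩ := Opens.mem_iSup.mp hp
    exact Set.mem_iUnion.mpr ⟨l, hl⟩
  obtain ⟨t, ht⟩ := hAc.elim_finite_subcover (fun l => (V l : Set X)) (fun l => (V l).2) hsub
  have e : A ∩ ⋃ m ∈ I, (V m : Set X) =
      ⋃ k ∈ t, A ∩ ((V k : Set X) ∩ ⋃ m ∈ I, (V m : Set X)) := by
    ext p
    constructor
    · rintro ⟨h1, h2⟩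
      obtain ⟨k, hk, hpk⟩ := Set.mem_iUnion₂.mp (ht h1)
      exact Set.mem_iUnion₂.mpr ⟨k, hk, h1, hpk, h2⟩
    · intro hp
      obtain ⟨k, hk, h1, hpk, h2⟩ := Set.mem_iUnion₂.mp hp
      exact ⟨h1, h2⟩
  rw [e]
  refine t.isCompact_biUnion fun k _ => ?_
  exact QuasiSeparatedSpace.inter_isCompact _ _ hAo hAc
    ((V k).2.inter (isOpen_biUnion fun m _ => (V m).2)) (isCompact_inter_lower V hV hW k I hI)

end Topology

namespace SubSh

variable {X : Scheme.{u}} {F : X.Modules}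

namespace Stage

variable {K₀ : SubSh F} {U : X.Opens}

/-- Chains of stages have upper bounds, provided the union of the stage opens is retrocompact. -/
theorem exists_ub_of [F.IsQuasicoherent]
    (c : Set (Stage K₀ U)) (hc : IsChain rel c) (m₁ : Stage K₀ U) (hm₁ : m₁ ∈ c)
    (hN : ∀ A : X.Opens, IsAffineOpen A →
      IsCompact ((A ⊓ (⨆ m : c, m.1.V) : X.Opens) : Set X)) :
    ∃ ub : Stage K₀ U, ub.V = (⨆ m : c, m.1.V) ∧ ∀ a ∈ c, rel a ub := by
  have htot : ∀ a ∈ c, ∀ b ∈ c, rel a b ∨ rel b a := by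
    intro a ha b hb
    by_cases hab : a = b
    · subst hab
      exact Or.inl (rel_refl a)
    · exact hc ha hb hab
  obtain ⟨Vs, hVs⟩ : ∃ Vs : X.Opens, Vs = ⨆ m : c, m.1.V := ⟨_, rfl⟩
  rw [← hVs] at hN
  have hleV : ∀ m ∈ c, m.V ≤ Vs := fun m hm => by
    rw [hVs]
    exact le_iSup (fun m : c => m.1.V) ⟨m, hm⟩
  let Ks : SubSh F :=
    { mem := fun A x => ∀ m ∈ c, m.K.mem A x
      zero_mem := fun A m _ => m.K.zero_mem A
      add_mem := fun A x y hx hy m hm => m.K.add_mem A x y (hx m hm) (hy m hm)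
      smul_mem := fun A r x hx m hm => m.K.smul_mem A r x (hx m hm)
      res_mem := fun h x hx m hm => m.K.res_mem h x (hx m hm)
      local_mem := fun A x h m hm => m.K.local_mem A x (fun p hp => by
        obtain ⟨B, hB, hpB, hmem⟩ := h p hp
        exact ⟨B, hB, hpB, hmem m hm⟩) }
  have hagree : ∀ m ∈ c, ∀ A : X.Opens, A ≤ m.V → ∀ x : Γ(F, A),
      Ks.mem A x ↔ m.K.mem A x := by
    intro m hm A hA x
    refine ⟨fun h => h m hm, fun h m' hm' => ?_⟩
    rcases htot m hm m' hm' with hr | hr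
    · exact (hr.2 A hA x).mpr h
    · apply m'.sat A x
      exact (hr.2 (A ⊓ m'.V) inf_le_right _).mp (m.K.res_mem inf_le_left x h)
  have hsat : Ks.IsSat Vs := by
    intro A x h m hm
    apply m.sat A x
    have h1 := m.K.res_mem (inf_le_inf_left A (hleV m hm) : A ⊓ m.V ≤ A ⊓ Vs) _ (h m hm)
    rw [res_res] at h1
    exact h1
  have haff : ∀ A : X.Opens, IsAffineOpen A → A ≤ Vs → ∃ m ∈ c, A ≤ m.V := by
    intro A hA hAV
    haveI : Nonempty c := ⟨⟨m₁, hm₁⟩⟩
    have hcov : (A : Set X) ⊆ ⋃ m : c, (m.1.V : Set X) := by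
      intro p hp
      have hp' : p ∈ Vs := hAV hp
      rw [hVs] at hp'
      obtain ⟨m, hpm⟩ := Opens.mem_iSup.mp hp'
      exact Set.mem_iUnion.mpr ⟨m, hpm⟩
    have hdir : Directed (· ⊆ ·) (fun m : c => (m.1.V : Set X)) := by
      intro a b
      rcases htot a.1 a.2 b.1 b.2 with hr | hr
      · exact ⟨b, fun p hp => hr.1 hp, fun p hp => hp⟩
      · exact ⟨a, fun p hp => hp, fun p hp => hr.1 hp⟩
    obtain ⟨m, hm⟩ := hA.isCompact.elim_directed_cover (fun m : c => (m.1.V : Set X))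
      (fun m => m.1.V.2) hcov hdir
    exact ⟨m.1, m.2, fun p hp => hm hp⟩
  have hft : Ks.FTOn Vs := by
    intro A hA hAV
    obtain ⟨m, hm, hAm⟩ := haff A hA hAV
    rw [sub_congr (hagree m hm A hAm)]
    exact m.ft A hA hAm
  have hqcon : Ks.QCOn Vs := by
    intro A hA hAV a y hy
    obtain ⟨m, hm, hAm⟩ := haff A hA hAV
    obtain ⟨n, x, hx, hxy⟩ := m.qc A hA a y (hy m hm)
    exact ⟨n, x, (hagree m hm A hAm x).mpr hx, hxy⟩
  have hqc : Ks.QC := QC_of_isSat Ks Vs hsat hqcon (fun A hA => hN A hA)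
  refine ⟨⟨Vs, Ks, m₁.hUV.trans (hleV m₁ hm₁), hsat, hqc, hft, fun A hA x => ?_⟩, hVs,
    fun a ha => ⟨hleV a ha, fun A hA x => hagree a ha A hA x⟩⟩
  exact (hagree m₁ hm₁ A (hA.trans m₁.hUV) x).trans (m₁.agree A hA x)

/-- A stage can be extended over an affine open `W`, provided `W` and `m.V ⊔ W` are retrocompact. -/
theorem exists_extend_of [F.IsQuasicoherent]
    (m : Stage K₀ U) (W : X.Opens) (hW : IsAffineOpen W)
    (hVW : IsCompact ((m.V ⊓ W : X.Opens) : Set X))
    (hqsW : ∀ A : X.Opens, IsAffineOpen A → IsCompact ((A ⊓ W : X.Opens) : Set X))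
    (hsup : ∀ A : X.Opens, IsAffineOpen A → IsCompact ((A ⊓ (m.V ⊔ W) : X.Opens) : Set X)) :
    ∃ m' : Stage K₀ U, rel m m' ∧ m'.V = m.V ⊔ W := by
  obtain ⟨K', hK', hle, hge, hfg, -⟩ := m.K.exists_shrink m.qc m.V m.ft W hW hVW
    hqsW (fun i : PEmpty.{u + 1} => i.elim) (fun i => i.elim)
  have ftV : K'.FTOn m.V :=
    FTOn.congr (K := m.K) (K' := K') (fun A hA x => ⟨hle A x, hge A hA x⟩) m.ft
  have ftW : K'.FTOn W := K'.ftOn_of_fg hK' hW hfg
  have ftVW : K'.FTOn (m.V ⊔ W) := FTOn.sup K' hK' ftV ftW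
  have hsatle : ∀ A : X.Opens, A ≤ m.V ⊔ W → ∀ x : Γ(F, A),
      (SubSh.sat (m.V ⊔ W) K').mem A x ↔ K'.mem A x := fun A hA x => mem_sat_iff_of_le hA K' x
  refine ⟨⟨m.V ⊔ W, SubSh.sat (m.V ⊔ W) K', m.hUV.trans le_sup_left, sat_isSat _ _,
    sat_QC _ _ hK' hsup,
    FTOn.congr (K := K') (K' := SubSh.sat (m.V ⊔ W) K') hsatle ftVW, fun A hA x => ?_⟩,
    ⟨le_sup_left, fun A hA x => ?_⟩, rfl⟩
  · exact ((hsatle A ((hA.trans m.hUV).trans le_sup_left) x).trans
      ⟨hle A x, hge A (hA.trans m.hUV) x⟩).trans (m.agree A hA x)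
  · exact (hsatle A (hA.trans le_sup_left) x).trans ⟨hle A x, hge A hA x⟩

end Stage

section WO

variable {L : Type v} [LinearOrder L] [WellFoundedLT L]

/-- A stage of the transfinite extension along a well-ordered cover. -/
structure StageI (Vc : L → X.Opens) (K₀ : SubSh F) (U : X.Opens) where
  base : Stage K₀ U
  I : Set L
  lower : IsLowerSet I
  hV : base.V = U ⊔ ⨆ m ∈ I, Vc m

/-- The extension order on stages. -/
def StageI.rel {Vc : L → X.Opens} {K₀ : SubSh F} {U : X.Opens} (a b : StageI Vc K₀ U) : Prop :=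
  Stage.rel a.base b.base ∧ a.I ⊆ b.I

/-- **Extension of quasi-coherent subsheaves of finite type along a well-ordered affine cover.** -/
theorem exists_ft_extension_wo [F.IsQuasicoherent]
    (V : L → X.Opens) (hV : ∀ l, IsAffineOpen (V l)) (hcov : ⨆ l, V l = ⊤)
    (hW : ∀ l, IsCompact ((V l : Set X) ∩ ⋃ m ∈ Set.Iio l, (V m : Set X)))
    (K₀ : SubSh F) (U : X.Opens)
    (hU : ∀ A : X.Opens, IsAffineOpen A → IsCompact ((A ⊓ U : X.Opens) : Set X))
    (hsat : K₀.IsSat U) (hqc : K₀.QC) (hft : K₀.FTOn U) :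
    ∃ K : SubSh F, K.QC ∧ K.FTOn ⊤ ∧
      ∀ A : X.Opens, A ≤ U → ∀ x : Γ(F, A), K.mem A x ↔ K₀.mem A x := by
  haveI : QuasiSeparatedSpace X := quasiSeparatedSpace_of_wo V hV hW hcov
  -- retrocompactness of the stage opens
  have hretro : ∀ I : Set L, IsLowerSet I → ∀ A : X.Opens, IsAffineOpen A →
      IsCompact ((A ⊓ (U ⊔ ⨆ m ∈ I, V m) : X.Opens) : Set X) := by
    intro I hI A hA
    have e : ((A ⊓ (U ⊔ ⨆ m ∈ I, V m) : X.Opens) : Set X) =
        ((A ⊓ U : X.Opens) : Set X) ∪ ((A : Set X) ∩ ⋃ m ∈ I, (V m : Set X)) := by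
      ext p
      simp only [Opens.coe_inf, Opens.coe_sup, Opens.coe_iSup, Set.mem_inter_iff, Set.mem_union,
        SetLike.mem_coe, Set.mem_iUnion]
      tauto
    rw [e]
    exact (hU A hA).union
      (isCompact_inter_lower_of_isCompact V hV hW hcov I hI A A.2 hA.isCompact)
  have hqs : ∀ (l : L) (A : X.Opens), IsAffineOpen A →
      IsCompact ((A ⊓ V l : X.Opens) : Set X) := fun l A hA =>
    QuasiSeparatedSpace.inter_isCompact _ _ A.2 hA.isCompact (V l).2 (hV l).isCompact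
  have m₀ : StageI V K₀ U :=
    ⟨⟨U, K₀, le_rfl, hsat, hqc, hft, fun _ _ _ => Iff.rfl⟩, ∅, isLowerSet_empty, by simp⟩
  -- chains are bounded
  have hub : ∀ c : Set (StageI V K₀ U), IsChain StageI.rel c →
      ∃ ub, ∀ a ∈ c, StageI.rel a ub := by
    intro c hc
    rcases c.eq_empty_or_nonempty with hce | ⟨m₁, hm₁⟩
    · exact ⟨m₀, fun a ha => by rw [hce] at ha; exact (Set.notMem_empty a ha).elim⟩
    obtain ⟨c', hc'⟩ : ∃ c' : Set (Stage K₀ U), c' = StageI.base '' c := ⟨_, rfl⟩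
    have hchain : IsChain Stage.rel c' := by
      rw [hc']
      exact IsChain.image_of_map_rel _ _ _ (fun x y h => h.1) hc
    have hm₁' : m₁.base ∈ c' := hc' ▸ Set.mem_image_of_mem _ hm₁
    obtain ⟨Is, hIs⟩ : ∃ Is : Set L, Is = ⋃ a ∈ c, StageI.I a := ⟨_, rfl⟩
    have hIsl : IsLowerSet Is := by
      rw [hIs]
      exact isLowerSet_iUnion₂ fun a _ => a.lower
    have heq : (⨆ m : c', m.1.V) = U ⊔ ⨆ m ∈ Is, V m := by
      apply le_antisymm
      · refine iSup_le ?_
        rintro ⟨m, hm⟩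
        obtain ⟨a, ha, hab⟩ : ∃ a ∈ c, a.base = m := by
          have hm' := hm
          rw [hc'] at hm'
          exact hm'
        change m.V ≤ _
        rw [← hab, a.hV]
        refine sup_le_sup_left (biSup_mono fun l hl => ?_) _
        rw [hIs]
        exact Set.mem_biUnion ha hl
      · refine sup_le ?_ (iSup₂_le fun l hl => ?_)
        · exact m₁.base.hUV.trans (le_iSup (fun m : c' => m.1.V) ⟨m₁.base, hm₁'⟩)
        · rw [hIs] at hl
          obtain ⟨a, ha, hla⟩ := Set.mem_iUnion₂.mp hl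
          have h1 : V l ≤ a.base.V := by
            rw [a.hV]
            exact le_sup_of_le_right (le_biSup V hla)
          exact h1.trans (le_iSup (fun m : c' => m.1.V)
            ⟨a.base, hc' ▸ Set.mem_image_of_mem _ ha⟩)
    obtain ⟨ub, hubV, hub⟩ := Stage.exists_ub_of c' hchain m₁.base hm₁'
      (fun A hA => by rw [heq]; exact hretro Is hIsl A hA)
    refine ⟨⟨ub, Is, hIsl, hubV.trans heq⟩, fun a ha => ⟨?_, ?_⟩⟩
    · exact hub a.base (hc' ▸ Set.mem_image_of_mem _ ha)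
    · change a.I ⊆ Is
      rw [hIs]
      exact Set.subset_biUnion_of_mem (u := fun a : StageI V K₀ U => a.I) ha
  obtain ⟨m, hm⟩ := exists_maximal_of_chains_bounded (r := StageI.rel (Vc := V) (K₀ := K₀) (U := U))
    hub (fun hab hbc => ⟨Stage.rel_trans hab.1 hbc.1, hab.2.trans hbc.2⟩)
  have hIuniv : m.I = Set.univ := by
    by_contra hne
    have hne' : (m.Iᶜ).Nonempty := Set.nonempty_compl.mpr hne
    obtain ⟨l, hl, hmin⟩ : ∃ l ∈ m.Iᶜ, ∀ x ∈ m.Iᶜ, ¬ x < l :=
      (wellFounded_lt (α := L)).has_min (m.Iᶜ) hne'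
    have hlow : IsLowerSet (insert l m.I) := by
      intro x y hyx hx
      rcases hx with rfl | hx
      · rcases lt_or_eq_of_le hyx with h | rfl
        · right
          by_contra hy
          exact hmin y hy h
        · exact Set.mem_insert _ _
      · exact Or.inr (m.lower hyx hx)
    have hVeq : m.base.V ⊔ V l = U ⊔ ⨆ k ∈ insert l m.I, V k := by
      rw [iSup_insert, m.hV]
      ac_rfl
    obtain ⟨b', hrel, hb'V⟩ := m.base.exists_extend_of (V l) (hV l)
      (by
        have := hretro m.I m.lower (V l) (hV l)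
        rw [← m.hV, inf_comm] at this
        exact this)
      (hqs l)
      (fun A hA => by rw [hVeq]; exact hretro _ hlow A hA)
    have hback := hm ⟨b', insert l m.I, hlow, hb'V.trans hVeq⟩ ⟨hrel, Set.subset_insert _ _⟩
    exact hl (hback.2 (Set.mem_insert _ _))
  have htop : m.base.V = ⊤ := by
    rw [m.hV, hIuniv]
    simp [hcov]
  refine ⟨m.base.K, m.base.qc, ?_, m.base.agree⟩
  rw [← htop]
  exact m.base.ft

end WO

end SubSh

end Groth.Agent.H22
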