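import Mathlib
import Groth.Agent.H22.IdealTwist
import Groth.Agent.H8.CohAffine
import Groth.Agent.H8.QCohAffine

/-!
# Finite type ideal sheaves with prescribed support (helper22)

* `ofHom i : X.IdealSheafData` for `i : G ⟶ O_X` with `G` quasi-coherent: the image ideal.
* `exists_ftIdeal` / `exists_ftIdeal_of_isCompact`: on a qcqs scheme the complement of a
  quasi-compact open is the support of an ideal sheaf of finite type.
* `vanishAt_idealModι`, `exists_lift_one`.
-/

set_option autoImplicit false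
set_option linter.style.haveILetI false
universe u
open CategoryTheory CategoryTheory.Limits AlgebraicGeometry TopologicalSpace Opposite

namespace Groth.Agent.H22.FTIdeal

open Groth.Agent.H22.IdealTwist Groth.Agent.H22.SerreAffine
open AlgebraicGeometry.Scheme.Modules

variable {X : Scheme.{u}}

section OfHom

variable {G : X.Modules} (i : G ⟶ Coh.structureModule X)

/-- The coefficient map as a linear map. -/
noncomputable def coefₗ (V : X.Opens) : Γ(G, V) →ₗ[Γ(X, V)] Γ(X, V) where
  toFun := coef i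
  map_add' := coef_add i
  map_smul' r a := coef_smul i r a

/-- The image of `i` over `V`, as an ideal. -/
noncomputable def idl (V : X.Opens) : Ideal Γ(X, V) := LinearMap.range (coefₗ i V)

lemma mem_idl {V : X.Opens} {c : Γ(X, V)} : c ∈ idl i V ↔ ∃ a : Γ(G, V), coef i a = c := Iff.rfl

variable [G.IsQuasicoherent]

theorem map_idl_basicOpen {V : X.Opens} (hV : IsAffineOpen V) (f : Γ(X, V)) :
    (idl i V).map (X.presheaf.map (homOfLE (X.basicOpen_le f)).op).hom =
      idl i (X.basicOpen f) := by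
  apply le_antisymm
  · rw [Ideal.map_le_iff_le_comap]
    rintro _ ⟨a, rfl⟩
    exact ⟨G.presheaf.map (homOfLE (X.basicOpen_le f)).op a, coef_res i _ a⟩
  · rintro _ ⟨y, rfl⟩
    obtain ⟨n, x, hx⟩ := Groth.Agent.H8.exists_smul_eq_res (M := G) hV f y
    have hu : IsUnit ((X.presheaf.map (homOfLE (X.basicOpen_le f)).op f) ^ n) :=
      (RingedSpace.isUnit_res_basicOpen X.toRingedSpace f).pow n
    obtain ⟨w, hw⟩ := hu
    have h1 : (w : Γ(X, X.basicOpen f)) * coef i y =
        (X.presheaf.map (homOfLE (X.basicOpen_le f)).op).hom (coef i x) := by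
      rw [hw, ← coef_smul, hx, coef_res]
    have h2 : coef i y = (↑w⁻¹ : Γ(X, X.basicOpen f)) *
        (X.presheaf.map (homOfLE (X.basicOpen_le f)).op).hom (coef i x) := by
      rw [← h1, ← mul_assoc, Units.inv_mul, one_mul]
    show coef i y ∈ _
    rw [h2]
    exact Ideal.mul_mem_left _ _ (Ideal.mem_map_of_mem _ ⟨x, rfl⟩)

/-- The ideal sheaf which is the image of `i : G ⟶ O_X`. -/
noncomputable def ofHom : X.IdealSheafData where
  ideal V := idl i V.1
  map_ideal_basicOpen V f := map_idl_basicOpen i V.2 f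

theorem fg_ofHom (hft : CohB1.IsFT G) (V : X.affineOpens) : ((ofHom i).ideal V).FG := by
  haveI := hft
  haveI : Module.Finite Γ(X, V.1) Γ(G, V.1) :=
    Groth.Agent.H8.finite_sections_of_isAffineOpen G V.2
  show (LinearMap.range (coefₗ i V.1)).FG
  rw [LinearMap.range_eq_map]
  exact Submodule.FG.map _ Module.Finite.fg_top

theorem support_ofHom (U : X.Opens) (hU : IsAffineOpen U) (g : Γ(G, U)) (hg : coef i g = 1)
    (hvan : ∀ y : X, y ∉ U → VanishAt i y) :
    ((ofHom i).support : Set X) = (U : Set X)ᶜ := by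
  ext y
  constructor
  · intro hy hyU
    have h1 := (Scheme.IdealSheafData.mem_support_iff_of_mem (U := ⟨U, hU⟩) hyU).mp hy
    rw [Scheme.mem_zeroLocus_iff] at h1
    have h2 := h1 1 ⟨g, hg⟩
    rw [Scheme.basicOpen_one] at h2
    exact h2 hyU
  · intro hy
    rw [SetLike.mem_coe, Scheme.IdealSheafData.mem_support_iff]
    intro V
    rw [Scheme.mem_zeroLocus_iff]
    rintro _ ⟨a, rfl⟩
    exact hvan y hy V.1 a

end OfHom

/-- On a quasi-compact quasi-separated scheme the complement of an affine open is the support of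
an ideal sheaf of finite type. -/
theorem exists_ftIdeal [CompactSpace X] [QuasiSeparatedSpace X] (U : X.Opens)
    (hU : IsAffineOpen U) :
    ∃ I : X.IdealSheafData, (∀ V : X.affineOpens, (I.ideal V).FG) ∧
      (I.support : Set X) = (U : Set X)ᶜ := by
  obtain ⟨G, i, -, hq, hft, ⟨g, hg⟩, hvan⟩ := exists_ideal U hU
  haveI : G.IsQuasicoherent := hq
  exact ⟨ofHom i, fg_ofHom i hft, support_ofHom i U hU g hg hvan⟩

/-- On a quasi-compact quasi-separated scheme the complement of a quasi-compact open is the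
support of an ideal sheaf of finite type. -/
theorem exists_ftIdeal_of_isCompact [CompactSpace X] [QuasiSeparatedSpace X] (U : X.Opens)
    (hU : IsCompact (U : Set X)) :
    ∃ I : X.IdealSheafData, (∀ V : X.affineOpens, (I.ideal V).FG) ∧
      (I.support : Set X) = (U : Set X)ᶜ := by
  obtain ⟨s, hs, hsU⟩ :=
    isCompact_and_isOpen_iff_finite_and_eq_biUnion_affineOpens.mp ⟨hU, U.2⟩
  haveI : Finite s := hs
  choose J hJft hJs using fun W : s => exists_ftIdeal W.1.1 W.1.2
  refine ⟨⨆ W : s, J W, fun V => ?_, ?_⟩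
  · rw [Scheme.IdealSheafData.ideal_iSup, iSup_apply]
    exact Submodule.fg_iSup _ (fun W => hJft W V)
  · rw [Scheme.IdealSheafData.support_iSup, Closeds.coe_iInf, hsU]
    ext y
    simp only [Set.mem_iInter, Set.mem_compl_iff, Set.mem_iUnion, not_exists]
    constructor
    · intro h W hW hy
      have h1 := h ⟨W, hW⟩
      rw [hJs] at h1
      exact h1 hy
    · intro h W
      rw [hJs]
      exact h W.1 W.2

section IdealMod

variable (I : X.IdealSheafData)

/-- Sections of the ideal sheaf vanish at the points of the support. -/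
theorem vanishAt_idealModι (y : X) (hy : y ∈ I.support) : VanishAt (ClSub.idealModι I) y := by
  intro W a hyb
  obtain ⟨z, rfl⟩ : ∃ z : I.subscheme, I.subschemeι z = y := by
    have h5 : y ∈ Set.range I.subschemeι := by
      rw [I.range_subschemeι]
      exact hy
    exact h5
  have h0 : (I.subschemeι.app W).hom (coef (ClSub.idealModι I) a) = 0 := by
    have h6 := Groth.Agent.H8.app_comp_eq_zero (ShortComplex.mk (kernel.ι (ClSub.toSubscheme I))
      (ClSub.toSubscheme I) (kernel.condition _)) W a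
    exact h6
  have h1 : z ∈ I.subschemeι ⁻¹ᵁ X.basicOpen (coef (ClSub.idealModι I) a) := hyb
  rw [Scheme.preimage_basicOpen] at h1
  have h3 : (I.subschemeι.app W) (coef (ClSub.idealModι I) a) = 0 := h0
  rw [h3, Scheme.basicOpen_zero] at h1
  exact h1

/-- Over an open disjoint from the support, `1` is a section of the ideal sheaf. -/
theorem exists_lift_one (V : X.Opens) (hV : Disjoint (V : Set X) (I.support : Set X)) :
    ∃ g : Γ(ClSub.idealMod I, V), coef (ClSub.idealModι I) g = 1 :=
  exists_lift_of_disjoint I V hV (show Γ(Coh.structureModule X, V) from (1 : Γ(X, V)))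

end IdealMod

section Core

open Groth.Agent.H8 (res_res res_smul ringRes_res section_eq_of_cover)
open Groth.Agent.H18.TensorGen Groth.Agent.H22.GenSection Groth.Agent.H22.AmpleLocal
open Groth.Agent.H22.QCohLimits (app_res)
open Groth.Agent.H18.SecTw Groth.Agent.H18.TensorSec Groth.Agent.H41.BilinGlue
open Groth.Agent.H18.TensorPowIso

/-- A morphism from `O_X` whose global section vanishes is zero. -/
lemma unit_hom_eq_zero {Q : X.Modules} (ρ : Coh.structureModule X ⟶ Q) (h : sv ρ ⊤ = 0) :
    ρ = 0 := by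
  apply (SheafOfModules.unitHomEquiv (R := X.ringCatSheaf) Q).injective
  apply PresheafOfModules.sections_ext
  intro U
  have h1 : sv ρ U.unop = 0 := by rw [← sv_res ρ (le_top : U.unop ≤ ⊤), h, map_zero]
  have h2 : sv (0 : Coh.structureModule X ⟶ Q) U.unop = 0 := rfl
  exact h1.trans h2.symm

variable {Y : Scheme.{u}} (f : X ⟶ Y)

/-- A quotient of `O_X^k` has an epimorphic counit along any morphism. -/
theorem epi_counit_of_epi_freeMod {M : X.Modules} {k : ℕ} (p : FlatMod.freeMod X k ⟶ M) [Epi p] :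
    Epi ((pullbackPushforwardAdjunction f).counit.app M) := by
  rw [CounitEpi.epi_counit_iff]
  intro Q g hg
  have h0 : p ≫ g = 0 := by
    apply Sigma.hom_ext
    intro j
    rw [comp_zero]
    apply unit_hom_eq_zero
    exact hg ⊤ (sv (Sigma.ι (fun _ : Fin k => Coh.structureModule X) j ≫ p) ⊤)
  exact (cancel_epi p).mp (h0.trans comp_zero.symm)

/-- The key step of EGA II 4.6.8 for a given ideal. -/
theorem exists_section_core [QuasiCompact f] [QuasiSeparated f]
    {L : X.Modules} (hL : PicF.IsInvertible L) (V : Y.Opens) (hV : IsAffineOpen V)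
    {G : X.Modules} [G.IsQuasicoherent] (i : G ⟶ Coh.structureModule X) (n' : ℕ)
    (hepi : Epi ((pullbackPushforwardAdjunction f).counit.app
      (CohB1.tensorMod G (CohB1.tensorPow L (n' + 1)))))
    (U : X.Opens) (hU : IsAffineOpen U) (hUZ : U ≤ f ⁻¹ᵁ V) (μ : Γ(L, U)) (hμ : IsGen L U μ)
    (g : Γ(G, U)) (hg : coef i g = 1) (hvan : ∀ y : X, y ∉ U → VanishAt i y)
    (x : X) (hxU : x ∈ U) :
    ∃ (t : Γ(CohB1.tensorPow L (n' + 1), f ⁻¹ᵁ V)) (D : X.Opens),
      IsAffineOpen D ∧ D ≤ f ⁻¹ᵁ V ∧ x ∈ D ∧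
        ∀ y ∈ f ⁻¹ᵁ V, GenAt (CohB1.tensorPow L (n' + 1)) t y ↔ y ∈ D := by
  have hx : x ∈ f ⁻¹ᵁ V := hUZ hxU
  have hN : PicF.IsInvertible (CohB1.tensorPow L (n' + 1)) := isInvertible_tensorPow hL _
  haveI : (CohB1.tensorMod G (CohB1.tensorPow L (n' + 1))).IsQuasicoherent :=
    Groth.Agent.H18.TensorCoh.isQuasicoherent_tensorMod G _ hN
  have hγ : IsGen (CohB1.tensorPow L (n' + 1)) U (lp μ (n' + 1)) := isGen_lp hμ (n' + 1)
  obtain ⟨γ, hγdef⟩ : ∃ γ : Γ(CohB1.tensorPow L (n' + 1), U), γ = lp μ (n' + 1) := ⟨_, rfl⟩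
  rw [← hγdef] at hγ
  have hloc : ∃ (A : X.Opens) (m : Γ(CohB1.tensorMod G (CohB1.tensorPow L (n' + 1)), A)),
      GenAt (CohB1.tensorPow L (n' + 1)) ((mulHom i (CohB1.tensorPow L (n' + 1))).app A m) x := by
    refine ⟨U, tm G _ g γ, U, le_rfl, hxU, ?_⟩
    rw [mulHom_tm, hg, one_smul, res_self']
    exact hγ
  obtain ⟨s, hs⟩ := exists_genAt_map_of_epi_affine f (mulHom i (CohB1.tensorPow L (n' + 1)))
    hepi V hV x hx hloc
  obtain ⟨c, hc⟩ := hγ.self.2 ((CohB1.tensorPow L (n' + 1)).presheaf.map (homOfLE hUZ).op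
    ((mulHom i (CohB1.tensorPow L (n' + 1))).app (f ⁻¹ᵁ V) s))
  simp only at hc
  have hiff : ∀ y ∈ f ⁻¹ᵁ V, GenAt (CohB1.tensorPow L (n' + 1))
      ((mulHom i (CohB1.tensorPow L (n' + 1))).app (f ⁻¹ᵁ V) s) y ↔ y ∈ X.basicOpen c := by
    intro y hy
    constructor
    · intro hgen
      have hyU : y ∈ U := by
        by_contra hyU
        exact not_genAt_mulHom i hN (hvan y hyU) s hgen
      have h1 := (genAt_res hUZ _ hyU).mpr hgen
      rw [← hc] at h1
      exact mem_basicOpen_of_genAt_smul hN c γ h1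
    · intro hyc
      have h2 := IsGenOn.basicOpen (show IsGenOn _ U γ from hγ) c
      rw [hc, res_res] at h2
      exact ⟨X.basicOpen c, _, hyc, h2⟩
  exact ⟨_, X.basicOpen c, hU.basicOpen c, (X.basicOpen_le c).trans hUZ,
    (hiff x hx).mp hs, hiff⟩

end Core

end Groth.Agent.H22.FTIdeal
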