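import Mathlib

/-!
# An element in all `J^n N` killed by `J^c` is zero (Krull)
-/

set_option autoImplicit false
universe u

namespace Groth.Agent.H22.FormalALGU

theorem eq_zero_of_forall_mem {B : Type u} [CommRing B] [IsNoetherianRing B] (J : Ideal B) (c : ℕ)
    {N : Type u} [AddCommGroup N] [Module B N] [Module.Finite B N] (x : N)
    (h1 : ∀ n : ℕ, x ∈ J ^ (n + 1) • (⊤ : Submodule B N)) (h2 : ∀ a ∈ J ^ c, a • x = 0) : x = 0 := by
  have hmem : x ∈ (⨅ i : ℕ, J ^ i • ⊤ : Submodule B N) := by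
    rw [Submodule.mem_iInf]
    intro i
    cases i with
    | zero => simp
    | succ n => exact h1 n
  obtain ⟨r, hr⟩ := (Ideal.mem_iInf_smul_pow_eq_bot_iff J x).mp hmem
  have hpow : ∀ k : ℕ, ((r : B) ^ k) • x = x := by
    intro k
    induction k with
    | zero => simp
    | succ k ih => rw [pow_succ, mul_smul, hr, ih]
  rw [← hpow c]
  exact h2 _ (Ideal.pow_mem_pow r.2 c)

end Groth.Agent.H22.FormalALGU
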