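import Groth.Prelude.Def_Formal2
import Groth.Prelude.Def_Formal
import Groth.Agent.S0852
import Groth.Agent.S0832
import Groth.Agent.H8.HomBasis

/-!
# On a Noetherian scheme over `Spec A`, every ideal of `A` acts through a finitely generated subideal
-/

set_option autoImplicit false
set_option linter.style.haveILetI false
universe u
open CategoryTheory CategoryTheory.Limits AlgebraicGeometry Opposite

namespace Groth.Agent.H22.FormalKF2

open Groth.Agent.S0852 (ρ smulMod_app)

section
variable {A : Type u} [CommRing A] {X : Scheme.{u}} [X.Over (Spec (CommRingCat.of A))]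

lemma ρ_res {V W : X.Opens} (h : V ≤ W) (a : A) :
    X.presheaf.map (homOfLE h).op (ρ W a) = ρ V a :=
  Coh.resTop_comp (op W) (op V) (homOfLE h).op _

/-- If `ρ V y` lies in the ideal generated by `ρ V '' J'` and `g` kills `J'`, then `g` kills
`ρ V y • m`. -/
lemma app_smul_eq_zero {M N : X.Modules} (g : M ⟶ N) (J' : Ideal A)
    (hg : ∀ b ∈ J', Formal.smulMod A M b ≫ g = 0) (V : X.Opens) (r : Γ(X, V))
    (hr : r ∈ Ideal.map (ρ (A := A) V) J') (m : Γ(M, V)) : g.app V (r • m) = 0 := by
  unfold Ideal.map at hr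
  induction hr using Submodule.span_induction generalizing m with
  | mem x hx =>
    obtain ⟨b, hb, rfl⟩ := hx
    have h1 := congrArg (fun φ : M ⟶ N => φ.app V m) (hg b hb)
    exact h1
  | zero => rw [zero_smul, map_zero]
  | add x y _ _ hx hy => rw [add_smul, map_add, hx, hy, add_zero]
  | smul s x _ hx =>
    rw [smul_eq_mul, mul_comm, mul_smul]
    exact hx _

end

theorem exists_fg_sub {A : Type u} [CommRing A] (X : Scheme.{u}) [X.Over (Spec (CommRingCat.of A))]
    [IsNoetherian X] (J : Ideal A) :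
    ∃ J' : Ideal A, J' ≤ J ∧ J'.FG ∧ ∀ ⦃M N : X.Modules⦄ (g : M ⟶ N),
      Formal.smulFamily J' M ≫ g = 0 → Formal.smulFamily J M ≫ g = 0 := by
  classical
  obtain ⟨S, hSfin, hS⟩ := (isCompact_and_isOpen_iff_finite_and_eq_biUnion_affineOpens
    (X := X) (U := Set.univ)).mp ⟨isCompact_univ, isOpen_univ⟩
  -- for each affine open `W` a finitely generated subideal with the same extension
  have hW : ∀ W : X.affineOpens, ∃ JW : Ideal A, JW ≤ J ∧ JW.FG ∧
      Ideal.map (ρ (A := A) W.1) J ≤ Ideal.map (ρ (A := A) W.1) JW := by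
    intro W
    haveI : IsNoetherianRing Γ(X, W.1) := IsLocallyNoetherian.component_noetherian W
    have hfg : (Ideal.map (ρ (A := A) W.1) J).FG := IsNoetherian.noetherian _
    unfold Ideal.map at hfg
    obtain ⟨T, hT, hspan⟩ := (Submodule.fg_span_iff_fg_span_finset_subset _).mp hfg
    obtain ⟨T', hT', rfl⟩ := Finset.subset_set_image_iff.mp hT
    refine ⟨Ideal.span (T' : Set A), Ideal.span_le.mpr hT', ⟨T', rfl⟩, ?_⟩
    unfold Ideal.map
    change Submodule.span _ _ ≤ _
    rw [hspan]
    refine Ideal.span_mono ?_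
    rw [Finset.coe_image]
    exact Set.image_mono Ideal.subset_span
  choose JW hJWle hJWfg hJWmap using hW
  refine ⟨⨆ W ∈ hSfin.toFinset, JW W, ?_, ?_, ?_⟩
  · exact iSup₂_le (fun W _ => hJWle W)
  · exact Submodule.fg_biSup _ _ (fun W _ => hJWfg W)
  · intro M N g hg
    have hg' := (Groth.Agent.S0832.smulFamily_comp_eq_zero_iff _ g).mp hg
    rw [Groth.Agent.S0832.smulFamily_comp_eq_zero_iff]
    intro y hy
    -- the basis of opens contained in a member of the cover
    let ι := {V : X.Opens // ∃ W ∈ S, V ≤ (W : X.affineOpens).1}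
    have hB : TopologicalSpace.Opens.IsBasis (Set.range (fun i : ι => i.1)) := by
      rw [TopologicalSpace.Opens.isBasis_iff_nbhd]
      intro U x hx
      have hx' : x ∈ (Set.univ : Set X) := trivial
      rw [hS] at hx'
      obtain ⟨W, hWS, hxW⟩ := Set.mem_iUnion₂.mp hx'
      exact ⟨U ⊓ W.1, ⟨⟨U ⊓ W.1, W, hWS, inf_le_right⟩, rfl⟩, ⟨hx, hxW⟩, inf_le_left⟩
    refine Groth.Agent.H8.HomBasis.hom_ext_of_basis M N hB _ _ (fun i m => ?_)
    obtain ⟨V, W, hWS, hVW⟩ := i
    change g.app V ((Formal.smulMod A M y).app V m) = 0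
    rw [smulMod_app]
    refine app_smul_eq_zero g _ hg' V _ ?_ m
    have h1 : ρ W.1 y ∈ Ideal.map (ρ (A := A) W.1) (⨆ W ∈ hSfin.toFinset, JW W) := by
      refine Ideal.map_mono ?_ (hJWmap W (Ideal.mem_map_of_mem _ hy))
      exact le_iSup₂_of_le W (hSfin.mem_toFinset.mpr hWS) le_rfl
    have h2 : ρ (A := A) V = ((X.presheaf.map (homOfLE hVW).op).hom).comp (ρ W.1) := by
      ext a
      exact (ρ_res hVW a).symm
    rw [h2, ← Ideal.map_map, RingHom.comp_apply]
    exact Ideal.mem_map_of_mem _ h1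

end Groth.Agent.H22.FormalKF2
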