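import Mathlib
import Groth.Prelude.Def_CAlg2
import Groth.Prelude.Def_FDesc
import Groth.Agent.S0386

/-!
# A flat finitely presented affine chart around a point of flatness
-/

set_option autoImplicit false
universe u
open CategoryTheory CategoryTheory.Limits AlgebraicGeometry TopologicalSpace IsLocalRing TensorProduct

namespace Groth.Agent.H22.GU10SA

variable {X Y : Scheme.{u}}

/-- ring-level: flatness of `localRingHom` at a prime identified with `J`. -/
lemma flat_localRingHom_of_eq {R S : Type u} [CommRing R] [CommRing S] (φ : R →+* S)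
    (J : Ideal S) [J.IsPrime] (q : Ideal S) [q.IsPrime] (p : Ideal R) [p.IsPrime]
    (hpq : p = q.comap φ) (hqJ : q = J)
    (h : (Localization.localRingHom p q φ hpq).Flat) :
    (Localization.localRingHom (J.comap φ) J φ rfl).Flat := by
  subst hqJ
  subst hpq
  exact h

/-- (SA) a flat finitely presented affine chart around a point of flatness. -/
theorem exists_flat_chart (f : X ⟶ Y) [LocallyOfFinitePresentation f] (x : X)
    (hflat : (f.stalkMap x).hom.Flat) :
    ∃ (W : X.Opens) (V : Y.Opens) (_ : IsAffineOpen W) (_ : IsAffineOpen V)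
      (hWV : W ≤ f ⁻¹ᵁ V) (_ : x ∈ W),
      (f.appLE V W hWV).hom.Flat ∧ (f.appLE V W hWV).hom.FinitePresentation := by
  have hopen := Groth.Agent.S0386.result f
  let U : X.Opens := ⟨_, hopen⟩
  obtain ⟨V, hV, hxV, -⟩ :=
    exists_isAffineOpen_mem_and_subset (x := f x) (U := (⊤ : Y.Opens)) trivial
  obtain ⟨W, hW, hxW, hWVU⟩ :=
    exists_isAffineOpen_mem_and_subset (x := x) (U := f ⁻¹ᵁ V ⊓ U) ⟨hxV, hflat⟩
  have hWV : W ≤ f ⁻¹ᵁ V := hWVU.trans inf_le_left
  have hWU : W ≤ U := hWVU.trans inf_le_right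
  refine ⟨W, V, hW, hV, hWV, hxW, ?_, f.finitePresentation_appLE hV hW hWV⟩
  apply RingHom.Flat.ofLocalizationPrime
  intro J hJ
  let y : X := hW.fromSpec ⟨J, hJ⟩
  have hyW : y ∈ W := by
    have : y ∈ Set.range hW.fromSpec := ⟨_, rfl⟩
    rw [hW.range_fromSpec] at this
    exact this
  have hq' : hW.primeIdealOf ⟨y, hyW⟩ = ⟨J, hJ⟩ :=
    hW.fromSpec.isOpenEmbedding.injective (hW.fromSpec_primeIdealOf ⟨y, hyW⟩)
  have hy : (f.stalkMap y).hom.Flat := hWU hyW
  have h1 := (RingHom.Flat.respectsIso.arrow_mk_iso_iff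
    (IsAffineOpen.arrowStalkMapIso f V hV W hW hWV hyW)).mp hy
  exact flat_localRingHom_of_eq (f.appLE V W hWV).hom J (hW.primeIdealOf ⟨y, hyW⟩).asIdeal
    (hV.primeIdealOf ⟨f y, hWV hyW⟩).asIdeal
    congr($(IsAffineOpen.comap_primeIdealOf_appLE V hV W hW hWV hyW).1).symm
    (congrArg PrimeSpectrum.asIdeal hq') h1

end Groth.Agent.H22.GU10SA
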