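import Mathlib
import Groth.Prelude.Def_CAlg2
import Groth.Prelude.Def_FDesc

/-!
# The stalks at `x` and `f x` as localizations of the chart rings
-/

set_option autoImplicit false
universe u
open CategoryTheory CategoryTheory.Limits AlgebraicGeometry TopologicalSpace IsLocalRing TensorProduct

namespace Groth.Agent.H22.GU10SC

variable {X Y : Scheme.{u}}

/-- (SC) the stalks at `x` and `f x` as localizations of the chart rings. -/
theorem exists_stalk_equivs (f : X ⟶ Y) (x : X) {V : Y.Opens}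
    (hV : IsAffineOpen V) {W : X.Opens} (hW : IsAffineOpen W) (hxW : x ∈ W) (hWV : W ≤ f ⁻¹ᵁ V)
    [Algebra Γ(Y, V) Γ(X, W)] (halg : algebraMap Γ(Y, V) Γ(X, W) = (f.appLE V W hWV).hom) :
    Nonempty (X.presheaf.stalk x ≃+* Localization.AtPrime (hW.primeIdealOf ⟨x, hxW⟩).asIdeal) ∧
      Nonempty (Y.presheaf.stalk (f x) ≃+* Localization.AtPrime
        ((hW.primeIdealOf ⟨x, hxW⟩).asIdeal.comap (algebraMap Γ(Y, V) Γ(X, W)))) := by
  constructor
  · letI := X.presheaf.algebra_section_stalk ⟨x, hxW⟩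
    haveI := hW.isLocalization_stalk ⟨x, hxW⟩
    exact ⟨(IsLocalization.algEquiv (hW.primeIdealOf ⟨x, hxW⟩).asIdeal.primeCompl
      (X.presheaf.stalk x) (Localization.AtPrime (hW.primeIdealOf ⟨x, hxW⟩).asIdeal)).toRingEquiv⟩
  · have hq : (hW.primeIdealOf ⟨x, hxW⟩).asIdeal.comap (algebraMap Γ(Y, V) Γ(X, W)) =
        (hV.primeIdealOf ⟨f x, hWV hxW⟩).asIdeal := by
      rw [halg]
      exact congr($(IsAffineOpen.comap_primeIdealOf_appLE V hV W hW hWV hxW).1)
    have key : ∀ (p : Ideal Γ(Y, V)) [p.IsPrime], p = (hV.primeIdealOf ⟨f x, hWV hxW⟩).asIdeal →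
        Nonempty (Y.presheaf.stalk (f x) ≃+* Localization.AtPrime p) := by
      intro p _ hp
      subst hp
      letI := Y.presheaf.algebra_section_stalk ⟨f x, hWV hxW⟩
      haveI := hV.isLocalization_stalk ⟨f x, hWV hxW⟩
      exact ⟨(IsLocalization.algEquiv (hV.primeIdealOf ⟨f x, hWV hxW⟩).asIdeal.primeCompl
        (Y.presheaf.stalk (f x))
        (Localization.AtPrime (hV.primeIdealOf ⟨f x, hWV hxW⟩).asIdeal)).toRingEquiv⟩
    exact key _ hq

end Groth.Agent.H22.GU10SC
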