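import Mathlib
import Groth.Agent.S4389
import Groth.Agent.S4394

/-!
Helper lemmas on ℕ-graded algebras of finite type over their degree-zero part:
eventual periodicity `𝒜 (n + q) = 𝒜 q * 𝒜 n`.
-/

set_option autoImplicit false
set_option linter.unusedSectionVars false
universe u

namespace Groth.Agent.H22

section
variable {R A : Type u} [CommRing R] [CommRing A] [Algebra R A] (𝒜 : ℕ → Submodule R A)
  [GradedAlgebra 𝒜]

theorem graded_mul_le (i j : ℕ) : 𝒜 i * 𝒜 j ≤ 𝒜 (i + j) :=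
  Submodule.mul_le.mpr fun _ ha _ hb => SetLike.mul_mem_graded ha hb

theorem exists_period [Algebra.FiniteType (𝒜 0) A] :
    ∃ q n₀ : ℕ, 0 < q ∧ ∀ n, n₀ ≤ n → 𝒜 (n + q) = 𝒜 q * 𝒜 n := by
  classical
  obtain ⟨s, hs1, hs2⟩ := GradedAlgebra.exists_finset_adjoin_eq_top_and_homogeneous_ne_zero 𝒜
  have hE : ∀ e ∈ (s : Set A), ∃ d : ℕ, 0 < d ∧ e ∈ 𝒜 d := by
    intro e he
    obtain ⟨n, hn, hen⟩ := hs2 e (Finset.mem_coe.mp he)
    exact ⟨n, Nat.pos_of_ne_zero hn, hen⟩
  have hspan := (Groth.Agent.S4389.result 𝒜 (s : Set A) hE).mpr hs1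
  choose! deg hdeg using hE
  let q : ℕ := ∏ e ∈ s, deg e
  have hq : 0 < q := Finset.prod_pos fun e he => (hdeg e (Finset.mem_coe.mpr he)).1
  let g : A → A := fun e => e ^ (q / deg e)
  have hg : ∀ e ∈ s, g e ∈ 𝒜 q := by
    intro e he
    have hdvd : deg e ∣ q := Finset.dvd_prod_of_mem deg he
    have h1 := SetLike.pow_mem_graded (q / deg e) (hdeg e (Finset.mem_coe.mpr he)).2
    rwa [smul_eq_mul, Nat.div_mul_cancel hdvd] at h1
  have hrad : (HomogeneousIdeal.irrelevant 𝒜).toIdeal ≤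
      (Ideal.span (g '' (s : Set A))).radical := by
    rw [hspan, Ideal.span_le]
    intro e he
    exact ⟨q / deg e, Ideal.subset_span ⟨e, he, rfl⟩⟩
  have hfg : (HomogeneousIdeal.irrelevant 𝒜).toIdeal.FG := ⟨s, hspan.symm⟩
  obtain ⟨k, hk⟩ := Ideal.exists_pow_le_of_le_radical_of_fg hrad hfg
  obtain ⟨m₀, hm₀⟩ := Groth.Agent.S4394.result 𝒜 (k + 1) (Nat.succ_pos k)
  refine ⟨q, m₀, hq, fun n hn => le_antisymm ?_ (by rw [add_comm n q]; exact graded_mul_le 𝒜 q n)⟩
  intro x hx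
  have hxJ : x ∈ Ideal.span (g '' (s : Set A)) :=
    hk (Ideal.pow_le_pow_right (Nat.le_succ k) (hm₀ (n + q) (by omega) hx))
  refine Groth.Agent.S4389.mem_of_mem_span_homogeneous' 𝒜 (g '' (s : Set A)) (fun _ => q) ?_ hx hxJ
    (𝒜 q * 𝒜 n).toAddSubmonoid ?_
  · rintro _ ⟨e, he, rfl⟩
    exact hg e he
  · rintro _ ⟨e, he, rfl⟩ _ c hc
    rw [Nat.add_sub_cancel] at hc
    rw [mul_comm c (g e)]
    exact Submodule.mul_mem_mul (hg e he) hc

theorem period_mul {q n₀ : ℕ} (h : ∀ n, n₀ ≤ n → 𝒜 (n + q) = 𝒜 q * 𝒜 n) (k : ℕ) (hk : 0 < k) :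
    ∀ n, n₀ ≤ n → 𝒜 (n + k * q) = 𝒜 (k * q) * 𝒜 n := by
  induction k, hk using Nat.le_induction with
  | base =>
    intro n hn
    have e0 : Nat.succ 0 * q = q := one_mul q
    rw [e0]
    exact h n hn
  | succ k hk ih =>
    intro n hn
    apply le_antisymm
    · have e1 : n + (k + 1) * q = (n + k * q) + q := by ring
      rw [e1, h (n + k * q) (le_trans hn (Nat.le_add_right _ _)), ih n hn, ← mul_assoc]
      refine mul_le_mul' ?_ le_rfl
      have e2 : (k + 1) * q = q + k * q := by ring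
      rw [e2]
      exact graded_mul_le 𝒜 q (k * q)
    · rw [add_comm n ((k + 1) * q)]
      exact graded_mul_le 𝒜 ((k + 1) * q) n

end

section Module
variable {R A : Type u} [CommRing R] [CommRing A] [Algebra R A] (𝒜 : ℕ → Submodule R A)
  [GradedAlgebra 𝒜]
  {M : Type u} [AddCommGroup M] [Module R M] [Module A M] [IsScalarTower R A M]
  (ℳ : ℕ → Submodule R M) [DirectSum.Decomposition ℳ] [SetLike.GradedSMul 𝒜 ℳ]

theorem coe_decompose_smul_of_right_mem (a : A) {t : M} {e N : ℕ} (ht : t ∈ ℳ e) :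
    (DirectSum.decompose ℳ (a • t) N : M) =
      if e ≤ N then (DirectSum.decompose 𝒜 a (N - e) : A) • t else 0 := by
  classical
  induction a using DirectSum.Decomposition.inductionOn 𝒜 with
  | zero => simp
  | @homogeneous i a =>
    have hmem : (a : A) • t ∈ ℳ (i + e) := SetLike.GradedSMul.smul_mem a.2 ht
    by_cases hN : i + e = N
    · subst hN
      rw [DirectSum.decompose_of_mem_same ℳ hmem, if_pos (Nat.le_add_left e i),
        Nat.add_sub_cancel, DirectSum.decompose_of_mem_same 𝒜 a.2]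
    · rw [DirectSum.decompose_of_mem_ne ℳ hmem hN]
      split_ifs with hle
      · have hne : i ≠ N - e := by omega
        rw [DirectSum.decompose_of_mem_ne 𝒜 a.2 hne, zero_smul]
      · rfl
  | add a b ha hb =>
    rw [add_smul, DirectSum.decompose_add, DirectSum.add_apply, Submodule.coe_add, ha, hb,
      DirectSum.decompose_add, DirectSum.add_apply, Submodule.coe_add]
    split_ifs
    · rw [add_smul]
    · rw [add_zero]

theorem mem_of_mem_span_homogeneous_module (T : Set M) (deg : M → ℕ)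
    (hT : ∀ t ∈ T, t ∈ ℳ (deg t)) {N : ℕ} {x : M} (hx : x ∈ ℳ N)
    (hxT : x ∈ Submodule.span A T) (P : AddSubmonoid M)
    (hP : ∀ t ∈ T, deg t ≤ N → ∀ c ∈ 𝒜 (N - deg t), c • t ∈ P) : x ∈ P := by
  classical
  obtain ⟨l, rfl⟩ := (Finsupp.mem_span_iff_linearCombination A T x).mp hxT
  have hx' := (DirectSum.decompose_of_mem_same ℳ hx).symm
  rw [hx', Finsupp.linearCombination_apply, Finsupp.sum, DirectSum.decompose_sum,
    DFinsupp.finsetSum_apply, AddSubmonoidClass.coe_finsetSum]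
  refine P.sum_mem fun t _ => ?_
  rw [coe_decompose_smul_of_right_mem 𝒜 ℳ (l t) (hT t t.2)]
  split_ifs with hle
  · exact hP t t.2 hle _ (SetLike.coe_mem _)
  · exact P.zero_mem

end Module

end Groth.Agent.H22
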