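import Mathlib

/-!
# Graded quotients and dehomogenisation (helper22)

* `quotGrading 𝒜 I n` : the image of `𝒜 n` in `A ⧸ I`;
* `quotGradedAlgebra 𝒜 I hI` : for homogeneous `I` this is a grading of `A ⧸ I`;
* `quotGradedHom 𝒜 I` : the quotient map as a graded ring hom;
* `dehom 𝒜 hg : A →+* Away 𝒜 g` for `g ∈ 𝒜 1`, sending `x ∈ 𝒜 n` to `x / g ^ n`.
-/

set_option autoImplicit false
set_option linter.unusedSectionVars false
universe u

namespace Groth.Agent.H22

open HomogeneousLocalization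

section Quot

variable {R A : Type u} [CommRing R] [CommRing A] [Algebra R A] (𝒜 : ℕ → Submodule R A)
  [GradedAlgebra 𝒜]

/-- The induced grading on a quotient. -/
def quotGrading (I : Ideal A) (n : ℕ) : Submodule R (A ⧸ I) :=
  (𝒜 n).map (Ideal.Quotient.mkₐ R I).toLinearMap

theorem mk_mem_quotGrading (I : Ideal A) {n : ℕ} {a : A} (ha : a ∈ 𝒜 n) :
    Ideal.Quotient.mk I a ∈ quotGrading 𝒜 I n :=
  ⟨a, ha, rfl⟩

theorem exists_of_mem_quotGrading (I : Ideal A) {n : ℕ} {b : A ⧸ I}
    (hb : b ∈ quotGrading 𝒜 I n) : ∃ a ∈ 𝒜 n, Ideal.Quotient.mk I a = b := by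
  obtain ⟨a, ha, rfl⟩ := hb
  exact ⟨a, ha, rfl⟩

/-- The quotient of a graded algebra by a homogeneous ideal is graded. -/
@[instance_reducible]
noncomputable def quotGradedAlgebra (I : Ideal A) (hI : I.IsHomogeneous 𝒜) :
    GradedAlgebra (quotGrading 𝒜 I) := by
  classical
  let c : ∀ i, 𝒜 i →+ quotGrading 𝒜 I i := fun i =>
    { toFun := fun x => ⟨Ideal.Quotient.mk I x, mk_mem_quotGrading 𝒜 I x.2⟩
      map_zero' := Subtype.ext (by simp)
      map_add' := fun x y => Subtype.ext (by simp) }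
  let g : A →+ DirectSum ℕ (fun i => quotGrading 𝒜 I i) :=
    (DirectSum.map c).comp (DirectSum.decomposeAddEquiv 𝒜).toAddMonoidHom
  have hg : (Ideal.Quotient.mk I : A →+ A ⧸ I).ker ≤ g.ker := by
    intro a ha
    rw [AddMonoidHom.mem_ker] at ha ⊢
    have haI : a ∈ I := Ideal.Quotient.eq_zero_iff_mem.mp ha
    refine DFinsupp.ext fun i => Subtype.ext ?_
    show (Ideal.Quotient.mk I) ((DirectSum.decompose 𝒜 a i : A)) = 0
    exact Ideal.Quotient.eq_zero_iff_mem.mpr (hI i haI)
  have hsurj : Function.Surjective (Ideal.Quotient.mk I : A →+ A ⧸ I) :=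
    Ideal.Quotient.mk_surjective
  let D : A ⧸ I →+ DirectSum ℕ (fun i => quotGrading 𝒜 I i) :=
    (Ideal.Quotient.mk I : A →+ A ⧸ I).liftOfSurjective hsurj ⟨g, hg⟩
  have hD : ∀ a : A, D ((Ideal.Quotient.mk I : A →+ A ⧸ I) a) = g a := fun a =>
    AddMonoidHom.liftOfRightInverse_comp_apply _ _ _ ⟨g, hg⟩ a
  have hghom : ∀ (i : ℕ) (a : A) (ha : a ∈ 𝒜 i), g a =
      DirectSum.of (fun i => quotGrading 𝒜 I i) i (c i ⟨a, ha⟩) := by
    intro i a ha
    show DirectSum.map c (DirectSum.decompose 𝒜 a) = _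
    rw [DirectSum.decompose_of_mem 𝒜 ha, DirectSum.map_of]
  exact
    { one_mem := ⟨1, SetLike.GradedOne.one_mem, map_one (Ideal.Quotient.mk I)⟩
      mul_mem := by
        rintro i j _ _ ⟨a, ha, rfl⟩ ⟨b, hb, rfl⟩
        exact ⟨a * b, SetLike.GradedMul.mul_mem ha hb, map_mul (Ideal.Quotient.mk I) a b⟩
      decompose' := D
      left_inv := by
        intro q
        obtain ⟨a, rfl⟩ := hsurj q
        rw [hD]
        induction a using DirectSum.Decomposition.inductionOn 𝒜 with
        | zero => simp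
        | homogeneous x =>
          rw [hghom _ x x.2, DirectSum.coeAddMonoidHom_of]
          rfl
        | add x y hx hy => rw [map_add, map_add, hx, hy, map_add]
      right_inv := by
        intro z
        induction z using DirectSum.induction_on with
        | zero => simp
        | of i b =>
          obtain ⟨b, a, ha, rfl⟩ := b
          rw [DirectSum.coeAddMonoidHom_of]
          show D ((Ideal.Quotient.mk I : A →+ A ⧸ I) a) = _
          rw [hD, hghom i a ha]
          rfl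
        | add x y hx hy => rw [map_add, map_add, hx, hy] }

/-- The quotient map as a graded ring homomorphism. -/
def quotGradedHom (I : Ideal A) : GradedRingHom 𝒜 (quotGrading 𝒜 I) where
  __ := Ideal.Quotient.mk I
  map_mem hx := mk_mem_quotGrading 𝒜 I hx

@[simp] theorem quotGradedHom_apply (I : Ideal A) (a : A) :
    quotGradedHom 𝒜 I a = Ideal.Quotient.mk I a := rfl

theorem quotGradedHom_surjective (I : Ideal A) : Function.Surjective (quotGradedHom 𝒜 I) :=
  Ideal.Quotient.mk_surjective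

theorem quotGradedHom_eq_zero_iff (I : Ideal A) (a : A) : quotGradedHom 𝒜 I a = 0 ↔ a ∈ I :=
  Ideal.Quotient.eq_zero_iff_mem

end Quot

section Dehom

variable {R A : Type u} [CommRing R] [CommRing A] [Algebra R A] (𝒜 : ℕ → Submodule R A)
  [GradedAlgebra 𝒜]

theorem mem_smul_one {n : ℕ} {x : A} (hx : x ∈ 𝒜 n) : x ∈ 𝒜 (n • 1) := by
  rwa [smul_eq_mul, mul_one]

theorem mem_of_mem_smul_one {n : ℕ} {x : A} (hx : x ∈ 𝒜 (n • 1)) : x ∈ 𝒜 n := by
  rwa [smul_eq_mul, mul_one] at hx

variable {g : A} (hg : g ∈ 𝒜 1)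

/-- The degree-`n` component of the dehomogenisation map, `x ↦ x / g ^ n`. -/
noncomputable def dcomp (n : ℕ) : 𝒜 n →+ Away 𝒜 g where
  toFun x := Away.mk 𝒜 hg n x (mem_smul_one 𝒜 x.2)
  map_zero' := by
    apply HomogeneousLocalization.val_injective
    rw [Away.val_mk, HomogeneousLocalization.val_zero, ZeroMemClass.coe_zero,
      Localization.mk_zero]
  map_add' x y := by
    apply HomogeneousLocalization.val_injective
    rw [HomogeneousLocalization.val_add, Away.val_mk, Away.val_mk, Away.val_mk,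
      Submodule.coe_add, Localization.add_mk_self]

theorem dcomp_one :
    dcomp 𝒜 hg 0 (GradedMonoid.GOne.one (A := fun i => 𝒜 i)) = 1 := by
  apply HomogeneousLocalization.val_injective
  show (Away.mk 𝒜 hg 0 ((GradedMonoid.GOne.one (A := fun i => 𝒜 i) : 𝒜 0) : A) _).val = _
  rw [Away.val_mk, HomogeneousLocalization.val_one, ← Localization.mk_one,
    Localization.mk_eq_mk_iff, Localization.r_iff_exists]
  exact ⟨1, by simp [SetLike.coe_gOne]⟩

theorem dcomp_mul {i j : ℕ} (x : 𝒜 i) (y : 𝒜 j) :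
    dcomp 𝒜 hg (i + j) (GradedMonoid.GMul.mul (A := fun i => 𝒜 i) x y) =
      dcomp 𝒜 hg i x * dcomp 𝒜 hg j y := by
  apply HomogeneousLocalization.val_injective
  rw [HomogeneousLocalization.val_mul]
  show (Away.mk 𝒜 hg (i + j)
      ((GradedMonoid.GMul.mul (A := fun i => 𝒜 i) x y : 𝒜 (i + j)) : A) _).val =
    (Away.mk 𝒜 hg i x _).val * (Away.mk 𝒜 hg j y _).val
  rw [Away.val_mk, Away.val_mk, Away.val_mk, Localization.mk_mul, Localization.mk_eq_mk_iff,
    Localization.r_iff_exists]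
  refine ⟨1, ?_⟩
  simp only [SetLike.coe_gMul, OneMemClass.coe_one, one_mul, Submonoid.coe_mul, pow_add]

/-- Dehomogenisation with respect to an element `g` of degree one: the ring homomorphism
`A → A_(g)` sending `x ∈ 𝒜 n` to `x / g ^ n`. -/
noncomputable def dehom : A →+* Away 𝒜 g :=
  (DirectSum.toSemiring (dcomp 𝒜 hg) (dcomp_one 𝒜 hg)
    (fun x y => dcomp_mul 𝒜 hg x y)).comp (DirectSum.decomposeRingEquiv 𝒜).toRingHom

theorem dehom_of_mem {n : ℕ} {x : A} (hx : x ∈ 𝒜 n) :
    dehom 𝒜 hg x = Away.mk 𝒜 hg n x (mem_smul_one 𝒜 hx) := by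
  unfold dehom
  rw [RingHom.comp_apply]
  show DirectSum.toSemiring _ _ _ (DirectSum.decompose 𝒜 x) = _
  rw [DirectSum.decompose_of_mem 𝒜 hx, DirectSum.toSemiring_of]
  rfl

end Dehom

end Groth.Agent.H22
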