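import Groth.Agent.S10848
import Groth.Agent.H22.QCohLimits
import Groth.Agent.H8.PullbackFinType
import Groth.Agent.H8.CohKerCoker

/-!
# Extension of the graph of a morphism defined on an open subscheme
-/

set_option autoImplicit false
set_option linter.style.haveILetI false
universe u
open CategoryTheory CategoryTheory.Limits AlgebraicGeometry

namespace Groth.Agent.H22.GraphExt

/-- (D1) Extension of the graph of a morphism defined on an open: `G` coherent, `F` quasi-coherent on a
Noetherian scheme, `φ : G|_U ⟶ F|_U`.  There are a coherent `G'` with `α : G' ⟶ G` an isomorphism over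
`U` and `π : G' ⟶ F` with `π|_U = α|_U ≫ φ`. -/
theorem exists_graph_extension (X : Scheme.{u}) [IsNoetherian X] (F G : X.Modules)
    (hF : Coh.IsQCoh F) (hG : Coh.IsCoh G) (U : X.Opens)
    (φ : (Scheme.Modules.restrictFunctor U.ι).obj G ⟶ (Scheme.Modules.restrictFunctor U.ι).obj F) :
    ∃ (G' : X.Modules) (α : G' ⟶ G) (π : G' ⟶ F), Coh.IsCoh G' ∧
      IsIso ((Scheme.Modules.restrictFunctor U.ι).map α) ∧
      (Scheme.Modules.restrictFunctor U.ι).map π =
        (Scheme.Modules.restrictFunctor U.ι).map α ≫ φ := by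
  haveI : F.IsQuasicoherent := hF
  haveI : G.IsQuasicoherent := hG.1
  haveI hadd : (Scheme.Modules.restrictFunctor U.ι).Additive :=
    (Scheme.Modules.restrictAdjunction U.ι).left_adjoint_additive
  haveI hH : Coh.IsQCoh (G ⊞ F) := Groth.Agent.H22.QCohLimits.isQuasicoherent_biprod G F
  haveI hF'q : Coh.IsQCoh (G.restrict U.ι) :=
    Scheme.Modules.isQuasicoherent_restrictFunctor U.ι G
  have hF'ft : CohB1.IsFT (G.restrict U.ι) := by
    haveI : SheafOfModules.IsFiniteType (R := X.ringCatSheaf) G := hG.2
    haveI := Groth.Agent.H8.isFiniteType_pullback U.ι G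
    exact Groth.Agent.H8.isFiniteType_of_epi
      ((Scheme.Modules.restrictFunctorIsoPullback U.ι).app G).inv
  have hUc : IsCompact (U : Set X) := TopologicalSpace.NoetherianSpace.isCompact _
  -- the graph of `φ`
  let i' : G.restrict U.ι ⟶ (G ⊞ F).restrict U.ι :=
    (Scheme.Modules.restrictFunctor U.ι).map biprod.inl +
      φ ≫ (Scheme.Modules.restrictFunctor U.ι).map biprod.inr
  have hfst : i' ≫ (Scheme.Modules.restrictFunctor U.ι).map biprod.fst = 𝟙 _ := by
    change ((Scheme.Modules.restrictFunctor U.ι).map biprod.inl +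
      φ ≫ (Scheme.Modules.restrictFunctor U.ι).map biprod.inr) ≫ _ = _
    rw [Preadditive.add_comp, Category.assoc, ← CategoryTheory.Functor.map_comp, ← CategoryTheory.Functor.map_comp,
      biprod.inl_fst, biprod.inr_fst, CategoryTheory.Functor.map_id, CategoryTheory.Functor.map_zero, comp_zero, add_zero]
  have hsnd : i' ≫ (Scheme.Modules.restrictFunctor U.ι).map biprod.snd = φ := by
    change ((Scheme.Modules.restrictFunctor U.ι).map biprod.inl +
      φ ≫ (Scheme.Modules.restrictFunctor U.ι).map biprod.inr) ≫ _ = _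
    rw [Preadditive.add_comp, Category.assoc, ← CategoryTheory.Functor.map_comp, ← CategoryTheory.Functor.map_comp,
      biprod.inl_snd, biprod.inr_snd, CategoryTheory.Functor.map_id, CategoryTheory.Functor.map_zero, zero_add, Category.comp_id]
  haveI : Mono i' := mono_of_mono_fac hfst
  obtain ⟨F₁, i, e, hi, hq, hft, he⟩ :=
    Groth.Agent.S10848.result U hUc (G ⊞ F) (G.restrict U.ι) hF'ft i'
  refine ⟨F₁, i ≫ biprod.fst, i ≫ biprod.snd, ⟨hq, hft⟩, ?_, ?_⟩
  · have h1 : (Scheme.Modules.restrictFunctor U.ι).map (i ≫ biprod.fst) = e.hom := by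
      rw [CategoryTheory.Functor.map_comp, ← he, Category.assoc, hfst, Category.comp_id]
    rw [h1]
    infer_instance
  · have h1 : (Scheme.Modules.restrictFunctor U.ι).map (i ≫ biprod.fst) = e.hom := by
      rw [CategoryTheory.Functor.map_comp, ← he, Category.assoc, hfst, Category.comp_id]
    rw [h1, CategoryTheory.Functor.map_comp, ← he, Category.assoc, hsnd]

end Groth.Agent.H22.GraphExt
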