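import Mathlib
import Groth.Prelude.Def_FEt
import Groth.Prelude.Def_Flatn

/-!
# (BIJ) for S1149: points of a representing object of `morS U V` over `g : T ⟶ X`
are the morphisms between the restrictions of `U`, `V` along `g`
-/

set_option autoImplicit false
universe u
open CategoryTheory CategoryTheory.Limits AlgebraicGeometry Opposite TensorProduct

namespace Groth.Agent.H22.IntHomBIJ

theorem nonempty_equiv_of_representableBy {X : Scheme.{u}} (U V : FEt.Cat X) (W : Over X)
    (R : (Flatn.morS U.hom V.hom).RepresentableBy W) (T : Scheme.{u}) (g : T ⟶ X) :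
    Nonempty ({s : T ⟶ W.left // s ≫ W.hom = g} ≃
      ((FEt.restrict g).obj U ⟶ (FEt.restrict g).obj V)) := by
  let e1 : {s : T ⟶ W.left // s ≫ W.hom = g} ≃ (Over.mk g ⟶ W) :=
    { toFun := fun s => Over.homMk s.1 s.2
      invFun := fun φ => ⟨φ.left, Over.w φ⟩
      left_inv := fun s => rfl
      right_inv := fun φ => by ext; rfl }
  let e2 := R.homEquiv (X := Over.mk g)
  let e3 := Flatn.morSEquiv U.hom V.hom (Over.mk g)
  let iU : (Over.mk (pullback.fst g U.hom) : Over T) ≅ Over.mk (pullback.snd U.hom g) :=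
    Over.isoMk (pullbackSymmetry g U.hom) (by simp)
  let iV : (Over.mk (pullback.fst g V.hom) : Over T) ≅ Over.mk (pullback.snd V.hom g) :=
    Over.isoMk (pullbackSymmetry g V.hom) (by simp)
  let e4 := iU.homCongr iV
  let e5 : ((Over.mk (pullback.snd U.hom g) : Over T) ⟶ Over.mk (pullback.snd V.hom g)) ≃
      ((FEt.restrict g).obj U ⟶ (FEt.restrict g).obj V) :=
    ((MorphismProperty.Comma.forgetFullyFaithful _ _ _).homEquiv
      (X := (FEt.restrict g).obj U) (Y := (FEt.restrict g).obj V)).symm
  exact ⟨e1.trans (e2.trans (e3.trans (e4.trans e5)))⟩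

end Groth.Agent.H22.IntHomBIJ
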