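import Mathlib

/-!
# The kernel of a functional on a free module with a unimodular vector

If `M ≃ R^(n+1)`, `v ∈ M` has a unit coordinate and `φ v` is a unit, then `ker φ ≃ R^n`.
-/

set_option autoImplicit false

namespace Groth.Agent.H22.KerFree

variable {R M : Type*} [CommRing R] [AddCommGroup M] [Module R M]

/-- The projection killing `v` along the `i`-th coordinate. -/
def psi (n : ℕ) (e : M ≃ₗ[R] (Fin (n + 1) → R)) (v : M) (i : Fin (n + 1)) (u : Rˣ) :
    M →ₗ[R] (Fin n → R) where
  toFun m := fun j => e m (i.succAbove j) - e m i * (↑u⁻¹ : R) * e v (i.succAbove j)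
  map_add' a b := by
    funext j
    simp only [map_add, Pi.add_apply]
    ring
  map_smul' r a := by
    funext j
    simp only [map_smul, Pi.smul_apply, smul_eq_mul, RingHom.id_apply]
    ring

theorem nonempty_ker_equiv (n : ℕ) (e : M ≃ₗ[R] (Fin (n + 1) → R)) (v : M) (i : Fin (n + 1))
    (hu : IsUnit (e v i)) (φ : M →ₗ[R] R) (hφ : IsUnit (φ v)) :
    Nonempty (LinearMap.ker φ ≃ₗ[R] (Fin n → R)) := by
  obtain ⟨u, hu'⟩ := hu
  obtain ⟨t, ht⟩ := hφ
  have hψv : psi n e v i u v = 0 := by
    funext j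
    show e v (i.succAbove j) - e v i * (↑u⁻¹ : R) * e v (i.succAbove j) = 0
    rw [← hu', Units.mul_inv, one_mul, sub_self]
  refine ⟨LinearEquiv.ofBijective ((psi n e v i u).comp (LinearMap.ker φ).subtype) ⟨?_, ?_⟩⟩
  · rw [← LinearMap.ker_eq_bot, LinearMap.ker_eq_bot']
    rintro ⟨m, hm⟩ h0
    have hm' : φ m = 0 := hm
    have h1 : ∀ j, e m (i.succAbove j) = e m i * (↑u⁻¹ : R) * e v (i.succAbove j) := by
      intro j
      have := congrFun h0 j
      exact sub_eq_zero.mp this
    have h2 : e m = (e m i * (↑u⁻¹ : R)) • e v := by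
      funext k
      rcases Fin.eq_self_or_eq_succAbove i k with rfl | ⟨j, rfl⟩
      · show e m k = e m k * (↑u⁻¹ : R) * e v k
        rw [← hu', mul_assoc, Units.inv_mul, mul_one]
      · exact h1 j
    have h3 : m = (e m i * (↑u⁻¹ : R)) • v := by
      apply e.injective
      rw [h2, map_smul]
      congr 1
      rw [← h2]
    have h4 : (e m i * (↑u⁻¹ : R)) * φ v = 0 := by
      have := congrArg φ h3
      rw [hm', map_smul, smul_eq_mul] at this
      exact this.symm
    have h5 : e m i * (↑u⁻¹ : R) = 0 := by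
      rw [← ht] at h4
      exact (Units.mul_left_eq_zero t).mp h4
    apply Subtype.ext
    show m = 0
    rw [h3, h5, zero_smul]
  · intro w
    let m₀ : M := e.symm (i.insertNth (0 : R) w)
    have hm₀i : e m₀ i = 0 := by
      show e (e.symm _) i = 0
      rw [LinearEquiv.apply_symm_apply, Fin.insertNth_apply_same]
    have hm₀j : ∀ j, e m₀ (i.succAbove j) = w j := by
      intro j
      show e (e.symm _) (i.succAbove j) = w j
      rw [LinearEquiv.apply_symm_apply, Fin.insertNth_apply_succAbove]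
    have hψm₀ : psi n e v i u m₀ = w := by
      funext j
      show e m₀ (i.succAbove j) - e m₀ i * (↑u⁻¹ : R) * e v (i.succAbove j) = w j
      rw [hm₀i, hm₀j, zero_mul, zero_mul, sub_zero]
    let m : M := m₀ - (φ m₀ * (↑t⁻¹ : R)) • v
    have hm : m ∈ LinearMap.ker φ := by
      show φ (m₀ - (φ m₀ * (↑t⁻¹ : R)) • v) = 0
      rw [map_sub, map_smul, smul_eq_mul, ← ht, mul_assoc, Units.inv_mul, mul_one, sub_self]
    refine ⟨⟨m, hm⟩, ?_⟩
    show psi n e v i u (m₀ - (φ m₀ * (↑t⁻¹ : R)) • v) = w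
    rw [map_sub, map_smul, hψv, smul_zero, sub_zero, hψm₀]

end Groth.Agent.H22.KerFree
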