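import Groth.Agent.H5.KerDefs
import Groth.Agent.H8.CohKerCoker

/-!
# (CE) construction of the image system from uniform Artin–Rees data
-/

set_option autoImplicit false
set_option linter.style.haveILetI false
universe u
open CategoryTheory CategoryTheory.Limits AlgebraicGeometry Opposite
open Groth.Agent.S9528 Groth.Agent.H5.Ker

namespace Groth.Agent.H22.KerCE

section Abstract
variable {C : Type*} [Category C] [Abelian C]

/-- stability of images gives surjectivity (abstract form) -/
theorem epi_of_stab {N M Em En Fn : C} (pm : N ⟶ Em) [Epi pm] (e : Em ⟶ En) (ιn : En ⟶ Fn)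
    [Mono ιn] (pn : M ⟶ En) [Epi pn] (ψ' : N ⟶ Fn) (hψ' : ψ' = pm ≫ e ≫ ιn)
    (hstab : (pn ≫ ιn) ≫ cokernel.π ψ' = 0) : Epi e := by
  have h0 : ιn ≫ cokernel.π (e ≫ ιn) = 0 := by
    have hk : ψ' ≫ cokernel.π (e ≫ ιn) = 0 := by
      rw [hψ', Category.assoc, cokernel.condition, comp_zero]
    have hd : cokernel.π ψ' ≫ cokernel.desc ψ' (cokernel.π (e ≫ ιn)) hk = cokernel.π (e ≫ ιn) :=
      cokernel.π_desc _ _ _
    rw [← cancel_epi pn, comp_zero, ← Category.assoc, ← hd, ← Category.assoc, hstab, zero_comp]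
  let s : En ⟶ Abelian.image (e ≫ ιn) := kernel.lift (cokernel.π (e ≫ ιn)) ιn h0
  have hs : s ≫ Abelian.image.ι (e ≫ ιn) = ιn := kernel.lift_ι _ _ _
  haveI : Mono s := by
    haveI : Mono (s ≫ Abelian.image.ι (e ≫ ιn)) := by rw [hs]; infer_instance
    exact mono_of_mono s (Abelian.image.ι (e ≫ ιn))
  have hes : e ≫ s = Abelian.factorThruImage (e ≫ ιn) := by
    rw [← cancel_mono (Abelian.image.ι (e ≫ ιn)), Category.assoc, hs, Abelian.image.fac]
  haveI : Epi s := by
    haveI : Epi (e ≫ s) := by rw [hes]; infer_instance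
    exact epi_of_epi e s
  haveI : IsIso s := isIso_of_mono_of_epi s
  have : e = Abelian.factorThruImage (e ≫ ιn) ≫ inv s := by
    rw [← hes, Category.assoc, IsIso.hom_inv_id, Category.comp_id]
  rw [this]
  infer_instance

/-- transfer of the Artin–Rees vanishing (abstract form) -/
theorem ar_transfer {Em Ej Fm Fj Q : C} (e : Em ⟶ Ej) (ιm : Em ⟶ Fm) (ιj : Ej ⟶ Fj) (φ : Fm ⟶ Fj)
    (comm : e ≫ ιj = ιm ≫ φ) (q : Em ⟶ Q) (har : kernel.ι (ιm ≫ φ) ≫ q = 0) :
    kernel.ι e ≫ q = 0 := by
  have hfac : kernel.ι e ≫ (ιm ≫ φ) = 0 := by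
    rw [← comm, ← Category.assoc, kernel.condition, zero_comp]
  have hl : kernel.lift (ιm ≫ φ) (kernel.ι e) hfac ≫ kernel.ι (ιm ≫ φ) = kernel.ι e :=
    kernel.lift_ι _ _ _
  rw [← hl, Category.assoc, har, comp_zero]

end Abstract

variable {A : Type u} [CommRing A] {X : Scheme.{u}} [X.Over (Spec (CommRingCat.of A))] (I : Ideal A)

section
variable {F G : ℕᵒᵖ ⥤ X.Modules} (α : F ⟶ G)

theorem map_comp_le' (T : ℕᵒᵖ ⥤ X.Modules) {a b c : ℕ} (h₁ : a ≤ b) (h₂ : b ≤ c) :
    T.map (homOfLE h₂).op ≫ T.map (homOfLE h₁).op = T.map (homOfLE (h₁.trans h₂)).op := by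
  rw [← T.map_comp]
  rfl

/-- the transition maps between the kernels -/
noncomputable def kmap {n m : ℕ} (h : n ≤ m) :
    kernel (α.app (op m)) ⟶ kernel (α.app (op n)) :=
  kernel.map _ _ (F.map (homOfLE h).op) (G.map (homOfLE h).op) (α.naturality _).symm

@[reassoc]
theorem kmap_ι {n m : ℕ} (h : n ≤ m) :
    kmap α h ≫ kernel.ι (α.app (op n)) = kernel.ι (α.app (op m)) ≫ F.map (homOfLE h).op := by
  unfold kmap
  simp

theorem kmap_ψ {n m m' : ℕ} (h : n ≤ m) (h' : m ≤ m') :
    kmap α h' ≫ ψ α h = ψ α (h.trans h') := by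
  unfold ψ
  rw [kmap_ι_assoc, map_comp_le']

theorem ψ_map {n n' m : ℕ} (h : n' ≤ m) (h' : n ≤ n') :
    ψ α h ≫ F.map (homOfLE h').op = ψ α (h'.trans h) := by
  unfold ψ
  rw [Category.assoc, map_comp_le']

theorem ψ_α {n m : ℕ} (h : n ≤ m) : ψ α h ≫ α.app (op n) = 0 := by
  unfold ψ
  rw [Category.assoc, α.naturality, ← Category.assoc, kernel.condition, zero_comp]

variable (c : ℕ)

/-- `ψ_n : N_{n+c} ⟶ F_n` -/
noncomputable abbrev ψn (n : ℕ) : kernel (α.app (op (n + c))) ⟶ F.obj (op n) :=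
  ψ α (Nat.le_add_right n c)

/-- `E_n` -/
noncomputable abbrev Eobj (n : ℕ) : X.Modules := Abelian.image (ψn α c n)

theorem t_w (n : ℕ) :
    (Abelian.image.ι (ψn α c (n + 1)) ≫ F.map (homOfLE (Nat.le_add_right n 1)).op) ≫
      cokernel.π (ψn α c n) = 0 := by
  rw [← cancel_epi (Abelian.factorThruImage (ψn α c (n + 1))), comp_zero, ← Category.assoc,
    ← Category.assoc, Abelian.image.fac, ψ_map]
  have h1 : n + c ≤ n + 1 + c := by omega
  rw [← kmap_ψ α (Nat.le_add_right n c) h1, Category.assoc, cokernel.condition, comp_zero]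

/-- the transition maps `E_{n+1} ⟶ E_n` -/
noncomputable def t (n : ℕ) : Eobj α c (n + 1) ⟶ Eobj α c n :=
  kernel.lift (cokernel.π (ψn α c n))
    (Abelian.image.ι (ψn α c (n + 1)) ≫ F.map (homOfLE (Nat.le_add_right n 1)).op) (t_w α c n)

theorem t_ι (n : ℕ) :
    t α c n ≫ Abelian.image.ι (ψn α c n) =
      Abelian.image.ι (ψn α c (n + 1)) ≫ F.map (homOfLE (Nat.le_add_right n 1)).op :=
  kernel.lift_ι _ _ _

/-- the image system -/
noncomputable def E : ℕᵒᵖ ⥤ X.Modules := Functor.ofOpSequence (X := Eobj α c) (t α c)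

/-- the inclusion -/
noncomputable def ι : E α c ⟶ F :=
  NatTrans.ofOpSequence (F := E α c) (G := F) (fun n => Abelian.image.ι (ψn α c n)) (fun n => by
    unfold E
    rw [Functor.ofOpSequence_map_homOfLE_succ]
    exact t_ι α c n)

theorem ι_app (n : ℕ) : (ι α c).app (op n) = Abelian.image.ι (ψn α c n) := rfl

instance mono_imageι (n : ℕ) : Mono (Abelian.image.ι (ψn α c n)) :=
  inferInstanceAs (Mono (kernel.ι (cokernel.π (ψn α c n))))

instance mono_ι_app (n : ℕ) : Mono ((ι α c).app (op n)) := mono_imageι α c n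

instance epi_factorThruImage (n : ℕ) : Epi (Abelian.factorThruImage (ψn α c n)) :=
  inferInstance

theorem E_map_ι {n m : ℕ} (h : n ≤ m) :
    (E α c).map (homOfLE h).op ≫ Abelian.image.ι (ψn α c n) =
      Abelian.image.ι (ψn α c m) ≫ F.map (homOfLE h).op :=
  (ι α c).naturality (homOfLE h).op

theorem ι_α : ι α c ≫ α = 0 := by
  apply NatTrans.ext
  funext n
  have key : Abelian.image.ι (ψn α c n.unop) ≫ α.app (op n.unop) = 0 := by
    rw [← cancel_epi (Abelian.factorThruImage (ψn α c n.unop)), comp_zero, ← Category.assoc,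
      Abelian.image.fac]
    exact ψ_α α _
  exact key

/-- stability of the images gives surjectivity of the transition maps -/
theorem epi_E_map {n m : ℕ} (h : n ≤ m)
    (hstab : ψ α (Nat.le_add_right n c) ≫
      cokernel.π (ψ α ((Nat.le_add_right n c).trans (Nat.add_le_add_right h c))) = 0) :
    Epi ((E α c).map (homOfLE h).op) := by
  haveI : Epi (show kernel (α.app (op (m + c))) ⟶ (E α c).obj (op m) from
      Abelian.factorThruImage (ψn α c m)) := epi_factorThruImage α c m
  haveI : Epi (show kernel (α.app (op (n + c))) ⟶ (E α c).obj (op n) from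
      Abelian.factorThruImage (ψn α c n)) := epi_factorThruImage α c n
  refine epi_of_stab (show kernel (α.app (op (m + c))) ⟶ (E α c).obj (op m) from
      Abelian.factorThruImage (ψn α c m)) ((E α c).map (homOfLE h).op)
    ((ι α c).app (op n)) (show kernel (α.app (op (n + c))) ⟶ (E α c).obj (op n) from
      Abelian.factorThruImage (ψn α c n))
    (ψ α ((Nat.le_add_right n c).trans (Nat.add_le_add_right h c))) ?_ ?_
  · have h1 : (E α c).map (homOfLE h).op ≫ (ι α c).app (op n) =
        (ι α c).app (op m) ≫ F.map (homOfLE h).op := (ι α c).naturality (homOfLE h).op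
    rw [h1, ← Category.assoc]
    have h2 : Abelian.factorThruImage (ψn α c m) ≫ (ι α c).app (op m) = ψn α c m :=
      Abelian.image.fac _
    refine Eq.trans ?_ (congrArg (fun z => z ≫ F.map (homOfLE h).op) h2.symm)
    exact (ψ_map α _ _).symm
  · have h2 : Abelian.factorThruImage (ψn α c n) ≫ (ι α c).app (op n) = ψn α c n :=
      Abelian.image.fac _
    exact (congrArg (fun z => z ≫ cokernel.π _) h2).trans hstab

end

/-- (CE) -/
theorem exists_eSys [IsNoetherian X] {F G : ℕᵒᵖ ⥤ X.Modules} (hF : Formal.IsCohFormal I F)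
    (hG : Formal.IsCohFormal I G) (α : F ⟶ G) {c c' : ℕ} (h : ARData I α c c') :
    Nonempty (ESys I α c c') := by
  refine ⟨{ E := E α c
            ι := ι α c
            mono := fun n => mono_ι_app α c n
            coh := fun n => ?_
            zero := ι_α α c
            epi := fun {n m} hnm => ?_
            fac := fun m => ⟨Abelian.factorThruImage (ψn α c m), Abelian.image.fac _⟩
            ar := fun j m k hjm hk => ?_ }⟩
  · -- coherence
    have hN : Coh.IsCoh (kernel (α.app (op (n + c)))) :=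
      Groth.Agent.H8.isCoh_kernel (hF.1 (n + c)) (hG.1 (n + c)) _
    have hC : Coh.IsCoh (cokernel (ψn α c n)) :=
      Groth.Agent.H8.isCoh_cokernel hN (hF.1 n) _
    exact Groth.Agent.H8.isCoh_kernel (hF.1 n) hC (cokernel.π (ψn α c n))
  · exact epi_E_map α c hnm (h.stab n (m + c) (Nat.add_le_add_right hnm c))
  · -- Artin–Rees
    exact ar_transfer ((E α c).map (homOfLE hjm).op) (Abelian.image.ι (ψn α c m))
      (Abelian.image.ι (ψn α c j)) (F.map (homOfLE hjm).op) (E_map_ι α c hjm)
      (Formal.modPowπ I k (Abelian.image (ψn α c m))) (h.ar j m k hjm hk)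

end Groth.Agent.H22.KerCE
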