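import Groth.Agent.H5.KerDefs

/-!
# (K1) the image system is "coherent formal up to a shift"
-/

set_option autoImplicit false
set_option linter.style.haveILetI false
universe u
open CategoryTheory CategoryTheory.Limits AlgebraicGeometry Opposite
open Groth.Agent.S9528 Groth.Agent.H5.Ker

namespace Groth.Agent.H22.KerK1

variable {A : Type u} [CommRing A] {X : Scheme.{u}} [X.Over (Spec (CommRingCat.of A))] (I : Ideal A)

theorem isQuot_E {F G : ℕᵒᵖ ⥤ X.Modules} {α : F ⟶ G} {c c' : ℕ} (D : ESys I α c c')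
    {m m' k : ℕ} (h : m ≤ m') (hk : k + c' ≤ m + 1) :
    IsQuot (I ^ k) (D.E.map (homOfLE h).op ≫ Formal.modPowπ I k (D.E.obj (op m))) := by
  haveI : Epi (D.E.map (homOfLE h).op) := D.epi h
  haveI : Epi (Formal.modPowπ I k (D.E.obj (op m))) :=
    inferInstanceAs (Epi (cokernel.π (Formal.smulFamily (I ^ k) (D.E.obj (op m)))))
  haveI : Epi (D.E.map (homOfLE h).op ≫ Formal.modPowπ I k (D.E.obj (op m))) := epi_comp _ _
  have hw : Formal.smulFamily (I ^ k) (D.E.obj (op m)) ≫ Formal.modPowπ I k (D.E.obj (op m)) = 0 :=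
    cokernel.condition _
  refine IsQuot.mk' _ (smulFamily_comp_of_comp _ _ hw) (fun {Z} g hg => ?_)
  -- (i) `g` factors through `modPowπ I k E_{m'}`
  obtain ⟨g₁, hg₁⟩ := (isQuot_π (I ^ k) (D.E.obj (op m'))).desc g hg
  -- (ii) `kernel.ι (E.map) ≫ g = 0`
  have hker : kernel.ι (D.E.map (homOfLE h).op) ≫ g = 0 := by
    rw [← hg₁, ← Category.assoc]
    have := D.ar m m' k h hk
    change kernel.ι (D.E.map (homOfLE h).op) ≫
      cokernel.π (Formal.smulFamily (I ^ k) (D.E.obj (op m'))) = 0 at this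
    rw [this, zero_comp]
  -- (iii) `g` factors through the epi `E.map`
  obtain ⟨g', hg'⟩ := CokernelCofork.IsColimit.desc'
    (Abelian.epiIsCokernelOfKernel _ (kernelIsKernel (D.E.map (homOfLE h).op))) g hker
  have hg'' : D.E.map (homOfLE h).op ≫ g' = g := hg'
  -- (iv) `g'` kills `I^k E_m`
  have hk' : Formal.smulFamily (I ^ k) (D.E.obj (op m)) ≫ g' = 0 :=
    smulFamily_comp_of_epi (D.E.map (homOfLE h).op) g' (by rw [hg'']; exact hg)
  -- (v)
  obtain ⟨l, hl⟩ := (isQuot_π (I ^ k) (D.E.obj (op m))).desc g' hk'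
  refine ⟨l, ?_⟩
  rw [Category.assoc]
  change D.E.map (homOfLE h).op ≫ cokernel.π (Formal.smulFamily (I ^ k) (D.E.obj (op m))) ≫ l = g
  rw [hl, hg'']

end Groth.Agent.H22.KerK1
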