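import Groth.Agent.H5.KerDefs

/-!
# (K3) the shifted quotient system of a coherent formal module is isomorphic to it
-/

set_option autoImplicit false
set_option linter.style.haveILetI false
universe u
open CategoryTheory CategoryTheory.Limits AlgebraicGeometry Opposite
open Groth.Agent.S9528 Groth.Agent.H5.Ker

namespace Groth.Agent.H22.KerK3

variable {A : Type u} [CommRing A] {X : Scheme.{u}} [X.Over (Spec (CommRingCat.of A))] (I : Ideal A)

theorem map_comp_le' (T : ℕᵒᵖ ⥤ X.Modules) {a b c : ℕ} (h₁ : a ≤ b) (h₂ : b ≤ c) (h₃ : a ≤ c) :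
    T.map (homOfLE h₂).op ≫ T.map (homOfLE h₁).op = T.map (homOfLE h₃).op := by
  rw [← T.map_comp]
  rfl

theorem exists_τ {T : ℕᵒᵖ ⥤ X.Modules} (hT : Formal.IsCohFormal I T) (c' : ℕ) :
    ∃ e : Θobj I (sh c') (sh_mono c') T ≅ T, ∀ n : ℕ,
      θπ I (sh c') T n ≫ e.hom.app (op n) = T.map (homOfLE (le_sh c' n)).op := by
  have key : ∀ n : ℕ, ∃ e : θobj I (sh c') T n ≅ T.obj (op n),
      θπ I (sh c') T n ≫ e.hom = T.map (homOfLE (le_sh c' n)).op := fun n =>
    IsQuot.exists_iso (isQuot_θπ I (sh c') T n) (isQuot_of_cohFormal I hT (le_sh c' n))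
  choose e he using key
  have hsucc : ∀ n : ℕ, θtrans I (sh c') (sh_mono c') T n ≫ (e n).hom =
      (e (n + 1)).hom ≫ T.map (homOfLE (Nat.le_add_right n 1)).op := by
    intro n
    rw [← cancel_epi (θπ I (sh c') T (n + 1)), ← Category.assoc, θπ_trans, Category.assoc,
      he n, ← Category.assoc, he (n + 1)]
    rw [map_comp_le' T (le_sh c' n) (sh_mono c' (Nat.le_succ n))
      ((le_sh c' n).trans (sh_mono c' (Nat.le_succ n)))]
    exact (map_comp_le' T (Nat.le_add_right n 1) (le_sh c' (n + 1)) _).symm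
  let α : Θobj I (sh c') (sh_mono c') T ⟶ T :=
    NatTrans.ofOpSequence (F := Θobj I (sh c') (sh_mono c') T) (G := T)
      (fun n => (e n).hom) (fun n => by
        rw [Θobj_map_succ]
        exact hsucc n)
  haveI : ∀ k : ℕᵒᵖ, IsIso (α.app k) := fun k =>
    (inferInstance : IsIso (e k.unop).hom)
  haveI : IsIso α := NatIso.isIso_of_isIso_app α
  exact ⟨asIso α, fun n => he n⟩

end Groth.Agent.H22.KerK3
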