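import Groth.Agent.H5.KerDefs

/-!
# (K4) lifting a morphism killed by `α` through the image system
-/

set_option autoImplicit false
set_option linter.style.haveILetI false
universe u
open CategoryTheory CategoryTheory.Limits AlgebraicGeometry Opposite
open Groth.Agent.S9528 Groth.Agent.H5.Ker

namespace Groth.Agent.H22.KerK4

variable {A : Type u} [CommRing A] {X : Scheme.{u}} [X.Over (Spec (CommRingCat.of A))] (I : Ideal A)

theorem exists_lift {F G : ℕᵒᵖ ⥤ X.Modules} {α : F ⟶ G} {c c' : ℕ} (D : ESys I α c c')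
    {T : ℕᵒᵖ ⥤ X.Modules} (hT : Formal.IsCohFormal I T) (β : T ⟶ F) (hβ : β ≫ α = 0) :
    ∃ β' : T ⟶ D.E, β' ≫ D.ι = β := by
  have key : ∀ m : ℕ, ∃ b : T.obj (op m) ⟶ D.E.obj (op m),
      b ≫ D.ι.app (op m) = β.app (op m) := by
    intro m
    haveI : Epi (T.map (homOfLE (Nat.le_add_right m c)).op) :=
      (isQuot_of_cohFormal I hT (Nat.le_add_right m c)).epi
    haveI : StrongEpi (T.map (homOfLE (Nat.le_add_right m c)).op) := strongEpi_of_epi _
    haveI : Mono (D.ι.app (op m)) := D.mono m
    have h0 : β.app (op (m + c)) ≫ α.app (op (m + c)) = 0 := by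
      have := congrArg (fun t => t.app (op (m + c))) hβ
      simpa using this
    obtain ⟨l, hl⟩ := D.fac m
    have sq : CommSq (kernel.lift (α.app (op (m + c))) (β.app (op (m + c))) h0 ≫ l)
        (T.map (homOfLE (Nat.le_add_right m c)).op) (D.ι.app (op m)) (β.app (op m)) := by
      refine ⟨?_⟩
      rw [Category.assoc, hl]
      unfold ψ
      rw [kernel.lift_ι_assoc]
      exact (β.naturality _).symm
    exact ⟨sq.lift, sq.fac_right⟩
  choose b hb using key
  refine ⟨{ app := fun n => b n.unop
            naturality := ?_ }, ?_⟩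
  · intro n n' φ
    haveI : Mono (D.ι.app (op n'.unop)) := D.mono n'.unop
    rw [← cancel_mono (D.ι.app (op n'.unop))]
    rw [Category.assoc, hb, Category.assoc]
    have h1 : D.E.map φ ≫ D.ι.app (op n'.unop) = D.ι.app (op n.unop) ≫ F.map φ :=
      D.ι.naturality φ
    rw [h1, ← Category.assoc, hb]
    exact β.naturality φ
  · apply NatTrans.ext
    funext n
    exact hb n.unop

end Groth.Agent.H22.KerK4
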