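import Mathlib
import Groth.Prelude.Def_DCoh4
import Groth.Prelude.Def_ClSub2
import Groth.Prelude.Def_Omega2
import Groth.Prelude.Def_SecTwist
import Groth.Agent.H8.UnitHom

/-!
# `H⁰` of the normal sheaf of a closed subscheme is `Hom(I, O_X / I)`
-/

set_option autoImplicit false
universe u
open CategoryTheory CategoryTheory.Limits AlgebraicGeometry TensorProduct

namespace Groth.Agent.H22.LocHilbHD

/-- `H⁰(Y, G) ≃ Γ(G, ⊤)`. -/
noncomputable def hh0Equiv (Y : Scheme.{u}) (G : Y.Modules) :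
    Coh.HH Y G 0 ≃ (Coh.structureModule Y ⟶ G) :=
  (Sheaf.H.equiv₀ (Coh.toAb G) (T := (⊤ : TopologicalSpace.Opens Y)) isTerminalTop).toEquiv.trans
    (Equiv.ofBijective _ (Groth.Agent.H8.unit_hom_ev_bijective Y G)).symm

/-- (HD) H⁰ of the normal sheaf is Hom(I, O_Y) -/
theorem nonempty_HH0_normal_equiv {X : Scheme.{u}} (I₀ : X.IdealSheafData)
    [DCoh.HasSheafHom (Omega.conormal I₀.subschemeι)] :
    Nonempty (Coh.HH I₀.subscheme ((DCoh.sheafHom (Omega.conormal I₀.subschemeι)).obj
        (Coh.structureModule I₀.subscheme)) 0 ≃ (ClSub.idealMod I₀ ⟶ ClSub.quotMod I₀)) := by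
  refine ⟨?_⟩
  refine (hh0Equiv I₀.subscheme _).trans ?_
  refine ((DCoh.sheafHomAdj (Omega.conormal I₀.subschemeι)).homEquiv
    (Coh.structureModule I₀.subscheme) (Coh.structureModule I₀.subscheme)).symm.trans ?_
  refine (Iso.homCongr (SecTwist.unitorR (Omega.conormal I₀.subschemeι))
    (Iso.refl (Coh.structureModule I₀.subscheme))).trans ?_
  refine ((Scheme.Modules.pullbackPushforwardAdjunction I₀.subschemeι).homEquiv
    (ClSub.idealMod I₀.subschemeι.ker) (Coh.structureModule I₀.subscheme)).trans ?_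
  exact Iso.homCongr (eqToIso (by rw [Scheme.IdealSheafData.ker_subschemeι]))
    (Iso.refl _)

end Groth.Agent.H22.LocHilbHD
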