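import Mathlib
import Groth.Prelude.Def_DCoh4
import Groth.Prelude.Def_ClSub2
import Groth.Prelude.Def_Omega2
import Groth.Prelude.Def_SecTwist
import Groth.Agent.H22.LocHilb_HD
import Groth.Agent.H22.IdealSeqCI

/-!
# `H⁰` of the normal sheaf of a closed immersion `i` is `Hom(I, O_Y / I)`, `I = ker i`
-/

set_option autoImplicit false
universe u
open CategoryTheory CategoryTheory.Limits AlgebraicGeometry TensorProduct

namespace Groth.Agent.H22.LocHilbHD2

/-- (HD2) H⁰ of the normal sheaf of a closed immersion is Hom(I, O_Y/I) -/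
theorem nonempty_HH0_normal_equiv' {X Y : Scheme.{u}} (i : X ⟶ Y) [IsClosedImmersion i]
    [DCoh.HasSheafHom (Omega.conormal i)] :
    Nonempty (Coh.HH X ((DCoh.sheafHom (Omega.conormal i)).obj (Coh.structureModule X)) 0 ≃
      (ClSub.idealMod i.ker ⟶ ClSub.quotMod i.ker)) := by
  refine ⟨?_⟩
  refine (Groth.Agent.H22.LocHilbHD.hh0Equiv X _).trans ?_
  refine ((DCoh.sheafHomAdj (Omega.conormal i)).homEquiv
    (Coh.structureModule X) (Coh.structureModule X)).symm.trans ?_
  refine (Iso.homCongr (SecTwist.unitorR (Omega.conormal i))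
    (Iso.refl (Coh.structureModule X))).trans ?_
  refine ((Scheme.Modules.pullbackPushforwardAdjunction i).homEquiv
    (ClSub.idealMod i.ker) (Coh.structureModule X)).trans ?_
  exact Iso.homCongr (Iso.refl _) (asIso (Groth.Agent.H22.IdealSeqCI.cmp i)).symm

end Groth.Agent.H22.LocHilbHD2
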