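import Mathlib
import Groth.Prelude.Def_DCoh4
import Groth.Prelude.Def_ClSub2
import Groth.Prelude.Def_Omega2
import Groth.Prelude.Def_SecTwist
import Groth.Prelude.Def_Formal
import Groth.Prelude.Def_DDual2
import Groth.Agent.H8.UnitHom
import Groth.Agent.S0835

/-!
# The bijection `H⁰(N) ≃ Hom(I, O/I)` is additive and compatible with the `k`-actions
-/

set_option autoImplicit false
set_option linter.style.haveILetI false
universe u
open CategoryTheory CategoryTheory.Limits AlgebraicGeometry TensorProduct Opposite MonoidalCategory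

namespace Groth.Agent.H22.LocHilbHDL

variable {X : Scheme.{u}}

/-- evaluation at `1` as an additive equivalence -/
noncomputable def evAdd (Y : Scheme.{u}) (G : Y.Modules) :
    (Coh.structureModule Y ⟶ G) ≃+ Γ(G, ⊤) :=
  { Equiv.ofBijective _ (Groth.Agent.H8.unit_hom_ev_bijective Y G) with
    map_add' := fun _ _ => rfl }

lemma evAdd_apply (Y : Scheme.{u}) (G : Y.Modules) (φ : Coh.structureModule Y ⟶ G) :
    evAdd Y G φ = φ.app ⊤ (show Γ(Coh.structureModule Y, ⊤) from (1 : Γ(Y, ⊤))) := rfl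

/-- `H⁰(Y, G) ≃+ (O ⟶ G)`. -/
noncomputable def hh0AddEquiv (Y : Scheme.{u}) (G : Y.Modules) :
    Coh.HH Y G 0 ≃+ (Coh.structureModule Y ⟶ G) :=
  (Sheaf.H.equiv₀ (Coh.toAb G) (T := (⊤ : TopologicalSpace.Opens Y)) isTerminalTop).trans
    (evAdd Y G).symm

lemma hh0AddEquiv_smul (Y : Scheme.{u}) (G : Y.Modules) (r : Coh.Γtop Y) (h : Coh.HH Y G 0) :
    hh0AddEquiv Y G (r • h) = hh0AddEquiv Y G h ≫ Formal.smulModΓ G r := by
  apply (evAdd Y G).injective
  change (evAdd Y G) ((evAdd Y G).symm _) = _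
  rw [AddEquiv.apply_symm_apply, evAdd_apply]
  change Sheaf.H.equiv₀ (Coh.toAb G) isTerminalTop (Sheaf.H.map (Coh.smulAb G r) 0 h) = _
  rw [← Sheaf.H.equiv₀_naturality]
  change _ = (Formal.smulModΓ G r).app ⊤ ((hh0AddEquiv Y G h).app ⊤ _)
  rw [← evAdd_apply]
  change _ = (Formal.smulModΓ G r).app ⊤ ((evAdd Y G) ((evAdd Y G).symm _))
  rw [AddEquiv.apply_symm_apply]
  rfl

/-- the sheafification adjunction typed on `shP ⊣ toP` -/
noncomputable def shAdj : (DCoh.shP (X := X)) ⊣ DCoh.toP :=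
  PresheafOfModules.sheafificationAdjunction (𝟙 X.ringCatSheaf.obj)

/-- restriction of a global function, typed in the ring presheaf of `PMod` -/
noncomputable abbrev rU (r : Coh.Γtop X) (U : (TopologicalSpace.Opens X)ᵒᵖ) :
    ((X.sheaf.obj ⋙ forget₂ CommRingCat RingCat).obj U) := Coh.resTop X U r

lemma map_rU (r : Coh.Γtop X) {U V : (TopologicalSpace.Opens X)ᵒᵖ} (f : U ⟶ V) :
    ((X.sheaf.obj ⋙ forget₂ CommRingCat RingCat).map f).hom (rU r U) = rU r V :=
  Coh.resTop_comp U V f r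

/-- multiplication by a global function on a presheaf of modules -/
noncomputable def smulP (P : CohB1.PMod X) (r : Coh.Γtop X) : P ⟶ P :=
  PresheafOfModules.homMk
    { app := fun U => AddCommGrpCat.ofHom (DistribSMul.toAddMonoidHom (P.obj U) (rU r U))
      naturality := by
        intro U V f
        ext m
        change rU r V • (P.map f).hom m = (P.map f).hom (rU r U • m)
        rw [← map_rU r f]
        exact (P.map_smul f (rU r U) m).symm }
    (by
      intro U s m
      change rU r U • (s • m) = s • (rU r U • m)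
      rw [← mul_smul, ← mul_smul]
      congr 1
      exact @mul_comm Γ(X, Opposite.unop U) _ (Coh.resTop X U r) s)

lemma smulP_app (P : CohB1.PMod X) (r : Coh.Γtop X) (U : (TopologicalSpace.Opens X)ᵒᵖ) (m : P.obj U) :
    (smulP P r).app U m = rU r U • m := rfl

lemma toP_map_smulModΓ (M : X.Modules) (r : Coh.Γtop X) :
    DCoh.toP.map (Formal.smulModΓ M r) = smulP (DCoh.toP.obj M) r := rfl

lemma smulP_naturality {P Q : CohB1.PMod X} (f : P ⟶ Q) (r : Coh.Γtop X) :
    smulP P r ≫ f = f ≫ smulP Q r := by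
  ext U m
  change f.app U ((smulP P r).app U m) = (smulP Q r).app U (f.app U m)
  rw [smulP_app, smulP_app]
  exact (f.app U).hom.map_smul _ _

lemma whiskerLeft_smulP (P Q : CohB1.PMod X) (r : Coh.Γtop X) :
    P ◁ smulP Q r = smulP (P ⊗ Q) r := by
  ext U : 1
  rw [PresheafOfModules.whiskerLeft_app]
  apply ModuleCat.MonoidalCategory.tensor_ext
  intro p q
  erw [ModuleCat.MonoidalCategory.whiskerLeft_apply]
  change p ⊗ₜ[((X.sheaf.obj ⋙ forget₂ CommRingCat RingCat).obj U)] (rU r U • q) = rU r U • (p ⊗ₜ q)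
  exact TensorProduct.tmul_smul _ _ _

lemma shP_map_smulP (P : CohB1.PMod X) (r : Coh.Γtop X) :
    DCoh.shP.map (smulP P r) = Formal.smulModΓ (DCoh.shP.obj P) r := by
  apply (shAdj.homEquiv P _).injective
  rw [Adjunction.homEquiv_unit, Adjunction.homEquiv_unit, toP_map_smulModΓ]
  exact (shAdj.unit.naturality (smulP P r)).symm.trans (smulP_naturality _ r)

lemma tensorBi_map_smulModΓ (N A : X.Modules) (r : Coh.Γtop X) :
    ((DCoh.tensorBi (X := X)).obj N).map (Formal.smulModΓ A r) =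
      Formal.smulModΓ (((DCoh.tensorBi (X := X)).obj N).obj A) r := by
  change DCoh.shP.map (DCoh.toP.obj N ◁ DCoh.toP.map (Formal.smulModΓ A r)) = _
  rw [toP_map_smulModΓ, whiskerLeft_smulP, shP_map_smulP]
  rfl

/-- additive `Iso.homCongr` -/
noncomputable def homCongrAdd {C : Type*} [Category C] [Preadditive C] {A B A₁ B₁ : C}
    (α : A ≅ A₁) (β : B ≅ B₁) : (A ⟶ B) ≃+ (A₁ ⟶ B₁) :=
  { Iso.homCongr α β with
    map_add' := fun f g => by simp [Iso.homCongr] }

lemma homCongrAdd_comp {C : Type*} [Category C] [Preadditive C] {A B A₁ : C}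
    (α : A ≅ A₁) (f : A ⟶ B) (m : B ⟶ B) :
    homCongrAdd α (Iso.refl B) (f ≫ m) = homCongrAdd α (Iso.refl B) f ≫ m := by
  simp [homCongrAdd, Iso.homCongr]

lemma step2 {Y : Scheme.{u}} (N : Y.Modules) [DCoh.HasSheafHom N] (A B : Y.Modules)
    (φ : A ⟶ (DCoh.sheafHom N).obj B) (r : Coh.Γtop Y) :
    ((DCoh.sheafHomAdj N).homAddEquiv A B).symm (φ ≫ Formal.smulModΓ _ r) =
      ((DCoh.sheafHomAdj N).homAddEquiv A B).symm φ ≫ Formal.smulModΓ B r := by
  rw [← Groth.Agent.S0835.smulModΓ_naturality]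
  rw [Adjunction.homAddEquiv_symm_apply, Adjunction.homAddEquiv_symm_apply,
    Adjunction.homEquiv_naturality_left_symm, tensorBi_map_smulModΓ,
    Groth.Agent.S0835.smulModΓ_naturality]

lemma step4 {C D : Type*} [Category C] [Category D] [Preadditive C] [Preadditive D]
    {F : C ⥤ D} {G : D ⥤ C} (adj : F ⊣ G) [F.Additive] (A : C) (B : D) (χ : F.obj A ⟶ B) (m : B ⟶ B) :
    adj.homAddEquiv A B (χ ≫ m) = adj.homAddEquiv A B χ ≫ G.map m := by
  rw [Adjunction.homAddEquiv_apply, Adjunction.homAddEquiv_apply,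
    Adjunction.homEquiv_naturality_right]

section chain
variable {Y : Scheme.{u}} (N : Y.Modules) [DCoh.HasSheafHom N]

/-- step 2+3 : `(O ⟶ Hom(N, O)) ≃+ (N ⟶ O)` -/
noncomputable def e23 : (Coh.structureModule Y ⟶ (DCoh.sheafHom N).obj (Coh.structureModule Y)) ≃+
    (N ⟶ Coh.structureModule Y) :=
  ((DCoh.sheafHomAdj N).homAddEquiv (Coh.structureModule Y) (Coh.structureModule Y)).symm.trans
    (homCongrAdd (SecTwist.unitorR N) (Iso.refl (Coh.structureModule Y)))

lemma e23_smul (φ : Coh.structureModule Y ⟶ (DCoh.sheafHom N).obj (Coh.structureModule Y))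
    (r : Coh.Γtop Y) :
    e23 N (φ ≫ Formal.smulModΓ _ r) = e23 N φ ≫ Formal.smulModΓ _ r := by
  change homCongrAdd (SecTwist.unitorR N) (Iso.refl (Coh.structureModule Y))
    (((DCoh.sheafHomAdj N).homAddEquiv (Coh.structureModule Y) (Coh.structureModule Y)).symm _) =
    homCongrAdd (SecTwist.unitorR N) (Iso.refl (Coh.structureModule Y))
    (((DCoh.sheafHomAdj N).homAddEquiv (Coh.structureModule Y) (Coh.structureModule Y)).symm _) ≫ _
  rw [step2]
  exact homCongrAdd_comp _ _ _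

end chain

/-- step 5 -/
noncomputable def e5 (I₀ : X.IdealSheafData) :
    (ClSub.idealMod I₀.subschemeι.ker ⟶
      (Scheme.Modules.pushforward I₀.subschemeι).obj (Coh.structureModule I₀.subscheme)) ≃+
      (ClSub.idealMod I₀ ⟶ ClSub.quotMod I₀) :=
  homCongrAdd (eqToIso (by rw [Scheme.IdealSheafData.ker_subschemeι])) (Iso.refl _)

lemma e5_comp (I₀ : X.IdealSheafData) (f : ClSub.idealMod I₀.subschemeι.ker ⟶
      (Scheme.Modules.pushforward I₀.subschemeι).obj (Coh.structureModule I₀.subscheme))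
    (m : (Scheme.Modules.pushforward I₀.subschemeι).obj (Coh.structureModule I₀.subscheme) ⟶
      (Scheme.Modules.pushforward I₀.subschemeι).obj (Coh.structureModule I₀.subscheme)) :
    e5 I₀ (f ≫ m) = e5 I₀ f ≫ m :=
  homCongrAdd_comp _ _ _

/-- step 4+5 -/
noncomputable def e45 (I₀ : X.IdealSheafData) :
    ((Scheme.Modules.pullback I₀.subschemeι).obj (ClSub.idealMod I₀.subschemeι.ker) ⟶
        Coh.structureModule I₀.subscheme) ≃+
      (ClSub.idealMod I₀ ⟶ ClSub.quotMod I₀) :=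
  ((Scheme.Modules.pullbackPushforwardAdjunction I₀.subschemeι).homAddEquiv
    (ClSub.idealMod I₀.subschemeι.ker) (Coh.structureModule I₀.subscheme)).trans (e5 I₀)

lemma e45_comp (I₀ : X.IdealSheafData)
    (χ : (Scheme.Modules.pullback I₀.subschemeι).obj (ClSub.idealMod I₀.subschemeι.ker) ⟶
      Coh.structureModule I₀.subscheme)
    (m : Coh.structureModule I₀.subscheme ⟶ Coh.structureModule I₀.subscheme) :
    e45 I₀ (χ ≫ m) = e45 I₀ χ ≫ (Scheme.Modules.pushforward I₀.subschemeι).map m := by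
  unfold e45
  simp only [AddEquiv.trans_apply]
  rw [step4, e5_comp]

/-- the chain of (HD), as an additive equivalence -/
noncomputable def chain (I₀ : X.IdealSheafData)
    [DCoh.HasSheafHom (Omega.conormal I₀.subschemeι)] :
    Coh.HH I₀.subscheme ((DCoh.sheafHom (Omega.conormal I₀.subschemeι)).obj
        (Coh.structureModule I₀.subscheme)) 0 ≃+ (ClSub.idealMod I₀ ⟶ ClSub.quotMod I₀) :=
  (hh0AddEquiv I₀.subscheme _).trans <| (e23 (Omega.conormal I₀.subschemeι)).trans (e45 I₀)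

lemma chain_smul (I₀ : X.IdealSheafData)
    [DCoh.HasSheafHom (Omega.conormal I₀.subschemeι)] (r : Coh.Γtop I₀.subscheme)
    (h : Coh.HH I₀.subscheme ((DCoh.sheafHom (Omega.conormal I₀.subschemeι)).obj
        (Coh.structureModule I₀.subscheme)) 0) :
    chain I₀ (r • h) = chain I₀ h ≫ (Scheme.Modules.pushforward I₀.subschemeι).map
      (Formal.smulModΓ (Coh.structureModule I₀.subscheme) r) := by
  change e45 I₀ (e23 (Omega.conormal I₀.subschemeι) (hh0AddEquiv I₀.subscheme _ (r • h))) =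
    e45 I₀ (e23 (Omega.conormal I₀.subschemeι) (hh0AddEquiv I₀.subscheme _ h)) ≫ _
  rw [hh0AddEquiv_smul, e23_smul]
  exact e45_comp I₀ _ _

lemma toGlobal_comp {k : Type u} [CommRing k] {Y₀ X : Scheme.{u}} (ι : Y₀ ⟶ X)
    (g : X ⟶ Spec (CommRingCat.of k)) (c : k) :
    Coh.toGlobal (ι ≫ g) c = ι.appTop.hom (Coh.toGlobal g c) := by
  unfold Coh.toGlobal
  simp
  rfl

lemma resTop_toGlobal {k : Type u} [CommRing k] {X : Scheme.{u}}
    (g : X ⟶ Spec (CommRingCat.of k)) (c : k) (U : X.Opens) :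
    (show Γ(X, U) from Coh.resTop X (op U) (Coh.toGlobal g c)) =
      ((g.appLE ⊤ U le_top).hom ((Scheme.ΓSpecIso (CommRingCat.of k)).inv.hom c)) := by
  rfl

/-- (HDL) the bijection of (HD) is additive and compatible with the `k`-actions -/
theorem exists_HH0_normal_addEquiv {k : Type u} [Field k] {X : Scheme.{u}}
    [X.Over (Spec (CommRingCat.of k))] (I₀ : X.IdealSheafData)
    [I₀.subscheme.Over (Spec (CommRingCat.of k))]
    (hY : I₀.subscheme ↘ Spec (CommRingCat.of k) =
      I₀.subschemeι ≫ (X ↘ Spec (CommRingCat.of k)))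
    [DCoh.HasSheafHom (Omega.conormal I₀.subschemeι)] :
    ∃ e : Coh.HH I₀.subscheme ((DCoh.sheafHom (Omega.conormal I₀.subschemeι)).obj
        (Coh.structureModule I₀.subscheme)) 0 ≃+ (ClSub.idealMod I₀ ⟶ ClSub.quotMod I₀),
      ∀ (c : k) (h : Coh.HH I₀.subscheme ((DCoh.sheafHom (Omega.conormal I₀.subschemeι)).obj
        (Coh.structureModule I₀.subscheme)) 0) (U : X.Opens) (t : Γ(ClSub.idealMod I₀, U)),
        (e (c • h)).app U t =
          (((X ↘ Spec (CommRingCat.of k)).appLE ⊤ U le_top).hom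
            ((Scheme.ΓSpecIso (CommRingCat.of k)).inv.hom c)) • ((e h).app U t) := by
  refine ⟨chain I₀, fun c h U t => ?_⟩
  change (chain I₀ ((Coh.toGlobal (I₀.subscheme ↘ Spec (CommRingCat.of k)) c) • h)).app U t = _
  rw [chain_smul, hY, toGlobal_comp, Groth.Agent.S0835.pushforward_smulModΓ]
  change (Formal.smulModΓ _ _).app U ((chain I₀ h).app U t) = _
  rw [Groth.Agent.S0835.smulModΓ_app, resTop_toGlobal]

end Groth.Agent.H22.LocHilbHDL
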