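import Mathlib
import Groth.Prelude.Def_DCoh4
import Groth.Prelude.Def_ClSub2
import Groth.Prelude.Def_Omega2
import Groth.Agent.H22.LocHilb_HDL
import Groth.Agent.H22.IdealSeqCI

/-!
# (HDL2) the bijection `H⁰(N) ≃ Hom(I, O/I)` for a general closed immersion is additive and
compatible with the `k`-actions
-/

set_option autoImplicit false
set_option linter.style.haveILetI false
universe u
open CategoryTheory CategoryTheory.Limits AlgebraicGeometry

namespace Groth.Agent.H22.LocHilbHDL2

open Groth.Agent.H22.LocHilbHDL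

variable {X Y : Scheme.{u}}

/-- step 5 : postcompose with the inverse of `cmp i : O_Y / ker i ≅ i_* O_X` -/
noncomputable def e5' (i : X ⟶ Y) [IsClosedImmersion i] :
    (ClSub.idealMod i.ker ⟶
      (Scheme.Modules.pushforward i).obj (Coh.structureModule X)) ≃+
      (ClSub.idealMod i.ker ⟶ ClSub.quotMod i.ker) :=
  homCongrAdd (Iso.refl _) (asIso (Groth.Agent.H22.IdealSeqCI.cmp i)).symm

lemma e5'_apply (i : X ⟶ Y) [IsClosedImmersion i] (f : ClSub.idealMod i.ker ⟶
      (Scheme.Modules.pushforward i).obj (Coh.structureModule X)) :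
    e5' i f = f ≫ inv (Groth.Agent.H22.IdealSeqCI.cmp i) := by
  simp [e5', homCongrAdd, Iso.homCongr]

/-- step 4+5 -/
noncomputable def e45' (i : X ⟶ Y) [IsClosedImmersion i] :
    ((Scheme.Modules.pullback i).obj (ClSub.idealMod i.ker) ⟶ Coh.structureModule X) ≃+
      (ClSub.idealMod i.ker ⟶ ClSub.quotMod i.ker) :=
  ((Scheme.Modules.pullbackPushforwardAdjunction i).homAddEquiv
    (ClSub.idealMod i.ker) (Coh.structureModule X)).trans (e5' i)

lemma e45'_comp (i : X ⟶ Y) [IsClosedImmersion i]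
    (χ : (Scheme.Modules.pullback i).obj (ClSub.idealMod i.ker) ⟶ Coh.structureModule X)
    (m : Coh.structureModule X ⟶ Coh.structureModule X) :
    e45' i (χ ≫ m) = (Scheme.Modules.pullbackPushforwardAdjunction i).homAddEquiv
      (ClSub.idealMod i.ker) (Coh.structureModule X) χ ≫
        (Scheme.Modules.pushforward i).map m ≫ inv (Groth.Agent.H22.IdealSeqCI.cmp i) := by
  unfold e45'
  simp only [AddEquiv.trans_apply]
  rw [step4, e5'_apply, Category.assoc]

/-- the chain of (HD2), as an additive equivalence -/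
noncomputable def chain' (i : X ⟶ Y) [IsClosedImmersion i]
    [DCoh.HasSheafHom (Omega.conormal i)] :
    Coh.HH X ((DCoh.sheafHom (Omega.conormal i)).obj (Coh.structureModule X)) 0 ≃+
      (ClSub.idealMod i.ker ⟶ ClSub.quotMod i.ker) :=
  (hh0AddEquiv X _).trans <| (e23 (Omega.conormal i)).trans (e45' i)

lemma chain'_smul (i : X ⟶ Y) [IsClosedImmersion i]
    [DCoh.HasSheafHom (Omega.conormal i)] (r : Coh.Γtop X)
    (h : Coh.HH X ((DCoh.sheafHom (Omega.conormal i)).obj (Coh.structureModule X)) 0) :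
    chain' i (r • h) = (Scheme.Modules.pullbackPushforwardAdjunction i).homAddEquiv
      (ClSub.idealMod i.ker) (Coh.structureModule X)
        (e23 (Omega.conormal i) (hh0AddEquiv X _ h)) ≫
      (Scheme.Modules.pushforward i).map (Formal.smulModΓ (Coh.structureModule X) r) ≫
        inv (Groth.Agent.H22.IdealSeqCI.cmp i) := by
  change e45' i (e23 (Omega.conormal i) (hh0AddEquiv X _ (r • h))) = _
  rw [hh0AddEquiv_smul, e23_smul]
  exact e45'_comp i _ _

lemma chain'_apply (i : X ⟶ Y) [IsClosedImmersion i]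
    [DCoh.HasSheafHom (Omega.conormal i)]
    (h : Coh.HH X ((DCoh.sheafHom (Omega.conormal i)).obj (Coh.structureModule X)) 0) :
    chain' i h = (Scheme.Modules.pullbackPushforwardAdjunction i).homAddEquiv
      (ClSub.idealMod i.ker) (Coh.structureModule X)
        (e23 (Omega.conormal i) (hh0AddEquiv X _ h)) ≫
        inv (Groth.Agent.H22.IdealSeqCI.cmp i) := by
  change e5' i _ = _
  rw [e5'_apply]
  rfl

/-- (HDL2) -/
theorem HDL2 {k : Type u} [Field k] {X Y : Scheme.{u}} (y : Y ⟶ Spec (CommRingCat.of k))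
    [X.Over (Spec (CommRingCat.of k))] (i : X ⟶ Y) [IsClosedImmersion i]
    (hi : i ≫ y = X ↘ (Spec (CommRingCat.of k)))
    [DCoh.HasSheafHom (Omega.conormal i)] :
    ∃ e : Coh.HH X ((DCoh.sheafHom (Omega.conormal i)).obj (Coh.structureModule X)) 0 ≃+
        (ClSub.idealMod i.ker ⟶ ClSub.quotMod i.ker),
      ∀ (c : k) (h : Coh.HH X ((DCoh.sheafHom (Omega.conormal i)).obj (Coh.structureModule X)) 0)
        (U : Y.Opens) (t : Γ(ClSub.idealMod i.ker, U)),
        (e (c • h)).app U t =
          ((y.appLE ⊤ U le_top).hom ((Scheme.ΓSpecIso (CommRingCat.of k)).inv.hom c)) •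
            ((e h).app U t) := by
  refine ⟨chain' i, fun c h U t => ?_⟩
  change (chain' i ((Coh.toGlobal (X ↘ Spec (CommRingCat.of k)) c) • h)).app U t = _
  rw [chain'_smul, chain'_apply, ← hi, toGlobal_comp, Groth.Agent.S0835.pushforward_smulModΓ,
    Groth.Agent.S0835.smulModΓ_naturality]
  rw [← Category.assoc]
  change (Formal.smulModΓ (ClSub.quotMod i.ker) _).app U
    ((_ ≫ inv (Groth.Agent.H22.IdealSeqCI.cmp i)).app U t) = _
  rw [Groth.Agent.S0835.smulModΓ_app, resTop_toGlobal]

end Groth.Agent.H22.LocHilbHDL2
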