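import Mathlib.RingTheory.LocalRing.LocalSubring

set_option autoImplicit false

namespace Groth.Agent.H22

open IsLocalRing

universe u

variable {K : Type u} [Field K]

theorem ofPrime_congr (A : Subring K) {p p' : Ideal A} [p.IsPrime] [p'.IsPrime] (h : p = p') :
    LocalSubring.ofPrime A p = LocalSubring.ofPrime A p' := by
  subst h; rfl

/-- `L6`: the trace of the maximal ideal is the same for a dominated local subring. -/
theorem comap_maximalIdeal_eq_of_le {Q' Q : LocalSubring K} (h : Q' ≤ Q) {C : Subring K}
    (hC : C ≤ Q'.toSubring) :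
    (maximalIdeal Q'.toSubring).comap (Subring.inclusion hC) =
      (maximalIdeal Q.toSubring).comap (Subring.inclusion (hC.trans h.1)) := by
  obtain ⟨h1, h2⟩ := h
  ext c
  simp only [Ideal.mem_comap, mem_maximalIdeal, mem_nonunits_iff]
  rw [← isUnit_map_iff (Subring.inclusion h1)]
  rfl

/-- `L2'`. -/
theorem comap_maximalIdeal_ofPrime (A : Subring K) (p : Ideal A) [p.IsPrime] :
    (maximalIdeal (LocalSubring.ofPrime A p).toSubring).comap
      (Subring.inclusion (LocalSubring.le_ofPrime A p)) = p :=
  IsLocalization.AtPrime.under_maximalIdeal (LocalSubring.ofPrime A p).toSubring p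

/-- `L2`. -/
theorem comap_maximalIdeal_of_ofPrime_le (A : Subring K) (p : Ideal A) [p.IsPrime]
    {Q : LocalSubring K} (h : LocalSubring.ofPrime A p ≤ Q) :
    (maximalIdeal Q.toSubring).comap
      (Subring.inclusion ((LocalSubring.le_ofPrime A p).trans h.1)) = p := by
  rw [← comap_maximalIdeal_eq_of_le h (LocalSubring.le_ofPrime A p),
    comap_maximalIdeal_ofPrime]

/-- `L1`: a local subring containing `A` dominates the localization of `A` at the trace of its
maximal ideal. -/
theorem ofPrime_comap_le (A : Subring K) (Q : LocalSubring K) (hA : A ≤ Q.toSubring) :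
    LocalSubring.ofPrime A ((maximalIdeal Q.toSubring).comap (Subring.inclusion hA)) ≤ Q := by
  set p := (maximalIdeal Q.toSubring).comap (Subring.inclusion hA) with hp
  let S := (LocalSubring.ofPrime A p).toSubring
  have hunit : ∀ s : A, s ∉ p → IsUnit (Subring.inclusion hA s) := by
    intro s hs
    by_contra hns
    exact hs hns
  have hle : S ≤ Q.toSubring := by
    intro x hx
    obtain ⟨⟨a, s⟩, hxs⟩ := IsLocalization.surj p.primeCompl (⟨x, hx⟩ : S)
    have hK : x * (s : A) = a := congr_arg Subtype.val hxs
    obtain ⟨v, hv⟩ := (hunit s s.2).exists_right_inv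
    have hvK : ((s : A) : K) * v = 1 := congr_arg Subtype.val hv
    have : x = a * v := by
      calc x = x * (((s : A) : K) * v) := by rw [hvK, mul_one]
        _ = (x * (s : A)) * v := by ring
        _ = a * v := by rw [hK]
    rw [this]
    exact Q.toSubring.mul_mem (hA a.2) v.2
  refine ⟨hle, ⟨fun y hy => ?_⟩⟩
  obtain ⟨⟨a, s⟩, hys⟩ := IsLocalization.surj p.primeCompl y
  have h1 : Subring.inclusion hle y * Subring.inclusion hA (s : A) = Subring.inclusion hA a := by
    have := congr_arg (Subring.inclusion hle) hys
    rw [map_mul] at this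
    exact this
  have h2 : IsUnit (Subring.inclusion hA a) := by
    rw [← h1]
    exact hy.mul (hunit s s.2)
  have h3 : a ∈ p.primeCompl := fun ha => ha h2
  have h4 : IsUnit (y * algebraMap A S (s : A)) := by
    rw [hys]
    exact (IsLocalization.AtPrime.isUnit_to_map_iff S p a).mpr h3
  exact isUnit_of_mul_isUnit_left h4

/-- `L4`. -/
theorem ofPrime_comap_le_ofPrime {A C : Subring K} (hAC : A ≤ C) (r : Ideal C) [r.IsPrime] :
    LocalSubring.ofPrime A (r.comap (Subring.inclusion hAC)) ≤ LocalSubring.ofPrime C r := by
  have h1 := ofPrime_comap_le A (LocalSubring.ofPrime C r) (hAC.trans (LocalSubring.le_ofPrime C r))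
  have h2 : (maximalIdeal (LocalSubring.ofPrime C r).toSubring).comap
      (Subring.inclusion (hAC.trans (LocalSubring.le_ofPrime C r))) =
      r.comap (Subring.inclusion hAC) := by
    conv_rhs => rw [← comap_maximalIdeal_ofPrime C r]
    rfl
  rwa [ofPrime_congr A h2] at h1

/-- `L5'`. -/
theorem ofPrime_comap_eq {A C : Subring K} (hAC : A ≤ C) (p : Ideal A) [p.IsPrime]
    (hC : C ≤ (LocalSubring.ofPrime A p).toSubring) :
    LocalSubring.ofPrime C ((maximalIdeal (LocalSubring.ofPrime A p).toSubring).comap
      (Subring.inclusion hC)) = LocalSubring.ofPrime A p := by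
  apply le_antisymm (ofPrime_comap_le C _ hC)
  have h1 := ofPrime_comap_le_ofPrime hAC
    ((maximalIdeal (LocalSubring.ofPrime A p).toSubring).comap (Subring.inclusion hC))
  have h2 : ((maximalIdeal (LocalSubring.ofPrime A p).toSubring).comap
      (Subring.inclusion hC)).comap (Subring.inclusion hAC) = p := by
    conv_rhs => rw [← comap_maximalIdeal_ofPrime A p]
    rfl
  rwa [ofPrime_congr A h2] at h1

end Groth.Agent.H22
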