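import Mathlib
import Groth.Prelude.Def_Red
import Groth.Prelude.Def_AlgGrp
import Groth.Prelude.Def_ActBC
import Groth.Prelude.Def_TwC
import Groth.Prelude.Def_GmPts
import Groth.Agent.H1.SplitTori.Basic

/-!
# Points of `D_S(M)` and their characters (`evHom`)
-/

set_option autoImplicit false
set_option linter.style.haveILetI false
universe u
open CategoryTheory CategoryTheory.Limits MonoidalCategory CartesianMonoidalCategory MonObj GrpObj AlgebraicGeometry

namespace Groth.Agent.H22.MRPts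
open Groth.Agent.H1.SplitTori

section Pts
variable {S : Scheme.{u}} {M : Type} [AddCommGroup M]

/-- the unique ring homomorphism `ULift ℤ →+* R`. -/
noncomputable def zHom (R : Type u) [CommRing R] : ULift.{u} ℤ →+* R :=
  (Int.castRingHom R).comp (ULift.ringEquiv : ULift.{u} ℤ ≃+* ℤ).toRingHom

/-- the ring homomorphism `ℤ[M] →+* Γ(T)` attached to a character. -/
noncomputable def psi {T : Over S} (κ : Multiplicative M →* Γ(T.left, ⊤)) :
    MonoidAlgebra (ULift.{u} ℤ) (Multiplicative M) →+* Γ(T.left, ⊤) :=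
  MonoidAlgebra.liftNCRingHom (zHom Γ(T.left, ⊤)) κ (fun _ _ => Commute.all _ _)

lemma psi_of {T : Over S} (κ : Multiplicative M →* Γ(T.left, ⊤)) (a : Multiplicative M) :
    psi κ (MonoidAlgebra.of (ULift.{u} ℤ) (Multiplicative M) a) = κ a := by
  simp [psi, MonoidAlgebra.liftNCRingHom, zHom]

/-- the point of `D_S(M)` attached to a character. -/
noncomputable def pt {T : Over S} (κ : Multiplicative M →* Γ(T.left, ⊤)) : T ⟶ Red.DS S M :=
  Over.homMk (pullback.lift (T.left.toSpecΓ ≫ Spec.map (CommRingCat.ofHom (psi κ))) T.hom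
    (specULiftZIsTerminal.hom_ext _ _)) (pullback.lift_snd _ _ _)

/-- (PT1) every character is the character of a point of `D_S(M)`. -/
theorem exists_pt {T : Over S} (κ : Multiplicative M →* Γ(T.left, ⊤)) :
    ∃ g : T ⟶ Red.DS S M, evHom g = κ := by
  refine ⟨pt κ, ?_⟩
  apply MonoidHom.ext
  intro a
  have h1 : (pt κ).left ≫ pullback.fst _ _ =
      T.left.toSpecΓ ≫ Spec.map (CommRingCat.ofHom (psi κ)) := pullback.lift_fst _ _ _
  change ((pt κ).left ≫ pullback.fst _ _).appTop ((Scheme.ΓSpecIso (CommRingCat.of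
    (MonoidAlgebra (ULift.{u} ℤ) (Multiplicative M)))).inv
      (MonoidAlgebra.of (ULift.{u} ℤ) (Multiplicative M) a)) = κ a
  rw [h1]
  change T.left.toSpecΓ.appTop ((Spec.map (CommRingCat.ofHom (psi κ))).appTop
    ((Scheme.ΓSpecIso (CommRingCat.of
      (MonoidAlgebra (ULift.{u} ℤ) (Multiplicative M)))).inv
        (MonoidAlgebra.of (ULift.{u} ℤ) (Multiplicative M) a))) = _
  rw [specMap_appTop_inv, Scheme.toSpecΓ_appTop]
  change (Scheme.ΓSpecIso Γ(T.left, ⊤)).hom ((Scheme.ΓSpecIso Γ(T.left, ⊤)).inv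
    (psi κ (MonoidAlgebra.of (ULift.{u} ℤ) (Multiplicative M) a))) = κ a
  rw [psi_of]
  exact Iso.inv_hom_id_apply (C := CommRingCat) _ _

/-- (PT2) -/
theorem evHom_mul {T : Over S} (g h : T ⟶ Red.DS S M) : evHom (g * h) = evHom g * evHom h := by
  apply MonoidHom.ext
  intro a
  obtain ⟨m, rfl⟩ := Multiplicative.ofAdd.surjective a
  haveI := Groth.Agent.H91.KummerKer.chi_isMonHom S m
  rw [MonoidHom.mul_apply, evHom_apply, evHom_apply, evHom_apply, ← gmFn_comp_chi,
    MonObj.mul_comp g h (Red.chi S m), GmPts.gmFn_mul, gmFn_comp_chi, gmFn_comp_chi]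

/-- (PT3) -/
theorem evHom_one {T : Over S} : evHom (1 : T ⟶ Red.DS S M) = 1 := by
  apply MonoidHom.ext
  intro a
  obtain ⟨m, rfl⟩ := Multiplicative.ofAdd.surjective a
  haveI := Groth.Agent.H91.KummerKer.chi_isMonHom S m
  rw [MonoidHom.one_apply, evHom_apply, ← gmFn_comp_chi, MonObj.one_comp (Red.chi S m), GmPts.gmFn_one]

end Pts

end Groth.Agent.H22.MRPts
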