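import Mathlib
import Groth.Agent.H85.MorHilbDefs

/-!
# Graphs of relative morphisms: closed immersion, the projection to `T ×_S X`, proper + flat
-/

set_option autoImplicit false
set_option linter.style.haveILetI false
universe u
open CategoryTheory CategoryTheory.Limits AlgebraicGeometry
open Groth.Agent.H85.MorHilb

namespace Groth.Agent.H22.MorHilbMA

variable {X Y S: Scheme.{u}} (gX : X ⟶ S) (gY : Y ⟶ S) (T : Over S)

/-- the projection `(X ×_S Y) ×_S T ⟶ T ×_S X` is separated. -/
theorem isSeparated_q [IsSeparated gX] [IsSeparated gY] : IsSeparated (q gX gY T) := by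
  haveI : IsSeparated (q gX gY T ≫ pullback.fst T.hom gX) := by
    rw [q_fst]
    infer_instance
  exact IsSeparated.of_comp (q gX gY T) (pullback.fst T.hom gX)

/-- (M2) -/
theorem isClosedImmersion_graph [IsSeparated gX] [IsSeparated gY] (a : pullback T.hom gX ⟶ Y)
    (ha : pullback.snd T.hom gX ≫ gX = a ≫ gY) : IsClosedImmersion (graph gX gY T a ha) := by
  haveI := isSeparated_q gX gY T
  haveI : IsClosedImmersion (graph gX gY T a ha ≫ q gX gY T) := by
    rw [graph_q]
    infer_instance
  exact IsClosedImmersion.of_comp (graph gX gY T a ha) (q gX gY T)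

/-- the closed subscheme of the graph is the graph. -/
theorem ker_subschemeι_eq [IsSeparated gX] [IsSeparated gY]
    (a : pullback T.hom gX ⟶ Y) (ha : pullback.snd T.hom gX ≫ gX = a ≫ gY) :
    haveI := isClosedImmersion_graph gX gY T a ha
    (graph gX gY T a ha).ker.subschemeι =
      inv (graph gX gY T a ha).toImage ≫ graph gX gY T a ha := by
  haveI := isClosedImmersion_graph gX gY T a ha
  rw [IsIso.eq_inv_comp]
  exact (graph gX gY T a ha).toImage_imageι

/-- (M3a) -/
theorem isIso_subschemeι_q_of_eq_ker [IsSeparated gX] [IsSeparated gY]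
    (a : pullback T.hom gX ⟶ Y) (ha : pullback.snd T.hom gX ≫ gX = a ≫ gY)
    (I : (pullback (pullback.fst gX gY ≫ gX) T.hom).IdealSheafData)
    (hI : I = (graph gX gY T a ha).ker) : IsIso (I.subschemeι ≫ q gX gY T) := by
  subst hI
  haveI := isClosedImmersion_graph gX gY T a ha
  rw [ker_subschemeι_eq gX gY T a ha, Category.assoc, graph_q, Category.comp_id]
  infer_instance

/-- (M4) -/
theorem graph_ker_proper_flat [IsProper gX] [Flat gX] [IsSeparated gY]
    (a : pullback T.hom gX ⟶ Y) (ha : pullback.snd T.hom gX ≫ gX = a ≫ gY) :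
    IsProper ((graph gX gY T a ha).ker.subschemeι ≫
        pullback.snd (pullback.fst gX gY ≫ gX) T.hom) ∧
      Flat ((graph gX gY T a ha).ker.subschemeι ≫
        pullback.snd (pullback.fst gX gY ≫ gX) T.hom) := by
  haveI := isClosedImmersion_graph gX gY T a ha
  have h : (graph gX gY T a ha).ker.subschemeι ≫
      pullback.snd (pullback.fst gX gY ≫ gX) T.hom =
      inv (graph gX gY T a ha).toImage ≫ pullback.fst T.hom gX := by
    rw [ker_subschemeι_eq gX gY T a ha, Category.assoc, graph_snd]
  rw [h]
  exact ⟨inferInstance, inferInstance⟩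

end Groth.Agent.H22.MorHilbMA
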