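import Mathlib
import Groth.Agent.H85.MorHilbDefs
import Groth.Agent.H22.MorHilb_MA

/-!
# Graphs of relative morphisms: closed subschemes projecting isomorphically are graphs
-/

set_option autoImplicit false
set_option linter.style.haveILetI false
universe u
open CategoryTheory CategoryTheory.Limits AlgebraicGeometry
open Groth.Agent.H85.MorHilb

namespace Groth.Agent.H22.MorHilbMB

variable {X Y S: Scheme.{u}} (gX : X ⟶ S) (gY : Y ⟶ S) (T : Over S)

/-- (M3b) -/
theorem exists_eq_graph_ker (I : (pullback (pullback.fst gX gY ≫ gX) T.hom).IdealSheafData)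
    (hI : IsIso (I.subschemeι ≫ q gX gY T)) :
    ∃ (a : pullback T.hom gX ⟶ Y) (ha : pullback.snd T.hom gX ≫ gX = a ≫ gY),
      I = (graph gX gY T a ha).ker := by
  haveI := hI
  obtain ⟨ψ, hψ⟩ : ∃ ψ : pullback T.hom gX ⟶ I.subscheme, ψ = inv (I.subschemeι ≫ q gX gY T) :=
    ⟨_, rfl⟩
  haveI : IsIso ψ := by rw [hψ]; infer_instance
  have hψq : ψ ≫ I.subschemeι ≫ q gX gY T = 𝟙 _ := by
    rw [hψ]
    exact IsIso.inv_hom_id _
  have hq1 : ψ ≫ I.subschemeι ≫ pullback.fst _ _ ≫ pullback.fst gX gY = pullback.snd T.hom gX := by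
    rw [← q_snd, ← Category.assoc, ← Category.assoc, Category.assoc ψ, hψq, Category.id_comp]
  have hq2 : ψ ≫ I.subschemeι ≫ pullback.snd _ _ = pullback.fst T.hom gX := by
    rw [← q_fst, ← Category.assoc, ← Category.assoc, Category.assoc ψ, hψq, Category.id_comp]
  have ha : pullback.snd T.hom gX ≫ gX = (ψ ≫ I.subschemeι ≫ pY gX gY T) ≫ gY := by
    unfold pY
    simp only [Category.assoc]
    rw [← (pullback.condition : pullback.fst gX gY ≫ gX = pullback.snd gX gY ≫ gY), ← hq1]
    simp only [Category.assoc]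
  refine ⟨ψ ≫ I.subschemeι ≫ pY gX gY T, ha, ?_⟩
  have hg : graph gX gY T (ψ ≫ I.subschemeι ≫ pY gX gY T) ha = ψ ≫ I.subschemeι := by
    apply pullback.hom_ext
    · rw [graph_fst]
      apply pullback.hom_ext
      · rw [pullback.lift_fst]
        simp only [Category.assoc]
        exact hq1.symm
      · rw [pullback.lift_snd]
        simp only [Category.assoc]
        rfl
    · rw [graph_snd]
      simp only [Category.assoc]
      exact hq2.symm
  rw [hg, Scheme.Hom.ker_comp_of_isIso, Scheme.IdealSheafData.ker_subschemeι]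

/-- (M3c) -/
theorem graph_ker_injective [IsSeparated gX] [IsSeparated gY]
    (a a' : pullback T.hom gX ⟶ Y) (ha : pullback.snd T.hom gX ≫ gX = a ≫ gY)
    (ha' : pullback.snd T.hom gX ≫ gX = a' ≫ gY)
    (h : (graph gX gY T a ha).ker = (graph gX gY T a' ha').ker) : a = a' := by
  haveI := Groth.Agent.H22.MorHilbMA.isClosedImmersion_graph gX gY T a ha
  haveI := Groth.Agent.H22.MorHilbMA.isClosedImmersion_graph gX gY T a' ha'
  have hfac := IsClosedImmersion.lift_fac (graph gX gY T a' ha') (graph gX gY T a ha) h.ge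
  have hl : IsClosedImmersion.lift (graph gX gY T a' ha') (graph gX gY T a ha) h.ge = 𝟙 _ := by
    have h1 := congrArg (fun f => f ≫ q gX gY T) hfac
    simp only [Category.assoc, graph_q, Category.comp_id] at h1
    exact h1
  rw [hl, Category.id_comp] at hfac
  rw [← graph_pY a ha, ← graph_pY a' ha', hfac]

end Groth.Agent.H22.MorHilbMB
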