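import Mathlib.RingTheory.Nakayama
import Mathlib.LinearAlgebra.TensorProduct.RightExactness
import Mathlib.LinearAlgebra.TensorProduct.Quotient

set_option autoImplicit false

namespace Groth.Agent.H22

open TensorProduct

universe u

/-- Nakayama: a map to a finite module is surjective as soon as it is so modulo an ideal contained
in the Jacobson radical. -/
theorem surjective_of_rTensor_quotient_surjective {A : Type*} [CommRing A] {J : Ideal A}
    (hJ : J ≤ (⊥ : Ideal A).jacobson)
    {M N : Type*} [AddCommGroup M] [Module A M] [AddCommGroup N] [Module A N] [Module.Finite A N]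
    (u : M →ₗ[A] N) (h : Function.Surjective (u.rTensor (A ⧸ J))) : Function.Surjective u := by
  let Q := N ⧸ LinearMap.range u
  have hex : Function.Exact u (LinearMap.range u).mkQ := LinearMap.exact_map_mkQ_range u
  have hex' := rTensor_exact (A ⧸ J) hex (Submodule.mkQ_surjective _)
  have hsurj : Function.Surjective ((LinearMap.range u).mkQ.rTensor (A ⧸ J)) :=
    LinearMap.rTensor_surjective _ (Submodule.mkQ_surjective _)
  have hsub : Subsingleton (Q ⊗[A] (A ⧸ J)) := by
    refine ⟨fun a b => ?_⟩
    obtain ⟨a, rfl⟩ := hsurj a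
    obtain ⟨b, rfl⟩ := hsurj b
    obtain ⟨a, rfl⟩ := h a
    obtain ⟨b, rfl⟩ := h b
    rw [hex'.apply_apply_eq_zero, hex'.apply_apply_eq_zero]
  have hsub' : Subsingleton (Q ⧸ (J • (⊤ : Submodule A Q))) :=
    (tensorQuotEquivQuotSMul Q J).symm.toEquiv.subsingleton
  rw [Submodule.Quotient.subsingleton_iff] at hsub'
  have hbot : (⊤ : Submodule A Q) = ⊥ :=
    Submodule.eq_bot_of_le_smul_of_le_jacobson_bot J ⊤ Module.Finite.fg_top hsub'.ge hJ
  have hQ : Subsingleton Q := by
    rw [← Submodule.subsingleton_iff A]
    exact subsingleton_of_bot_eq_top hbot.symm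
  rw [← LinearMap.range_eq_top]
  exact Submodule.Quotient.subsingleton_iff.mp hQ

end Groth.Agent.H22
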