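import Mathlib
import Groth.Prelude.Def_Pi1
import Groth.Agent.H38.GenSmooth
import Groth.Agent.H49.SmoothFibre

/-!
# Generic smoothness of a geometrically normal integral scheme locally of finite type over a field
-/

set_option autoImplicit false
set_option linter.style.haveILetI false
universe u
open CategoryTheory CategoryTheory.Limits AlgebraicGeometry
open scoped TensorProduct

namespace Groth.Agent.H22.OmegaWedgeQ1

theorem exists_nonempty_smooth_open (k : Type u) [Field k] (X : Scheme.{u})
    (pX : X ⟶ Spec (CommRingCat.of k)) [LocallyOfFiniteType pX] [IsIntegral X]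
    (hgn : ∀ (K : Type u) [Field K] [Algebra k K] [IsAlgClosure k K],
      Pi1.IsNormalScheme (pullback pX (Spec.map (CommRingCat.ofHom (algebraMap k K))))) :
    ∃ V : X.Opens, (V : Set X).Nonempty ∧ Smooth (V.ι ≫ pX) := by
  haveI : LocallyOfFinitePresentation pX := inferInstance
  -- a nonempty affine open
  obtain ⟨x₀⟩ : Nonempty X := inferInstance
  obtain ⟨W, hW, hx₀W, -⟩ := exists_isAffineOpen_mem_and_subset (x := x₀)
    (U := (⊤ : X.Opens)) trivial
  haveI : Nonempty W := ⟨⟨x₀, hx₀W⟩⟩
  haveI hdom : IsDomain Γ(X, W) := inferInstance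
  -- the `k`-algebra structure on `Γ(X, W)`
  obtain ⟨φ, hφ⟩ := Spec.map_surjective (hW.fromSpec ≫ pX)
  letI : Algebra k Γ(X, W) := φ.hom.toAlgebra
  have hφ' : Spec.map (CommRingCat.ofHom (algebraMap k Γ(X, W))) = hW.fromSpec ≫ pX := hφ
  haveI : LocallyOfFiniteType (Spec.map (CommRingCat.ofHom (algebraMap k Γ(X, W)))) := by
    rw [hφ']; infer_instance
  haveI : LocallyOfFinitePresentation (Spec.map (CommRingCat.ofHom (algebraMap k Γ(X, W)))) :=
    inferInstance
  -- `Γ(X, W)` is geometrically reduced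
  have hN := hgn (AlgebraicClosure k)
  haveI : ∀ y : ↑(pullback pX (Spec.map (CommRingCat.ofHom (algebraMap k (AlgebraicClosure k))))),
      _root_.IsReduced ((pullback pX (Spec.map (CommRingCat.ofHom
        (algebraMap k (AlgebraicClosure k))))).presheaf.stalk y) := by
    intro y
    haveI := (hN y).1
    infer_instance
  haveI hXK : IsReduced (pullback pX (Spec.map (CommRingCat.ofHom
      (algebraMap k (AlgebraicClosure k))))) := isReduced_of_isReduced_stalk _
  haveI h1 : IsReduced (pullback hW.fromSpec (pullback.fst pX (Spec.map (CommRingCat.ofHom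
      (algebraMap k (AlgebraicClosure k)))))) :=
    isReduced_of_isOpenImmersion (pullback.snd hW.fromSpec (pullback.fst pX
      (Spec.map (CommRingCat.ofHom (algebraMap k (AlgebraicClosure k))))))
  haveI h2 : IsReduced (pullback (hW.fromSpec ≫ pX) (Spec.map (CommRingCat.ofHom
      (algebraMap k (AlgebraicClosure k))))) :=
    isReduced_of_isOpenImmersion (pullbackRightPullbackFstIso pX (Spec.map (CommRingCat.ofHom
      (algebraMap k (AlgebraicClosure k)))) hW.fromSpec).inv
  haveI h3 : IsReduced (pullback (Spec.map (CommRingCat.ofHom (algebraMap k Γ(X, W))))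
      (Spec.map (CommRingCat.ofHom (algebraMap k (AlgebraicClosure k))))) := by
    rw [hφ']; exact h2
  haveI h4 : IsReduced (Spec (CommRingCat.of (Γ(X, W) ⊗[k] AlgebraicClosure k))) :=
    isReduced_of_isOpenImmersion (pullbackSpecIso k Γ(X, W) (AlgebraicClosure k)).inv
  haveI h5 : _root_.IsReduced (Γ(X, W) ⊗[k] AlgebraicClosure k) :=
    (affine_isReduced_iff (CommRingCat.of (Γ(X, W) ⊗[k] AlgebraicClosure k))).mp h4
  haveI h6 : _root_.IsReduced (AlgebraicClosure k ⊗[k] Γ(X, W)) :=
    isReduced_of_injective (Algebra.TensorProduct.comm k (AlgebraicClosure k) Γ(X, W))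
      (Algebra.TensorProduct.comm k (AlgebraicClosure k) Γ(X, W)).injective
  haveI hgr : Algebra.IsGeometricallyReduced k Γ(X, W) :=
    (Algebra.isGeometricallyReduced_field_iff k Γ(X, W)).mpr h6
  -- the generic point of `Spec Γ(X, W)` is a smooth point
  have hmin : (⊥ : Ideal Γ(X, W)) ∈ minimalPrimes Γ(X, W) := by
    rw [IsDomain.minimalPrimes_eq_singleton_bot]
    exact Set.mem_singleton _
  have hfs := Groth.Agent.H38.GenSmooth.formallySmooth_localization_of_minimal
    (k := k) (B := Γ(X, W)) ⊥ hmin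
  let ξ : PrimeSpectrum Γ(X, W) := ⟨⊥, Ideal.isPrime_bot⟩
  have hξ : (ξ : Spec (CommRingCat.of Γ(X, W))) ∈
      (Spec.map (CommRingCat.ofHom (algebraMap k Γ(X, W)))).smoothLocus :=
    Groth.Agent.H38.GenSmooth.mem_smoothLocus_specMap ξ hfs
  have hξ' : hW.fromSpec ξ ∈ pX.smoothLocus := by
    have h7 : ((Spec.map (CommRingCat.ofHom (algebraMap k Γ(X, W)))).stalkMap ξ).hom.FormallySmooth :=
      hξ
    have h8 : ((hW.fromSpec ≫ pX).stalkMap ξ).hom.FormallySmooth := by
      have key : ∀ (ψ : Spec Γ(X, W) ⟶ Spec (CommRingCat.of k)) (_ : ψ = hW.fromSpec ≫ pX),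
          (ψ.stalkMap ξ).hom.FormallySmooth →
            ((hW.fromSpec ≫ pX).stalkMap ξ).hom.FormallySmooth := by
        intro ψ e h
        subst e
        exact h
      exact key _ hφ' h7
    exact (Groth.Agent.H49.SmoothFibre.stalkMap_prop_comp_left
      (P := @RingHom.FormallySmooth) RingHom.FormallySmooth.respectsIso hW.fromSpec pX ξ).mp h8
  refine ⟨pX.smoothLocus, ⟨hW.fromSpec ξ, hξ'⟩, ?_⟩
  exact Groth.Agent.H49.SmoothFibre.smooth_comp_of_le_smoothLocus pX.smoothLocus.ι pX
    (fun z => z.2)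

end Groth.Agent.H22.OmegaWedgeQ1
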