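import Groth.Agent.H88.Frame
import Groth.Agent.H88.PnGlobal
import Groth.Agent.H8.LocFreeNearFinite
import Groth.Agent.H8.LocFreeSections

/-!
# Sections of a vector bundle over a standard chart of `P^1_k` are free

The chart `U i = D₊(X i)` of `P^1_k` is the spectrum of a polynomial ring in one variable, a PID;
finite projective modules over a PID are free.
-/

set_option autoImplicit false
set_option linter.style.haveILetI false
universe u
open CategoryTheory CategoryTheory.Limits AlgebraicGeometry Opposite TopologicalSpace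
open Groth.Agent.H18.TensorGen (IsGen)
open Groth.Agent.H88.Frame Groth.Agent.H88.PicPn Groth.Agent.H88.TwistGenN Groth.Agent.H88.MonoFrac Groth.Agent.H88.ProjChart

namespace Groth.Agent.H22.P1BasisChart

/-- A finite projective module of constant rank `r` over a ring isomorphic to `k[X]` has a basis
indexed by `Fin r`. -/
lemma exists_basis_of_ringEquiv_polynomial (k : Type u) [Field k] (R : Type u) [CommRing R]
    (θ : Polynomial k ≃+* R) (M : Type u) [AddCommGroup M] [Module R M] [Module.Finite R M]
    [Module.Projective R M] (r : ℕ)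
    (hr : ∀ q : PrimeSpectrum R, Module.rankAtStalk (R := R) M q = r) :
    Nonempty (Module.Basis (Fin r) R M) := by
  haveI : IsDomain R := θ.toMulEquiv.isDomain_iff.mp inferInstance
  haveI : IsPrincipalIdealRing R :=
    IsPrincipalIdealRing.of_surjective θ.toRingHom θ.surjective
  haveI : Module.Free R M := inferInstance
  have h1 : Module.finrank R M = r := by
    have h2 := hr ⟨⊥, Ideal.isPrime_bot⟩
    rw [Module.rankAtStalk_eq_finrank_of_free] at h2
    exact h2
  exact ⟨Module.finBasisOfFinrankEq R M h1⟩

theorem exists_basis_chart (k : Type u) [Field k] (r : ℕ) (E : (Proj (CohB1.polyGrading 1 k)).Modules) (hE : FlatMod.IsFinLocFreeOfRank r E) (i : Fin 2) : Nonempty (Module.Basis (Fin r) Γ(Proj (CohB1.polyGrading 1 k), U 1 k i) Γ(E, U 1 k i)) := by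
  have hflf := Groth.Agent.H8.isFinLocFree_of_isFinLocFreeOfRank hE
  haveI : E.IsQuasicoherent := Groth.Agent.H8.isQuasicoherent_of_isFinLocFree E hflf
  have hU : IsAffineOpen (U 1 k i) := Proj.isAffineOpen_basicOpen _ _ (hT 1 k i) Nat.one_pos
  obtain ⟨hfp, hproj⟩ :=
    Groth.Agent.H8.finitePresentation_projective_sections_of_isFinLocFree E hflf hU
  haveI := hfp
  haveI := hproj
  haveI : Module.Finite Γ(Proj (CohB1.polyGrading 1 k), U 1 k i) Γ(E, U 1 k i) := inferInstance
  haveI : Module.Flat Γ(Proj (CohB1.polyGrading 1 k), U 1 k i) Γ(E, U 1 k i) := inferInstance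
  have hrank := Groth.Agent.H8.rankAtStalk_sections_of_isFinLocFreeOfRank E r hE hU
  haveI : Unique {j : Fin 2 // j ≠ i} := by
    refine ⟨⟨⟨1 - i, ?_⟩⟩, ?_⟩
    · fin_cases i <;> decide
    · rintro ⟨j, hj⟩
      apply Subtype.ext
      fin_cases i <;> fin_cases j <;> first | rfl | exact absurd rfl hj
  let θ : Polynomial k ≃+* Γ(Proj (CohB1.polyGrading 1 k), U 1 k i) :=
    (MvPolynomial.uniqueAlgEquiv k {j : Fin 2 // j ≠ i}).symm.toRingEquiv.trans (Θ 1 k i)
  exact exists_basis_of_ringEquiv_polynomial k _ θ _ r hrank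

end Groth.Agent.H22.P1BasisChart
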