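import Groth.Agent.H88.Frame
import Groth.Agent.H88.PnGlobal
import Groth.Agent.H8.FreeMod
import Groth.Agent.H8.IsoCover
import Groth.Agent.H22.GenLocus

/-!
# A basis of sections over an affine open of a quasi-coherent module is a frame

* `exists_frame`: a trivialisation `E|_U ≅ O_U^r` gives a frame of `E` over `U`.
* `isFrame_of_matrix`: a family related to a frame by an invertible matrix is a frame.
* `isFrame_of_basis`: over an affine open `U`, a basis of `Γ(E, U)` is a frame of `E` over `U`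
  (`E` quasi-coherent).
-/

set_option autoImplicit false
universe u
open CategoryTheory CategoryTheory.Limits AlgebraicGeometry Opposite TopologicalSpace
open Groth.Agent.H18.TensorGen (IsGen)
open Groth.Agent.H88.Frame Groth.Agent.H88.PicPn Groth.Agent.H88.TwistGenN Groth.Agent.H88.MonoFrac Groth.Agent.H88.ProjChart

namespace Groth.Agent.H22.P1FrameBasis

variable {X : Scheme.{u}}

/-- A trivialisation `E|_U ≅ O_U^r` gives a frame of `E` over `U`. -/
lemma exists_frame (E : X.Modules) (U : X.Opens) {r : ℕ}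
    (e : E.restrict U.ι ≅ FlatMod.freeMod (↑U : Scheme.{u}) r) :
    ∃ σ : Fin r → Γ(E, U), IsFrame E U σ := by
  obtain ⟨φ, hφ⟩ : ∃ φ : Fin r → (Coh.structureModule (↑U : Scheme.{u}) ⟶ E.restrict U.ι),
      φ = fun i => Groth.Agent.H8.freeι (↑U : Scheme.{u}) r i ≫ e.inv := ⟨_, rfl⟩
  obtain ⟨τ, hτ⟩ : ∃ τ : Fin r → Γ(E.restrict U.ι, ⊤), τ = fun i => (φ i).app ⊤
    (show Γ(Coh.structureModule (↑U : Scheme.{u}), ⊤) from (1 : Γ((↑U : Scheme.{u}), ⊤))) :=
    ⟨_, rfl⟩
  have htop : U ≤ U.ι ''ᵁ ⊤ := le_of_eq (Scheme.Opens.ι_image_top U).symm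
  refine ⟨fun i => E.presheaf.map (homOfLE htop).op (show Γ(E, U.ι ''ᵁ ⊤) from τ i), ?_⟩
  intro V hV
  obtain ⟨W, rfl⟩ := Groth.Agent.H22.GenLocus.exists_eq_image hV
  have hbij : Function.Bijective (e.inv.app W) := by
    have h1 : IsIso (e.inv.app W) :=
      (Scheme.Modules.Hom.isIso_iff_isIso_app (φ := e.inv)).mp inferInstance W
    exact (ConcreteCategory.isIso_iff_bijective _).mp h1
  have hres : ∀ i, (φ i).app W (show Γ(Coh.structureModule (↑U : Scheme.{u}), W) from
      (1 : Γ((↑U : Scheme.{u}), W))) =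
      (E.restrict U.ι).presheaf.map (homOfLE (le_top : W ≤ ⊤)).op (τ i) := by
    intro i
    rw [hτ]
    change _ = (E.restrict U.ι).presheaf.map (homOfLE (le_top : W ≤ ⊤)).op ((φ i).app ⊤ _)
    rw [← Groth.Agent.H8.app_res]
    exact congrArg ((φ i).app W)
      (map_one ((↑U : Scheme.{u}).presheaf.map (homOfLE (le_top : W ≤ ⊤)).op).hom).symm
  have hlin : ∀ (i : Fin r) (a : Γ((↑U : Scheme.{u}), W)),
      (φ i).app W (show Γ(Coh.structureModule (↑U : Scheme.{u}), W) from a) =
        a • (E.restrict U.ι).presheaf.map (homOfLE (le_top : W ≤ ⊤)).op (τ i) := by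
    intro i a
    rw [← hres]
    have h2 := Scheme.Modules.Hom.app_smul (φ i) a
      (show Γ(Coh.structureModule (↑U : Scheme.{u}), W) from (1 : Γ((↑U : Scheme.{u}), W)))
    refine Eq.trans ?_ h2
    exact congrArg ((φ i).app W) (mul_one a).symm
  have hfun : (fun c : Fin r → Γ(X, U.ι ''ᵁ W) => ∑ i, c i • E.presheaf.map (homOfLE hV).op
      (E.presheaf.map (homOfLE htop).op (show Γ(E, U.ι ''ᵁ ⊤) from τ i))) =
      fun c => e.inv.app W ((Groth.Agent.H8.sectionsFreeEquiv (↑U : Scheme.{u}) r W).symm c) := by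
    funext c
    have h1 : (Groth.Agent.H8.sectionsFreeEquiv (↑U : Scheme.{u}) r W).symm c =
        ∑ i, (Groth.Agent.H8.freeι (↑U : Scheme.{u}) r i).app W
          (show Γ(Coh.structureModule (↑U : Scheme.{u}), W) from c i) := rfl
    rw [h1, map_sum]
    refine Finset.sum_congr rfl (fun i _ => ?_)
    have h3 : e.inv.app W ((Groth.Agent.H8.freeι (↑U : Scheme.{u}) r i).app W
        (show Γ(Coh.structureModule (↑U : Scheme.{u}), W) from c i)) =
        (φ i).app W (show Γ(Coh.structureModule (↑U : Scheme.{u}), W) from c i) := by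
      rw [hφ]
      rfl
    rw [h3, hlin, Groth.Agent.H8.res_res]
    exact (Groth.Agent.H22.GenLocus.smul_restrict_ι E W (c i) _).symm
  rw [hfun]
  exact hbij.comp (Groth.Agent.H8.sectionsFreeEquiv (↑U : Scheme.{u}) r W).symm.bijective

/-- A family obtained from a frame by an invertible matrix is a frame. -/
lemma isFrame_of_matrix (E : X.Modules) (U : X.Opens) {r : ℕ} (σ β : Fin r → Γ(E, U))
    (hσ : IsFrame E U σ) (P Q : Matrix (Fin r) (Fin r) Γ(X, U))
    (hPQ : P * Q = 1) (hβ : ∀ j, β j = ∑ i, P j i • σ i) : IsFrame E U β := by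
  have hQP : Q * P = 1 := _root_.mul_eq_one_comm.mp hPQ
  intro V hV
  obtain ⟨ρ, hρ⟩ : ∃ ρ : Γ(X, U) →+* Γ(X, V), ρ = (X.presheaf.map (homOfLE hV).op).hom :=
    ⟨_, rfl⟩
  have hPQ' : P.map ρ * Q.map ρ = 1 := by
    rw [← Matrix.map_mul, hPQ, Matrix.map_one _ (map_zero ρ) (map_one ρ)]
  have hQP' : Q.map ρ * P.map ρ = 1 := by
    rw [← Matrix.map_mul, hQP, Matrix.map_one _ (map_zero ρ) (map_one ρ)]
  have hres : ∀ j, E.presheaf.map (homOfLE hV).op (β j) =
      ∑ i, (P.map ρ) j i • E.presheaf.map (homOfLE hV).op (σ i) := by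
    intro j
    rw [hβ, map_sum]
    refine Finset.sum_congr rfl (fun i _ => ?_)
    rw [Groth.Agent.H8.res_smul, Matrix.map_apply, hρ]
  have hfun : (fun c : Fin r → Γ(X, V) => ∑ j, c j • E.presheaf.map (homOfLE hV).op (β j)) =
      (fun c : Fin r → Γ(X, V) => ∑ i, c i • E.presheaf.map (homOfLE hV).op (σ i)) ∘
        (fun c : Fin r → Γ(X, V) => Matrix.vecMul c (P.map ρ)) := by
    funext c
    simp only [Function.comp_apply]
    have h1 : ∀ j, c j • E.presheaf.map (homOfLE hV).op (β j) =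
        ∑ i, (c j * (P.map ρ) j i) • E.presheaf.map (homOfLE hV).op (σ i) := by
      intro j
      rw [hres, Finset.smul_sum]
      refine Finset.sum_congr rfl (fun i _ => ?_)
      rw [mul_smul]
    rw [Finset.sum_congr rfl (fun j _ => h1 j), Finset.sum_comm]
    refine Finset.sum_congr rfl (fun i _ => ?_)
    rw [← Finset.sum_smul]
    rfl
  rw [hfun]
  refine (hσ V hV).comp ⟨?_, ?_⟩
  · intro c d hcd
    have h2 : Matrix.vecMul (Matrix.vecMul c (P.map ρ)) (Q.map ρ) =
        Matrix.vecMul (Matrix.vecMul d (P.map ρ)) (Q.map ρ) := congrArg (fun v => Matrix.vecMul v (Q.map ρ)) hcd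
    rw [Matrix.vecMul_vecMul, Matrix.vecMul_vecMul, hPQ', Matrix.vecMul_one, Matrix.vecMul_one] at h2
    exact h2
  · intro d
    refine ⟨Matrix.vecMul d (Q.map ρ), ?_⟩
    change Matrix.vecMul (Matrix.vecMul d (Q.map ρ)) (P.map ρ) = d
    rw [Matrix.vecMul_vecMul, hQP', Matrix.vecMul_one]

/-- Over an affine open `U`, a basis of `Γ(E, U)` is a frame of the quasi-coherent module `E`
over `U`. -/
theorem isFrame_of_basis {X : Scheme.{u}} (E : X.Modules) [E.IsQuasicoherent] {U : X.Opens}
    (hU : IsAffineOpen U) {r : ℕ} (b : Module.Basis (Fin r) Γ(X, U) Γ(E, U)) :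
    IsFrame E U (fun i => b i) := by
  obtain ⟨e⟩ := Groth.Agent.H8.nonempty_restrict_iso_freeMod hU E r b.equivFun
  obtain ⟨σ, hσ⟩ := exists_frame E U e
  -- `σ` is a frame, so at `V' = U` the map `c ↦ ∑ c i • σ i` is bijective
  have hσU : Function.Bijective (fun c : Fin r → Γ(X, U) => ∑ i, c i • σ i) := by
    have h := hσ U le_rfl
    have he : (fun c : Fin r → Γ(X, U) => ∑ i, c i • E.presheaf.map (homOfLE (le_refl U)).op (σ i)) =
        fun c : Fin r → Γ(X, U) => ∑ i, c i • σ i := by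
      funext c
      refine Finset.sum_congr rfl (fun i _ => ?_)
      have h1 : (homOfLE (le_refl U)).op = 𝟙 (Opposite.op U) := rfl
      rw [h1, E.presheaf.map_id]
      rfl
    rw [he] at h
    exact h
  -- the matrices
  choose P hP using fun j => hσU.2 (b j)
  obtain ⟨Q, hQ⟩ : ∃ Q : Matrix (Fin r) (Fin r) Γ(X, U), Q = fun i k => b.repr (σ i) k := ⟨_, rfl⟩
  have hσb : ∀ i, σ i = ∑ k, Q i k • b k := by
    intro i
    rw [hQ]
    exact (b.sum_repr (σ i)).symm
  have hPQ : (Matrix.of P) * Q = 1 := by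
    ext j k
    have h1 : b j = ∑ k, ((Matrix.of P) * Q) j k • b k := by
      have h2 := hP j
      simp only at h2
      rw [← h2]
      have h3 : ∀ i, P j i • σ i = ∑ k, (P j i * Q i k) • b k := by
        intro i
        rw [hσb i, Finset.smul_sum]
        refine Finset.sum_congr rfl (fun k _ => ?_)
        rw [mul_smul]
      rw [Finset.sum_congr rfl (fun i _ => h3 i), Finset.sum_comm]
      refine Finset.sum_congr rfl (fun k _ => ?_)
      rw [← Finset.sum_smul]
      rfl
    have h4 := congrArg (fun x => b.repr x k) h1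
    simp only [Module.Basis.repr_self, map_sum, map_smul, Finsupp.coe_finsetSum, Finsupp.coe_smul,
      Finset.sum_apply, Pi.smul_apply, smul_eq_mul] at h4
    rw [Finset.sum_eq_single k] at h4
    · rw [Finsupp.single_eq_same, mul_one] at h4
      rw [← h4, Matrix.one_apply, Finsupp.single_apply]
    · intro l _ hl
      rw [Finsupp.single_eq_of_ne hl.symm, mul_zero]
    · intro h
      exact absurd (Finset.mem_univ k) h
  exact isFrame_of_matrix E U σ (fun i => b i) hσ (Matrix.of P) Q hPQ (fun j => (hP j).symm)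

end Groth.Agent.H22.P1FrameBasis
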