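import Mathlib
import Groth.Agent.H22.GradedQuot

/-!
# Closed subschemes of `Proj` (helper22)

Given an ideal sheaf `𝓘` on `Proj 𝒜`, where the irrelevant ideal is generated by a finite set `s`
of elements of degree one, we construct a homogeneous ideal `bigIdeal 𝒜 𝓘 s hs1` of `A` such that
for any surjective graded ring hom `φ` with that kernel, `(Proj.map φ _).ker = 𝓘`.
-/

set_option autoImplicit false
set_option linter.unusedSectionVars false
universe u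

namespace Groth.Agent.H22

open AlgebraicGeometry HomogeneousLocalization CategoryTheory

section ProjIdeal

variable {R A : Type u} [CommRing R] [CommRing A] [Algebra R A] (𝒜 : ℕ → Submodule R A)
  [GradedAlgebra 𝒜]

/-- `D₊(x)` as an affine open. -/
noncomputable abbrev affBasicOpen {m : ℕ} {x : A} (hx : x ∈ 𝒜 m) (hm : 0 < m) :
    (Proj 𝒜).affineOpens :=
  ⟨Proj.basicOpen 𝒜 x, Proj.isAffineOpen_basicOpen 𝒜 x hx hm⟩

theorem awayToSection_bijective {m : ℕ} {x : A} (hx : x ∈ 𝒜 m) (hm : 0 < m) :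
    Function.Bijective (Proj.awayToSection 𝒜 x).hom := by
  have h : IsIso (Proj.awayToSection 𝒜 x) := by
    rw [← Proj.basicOpenIsoAway_hom 𝒜 x hx hm]
    infer_instance
  exact (ConcreteCategory.isIso_iff_bijective _).mp h

/-- The ideal of `A_(x)` corresponding to the ideal sheaf `𝓘` on `D₊(x)`. -/
noncomputable def Jideal (𝓘 : (Proj 𝒜).IdealSheafData) {m : ℕ} {x : A} (hx : x ∈ 𝒜 m)
    (hm : 0 < m) : Ideal (Away 𝒜 x) :=
  (𝓘.ideal (affBasicOpen 𝒜 hx hm)).comap (Proj.awayToSection 𝒜 x).hom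

theorem mem_Jideal (𝓘 : (Proj 𝒜).IdealSheafData) {m : ℕ} {x : A} (hx : x ∈ 𝒜 m)
    (hm : 0 < m) (z : Away 𝒜 x) :
    z ∈ Jideal 𝒜 𝓘 hx hm ↔
      (Proj.awayToSection 𝒜 x).hom z ∈ 𝓘.ideal (affBasicOpen 𝒜 hx hm) := Iff.rfl

/-- Compatibility of the ideals `Jideal` on the overlap `D₊(g f)`. -/
theorem awayMap_mem_map (𝓘 : (Proj 𝒜).IdealSheafData) {f g : A} (hf : f ∈ 𝒜 1) (hg : g ∈ 𝒜 1)
    {x : Away 𝒜 f} (hx : x ∈ Jideal 𝒜 𝓘 hf one_pos) :
    awayMap 𝒜 hg (mul_comm g f) x ∈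
      (Jideal 𝒜 𝓘 hg one_pos).map (awayMap 𝒜 hf (rfl : g * f = g * f)) := by
  have hgf : g * f ∈ 𝒜 (1 + 1) := SetLike.mul_mem_graded hg hf
  have h2 : 0 < 1 + 1 := by norm_num
  have hxf : Proj.basicOpen 𝒜 (g * f) ≤ Proj.basicOpen 𝒜 f :=
    Proj.basicOpen_mono 𝒜 f (g * f) ⟨g, mul_comm g f⟩
  have hxg : Proj.basicOpen 𝒜 (g * f) ≤ Proj.basicOpen 𝒜 g :=
    Proj.basicOpen_mono 𝒜 g (g * f) ⟨f, rfl⟩
  have mf := 𝓘.map_ideal (U := affBasicOpen 𝒜 hgf h2) (V := affBasicOpen 𝒜 hf one_pos) hxf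
  have mg := 𝓘.map_ideal (U := affBasicOpen 𝒜 hgf h2) (V := affBasicOpen 𝒜 hg one_pos) hxg
  have e1 := Proj.awayMap_awayToSection 𝒜 (f := f) hg (mul_comm g f)
  have e2 := Proj.awayMap_awayToSection 𝒜 (f := g) hf (rfl : g * f = g * f)
  have bx := awayToSection_bijective 𝒜 hgf h2
  -- the image of `x` in `Γ(D₊(gf))` lies in the ideal
  have h1 : (Proj.awayToSection 𝒜 (g * f)).hom (awayMap 𝒜 hg (mul_comm g f) x) ∈
      𝓘.ideal (affBasicOpen 𝒜 hgf h2) := by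
    have e1' : (Proj.awayToSection 𝒜 (g * f)).hom (awayMap 𝒜 hg (mul_comm g f) x) =
        ((Proj 𝒜).presheaf.map (homOfLE hxf).op).hom ((Proj.awayToSection 𝒜 f).hom x) := by
      have := congrArg (fun k => k.hom x) e1
      simp only [CommRingCat.hom_comp, CommRingCat.hom_ofHom, RingHom.comp_apply] at this
      exact this
    rw [e1', ← mf]
    exact Ideal.mem_map_of_mem _ hx
  have h3 : 𝓘.ideal (affBasicOpen 𝒜 hgf h2) =
      ((Jideal 𝒜 𝓘 hg one_pos).map (awayMap 𝒜 hf (rfl : g * f = g * f))).map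
        (Proj.awayToSection 𝒜 (g * f)).hom := by
    have e2' : (Proj.awayToSection 𝒜 (g * f)).hom.comp (awayMap 𝒜 hf (rfl : g * f = g * f)) =
        ((Proj 𝒜).presheaf.map (homOfLE hxg).op).hom.comp (Proj.awayToSection 𝒜 g).hom := by
      have := congrArg CommRingCat.Hom.hom e2
      simp only [CommRingCat.hom_comp, CommRingCat.hom_ofHom] at this
      exact this
    rw [Ideal.map_map, e2', ← Ideal.map_map, Jideal,
      Ideal.map_comap_of_surjective _ (awayToSection_bijective 𝒜 hg one_pos).2]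
    exact mg.symm
  rw [h3] at h1
  obtain ⟨y, hy, hye⟩ := (Ideal.mem_map_iff_of_surjective _ bx.2).mp h1
  rwa [bx.1 hye] at hy

theorem pow_mul_mk_eq {h g : A} (hh : h ∈ 𝒜 1) (hg : g ∈ 𝒜 1) {n : ℕ} {a : A}
    (ha : a ∈ 𝒜 (n • 1)) (N : ℕ) (hb : g ^ N * a ∈ 𝒜 ((N + n) • 1)) :
    (Away.isLocalizationElem hh hg) ^ N * Away.mk 𝒜 hh n a ha =
      Away.mk 𝒜 hh (N + n) (g ^ N * a) hb := by
  apply HomogeneousLocalization.val_injective
  rw [HomogeneousLocalization.val_mul, HomogeneousLocalization.val_pow, Away.val_mk, Away.val_mk,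
    Away.val_mk, Localization.mk_pow, Localization.mk_mul, Localization.mk_eq_mk_iff,
    Localization.r_iff_exists]
  refine ⟨1, ?_⟩
  simp only [OneMemClass.coe_one, one_mul, Submonoid.coe_mul, SubmonoidClass.coe_pow]
  ring

/-- The gluing step: a fraction `a / f ^ n` in `Jideal f` gives, after multiplying by a power of
`f`, a fraction in `Jideal g`. -/
theorem exists_pow_mul_mem (𝓘 : (Proj 𝒜).IdealSheafData) {f g : A} (hf : f ∈ 𝒜 1)
    (hg : g ∈ 𝒜 1) {n : ℕ} {a : A} (ha : a ∈ 𝒜 (n • 1))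
    (h : Away.mk 𝒜 hf n a ha ∈ Jideal 𝒜 𝓘 hf one_pos) :
    ∃ K : ℕ, ∀ K', K ≤ K' →
      (Away.isLocalizationElem hg hf) ^ K' * Away.mk 𝒜 hg n a ha ∈ Jideal 𝒜 𝓘 hg one_pos := by
  let _ : Algebra (Away 𝒜 g) (Away 𝒜 (g * f)) :=
    (awayMap 𝒜 hf (rfl : g * f = g * f)).toAlgebra
  have hloc : IsLocalization.Away (Away.isLocalizationElem hg hf) (Away 𝒜 (g * f)) :=
    Away.isLocalization_mul hg hf rfl one_ne_zero
  have hov := awayMap_mem_map 𝒜 𝓘 hf hg h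
  -- identity (*)
  have hstar : awayMap 𝒜 hf (rfl : g * f = g * f) (Away.mk 𝒜 hg n a ha) =
      awayMap 𝒜 hg (mul_comm g f) (Away.mk 𝒜 hf n a ha) *
        awayMap 𝒜 hf (rfl : g * f = g * f) ((Away.isLocalizationElem hg hf) ^ n) := by
    rw [map_pow, awayMap_mk, awayMap_mk, awayMap_mk]
    apply HomogeneousLocalization.val_injective
    rw [HomogeneousLocalization.val_mul, HomogeneousLocalization.val_pow, Away.val_mk,
      Away.val_mk, Away.val_mk, Localization.mk_pow, Localization.mk_mul,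
      Localization.mk_eq_mk_iff, Localization.r_iff_exists]
    refine ⟨1, ?_⟩
    simp only [OneMemClass.coe_one, one_mul, Submonoid.coe_mul, SubmonoidClass.coe_pow]
    ring
  obtain ⟨⟨⟨i, hi⟩, ⟨_, M, rfl⟩⟩, hiM⟩ :=
    (IsLocalization.mem_map_algebraMap_iff (Submonoid.powers (Away.isLocalizationElem hg hf))
      (Away 𝒜 (g * f))).mp hov
  replace hiM : awayMap 𝒜 hg (mul_comm g f) (Away.mk 𝒜 hf n a ha) *
      awayMap 𝒜 hf (rfl : g * f = g * f) ((Away.isLocalizationElem hg hf) ^ M) =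
      awayMap 𝒜 hf (rfl : g * f = g * f) i := hiM
  have heq : algebraMap (Away 𝒜 g) (Away 𝒜 (g * f))
        (Away.mk 𝒜 hg n a ha * (Away.isLocalizationElem hg hf) ^ M) =
      algebraMap (Away 𝒜 g) (Away 𝒜 (g * f)) (i * (Away.isLocalizationElem hg hf) ^ n) := by
    show awayMap 𝒜 hf (rfl : g * f = g * f) _ = awayMap 𝒜 hf (rfl : g * f = g * f) _
    rw [map_mul, map_mul, hstar, ← hiM]
    ring
  obtain ⟨⟨_, M', rfl⟩, hc⟩ :=
    (IsLocalization.eq_iff_exists (Submonoid.powers (Away.isLocalizationElem hg hf))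
      (Away 𝒜 (g * f))).mp heq
  replace hc : (Away.isLocalizationElem hg hf) ^ M' *
      (Away.mk 𝒜 hg n a ha * (Away.isLocalizationElem hg hf) ^ M) =
      (Away.isLocalizationElem hg hf) ^ M' * (i * (Away.isLocalizationElem hg hf) ^ n) := hc
  refine ⟨M' + M, fun K' hK' => ?_⟩
  have hsplit : (Away.isLocalizationElem hg hf) ^ K' * Away.mk 𝒜 hg n a ha =
      (Away.isLocalizationElem hg hf) ^ (K' - (M' + M)) *
        ((Away.isLocalizationElem hg hf) ^ M' *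
          (Away.mk 𝒜 hg n a ha * (Away.isLocalizationElem hg hf) ^ M)) := by
    have hK : K' = (K' - (M' + M)) + M' + M := by omega
    conv_lhs => rw [hK]
    ring
  rw [hsplit, hc]
  exact Ideal.mul_mem_left _ _ (Ideal.mul_mem_left _ _ (Ideal.mul_mem_right _ _ hi))

/-- The homogeneous ideal of `A` attached to an ideal sheaf on `Proj 𝒜`. -/
noncomputable def bigIdeal (𝓘 : (Proj 𝒜).IdealSheafData) (s : Finset A)
    (hs1 : ∀ f ∈ s, f ∈ 𝒜 1) : HomogeneousIdeal 𝒜 :=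
  (⨅ g : {g // g ∈ s},
    (Jideal 𝒜 𝓘 (hs1 g.1 g.2) one_pos).comap (dehom 𝒜 (hs1 g.1 g.2))).homogeneousCore 𝒜

theorem mem_bigIdeal_iff (𝓘 : (Proj 𝒜).IdealSheafData) (s : Finset A)
    (hs1 : ∀ f ∈ s, f ∈ 𝒜 1) {m : ℕ} {b : A} (hb : b ∈ 𝒜 m) :
    b ∈ (bigIdeal 𝒜 𝓘 s hs1).toIdeal ↔
      ∀ g (hgs : g ∈ s), Away.mk 𝒜 (hs1 g hgs) m b (mem_smul_one 𝒜 hb) ∈
        Jideal 𝒜 𝓘 (hs1 g hgs) one_pos := by
  constructor
  · intro h g hgs
    have h1 := Ideal.toIdeal_homogeneousCore_le 𝒜 _ h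
    have h2 := (Ideal.mem_iInf.mp h1) ⟨g, hgs⟩
    rw [Ideal.mem_comap, dehom_of_mem 𝒜 _ hb] at h2
    exact h2
  · intro h
    refine Ideal.mem_homogeneousCore_of_homogeneous_of_mem ⟨m, hb⟩
      (Ideal.mem_iInf.mpr fun g => ?_)
    rw [Ideal.mem_comap, dehom_of_mem 𝒜 _ hb]
    exact h g.1 g.2

variable {B : Type u} [CommRing B] [Algebra R B] (ℬ : ℕ → Submodule R B) [GradedAlgebra ℬ]

theorem irrelevant_le_map_of_surjective (φ : 𝒜 →+*ᵍ ℬ) (hsurj : Function.Surjective φ) :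
    HomogeneousIdeal.irrelevant ℬ ≤ (HomogeneousIdeal.irrelevant 𝒜).map φ := by
  intro b hb
  obtain ⟨a, rfl⟩ := hsurj b
  have hb0 : (DirectSum.decompose ℬ (φ a) 0 : B) = 0 := hb
  have h1 : φ a = φ (a - (DirectSum.decompose 𝒜 a 0 : A)) := by
    rw [map_sub, GradedRingHom.map_directSumDecompose, hb0, sub_zero]
  rw [h1]
  show φ _ ∈ Ideal.map φ (HomogeneousIdeal.irrelevant 𝒜).toIdeal
  refine Ideal.mem_map_of_mem _ ?_
  show (DirectSum.decompose 𝒜 (a - (DirectSum.decompose 𝒜 a 0 : A)) 0 : A) = 0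
  rw [DirectSum.decompose_sub, DFinsupp.sub_apply, AddSubgroupClass.coe_sub,
    DirectSum.decompose_coe, DirectSum.of_eq_same, sub_self]

theorem away_map_mk_eq_zero_iff (φ : 𝒜 →+*ᵍ ℬ) {g : A} (hg : g ∈ 𝒜 1) {n : ℕ} {a : A}
    (ha : a ∈ 𝒜 (n • 1)) :
    Away.map φ g (Away.mk 𝒜 hg n a ha) = 0 ↔ ∃ N : ℕ, φ (g ^ N * a) = 0 := by
  rw [Away.map_mk]
  constructor
  · intro h
    have h' := congrArg HomogeneousLocalization.val h
    rw [Away.val_mk, HomogeneousLocalization.val_zero, Localization.mk_eq_mk',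
      IsLocalization.mk'_eq_zero_iff] at h'
    obtain ⟨⟨_, N, rfl⟩, hN⟩ := h'
    refine ⟨N, ?_⟩
    rw [map_mul, map_pow]
    exact hN
  · rintro ⟨N, hN⟩
    apply HomogeneousLocalization.val_injective
    rw [Away.val_mk, HomogeneousLocalization.val_zero, Localization.mk_eq_mk',
      IsLocalization.mk'_eq_zero_iff]
    refine ⟨⟨φ g ^ N, N, rfl⟩, ?_⟩
    rw [map_mul, map_pow] at hN
    exact hN

theorem pow_mul_mem_graded {g : A} (hg : g ∈ 𝒜 1) {n : ℕ} {a : A} (ha : a ∈ 𝒜 (n • 1))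
    (N : ℕ) : g ^ N * a ∈ 𝒜 (N + n) := by
  have h := SetLike.mul_mem_graded (SetLike.pow_mem_graded N hg) ha
  simpa only [smul_eq_mul, mul_one] using h

/-- The kernel of the induced map on the chart `D₊(g)`, `g ∈ s`, is `Jideal g`. -/
theorem ker_away_map_eq (φ : 𝒜 →+*ᵍ ℬ) (𝓘 : (Proj 𝒜).IdealSheafData) (s : Finset A)
    (hs1 : ∀ f ∈ s, f ∈ 𝒜 1)
    (hker : ∀ a, φ a = 0 ↔ a ∈ (bigIdeal 𝒜 𝓘 s hs1).toIdeal) {g : A} (hgs : g ∈ s) :
    RingHom.ker (Away.map φ g) = Jideal 𝒜 𝓘 (hs1 g hgs) one_pos := by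
  have hg := hs1 g hgs
  ext z
  obtain ⟨n, a, ha, rfl⟩ := Away.mk_surjective 𝒜 hg z
  rw [RingHom.mem_ker, away_map_mk_eq_zero_iff 𝒜 ℬ φ hg ha]
  constructor
  · rintro ⟨N, hN⟩
    have hmem : g ^ N * a ∈ 𝒜 (N + n) := pow_mul_mem_graded 𝒜 hg ha N
    have h1 := (mem_bigIdeal_iff 𝒜 𝓘 s hs1 hmem).mp ((hker _).mp hN) g hgs
    have heq : Away.mk 𝒜 hg (N + n) (g ^ N * a) (mem_smul_one 𝒜 hmem) = Away.mk 𝒜 hg n a ha := by
      apply HomogeneousLocalization.val_injective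
      rw [Away.val_mk, Away.val_mk, Localization.mk_eq_mk_iff, Localization.r_iff_exists]
      refine ⟨1, ?_⟩
      simp only [OneMemClass.coe_one, one_mul]
      ring
    rwa [heq] at h1
  · intro hz
    have hex : ∀ h : {h // h ∈ s}, ∃ K : ℕ, ∀ K', K ≤ K' →
        (Away.isLocalizationElem (hs1 h.1 h.2) hg) ^ K' * Away.mk 𝒜 (hs1 h.1 h.2) n a ha ∈
          Jideal 𝒜 𝓘 (hs1 h.1 h.2) one_pos :=
      fun h => exists_pow_mul_mem 𝒜 𝓘 hg (hs1 h.1 h.2) ha hz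
    choose K hK using hex
    refine ⟨s.attach.sup K, (hker _).mpr ?_⟩
    have hmem : g ^ (s.attach.sup K) * a ∈ 𝒜 (s.attach.sup K + n) :=
      pow_mul_mem_graded 𝒜 hg ha _
    rw [mem_bigIdeal_iff 𝒜 𝓘 s hs1 hmem]
    intro h hhs
    rw [← pow_mul_mk_eq 𝒜 (hs1 h hhs) hg ha (s.attach.sup K) (mem_smul_one 𝒜 hmem)]
    exact hK ⟨h, hhs⟩ _ (Finset.le_sup (Finset.mem_attach s ⟨h, hhs⟩))

set_option backward.isDefEq.respectTransparency false in
theorem map_app_awayToSection (φ : 𝒜 →+*ᵍ ℬ)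
    (hφ : HomogeneousIdeal.irrelevant ℬ ≤ (HomogeneousIdeal.irrelevant 𝒜).map φ) {g : A}
    (hg : g ∈ 𝒜 1) (z : Away 𝒜 g) :
    ((Proj.map φ hφ).app (Proj.basicOpen 𝒜 g)).hom ((Proj.awayToSection 𝒜 g).hom z) =
      (Proj.awayToSection ℬ (φ g)).hom (Away.map φ g z) := by
  have h := Proj.awayToSection_comp_appLE φ hφ hg
  have h' : (Proj.map φ hφ).appLE (Proj.basicOpen 𝒜 g) (Proj.basicOpen ℬ (φ g)) (by rfl) =
      (Proj.map φ hφ).app (Proj.basicOpen 𝒜 g) := (Proj.map φ hφ).appLE_eq_app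
  rw [h'] at h
  have h2 := congrArg (fun k => k.hom z) h
  simp only [CommRingCat.hom_comp, CommRingCat.hom_ofHom, RingHom.comp_apply] at h2
  exact h2

set_option backward.isDefEq.respectTransparency false in
/-- If the kernel of `Away.map φ g` is `Jideal g`, then `(Proj.map φ).ker` and `𝓘` agree on
`D₊(g)`. -/
theorem ker_map_ideal_eq (φ : 𝒜 →+*ᵍ ℬ)
    (hφ : HomogeneousIdeal.irrelevant ℬ ≤ (HomogeneousIdeal.irrelevant 𝒜).map φ)
    [QuasiCompact (Proj.map φ hφ)] (𝓘 : (Proj 𝒜).IdealSheafData) {g : A} (hg : g ∈ 𝒜 1)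
    (hJ : RingHom.ker (Away.map φ g) = Jideal 𝒜 𝓘 hg one_pos) :
    (Proj.map φ hφ).ker.ideal (affBasicOpen 𝒜 hg one_pos) =
      𝓘.ideal (affBasicOpen 𝒜 hg one_pos) := by
  rw [Scheme.Hom.ker_apply]
  ext x
  obtain ⟨z, rfl⟩ := (awayToSection_bijective 𝒜 hg one_pos).2 x
  have h1 := map_app_awayToSection 𝒜 ℬ φ hφ hg z
  have hinj := (awayToSection_bijective ℬ (show φ g ∈ ℬ 1 from φ.2 hg) one_pos).1
  rw [RingHom.mem_ker]
  constructor
  · intro h
    have h0 : Away.map φ g z = 0 := by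
      apply hinj
      rw [map_zero, ← h1]
      exact h
    have hz : z ∈ Jideal 𝒜 𝓘 hg one_pos := by
      rw [← hJ]
      exact h0
    exact hz
  · intro h
    have hz : z ∈ RingHom.ker (Away.map φ g) := by
      rw [hJ]
      exact h
    have h0 : Away.map φ g z = 0 := hz
    show ((Proj.map φ hφ).app (Proj.basicOpen 𝒜 g)).hom ((Proj.awayToSection 𝒜 g).hom z) = 0
    rw [h1, h0, map_zero]

end ProjIdeal

end Groth.Agent.H22
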