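import Mathlib

/-!
# A commutative square of schemes is a pullback if it is so locally (helper22)
-/

set_option autoImplicit false
universe u
open CategoryTheory CategoryTheory.Limits AlgebraicGeometry

namespace Groth.Agent.H22.PullbackLocal

/-- A commutative square `W, X, Y, Z` of schemes is a pullback square as soon as, for an open cover
`(Y_k)` of `Y` and morphisms `Z_k ⟶ Z` through which `Y_k ⟶ Z` factors, the squares
`W ×_Y Y_k, X ×_Z Z_k, Y_k, Z_k` are pullback squares. -/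
theorem isPullback_of_local {W X Y Z : Scheme.{u}} (fWX : W ⟶ X) (fWY : W ⟶ Y) (fXZ : X ⟶ Z)
    (fYZ : Y ⟶ Z) (𝒱 : Y.OpenCover) (Wk Xk Zk : 𝒱.I₀ → Scheme.{u})
    (w : ∀ k, Wk k ⟶ W) (x : ∀ k, Xk k ⟶ X) (z : ∀ k, Zk k ⟶ Z)
    (a : ∀ k, Wk k ⟶ Xk k) (b : ∀ k, Wk k ⟶ 𝒱.X k) (c : ∀ k, Xk k ⟶ Zk k)
    (d : ∀ k, 𝒱.X k ⟶ Zk k)
    (hW : ∀ k, IsPullback (w k) (b k) fWY (𝒱.f k))
    (hX : ∀ k, IsPullback (x k) (c k) fXZ (z k))
    (hd : ∀ k, d k ≫ z k = 𝒱.f k ≫ fYZ) (ha : ∀ k, a k ≫ x k = w k ≫ fWX)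
    (hk : ∀ k, IsPullback (a k) (b k) (c k) (d k)) :
    IsPullback fWX fWY fXZ fYZ := by
  refine (Scheme.isPullback_of_openCover fWY fWX fYZ fXZ 𝒱 (fun k => ?_)).flip
  have Q := (hk k).flip.paste_vert (hX k).flip
  rw [ha k, hd k] at Q
  have c1 : (hW k).isoPullback.hom ≫ pullback.fst _ _ = w k := (hW k).isoPullback_hom_fst
  have c2 : (hW k).isoPullback.hom ≫ pullback.snd _ _ = b k := (hW k).isoPullback_hom_snd
  refine IsPullback.of_iso Q (hW k).isoPullback (Iso.refl _) (Iso.refl _) (Iso.refl _) ?_ ?_ ?_ ?_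
  · exact (Category.comp_id _).trans c2.symm
  · refine (Category.comp_id _).trans ?_
    change _ = (hW k).isoPullback.hom ≫ pullback.fst _ _ ≫ fWX
    rw [← Category.assoc, c1]
  · exact (Category.comp_id _).trans (Category.id_comp _).symm
  · exact (Category.comp_id _).trans (Category.id_comp _).symm

end Groth.Agent.H22.PullbackLocal
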