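import Mathlib
import Groth.Prelude.Def_RelSpec

/-!
# Homomorphisms of quasi-coherent algebras are determined by the affine opens (helper22)

* `exists_hom`: a family of ring homomorphisms `A(U) ⟶ B(U)` over the affine opens, compatible with
  restrictions and the structure maps, is induced by a unique homomorphism `A ⟶ B`.
* `hom_ext_affine`: two homomorphisms agreeing over affine opens are equal.
* `isIso_of_bijective`: a homomorphism bijective over the affine opens is an isomorphism.
-/

set_option autoImplicit false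
universe u
open CategoryTheory CategoryTheory.Limits AlgebraicGeometry TopologicalSpace Opposite

noncomputable section

namespace Groth.Agent.H22.QCAlgHom

variable {S : Scheme.{u}}

/-- The restriction of the presheaf of a quasi-coherent algebra to the affine opens. -/
abbrev resAff (A : RelSpec.QCAlg S) : S.AffineZariskiSiteᵒᵖ ⥤ CommRingCat.{u} :=
  (Scheme.AffineZariskiSite.toOpensFunctor S).op ⋙ A.presheaf

/-- Morphisms of presheaves into a sheaf are determined by the affine opens. -/
def equivHom (F : TopCat.Presheaf CommRingCat.{u} S.carrier) (B : RelSpec.QCAlg S) :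
    (F ⟶ B.presheaf) ≃
      ((Scheme.AffineZariskiSite.toOpensFunctor S).op ⋙ F ⟶ resAff B) :=
  Functor.IsCoverDense.restrictHomEquivHom (G := Scheme.AffineZariskiSite.toOpensFunctor S)
    (K := Opens.grothendieckTopology S) (ℱ := F)
    (ℱ' := (⟨B.presheaf, B.isSheaf⟩ : TopCat.Sheaf CommRingCat.{u} S.carrier)) |>.symm

lemma equivHom_apply (F : TopCat.Presheaf CommRingCat.{u} S.carrier) (B : RelSpec.QCAlg S)
    (ψ : F ⟶ B.presheaf) :
    equivHom F B ψ = (Scheme.AffineZariskiSite.toOpensFunctor S).op.whiskerLeft ψ := rfl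

theorem exists_hom (A B : RelSpec.QCAlg S) (Ψ : resAff A ⟶ resAff B)
    (hΨ : ∀ (U : S.AffineZariskiSite) (r : Γ(S, U.1)),
      (Ψ.app (op U)).hom ((A.str.app (op U.1)).hom r) = (B.str.app (op U.1)).hom r) :
    ∃ ψ : A ⟶ B, ∀ (U : S.Opens) (hU : IsAffineOpen U) (a : A.presheaf.obj (op U)),
      (ψ.hom.app (op U)).hom a = (Ψ.app (op ⟨U, hU⟩)).hom a := by
  let ψ₀ : A.presheaf ⟶ B.presheaf := (equivHom A.presheaf B).symm Ψ
  have hψ₀ : (Scheme.AffineZariskiSite.toOpensFunctor S).op.whiskerLeft ψ₀ = Ψ :=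
    (equivHom A.presheaf B).apply_symm_apply Ψ
  have hψ₀app : ∀ (U : S.AffineZariskiSite) (a : A.presheaf.obj (op U.1)),
      (ψ₀.app (op U.1)).hom a = (Ψ.app (op U)).hom a := fun U a =>
    congrArg (fun χ : resAff A ⟶ resAff B => (χ.app (op U)).hom a) hψ₀
  have hcomm : A.str ≫ ψ₀ = B.str := by
    apply (equivHom S.presheaf B).injective
    ext U r
    change (ψ₀.app (op U.unop.1)).hom ((A.str.app (op U.unop.1)).hom r) =
      (B.str.app (op U.unop.1)).hom r
    rw [hψ₀app, hΨ]
  exact ⟨⟨ψ₀, hcomm⟩, fun U hU a => hψ₀app ⟨U, hU⟩ a⟩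

theorem hom_ext_affine {A B : RelSpec.QCAlg S} (ψ ψ' : A ⟶ B)
    (h : ∀ (U : S.Opens) (_ : IsAffineOpen U) (a : A.presheaf.obj (op U)),
      (ψ.hom.app (op U)).hom a = (ψ'.hom.app (op U)).hom a) : ψ = ψ' := by
  apply RelSpec.QCAlg.hom_ext
  apply (equivHom A.presheaf B).injective
  ext U a
  exact h U.unop.1 U.unop.2 a

theorem isIso_of_bijective {A B : RelSpec.QCAlg S} (ψ : A ⟶ B)
    (h : ∀ (U : S.Opens), IsAffineOpen U → Function.Bijective (ψ.hom.app (op U)).hom) :
    IsIso ψ := by
  let e : ∀ U : S.AffineZariskiSite, A.presheaf.obj (op U.1) ≃+* B.presheaf.obj (op U.1) :=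
    fun U => RingEquiv.ofBijective (ψ.hom.app (op U.1)).hom (h U.1 U.2)
  have he : ∀ (U : S.AffineZariskiSite) (a : A.presheaf.obj (op U.1)),
      e U a = (ψ.hom.app (op U.1)).hom a := fun U a => rfl
  let Ψ : resAff B ⟶ resAff A :=
    { app := fun U => CommRingCat.ofHom (e U.unop).symm.toRingHom
      naturality := fun U V i => by
        ext b
        change (e V.unop).symm ((B.presheaf.map ((Scheme.AffineZariskiSite.toOpensFunctor S).op.map i)).hom b) =
          (A.presheaf.map ((Scheme.AffineZariskiSite.toOpensFunctor S).op.map i)).hom ((e U.unop).symm b)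
        apply (e V.unop).injective
        rw [RingEquiv.apply_symm_apply, he]
        have hn := congrArg (fun χ => χ.hom ((e U.unop).symm b))
          (ψ.hom.naturality ((Scheme.AffineZariskiSite.toOpensFunctor S).op.map i))
        change (ψ.hom.app _).hom ((A.presheaf.map _).hom ((e U.unop).symm b)) =
          (B.presheaf.map _).hom ((ψ.hom.app _).hom ((e U.unop).symm b)) at hn
        refine Eq.trans ?_ hn.symm
        congr 1
        exact ((e U.unop).apply_symm_apply b).symm }
  have hΨapp : ∀ (U : S.AffineZariskiSite) (b : B.presheaf.obj (op U.1)),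
      (Ψ.app (op U)).hom b = (e U).symm b := fun U b => rfl
  have hstr : ∀ (U : S.AffineZariskiSite) (r : Γ(S, U.1)),
      (ψ.hom.app (op U.1)).hom ((A.str.app (op U.1)).hom r) = (B.str.app (op U.1)).hom r :=
    fun U r => congrArg (fun χ : S.presheaf ⟶ B.presheaf => (χ.app (op U.1)).hom r) ψ.comm
  obtain ⟨ψ', hψ'⟩ := exists_hom B A Ψ (fun U r => by
    rw [hΨapp]
    apply (e U).injective
    rw [RingEquiv.apply_symm_apply, he, hstr])
  refine ⟨ψ', ?_, ?_⟩
  · refine hom_ext_affine _ _ (fun U hU a => ?_)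
    change (ψ'.hom.app (op U)).hom ((ψ.hom.app (op U)).hom a) = a
    rw [hψ' U hU, hΨapp]
    exact (e ⟨U, hU⟩).symm_apply_apply a
  · refine hom_ext_affine _ _ (fun U hU b => ?_)
    change (ψ.hom.app (op U)).hom ((ψ'.hom.app (op U)).hom b) = b
    rw [hψ' U hU, hΨapp]
    exact (e ⟨U, hU⟩).apply_symm_apply b

end Groth.Agent.H22.QCAlgHom
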