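import Mathlib
import Groth.Prelude.Def_RelSpec
import Groth.Agent.H22.AffGlue
import Groth.Agent.H22.QCAlgHom

/-!
# Filtered colimits of quasi-coherent algebras are computed on affine opens (helper22)

`Φ : QCAlg S ⥤ Under F₀` (restriction to the affine opens, `F₀` the restricted structure sheaf) is
fully faithful, with essential image the coequifibered objects (`AffGlue.exists_qcAlg`).  Since the
coequifibered objects are closed under colimits, `Φ` preserves the colimits that exist; for
connected (e.g. filtered) shapes these are computed sectionwise.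
-/

set_option autoImplicit false
set_option linter.style.haveILetI false
universe u
open CategoryTheory CategoryTheory.Limits AlgebraicGeometry TopologicalSpace Opposite

noncomputable section

namespace Groth.Agent.H22.QCAlgColim

variable {S : Scheme.{u}}

/-- The structure sheaf restricted to the affine opens. -/
abbrev F₀ (S : Scheme.{u}) : S.AffineZariskiSiteᵒᵖ ⥤ CommRingCat.{u} :=
  (Scheme.AffineZariskiSite.toOpensFunctor S).op ⋙ S.presheaf

/-- Restriction to the affine opens, as an object under the restricted structure sheaf. -/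
def Φ : RelSpec.QCAlg S ⥤ Under (F₀ S) where
  obj B := Under.mk ((Scheme.AffineZariskiSite.toOpensFunctor S).op.whiskerLeft B.str)
  map {A B} ψ := Under.homMk ((Scheme.AffineZariskiSite.toOpensFunctor S).op.whiskerLeft ψ.hom) (by
    ext U r
    exact congrArg (fun χ : S.presheaf ⟶ B.presheaf => (χ.app (op U.unop.1)).hom r) ψ.comm)
  map_id A := by ext; rfl
  map_comp f g := by ext; rfl

instance : (Φ (S := S)).Faithful where
  map_injective {A B} ψ ψ' h := by
    apply QCAlgHom.hom_ext_affine
    intro U hU a
    have := congrArg (fun χ : (Φ (S := S)).obj A ⟶ (Φ (S := S)).obj B =>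
      (χ.right.app (op ⟨U, hU⟩)).hom a) h
    exact this

instance : (Φ (S := S)).Full where
  map_surjective {A B} f := by
    obtain ⟨ψ, hψ⟩ := QCAlgHom.exists_hom A B f.right (fun U r => by
      have := congrArg (fun χ : F₀ S ⟶ QCAlgHom.resAff B => (χ.app (op U)).hom r) (Under.w f)
      exact this)
    refine ⟨ψ, ?_⟩
    ext U a
    exact hψ U.unop.1 U.unop.2 a

variable {J : Type u} [SmallCategory J]

/-- `Φ` preserves connected colimits. -/
def isColimitMapCocone [IsConnected J] (A : J ⥤ RelSpec.QCAlg S) (c : Cocone A)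
    (hc : IsColimit c) : IsColimit ((Φ (S := S)).mapCocone c) := by
  have hD : (colimit (A ⋙ Φ)).hom.Coequifibered :=
    ObjectProperty.prop_colimit (fun f : Under (F₀ S) ↦ f.hom.Coequifibered) (A ⋙ Φ)
      (fun j => (A.obj j).coequifibered)
  let e : (Φ (S := S)).obj (AffGlue.qcAlg hD) ≅ colimit (A ⋙ Φ) :=
    Under.isoMk (AffGlue.gammaIso hD) (AffGlue.str_gammaIso hD)
  haveI : CreatesColimit A (Φ (S := S)) := createsColimitOfFullyFaithfulOfIso (AffGlue.qcAlg hD) e
  exact isColimitOfPreserves Φ hc

/-- Sections of a connected colimit of quasi-coherent algebras over an affine open. -/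
def isColimitSections [IsConnected J] (A : J ⥤ RelSpec.QCAlg S) (c : Cocone A)
    (hc : IsColimit c) (U : S.Opens) (hU : IsAffineOpen U) :
    IsColimit ((Under.forget (F₀ S) ⋙ (evaluation _ _).obj (op ⟨U, hU⟩)).mapCocone
      ((Φ (S := S)).mapCocone c)) :=
  isColimitOfPreserves _ (isColimitMapCocone A c hc)

section Spec

variable [IsFiltered J] (A : J ⥤ RelSpec.QCAlg S) (c : Cocone A) (hc : IsColimit c)
  (U : S.Opens) (hU : IsAffineOpen U)

/-- `Spec` of the sections of a filtered colimit over an affine open is the limit of the `Spec`s. -/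
def isLimitSpec :
    IsLimit (Scheme.Spec.mapCone
      ((Under.forget (F₀ S) ⋙ (evaluation _ _).obj (op ⟨U, hU⟩)).mapCocone
        ((Φ (S := S)).mapCocone c)).op) :=
  haveI := IsFiltered.isConnected J
  isLimitOfPreserves Scheme.Spec (isColimitSections A c hc U hU).op

include hc hU in
theorem spec_hom_ext {X : Scheme.{u}} (a b : X ⟶ Spec (c.pt.presheaf.obj (op U)))
    (h : ∀ j, a ≫ Spec.map ((c.ι.app j).hom.app (op U)) =
      b ≫ Spec.map ((c.ι.app j).hom.app (op U))) : a = b :=
  (isLimitSpec A c hc U hU).hom_ext (fun j => h j.unop)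

include hc hU in
theorem spec_exists_lift {X : Scheme.{u}}
    (a : ∀ j, X ⟶ Spec ((A.obj j).presheaf.obj (op U)))
    (ha : ∀ (j j' : J) (φ : j ⟶ j'), a j' ≫ Spec.map ((A.map φ).hom.app (op U)) = a j) :
    ∃ w : X ⟶ Spec (c.pt.presheaf.obj (op U)),
      ∀ j, w ≫ Spec.map ((c.ι.app j).hom.app (op U)) = a j := by
  let s : Cone (((A ⋙ Φ) ⋙ Under.forget (F₀ S) ⋙ (evaluation _ _).obj (op ⟨U, hU⟩)).op ⋙
      Scheme.Spec) :=
    { pt := X
      π :=
        { app := fun j => a j.unop
          naturality := fun j j' φ => by
            have := ha j'.unop j.unop φ.unop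
            simp only [Functor.const_obj_obj, Functor.const_obj_map, Category.id_comp]
            exact this.symm } }
  exact ⟨(isLimitSpec A c hc U hU).lift s, fun j => (isLimitSpec A c hc U hU).fac s (op j)⟩

end Spec

end Groth.Agent.H22.QCAlgColim
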