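import Mathlib
import Groth.Agent.H22.QCAlgGen
import Groth.Agent.H22.FTExtZorn

/-!
# The subalgebra of a quasi-coherent algebra generated by a quasi-coherent submodule (helper22)

For a quasi-coherent algebra `B` on a scheme `X` and a quasi-coherent subsheaf `K` of finite type of
the underlying module, `subAlg B K` is the quasi-coherent subalgebra generated by `K`; it is of
finite type (`exists_subalgebra`).
-/

set_option autoImplicit false
set_option linter.style.haveILetI false
set_option linter.unusedSectionVars false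
universe u
open CategoryTheory CategoryTheory.Limits AlgebraicGeometry TopologicalSpace Opposite

namespace Groth.Agent.H22

open Groth.Agent.H8 Groth.Agent.H22.QCohLimits

section SubAlg

variable {X : Scheme.{u}} (B : RelSpec.QCAlg X) (K : SubSh B.toModule)

lemma B_res_res {A₁ A₂ A₃ : X.Opens} (h₁ : A₁ ≤ A₂) (h₂ : A₂ ≤ A₃)
    (x : B.presheaf.obj (op A₃)) :
    (B.presheaf.map (homOfLE h₁).op).hom ((B.presheaf.map (homOfLE h₂).op).hom x) =
      (B.presheaf.map (homOfLE (h₁.trans h₂)).op).hom x :=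
  (congrArg (fun ψ => ψ.hom x) (B.presheaf.map_comp (homOfLE h₂).op (homOfLE h₁).op)).symm

lemma B_res_self {A : X.Opens} (h : A ≤ A) (x : B.presheaf.obj (op A)) :
    (B.presheaf.map (homOfLE h).op).hom x = x := by
  have h1 : (homOfLE h).op = 𝟙 (op A) := rfl
  rw [h1, B.presheaf.map_id]
  rfl

/-- Membership in the generated subring is local on an affine open. -/
theorem mem_genRing_of_locally (hK : K.QC) {U : X.Opens} (hU : IsAffineOpen U)
    (b : B.presheaf.obj (op U))
    (h : ∀ p ∈ U, ∃ f : Γ(X, U), p ∈ X.basicOpen f ∧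
      (B.presheaf.map (homOfLE (X.basicOpen_le f)).op).hom b ∈ genRing B K (X.basicOpen f)) :
    b ∈ genRing B K U := by
  let I : Ideal Γ(X, U) :=
    { carrier := {r | (B.str.app (op U)).hom r * b ∈ genRing B K U}
      add_mem' := fun {r s} hr hs => by
        show (B.str.app (op U)).hom (r + s) * b ∈ genRing B K U
        rw [map_add, add_mul]
        exact Subring.add_mem _ hr hs
      zero_mem' := by
        show (B.str.app (op U)).hom 0 * b ∈ genRing B K U
        rw [map_zero, zero_mul]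
        exact Subring.zero_mem _
      smul_mem' := fun c r hr => by
        show (B.str.app (op U)).hom (c • r) * b ∈ genRing B K U
        rw [smul_eq_mul, map_mul, mul_assoc]
        exact Subring.mul_mem _ (str_mem_genRing B K U c) hr }
  have hI : ∀ p ∈ U, ∃ f ∈ I, p ∈ X.basicOpen f := by
    intro p hp
    obtain ⟨f, hpf, hb⟩ := h p hp
    obtain ⟨n, c', hc', e⟩ := exists_pow_mul_mem B K hU hK f _ hb
    letI := (B.presheaf.map (homOfLE (X.basicOpen_le f)).op).hom.toAlgebra
    haveI hloc : IsLocalization.Away ((B.str.app (op U)).hom f)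
        (B.presheaf.obj (op (X.basicOpen f))) := B.isQC U hU f
    have h0 : algebraMap (B.presheaf.obj (op U)) (B.presheaf.obj (op (X.basicOpen f)))
        (((B.str.app (op U)).hom f) ^ n * b) =
        algebraMap (B.presheaf.obj (op U)) (B.presheaf.obj (op (X.basicOpen f))) c' := by
      show (B.presheaf.map (homOfLE (X.basicOpen_le f)).op).hom
        (((B.str.app (op U)).hom f) ^ n * b) =
        (B.presheaf.map (homOfLE (X.basicOpen_le f)).op).hom c'
      rw [map_mul, map_pow]
      exact e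
    obtain ⟨m, hm⟩ := IsLocalization.Away.exists_of_eq ((B.str.app (op U)).hom f) h0
    refine ⟨f ^ (m + n + 1), ?_, ?_⟩
    · show (B.str.app (op U)).hom (f ^ (m + n + 1)) * b ∈ genRing B K U
      have h4 : (B.str.app (op U)).hom (f ^ (m + n + 1)) * b =
          (B.str.app (op U)).hom f *
            (((B.str.app (op U)).hom f) ^ m * (((B.str.app (op U)).hom f) ^ n * b)) := by
        rw [map_pow]
        ring
      rw [h4, hm]
      exact Subring.mul_mem _ (str_mem_genRing B K U f)
        (Subring.mul_mem _ (Subring.pow_mem _ (str_mem_genRing B K U f) m) hc')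
    · rw [X.basicOpen_pow f (Nat.succ_pos _)]
      exact hpf
  have hspan : Ideal.span (I : Set Γ(X, U)) = ⊤ :=
    (hU.self_le_iSup_basicOpen_iff (s := (I : Set Γ(X, U)))).mp (fun p hp => by
      obtain ⟨f, hfI, hpf⟩ := hI p hp
      exact Opens.mem_iSup.mpr ⟨⟨f, hfI⟩, hpf⟩)
  rw [Ideal.span_eq] at hspan
  have h1 : (1 : Γ(X, U)) ∈ I := by
    rw [hspan]
    trivial
  have h1' : (B.str.app (op U)).hom 1 * b ∈ genRing B K U := h1
  rw [map_one, one_mul] at h1'
  exact h1'

/-- The sections which are locally in the generated subring. -/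
noncomputable def locRing (A : X.Opens) : Subring (B.presheaf.obj (op A)) where
  carrier := {x | ∀ p ∈ A, ∃ (A' : X.Opens) (h : A' ≤ A), p ∈ A' ∧
    (B.presheaf.map (homOfLE h).op).hom x ∈ genRing B K A'}
  mul_mem' := fun {x y} hx hy p hp => by
    obtain ⟨A₁, h₁, hp₁, hx₁⟩ := hx p hp
    obtain ⟨A₂, h₂, hp₂, hy₂⟩ := hy p hp
    refine ⟨A₁ ⊓ A₂, inf_le_left.trans h₁, ⟨hp₁, hp₂⟩, ?_⟩
    rw [map_mul]
    refine Subring.mul_mem _ ?_ ?_
    · have h3 := res_mem_genRing B K (inf_le_left : A₁ ⊓ A₂ ≤ A₁) _ hx₁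
      rw [B_res_res] at h3
      exact h3
    · have h3 := res_mem_genRing B K (inf_le_right : A₁ ⊓ A₂ ≤ A₂) _ hy₂
      rw [B_res_res] at h3
      exact h3
  one_mem' := fun p hp => ⟨A, le_rfl, hp, by rw [map_one]; exact Subring.one_mem _⟩
  add_mem' := fun {x y} hx hy p hp => by
    obtain ⟨A₁, h₁, hp₁, hx₁⟩ := hx p hp
    obtain ⟨A₂, h₂, hp₂, hy₂⟩ := hy p hp
    refine ⟨A₁ ⊓ A₂, inf_le_left.trans h₁, ⟨hp₁, hp₂⟩, ?_⟩
    rw [map_add]
    refine Subring.add_mem _ ?_ ?_
    · have h3 := res_mem_genRing B K (inf_le_left : A₁ ⊓ A₂ ≤ A₁) _ hx₁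
      rw [B_res_res] at h3
      exact h3
    · have h3 := res_mem_genRing B K (inf_le_right : A₁ ⊓ A₂ ≤ A₂) _ hy₂
      rw [B_res_res] at h3
      exact h3
  zero_mem' := fun p hp => ⟨A, le_rfl, hp, by rw [map_zero]; exact Subring.zero_mem _⟩
  neg_mem' := fun {x} hx p hp => by
    obtain ⟨A₁, h₁, hp₁, hx₁⟩ := hx p hp
    exact ⟨A₁, h₁, hp₁, by rw [map_neg]; exact Subring.neg_mem _ hx₁⟩

lemma mem_locRing_iff {A : X.Opens} {x : B.presheaf.obj (op A)} :
    x ∈ locRing B K A ↔ ∀ p ∈ A, ∃ (A' : X.Opens) (h : A' ≤ A), p ∈ A' ∧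
      (B.presheaf.map (homOfLE h).op).hom x ∈ genRing B K A' := Iff.rfl

lemma genRing_le_locRing (A : X.Opens) : genRing B K A ≤ locRing B K A := by
  intro x hx p hp
  exact ⟨A, le_rfl, hp, by rw [B_res_self]; exact hx⟩

lemma res_mem_locRing {A A' : X.Opens} (h : A' ≤ A) (x : B.presheaf.obj (op A))
    (hx : x ∈ locRing B K A) : (B.presheaf.map (homOfLE h).op).hom x ∈ locRing B K A' := by
  intro p hp
  obtain ⟨A₁, h₁, hp₁, hx₁⟩ := hx p (h hp)
  refine ⟨A₁ ⊓ A', inf_le_right, ⟨hp₁, hp⟩, ?_⟩
  rw [B_res_res]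
  have h3 := res_mem_genRing B K (inf_le_left : A₁ ⊓ A' ≤ A₁) _ hx₁
  rw [B_res_res] at h3
  exact h3

lemma map_mem_locRing {A A' : X.Opens} (f : op A ⟶ op A') (x : B.presheaf.obj (op A))
    (hx : x ∈ locRing B K A) : (B.presheaf.map f).hom x ∈ locRing B K A' := by
  have h : A' ≤ A := leOfHom f.unop
  have e : f = (homOfLE h).op := Subsingleton.elim _ _
  rw [e]
  exact res_mem_locRing B K h x hx

lemma locRing_local {A : X.Opens} (x : B.presheaf.obj (op A))
    (hx : ∀ p ∈ A, ∃ (A' : X.Opens) (h : A' ≤ A), p ∈ A' ∧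
      (B.presheaf.map (homOfLE h).op).hom x ∈ locRing B K A') : x ∈ locRing B K A := by
  intro p hp
  obtain ⟨A₁, h₁, hp₁, hx₁⟩ := hx p hp
  obtain ⟨A₂, h₂, hp₂, hx₂⟩ := hx₁ p hp₁
  refine ⟨A₂, h₂.trans h₁, hp₂, ?_⟩
  rw [B_res_res] at hx₂
  exact hx₂

lemma locRing_eq_genRing (hK : K.QC) {U : X.Opens} (hU : IsAffineOpen U) :
    locRing B K U = genRing B K U := by
  apply le_antisymm
  · intro x hx
    refine mem_genRing_of_locally B K hK hU x (fun p hp => ?_)
    obtain ⟨A₁, h₁, hp₁, hx₁⟩ := hx p hp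
    obtain ⟨f, hf, hpf⟩ := hU.exists_basicOpen_le ⟨p, hp₁⟩ hp
    refine ⟨f, hpf, ?_⟩
    have h3 := res_mem_genRing B K hf _ hx₁
    rw [B_res_res] at h3
    exact h3
  · exact genRing_le_locRing B K U

/-- The presheaf of rings of the generated subalgebra. -/
noncomputable def subPresheaf : TopCat.Presheaf CommRingCat.{u} X.carrier where
  obj U := CommRingCat.of (locRing B K U.unop)
  map {U V} f := CommRingCat.ofHom
    (((B.presheaf.map f).hom.comp (locRing B K U.unop).subtype).codRestrict (locRing B K V.unop)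
      (fun x => map_mem_locRing B K f x.1 x.2))
  map_id U := by
    ext x
    show (B.presheaf.map (𝟙 U)).hom x.1 = x.1
    rw [B.presheaf.map_id]
    rfl
  map_comp f g := by
    ext x
    show (B.presheaf.map (f ≫ g)).hom x.1 = (B.presheaf.map g).hom ((B.presheaf.map f).hom x.1)
    rw [B.presheaf.map_comp]
    rfl

/-- Sections of the subalgebra presheaf as elements of the subring. -/
def toL {V : X.Opens} (y : ToType ((subPresheaf B K).obj (op V))) : ↥(locRing B K V) := y

/-- Elements of the subring as sections of the subalgebra presheaf. -/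
def ofL {V : X.Opens} (y : ↥(locRing B K V)) : ToType ((subPresheaf B K).obj (op V)) := y

lemma subPresheaf_isSheaf : (subPresheaf B K).IsSheaf := by
  rw [TopCat.Presheaf.isSheaf_iff_isSheafUniqueGluing]
  intro ι U sf hsf
  let sf' : ∀ i, ToType (B.presheaf.obj (op (U i))) := fun i => (toL B K (sf i)).1
  have hcompat : TopCat.Presheaf.IsCompatible B.presheaf U sf' := by
    intro i j
    exact congrArg (fun z => (toL B K z).1) (hsf i j)
  let Bsh : TopCat.Sheaf CommRingCat X.toTopCat := ⟨B.presheaf, B.isSheaf⟩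
  obtain ⟨s, hs, huniq⟩ := TopCat.Sheaf.existsUnique_gluing Bsh U sf' hcompat
  have hmem : s ∈ locRing B K (iSup U) := by
    apply locRing_local
    intro p hp
    obtain ⟨i, hi⟩ := Opens.mem_iSup.mp hp
    refine ⟨U i, le_iSup U i, hi, ?_⟩
    have h1 : (B.presheaf.map (homOfLE (le_iSup U i)).op).hom s = sf' i := hs i
    rw [h1]
    exact (toL B K (sf i)).2
  refine ⟨ofL B K ⟨s, hmem⟩, ?_, ?_⟩
  · intro i
    exact Subtype.ext (hs i)
  · intro t ht
    have h2 : (toL B K t).1 = s := by
      apply huniq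
      intro i
      exact congrArg (fun z => (toL B K z).1) (ht i)
    exact Subtype.ext h2

/-- The structure map of the generated subalgebra. -/
noncomputable def subStr : X.presheaf ⟶ subPresheaf B K where
  app U := CommRingCat.ofHom ((B.str.app U).hom.codRestrict (locRing B K U.unop)
    (fun r => genRing_le_locRing B K _ (str_mem_genRing B K U.unop r)))
  naturality U V f := by
    ext r
    apply Subtype.ext
    exact congrArg (fun ψ => ψ.hom r) (B.str.naturality f)

/-- The inclusion of the generated subalgebra. -/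
noncomputable def subIncl : subPresheaf B K ⟶ B.presheaf where
  app U := CommRingCat.ofHom (locRing B K U.unop).subtype
  naturality U V f := by
    ext x
    rfl

lemma subStr_val (A : X.Opens) (r : Γ(X, A)) :
    (((subStr B K).app (op A)).hom r : ↥(locRing B K A)).1 = (B.str.app (op A)).hom r := rfl

lemma subMap_val {A A' : X.Opens} (h : A' ≤ A) (x : ↥(locRing B K A)) :
    ((((subPresheaf B K).map (homOfLE h).op).hom x : ↥(locRing B K A'))).1 =
      (B.presheaf.map (homOfLE h).op).hom x.1 := rfl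

lemma subPresheaf_isQC (hK : K.QC) : RelSpec.IsQC (subPresheaf B K) (subStr B K) := by
  intro U hU r
  letI algB := (B.presheaf.map (homOfLE (X.basicOpen_le r)).op).hom.toAlgebra
  haveI hloc : IsLocalization.Away ((B.str.app (op U)).hom r)
      (B.presheaf.obj (op (X.basicOpen r))) := B.isQC U hU r
  letI algS : Algebra ((subPresheaf B K).obj (op U)) ((subPresheaf B K).obj (op (X.basicOpen r))) :=
    ((subPresheaf B K).map (homOfLE (X.basicOpen_le r)).op).hom.toAlgebra
  show IsLocalization.Away (((subStr B K).app (op U)).hom r)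
    ((subPresheaf B K).obj (op (X.basicOpen r)))
  have hD : IsAffineOpen (X.basicOpen r) := hU.basicOpen r
  refine IsLocalization.Away.mk _ ?_ ?_ ?_
  · have hunit : IsUnit (X.presheaf.map (homOfLE (X.basicOpen_le r)).op r) :=
      X.toRingedSpace.isUnit_res_basicOpen r
    have h1 := hunit.map ((subStr B K).app (op (X.basicOpen r))).hom
    have h2 : algebraMap ((subPresheaf B K).obj (op U))
        ((subPresheaf B K).obj (op (X.basicOpen r))) (((subStr B K).app (op U)).hom r) =
        ((subStr B K).app (op (X.basicOpen r))).hom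
          (X.presheaf.map (homOfLE (X.basicOpen_le r)).op r) := by
      apply Subtype.ext
      exact (str_res B (X.basicOpen_le r) r).symm
    rw [h2]
    exact h1
  · intro s
    have hs : (toL B K s).1 ∈ genRing B K (X.basicOpen r) := by
      rw [← locRing_eq_genRing B K hK hD]
      exact (toL B K s).2
    obtain ⟨n, c', hc', e⟩ := exists_pow_mul_mem B K hU hK r _ hs
    refine ⟨n, ofL B K ⟨c', genRing_le_locRing B K U hc'⟩, ?_⟩
    apply Subtype.ext
    show (toL B K s).1 * ((B.presheaf.map (homOfLE (X.basicOpen_le r)).op).hom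
      ((B.str.app (op U)).hom r)) ^ n = (B.presheaf.map (homOfLE (X.basicOpen_le r)).op).hom c'
    rw [mul_comm]
    exact e
  · intro a b hab
    have h1 : (B.presheaf.map (homOfLE (X.basicOpen_le r)).op).hom (toL B K a).1 =
        (B.presheaf.map (homOfLE (X.basicOpen_le r)).op).hom (toL B K b).1 :=
      congrArg Subtype.val hab
    obtain ⟨n, hn⟩ := IsLocalization.Away.exists_of_eq ((B.str.app (op U)).hom r)
      (show algebraMap (B.presheaf.obj (op U)) (B.presheaf.obj (op (X.basicOpen r)))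
        (toL B K a).1 = algebraMap (B.presheaf.obj (op U)) (B.presheaf.obj (op (X.basicOpen r)))
        (toL B K b).1 from h1)
    refine ⟨n, ?_⟩
    apply Subtype.ext
    exact hn

/-- The generated subalgebra as a quasi-coherent algebra. -/
noncomputable def subAlg (hK : K.QC) : RelSpec.QCAlg X where
  presheaf := subPresheaf B K
  isSheaf := subPresheaf_isSheaf B K
  str := subStr B K
  isQC := subPresheaf_isQC B K hK

/-- The inclusion of the generated subalgebra, as a morphism of quasi-coherent algebras. -/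
noncomputable def subAlgHom (hK : K.QC) : subAlg B K hK ⟶ B :=
  ⟨subIncl B K, by
    ext U r
    rfl⟩

/-- The generated subalgebra is of finite type when `K` is. -/
lemma subAlg_finiteType (hK : K.QC) (hft : K.FTOn ⊤) (V : X.affineOpens) :
    ((subStr B K).app (op (V : X.Opens))).hom.FiniteType := by
  letI alg : Algebra Γ(X, V.1) ((subPresheaf B K).obj (op V.1)) :=
    ((subStr B K).app (op V.1)).hom.toAlgebra
  show Algebra.FiniteType Γ(X, V.1) ((subPresheaf B K).obj (op V.1))
  obtain ⟨n, e, he⟩ := Submodule.fg_iff_exists_fin_generating_family.mp (hft V.1 V.2 le_top)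
  have heK : ∀ j, K.mem V.1 (e j) := fun j => by
    have h1 : e j ∈ K.sub V.1 := by
      rw [← he]
      exact Submodule.subset_span ⟨j, rfl⟩
    exact h1
  let gen : Fin n → ((subPresheaf B K).obj (op V.1)) := fun j =>
    ofL B K ⟨toB B V.1 (e j), genRing_le_locRing B K V.1
      (mem_genRing_of_mem B K V.1 _ (heK j))⟩
  refine ⟨(Subalgebra.fg_def).mpr ⟨Set.range gen, Set.finite_range gen, ?_⟩⟩
  rw [eq_top_iff]
  -- every element of the span of `e` is in the adjoin
  have hspan : ∀ m : Γ(B.toModule, V.1), m ∈ Submodule.span Γ(X, V.1) (Set.range e) →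
      ∃ z ∈ Algebra.adjoin Γ(X, V.1) (Set.range gen), (toL B K z).1 = toB B V.1 m := by
    intro m hm
    induction hm using Submodule.span_induction with
    | mem y hy =>
      obtain ⟨j, rfl⟩ := hy
      exact ⟨gen j, Algebra.subset_adjoin ⟨j, rfl⟩, rfl⟩
    | zero => exact ⟨0, Subalgebra.zero_mem _, rfl⟩
    | add y z _ _ hy hz =>
      obtain ⟨y', hy', ey⟩ := hy
      obtain ⟨z', hz', ez⟩ := hz
      refine ⟨y' + z', Subalgebra.add_mem _ hy' hz', ?_⟩
      show (toL B K y').1 + (toL B K z').1 = toB B V.1 y + toB B V.1 z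
      rw [ey, ez]
    | smul c y _ hy =>
      obtain ⟨y', hy', ey⟩ := hy
      refine ⟨algebraMap Γ(X, V.1) ((subPresheaf B K).obj (op V.1)) c * y',
        Subalgebra.mul_mem _ (Subalgebra.algebraMap_mem _ c) hy', ?_⟩
      show (B.str.app (op V.1)).hom c * (toL B K y').1 = toB B V.1 (c • y)
      rw [ey, toB_smul]
  have hgen : ∀ x₀ : B.presheaf.obj (op V.1), x₀ ∈ genRing B K V.1 →
      ∃ z ∈ Algebra.adjoin Γ(X, V.1) (Set.range gen), (toL B K z).1 = x₀ := by
    intro x₀ hx₀
    induction hx₀ using Subring.closure_induction with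
    | mem x hx =>
      rcases hx with ⟨c, rfl⟩ | hx
      · exact ⟨algebraMap Γ(X, V.1) ((subPresheaf B K).obj (op V.1)) c,
          Subalgebra.algebraMap_mem _ c, rfl⟩
      · have h1 : ofB B V.1 x ∈ Submodule.span Γ(X, V.1) (Set.range e) := by
          rw [he]
          exact hx
        obtain ⟨z, hz, ez⟩ := hspan _ h1
        exact ⟨z, hz, ez⟩
    | zero => exact ⟨0, Subalgebra.zero_mem _, rfl⟩
    | one => exact ⟨1, Subalgebra.one_mem _, rfl⟩
    | add x y _ _ hx hy =>
      obtain ⟨x', hx', ex⟩ := hx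
      obtain ⟨y', hy', ey⟩ := hy
      refine ⟨x' + y', Subalgebra.add_mem _ hx' hy', ?_⟩
      show (toL B K x').1 + (toL B K y').1 = x + y
      rw [ex, ey]
    | neg x _ hx =>
      obtain ⟨x', hx', ex⟩ := hx
      refine ⟨-x', Subalgebra.neg_mem _ hx', ?_⟩
      show -(toL B K x').1 = -x
      rw [ex]
    | mul x y _ _ hx hy =>
      obtain ⟨x', hx', ex⟩ := hx
      obtain ⟨y', hy', ey⟩ := hy
      refine ⟨x' * y', Subalgebra.mul_mem _ hx' hy', ?_⟩
      show (toL B K x').1 * (toL B K y').1 = x * y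
      rw [ex, ey]
  intro x _
  have hx : (toL B K x).1 ∈ genRing B K V.1 := by
    rw [← locRing_eq_genRing B K hK V.2]
    exact (toL B K x).2
  obtain ⟨z, hz, ez⟩ := hgen _ hx
  have hxz : x = z := Subtype.ext ez.symm
  rw [hxz]
  exact hz

/-- **The subalgebra generated by a quasi-coherent subsheaf of finite type.** -/
theorem exists_subalgebra (hK : K.QC) (hft : K.FTOn ⊤) :
    ∃ (B' : RelSpec.QCAlg X) (φ : B' ⟶ B),
      (∀ V : X.Opens, Function.Injective (φ.hom.app (op V)).hom) ∧
      (∀ V : X.affineOpens, (B'.str.app (op (V : X.Opens))).hom.FiniteType) ∧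
      ∀ (U : X.Opens) (b : B.presheaf.obj (op U)), K.mem U (ofB B U b) →
        b ∈ Set.range (φ.hom.app (op U)).hom := by
  refine ⟨subAlg B K hK, subAlgHom B K hK, ?_, ?_, ?_⟩
  · intro V x y hxy
    exact Subtype.ext hxy
  · intro V
    exact subAlg_finiteType B K hK hft V
  · intro U b hb
    exact ⟨ofL B K ⟨b, genRing_le_locRing B K U (mem_genRing_of_mem B K U b hb)⟩, rfl⟩

end SubAlg

/-- A quasi-coherent subsheaf of finite type through a section over an affine open, on a scheme with
locally Noetherian underlying space. -/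
theorem SubSh.exists_ft_through_of_locallyNoetherian {X : Scheme.{u}} {F : X.Modules}
    [F.IsQuasicoherent]
    (hX : ∀ x : X, ∃ U : X.Opens, x ∈ U ∧ TopologicalSpace.NoetherianSpace (U : Set X))
    (U : X.affineOpens) (s' : Γ(F, U.1)) :
    ∃ K : SubSh F, K.QC ∧ K.FTOn ⊤ ∧ K.mem U.1 s' := by
  have hN := isCompact_inf_of_locallyNoetherian hX
  have hbot : IsCompact (((⊥ : X.Opens) ⊓ U.1 : X.Opens) : Set X) := by
    have h1 : (((⊥ : X.Opens) ⊓ U.1 : X.Opens) : Set X) = ∅ := by simp
    rw [h1]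
    exact isCompact_empty
  obtain ⟨K₁, hK₁, -, -, hfg₁, hs₁⟩ := (SubSh.top F).exists_shrink SubSh.QC_top ⊥
    (SubSh.ftOn_bot _) U.1 U.2
    hbot (fun A hA => hN A hA U.1) (fun _ : PUnit.{u + 1} => s') (fun _ => trivial)
  have hft₁ : K₁.FTOn U.1 := K₁.ftOn_of_fg hK₁ U.2 hfg₁
  have hsatle : ∀ A : X.Opens, A ≤ U.1 → ∀ x : Γ(F, A),
      (SubSh.sat U.1 K₁).mem A x ↔ K₁.mem A x := fun A hA x => SubSh.mem_sat_iff_of_le hA K₁ x
  obtain ⟨K', hK', hft', hagree⟩ :=
    SubSh.exists_ft_extension hN (SubSh.sat U.1 K₁) U.1 (SubSh.sat_isSat U.1 K₁)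
      (SubSh.sat_QC U.1 K₁ hK₁ (fun A hA => hN A hA U.1))
      (SubSh.FTOn.congr (K := K₁) (K' := SubSh.sat U.1 K₁) hsatle hft₁)
  exact ⟨K', hK', hft', (hagree U.1 le_rfl s').mpr ((hsatle U.1 le_rfl s').mpr (hs₁ PUnit.unit))⟩

end Groth.Agent.H22
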