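import Mathlib

/-!
# (PT1) for S0170: a finite scheme over a field becomes "reduced-étale" after a finite extension

For a finite `K`-algebra `A`, let `L` be the splitting field of the product of the minimal
polynomials of a `K`-basis of `A`.  Every residue field of `L ⊗[K] A` is `L`, so the reduced
quotient of `L ⊗[K] A` is a finite product of copies of `L`, hence finite étale over `L`.
-/

set_option autoImplicit false
set_option linter.style.haveILetI false
universe u
open CategoryTheory CategoryTheory.Limits AlgebraicGeometry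
open Polynomial TensorProduct

namespace Groth.Agent.H22.QFStratPT1

section Alg

variable {K : Type u} [Field K] {A : Type u} [CommRing A] [Algebra K A]
variable {L : Type u} [Field L] [Algebra K L]

/-- If `b` spans `A` over `K` and every `minpoly K (b i)` splits in `L`, then every `L`-algebra
map from `L ⊗[K] A` to a field `F` over `L` has its image in (the image of) `L`. -/
lemma map_mem_range {ι : Type*} (b : ι → A) (hb : Submodule.span K (Set.range b) = ⊤)
    (hint : ∀ i, IsIntegral K (b i))
    (hsplit : ∀ i, ((minpoly K (b i)).map (algebraMap K L)).Splits)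
    {F : Type u} [Field F] [Algebra L F] (π : L ⊗[K] A →ₐ[L] F) (x : L ⊗[K] A) :
    π x ∈ (algebraMap L F).range := by
  letI : Algebra K F := ((algebraMap L F).comp (algebraMap K L)).toAlgebra
  haveI : IsScalarTower K L F := IsScalarTower.of_algebraMap_eq (fun _ => rfl)
  let ρ : A →ₐ[K] F := (π.restrictScalars K).comp Algebra.TensorProduct.includeRight
  have h1 : ∀ i, ρ (b i) ∈ (algebraMap L F).range := by
    intro i
    have hint' : IsIntegral K (ρ (b i)) := (hint i).map ρ
    refine hint'.mem_range_algebraMap_of_minpoly_splits ?_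
    have hdvd : minpoly K (ρ (b i)) ∣ minpoly K (b i) := by
      apply minpoly.dvd
      rw [Polynomial.aeval_algHom_apply, minpoly.aeval, map_zero]
    refine (hsplit i).of_dvd ?_ (Polynomial.map_dvd _ hdvd)
    exact (Polynomial.map_ne_zero (minpoly.ne_zero (hint i)))
  have h2 : ∀ a : A, ρ a ∈ (algebraMap L F).range := by
    intro a
    have ha : a ∈ Submodule.span K (Set.range b) := hb ▸ Submodule.mem_top
    induction ha using Submodule.span_induction with
    | mem x hx => obtain ⟨i, rfl⟩ := hx; exact h1 i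
    | zero => rw [map_zero]; exact zero_mem _
    | add x y _ _ hx hy => rw [map_add]; exact add_mem hx hy
    | smul c x _ hx =>
      rw [map_smul, Algebra.smul_def]
      exact mul_mem ⟨algebraMap K L c, (IsScalarTower.algebraMap_apply K L F c).symm⟩ hx
  induction x using TensorProduct.induction_on with
  | zero => rw [map_zero]; exact zero_mem _
  | tmul l a =>
    have h3 : l ⊗ₜ[K] a = l • ((1 : L) ⊗ₜ[K] a) := by
      rw [TensorProduct.smul_tmul', smul_eq_mul, mul_one]
    rw [h3, map_smul, Algebra.smul_def]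
    exact mul_mem ⟨l, rfl⟩ (h2 a)
  | add x y hx hy => rw [map_add]; exact add_mem hx hy

/-- Under the splitting hypothesis, the reduced quotient of `L ⊗[K] A` is étale over `L`. -/
lemma etale_quot_nilradical [Module.Finite K A] {ι : Type*} (b : ι → A)
    (hb : Submodule.span K (Set.range b) = ⊤) (hint : ∀ i, IsIntegral K (b i))
    (hsplit : ∀ i, ((minpoly K (b i)).map (algebraMap K L)).Splits) :
    Algebra.Etale L ((L ⊗[K] A) ⧸ nilradical (L ⊗[K] A)) := by
  haveI : Module.Finite L (L ⊗[K] A) := inferInstance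
  haveI : IsArtinianRing (L ⊗[K] A) := IsArtinianRing.of_finite L (L ⊗[K] A)
  let e := (IsArtinianRing.quotNilradicalEquivPi (L ⊗[K] A)).restrictScalars L
  have hF : ∀ I : MaximalSpectrum (L ⊗[K] A), Algebra.Etale L ((L ⊗[K] A) ⧸ I.asIdeal) := by
    intro I
    letI := Ideal.Quotient.field I.asIdeal
    have hsurj : Function.Surjective (algebraMap L ((L ⊗[K] A) ⧸ I.asIdeal)) := by
      intro y
      obtain ⟨x, rfl⟩ := Ideal.Quotient.mk_surjective y
      exact map_mem_range b hb hint hsplit (Ideal.Quotient.mkₐ L I.asIdeal) x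
    have hbij : Function.Bijective (algebraMap L ((L ⊗[K] A) ⧸ I.asIdeal)) :=
      ⟨(algebraMap L _).injective, hsurj⟩
    exact Algebra.Etale.of_equiv (AlgEquiv.ofBijective (Algebra.ofId L _) hbij)
  haveI := hF
  exact Algebra.Etale.of_equiv e.symm

/-- The affine (ring-level) version. -/
theorem exists_field_ext (K : Type u) [Field K] (A : Type u) [CommRing A] [Algebra K A]
    [Module.Finite K A] :
    ∃ (L : Type u) (_ : Field L) (_ : Algebra K L), Module.Finite K L ∧
      Algebra.Etale L ((L ⊗[K] A) ⧸ nilradical (L ⊗[K] A)) := by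
  let b := Module.finBasis K A
  let f : K[X] := ∏ i, minpoly K (b i)
  have hint : ∀ i, IsIntegral K (b i) := fun i => Algebra.IsIntegral.isIntegral _
  have hf0 : f ≠ 0 := Finset.prod_ne_zero_iff.mpr (fun i _ => minpoly.ne_zero (hint i))
  refine ⟨f.SplittingField, inferInstance, inferInstance, inferInstance, ?_⟩
  refine etale_quot_nilradical (fun i => b i) b.span_eq hint ?_
  intro i
  refine (Polynomial.SplittingField.splits f).of_dvd (Polynomial.map_ne_zero hf0)
    (Polynomial.map_dvd _ (Finset.dvd_prod_of_mem _ (Finset.mem_univ i)))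

end Alg

theorem exists_finite_ext_red_etale {K : Type u} [Field K] {V : Scheme.{u}}
    (p : V ⟶ Spec (CommRingCat.of K)) [IsFinite p] :
    ∃ (L : Type u) (_ : Field L) (φ : K →+* L), φ.Finite ∧ ∃ (Z : Scheme.{u})
      (c : Z ⟶ pullback (Spec.map (CommRingCat.ofHom φ)) p), IsClosedImmersion c ∧ Surjective c ∧
        IsFinite (c ≫ pullback.fst (Spec.map (CommRingCat.ofHom φ)) p) ∧
        Etale (c ≫ pullback.fst (Spec.map (CommRingCat.ofHom φ)) p) := by
  haveI : IsAffine V := isAffine_of_isAffineHom p
  let ψ : CommRingCat.of K ⟶ Γ(V, ⊤) := (Scheme.ΓSpecIso (.of K)).inv ≫ p.appTop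
  have hp : V.isoSpec.inv ≫ p = Spec.map ψ := by
    rw [Iso.inv_comp_eq]
    have h1 := Scheme.isoSpec_hom_naturality p
    rw [Scheme.isoSpec_Spec_hom] at h1
    have h2 : p = (V.isoSpec.hom ≫ Spec.map p.appTop) ≫ Spec.map (Scheme.ΓSpecIso (.of K)).inv := by
      rw [h1, Category.assoc, ← Spec.map_comp, Iso.inv_hom_id, Spec.map_id, Category.comp_id]
    rw [h2, Category.assoc, ← Spec.map_comp]
  let A : Type u := Γ(V, ⊤)
  letI : Algebra K A := ψ.hom.toAlgebra
  haveI : Module.Finite K A := by
    have h1 : IsFinite (Spec.map ψ) := by rw [← hp]; infer_instance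
    rw [IsFinite.SpecMap_iff] at h1
    exact h1
  obtain ⟨L, hL1, hL2, hL3, hL4⟩ := exists_field_ext K A
  refine ⟨L, hL1, algebraMap K L, RingHom.finite_algebraMap.mpr hL3, ?_⟩
  have hp' : Spec.map (CommRingCat.ofHom (algebraMap K A)) ≫ 𝟙 _ = V.isoSpec.inv ≫ p := by
    rw [Category.comp_id, hp]; rfl
  let m : pullback (Spec.map (CommRingCat.ofHom (algebraMap K L)))
        (Spec.map (CommRingCat.ofHom (algebraMap K A))) ⟶
      pullback (Spec.map (CommRingCat.ofHom (algebraMap K L))) p :=
    pullback.map _ _ _ _ (𝟙 _) V.isoSpec.inv (𝟙 _) (by simp) hp'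
  haveI : IsIso m := by dsimp only [m]; infer_instance
  let q : CommRingCat.of (L ⊗[K] A) ⟶ CommRingCat.of ((L ⊗[K] A) ⧸ nilradical (L ⊗[K] A)) :=
    CommRingCat.ofHom (Ideal.Quotient.mk (nilradical (L ⊗[K] A)))
  haveI hq1 : IsClosedImmersion (Spec.map q) :=
    IsClosedImmersion.spec_of_surjective _ Ideal.Quotient.mk_surjective
  have hq2 : Surjective (Spec.map q) := by
    constructor
    intro x
    obtain ⟨y, hy⟩ := (PrimeSpectrum.comap_quotientMk_bijective_of_le_nilradical
      (I := nilradical (L ⊗[K] A)) le_rfl).2 x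
    exact ⟨y, hy⟩
  let c := Spec.map q ≫ (pullbackSpecIso K L A).inv ≫ m
  have hc : c ≫ pullback.fst (Spec.map (CommRingCat.ofHom (algebraMap K L))) p =
      Spec.map (CommRingCat.ofHom
        (algebraMap L ((L ⊗[K] A) ⧸ nilradical (L ⊗[K] A)))) := by
    dsimp only [c, m]
    rw [Category.assoc, Category.assoc, pullback.lift_fst, Category.comp_id,
      pullbackSpecIso_inv_fst, ← Spec.map_comp]
    rfl
  refine ⟨Spec (.of ((L ⊗[K] A) ⧸ nilradical (L ⊗[K] A))), c, ?_, ?_, ?_, ?_⟩
  · dsimp only [c]; infer_instance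
  · dsimp only [c]; infer_instance
  · rw [hc, IsFinite.SpecMap_iff]
    exact RingHom.finite_algebraMap.mpr inferInstance
  · rw [hc, HasRingHomProperty.Spec_iff (P := @Etale)]
    exact RingHom.etale_algebraMap.mpr hL4

end Groth.Agent.H22.QFStratPT1
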