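import Mathlib
import Groth.Agent.H22.VeryAmpleIso
import Groth.Agent.H22.VeryAmpleConv
import Groth.Agent.H22.PullBC
import Groth.Agent.S4381
import Groth.Agent.S9705

/-!
# Quasi-projective versus H-quasi-projective morphisms (helper22)

* `isQuasiProjective_of_isHQuasiProjective`
* `isHQuasiProjective_of_isAffine`: over an affine base quasi-projective ⇒ H-quasi-projective.
* `isQuasiProjective_restrict`
* `isHQuasiProjective_of_arrow_iso`
-/

set_option autoImplicit false
set_option linter.style.haveILetI false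
universe u
open CategoryTheory CategoryTheory.Limits AlgebraicGeometry TopologicalSpace Opposite

namespace Groth.Agent.H22.QProjLocal

open Groth.Agent.S9705

theorem isQuasiProjective_of_isHQuasiProjective {X S : Scheme.{u}} (f : X ⟶ S)
    (h : RelProj.IsHQuasiProjective f) : RelProj.IsQuasiProjective f := by
  obtain ⟨n, i, himm, hqc, hfac⟩ := h
  have h1 : LocallyOfFiniteType f := by rw [← hfac]; infer_instance
  have h2 : QuasiCompact f := by rw [← hfac]; infer_instance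
  exact ⟨h1, h2, _, Groth.Agent.H22.VeryAmpleConv.isRelAmple_of_isRelVeryAmplePn f _
    ⟨n, i, himm, hfac, ⟨Iso.refl _⟩⟩⟩

theorem isHQuasiProjective_of_isAffine {X S : Scheme.{u}} [IsAffine S] (f : X ⟶ S)
    (h : RelProj.IsQuasiProjective f) : RelProj.IsHQuasiProjective f := by
  obtain ⟨h1, h2, L, hL⟩ := h
  have hA : CohB1.IsAmple L := (Groth.Agent.S4381.result f L).mp hL
  obtain ⟨d₀, -, hd⟩ :=
    Groth.Agent.H22.VeryAmpleIso.eventually_isRelVeryAmplePn_tensorPow f hA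
  obtain ⟨n, i, himm, hfac, -⟩ := hd d₀ le_rfl
  have hfac' : i ≫ CohB1.ProjSpaceOver.toBase n S = f := hfac
  haveI : QuasiCompact (i ≫ CohB1.ProjSpaceOver.toBase n S) := by rw [hfac']; infer_instance
  exact ⟨n, i, himm, QuasiCompact.of_comp i (CohB1.ProjSpaceOver.toBase n S), hfac'⟩

theorem isQuasiProjective_restrict {X S : Scheme.{u}} (f : X ⟶ S)
    (h : RelProj.IsQuasiProjective f) (U : S.Opens) : RelProj.IsQuasiProjective (f ∣_ U) := by
  obtain ⟨h1, h2, L, hL⟩ := h
  exact ⟨inferInstance, inferInstance, _,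
    Groth.Agent.H22.PullBC.isRelAmple_restrict_of_forall f L U (fun W hW _ => hL.2 ⟨W, hW⟩)⟩

theorem isHQuasiProjective_of_arrow_iso {X S X' S' : Scheme.{u}} (f : X ⟶ S) (f' : X' ⟶ S')
    (e : Arrow.mk f ≅ Arrow.mk f') (h : RelProj.IsHQuasiProjective f) :
    RelProj.IsHQuasiProjective f' := by
  obtain ⟨n, i, himm, hqc, hfac⟩ := h
  obtain ⟨a, ha⟩ : ∃ a : X' ⟶ X, a = e.inv.left := ⟨_, rfl⟩
  obtain ⟨b, hb⟩ : ∃ b : S ⟶ S', b = e.hom.right := ⟨_, rfl⟩
  obtain ⟨b', hb'⟩ : ∃ b' : S' ⟶ S, b' = e.inv.right := ⟨_, rfl⟩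
  haveI : IsIso a := ha ▸ inferInstanceAs (IsIso e.inv.left)
  haveI : IsIso b := hb ▸ inferInstanceAs (IsIso e.hom.right)
  have hw : a ≫ f = f' ≫ b' := by rw [ha, hb']; exact e.inv.w
  have hr : b' ≫ b = 𝟙 S' := by
    rw [hb, hb']
    exact congrArg CommaMorphism.right e.inv_hom_id
  obtain ⟨m, hmdef⟩ : ∃ m : CohB1.ProjSpaceOver n S ⟶ CohB1.ProjSpaceOver n S', m =
    pullback.map (CohB1.ProjSpace.toSpec n (ULift.{u} ℤ)) (specULiftZIsTerminal.from S)
      (CohB1.ProjSpace.toSpec n (ULift.{u} ℤ)) (specULiftZIsTerminal.from S') (𝟙 _) b (𝟙 _)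
      (by simp) (specULiftZIsTerminal.hom_ext _ _) := ⟨_, rfl⟩
  haveI : IsIso m := by
    rw [hmdef]
    exact pullback.map_isIso _ _ _ _ _ _ _ _ _
  have hm : m ≫ CohB1.ProjSpaceOver.toBase n S' = CohB1.ProjSpaceOver.toBase n S ≫ b := by
    rw [hmdef]
    exact pullback.lift_snd _ _ _
  refine ⟨n, a ≫ i ≫ m, inferInstance, inferInstance, ?_⟩
  rw [Category.assoc, Category.assoc, hm, ← Category.assoc i, hfac, ← Category.assoc, hw,
    Category.assoc, hr, Category.comp_id]

end Groth.Agent.H22.QProjLocal
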