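import Mathlib

/-!
# Trace-zero elements of an algebra which is free of rank two

If `B` is free of rank two over `R`, the square of a trace-zero element lies in `R`; if moreover
`2` is invertible the product of two trace-zero elements lies in `R`.
-/

set_option autoImplicit false

namespace Groth.Agent.H22.RankTwo

variable {R B : Type*} [CommRing R] [CommRing B] [Algebra R B]

theorem sq_mem_range_of_trace_zero (e : B ≃ₗ[R] (Fin 2 → R)) (c : B)
    (hc : Algebra.trace R B c = 0) : ∃ w : R, c * c = algebraMap R B w := by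
  rcases subsingleton_or_nontrivial R with hR | hR
  · haveI : Subsingleton B := e.toEquiv.subsingleton
    exact ⟨0, Subsingleton.elim _ _⟩
  let bs : Module.Basis (Fin 2) R B := Module.Basis.ofEquivFun e
  let M := Algebra.leftMulMatrix bs c
  have htr : M.trace = 0 := by
    rw [← Algebra.trace_eq_matrix_trace bs c]
    exact hc
  have hCH := Matrix.aeval_self_charpoly M
  rw [Matrix.charpoly_fin_two, htr] at hCH
  simp only [map_zero, zero_mul, sub_zero, map_add, map_pow, Polynomial.aeval_X,
    Polynomial.aeval_C] at hCH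
  refine ⟨-M.det, ?_⟩
  apply Algebra.leftMulMatrix_injective bs
  rw [map_mul, AlgHom.commutes, map_neg]
  have h1 : M * M = -(algebraMap R (Matrix (Fin 2) (Fin 2) R) M.det) := by
    rw [← pow_two]
    exact eq_neg_of_add_eq_zero_left hCH
  exact h1

theorem mul_mem_range_of_trace_zero (e : B ≃ₗ[R] (Fin 2 → R)) (h2 : IsUnit (2 : R)) (a b : B)
    (ha : Algebra.trace R B a = 0) (hb : Algebra.trace R B b = 0) :
    ∃ w : R, a * b = algebraMap R B w := by
  obtain ⟨u, hu⟩ := h2
  obtain ⟨w₁, h₁⟩ := sq_mem_range_of_trace_zero e (a + b) (by rw [map_add, ha, hb, add_zero])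
  obtain ⟨w₂, h₂⟩ := sq_mem_range_of_trace_zero e a ha
  obtain ⟨w₃, h₃⟩ := sq_mem_range_of_trace_zero e b hb
  refine ⟨(↑u⁻¹ : R) * (w₁ - w₂ - w₃), ?_⟩
  have h4 : (2 : B) * (a * b) = algebraMap R B (w₁ - w₂ - w₃) := by
    rw [map_sub, map_sub, ← h₁, ← h₂, ← h₃]
    ring
  have h5 : algebraMap R B (↑u⁻¹ : R) * (2 : B) = 1 := by
    have : (2 : B) = algebraMap R B (2 : R) := (map_ofNat (algebraMap R B) 2).symm
    rw [this, ← map_mul, ← hu, Units.inv_mul, map_one]
  rw [map_mul, ← h4, ← mul_assoc, h5, one_mul]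

end Groth.Agent.H22.RankTwo
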