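import Mathlib
import Groth.Agent.H8.FlatBaseChange

/-!
# A flat chart map `Γ(S', V') ⊗ Γ(X, U) → O_{X', x'}` for a cartesian square
-/

set_option autoImplicit false
set_option linter.style.haveILetI false
universe u
open CategoryTheory CategoryTheory.Limits AlgebraicGeometry TopologicalSpace Opposite TensorProduct
attribute [local instance] Algebra.TensorProduct.rightAlgebra

namespace Groth.Agent.H22.RelFlatP3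

open Groth.Agent.H8

variable {X S X' S' : Scheme.{u}} {f : X ⟶ S} {g : S' ⟶ S} {f' : X' ⟶ S'} {g' : X' ⟶ X}

set_option backward.isDefEq.respectTransparency false in
theorem exists_flat_chart_map (hc : IsPullback g' f' f g) {V : S.Opens} {V' : S'.Opens}
    {U : X.Opens} (hV : IsAffineOpen V) (hV' : IsAffineOpen V') (hU : IsAffineOpen U)
    (hVV' : V' ≤ g ⁻¹ᵁ V) (hUV : U ≤ f ⁻¹ᵁ V) (x' : X') (hxU : g' x' ∈ U) (hs'V' : f' x' ∈ V') :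
    letI := (f.appLE V U hUV).hom.toAlgebra
    letI := (g.appLE V V' hVV').hom.toAlgebra
    ∃ θ : Γ(S', V') ⊗[Γ(S, V)] Γ(X, U) →+* X'.presheaf.stalk x', θ.Flat ∧
      θ.comp (Algebra.TensorProduct.includeRight :
        Γ(X, U) →ₐ[Γ(S, V)] Γ(S', V') ⊗[Γ(S, V)] Γ(X, U)).toRingHom =
      (g'.stalkMap x').hom.comp (X.presheaf.germ U (g' x') hxU).hom := by
  have hU' : IsAffineOpen (g' ⁻¹ᵁ U ⊓ f' ⁻¹ᵁ V') := isAffineOpen_prodOpen hc hV hV' hVV' hU hUV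
  have hx'U' : x' ∈ g' ⁻¹ᵁ U ⊓ f' ⁻¹ᵁ V' := ⟨hxU, hs'V'⟩
  have hpush : IsPushout (f.appLE V U hUV) (g.appLE V V' hVV')
      (g'.appLE U (g' ⁻¹ᵁ U ⊓ f' ⁻¹ᵁ V') inf_le_left)
      (f'.appLE V' (g' ⁻¹ᵁ U ⊓ f' ⁻¹ᵁ V') inf_le_right) := by
    have := isIso_pushoutSection_of_isAffineOpen hc hVV' hUV rfl hV hV' hU
    exact (isIso_pushoutSection_iff hc hVV' hUV rfl).mp this
  letI a1 : Algebra Γ(S, V) Γ(X, U) := (f.appLE V U hUV).hom.toAlgebra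
  letI a2 : Algebra Γ(S, V) Γ(S', V') := (g.appLE V V' hVV').hom.toAlgebra
  letI a3 : Algebra Γ(X, U) Γ(X', g' ⁻¹ᵁ U ⊓ f' ⁻¹ᵁ V') :=
    (g'.appLE U (g' ⁻¹ᵁ U ⊓ f' ⁻¹ᵁ V') inf_le_left).hom.toAlgebra
  letI a4 : Algebra Γ(S', V') Γ(X', g' ⁻¹ᵁ U ⊓ f' ⁻¹ᵁ V') :=
    (f'.appLE V' (g' ⁻¹ᵁ U ⊓ f' ⁻¹ᵁ V') inf_le_right).hom.toAlgebra
  letI a5 : Algebra Γ(S, V) Γ(X', g' ⁻¹ᵁ U ⊓ f' ⁻¹ᵁ V') :=
    ((g'.appLE U (g' ⁻¹ᵁ U ⊓ f' ⁻¹ᵁ V') inf_le_left).hom.comp (f.appLE V U hUV).hom).toAlgebra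
  haveI t1 : IsScalarTower Γ(S, V) Γ(X, U) Γ(X', g' ⁻¹ᵁ U ⊓ f' ⁻¹ᵁ V') :=
    IsScalarTower.of_algebraMap_eq' rfl
  haveI t2 : IsScalarTower Γ(S, V) Γ(S', V') Γ(X', g' ⁻¹ᵁ U ⊓ f' ⁻¹ᵁ V') :=
    IsScalarTower.of_algebraMap_eq' (congrArg CommRingCat.Hom.hom hpush.w)
  haveI hpo : Algebra.IsPushout Γ(S, V) Γ(X, U) Γ(S', V') Γ(X', g' ⁻¹ᵁ U ⊓ f' ⁻¹ᵁ V') :=
    CommRingCat.isPushout_iff_isPushout.mp hpush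
  haveI hpo' : Algebra.IsPushout Γ(S, V) Γ(S', V') Γ(X, U) Γ(X', g' ⁻¹ᵁ U ⊓ f' ⁻¹ᵁ V') :=
    hpo.symm
  letI b2 : Algebra Γ(X', g' ⁻¹ᵁ U ⊓ f' ⁻¹ᵁ V') (X'.presheaf.stalk x') :=
    X'.presheaf.algebra_section_stalk ⟨x', hx'U'⟩
  haveI l2 := hU'.isLocalization_stalk ⟨x', hx'U'⟩
  haveI fl2 : Module.Flat Γ(X', g' ⁻¹ᵁ U ⊓ f' ⁻¹ᵁ V') (X'.presheaf.stalk x') :=
    IsLocalization.flat _ (hU'.primeIdealOf ⟨x', hx'U'⟩).asIdeal.primeCompl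
  let e := Algebra.IsPushout.equiv Γ(S, V) Γ(S', V') Γ(X, U) Γ(X', g' ⁻¹ᵁ U ⊓ f' ⁻¹ᵁ V')
  refine ⟨(algebraMap Γ(X', g' ⁻¹ᵁ U ⊓ f' ⁻¹ᵁ V') (X'.presheaf.stalk x')).comp
    (e : Γ(S', V') ⊗[Γ(S, V)] Γ(X, U) →+* Γ(X', g' ⁻¹ᵁ U ⊓ f' ⁻¹ᵁ V')), ?_, ?_⟩
  · refine RingHom.Flat.comp (RingHom.Flat.of_bijective e.bijective) ?_
    exact RingHom.flat_algebraMap_iff.mpr fl2
  · ext d
    have h1 : e ((1 : Γ(S', V')) ⊗ₜ[Γ(S, V)] d) =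
        algebraMap Γ(X, U) Γ(X', g' ⁻¹ᵁ U ⊓ f' ⁻¹ᵁ V') d := by
      rw [Algebra.IsPushout.equiv_tmul, map_one, one_mul]
    have h2 := congrArg CommRingCat.Hom.hom (germ_stalkMap_eq g' inf_le_left x' hx'U')
    have h3 := congrFun (congrArg DFunLike.coe h2) d
    change algebraMap Γ(X', g' ⁻¹ᵁ U ⊓ f' ⁻¹ᵁ V') (X'.presheaf.stalk x')
      (e ((1 : Γ(S', V')) ⊗ₜ[Γ(S, V)] d)) = _
    rw [h1]
    exact h3.symm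

end Groth.Agent.H22.RelFlatP3
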