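import Mathlib
import Groth.Agent.H22.ResProp
import Groth.Agent.H22.FTExt
import Groth.Agent.H28.LpullLoc
import Groth.Agent.H90.PerfLoc
import Groth.Agent.H90.PCohLoc
import Groth.Agent.H53.ModEpi
import Groth.Agent.H8.QCohPush
import Groth.Prelude.Def_PerfAux

/-!
# The resolution property ascends along affine morphisms (helper22)
-/

set_option autoImplicit false
set_option linter.style.haveILetI false
universe u
open CategoryTheory CategoryTheory.Limits AlgebraicGeometry TopologicalSpace Opposite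
open scoped ZeroObject

namespace Groth.Agent.H22.ResPropAffine

open Groth.Agent.H8 (res_res res_smul ringRes_res app_res)
open Groth.Agent.H22 Groth.Agent.H22.SubSh Groth.Agent.H22.ResProp

variable {X Y : Scheme.{u}}

/-- Finite direct sums: a finite list of morphisms from finite locally free modules to `M` is
dominated by a single morphism from a finite locally free module. -/
theorem exists_biprod_list {M : X.Modules} (l : List (Σ E : X.Modules, E ⟶ M))
    (hl : ∀ p ∈ l, FlatMod.IsFinLocFree p.1) :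
    ∃ (E' : X.Modules) (π' : E' ⟶ M), FlatMod.IsFinLocFree E' ∧
      ∀ p ∈ l, ∀ (W : X.Opens) (s : Γ(p.1, W)), ∃ e : Γ(E', W), π'.app W e = p.2.app W s := by
  induction l with
  | nil =>
    exact ⟨0, 0, Groth.Agent.H90.SPerf.isFinLocFree_of_isZero (isZero_zero _),
      fun p hp => by cases hp⟩
  | cons q l ih =>
    obtain ⟨E'', π'', hE'', h''⟩ := ih (fun p hp => hl p (List.mem_cons_of_mem _ hp))
    refine ⟨q.1 ⊞ E'', biprod.desc q.2 π'',
      Groth.Agent.H90.SPerf.isFinLocFree_biprod (hl q List.mem_cons_self) hE'',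
      fun p hp W s => ?_⟩
    rcases List.mem_cons.mp hp with rfl | hp'
    · refine ⟨(biprod.inl : p.1 ⟶ p.1 ⊞ E'').app W s, ?_⟩
      have h1 : (biprod.inl : p.1 ⟶ p.1 ⊞ E'') ≫ biprod.desc p.2 π'' = p.2 := biprod.inl_desc _ _
      exact congrArg (fun ψ : p.1 ⟶ M => ψ.app W s) h1
    · obtain ⟨e'', he''⟩ := h'' p hp' W s
      refine ⟨(biprod.inr : E'' ⟶ q.1 ⊞ E'').app W e'', ?_⟩
      have h1 : (biprod.inr : E'' ⟶ q.1 ⊞ E'') ≫ biprod.desc q.2 π'' = π'' := biprod.inr_desc _ _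
      rw [← he'']
      exact congrArg (fun ψ : E'' ⟶ M => ψ.app W e'') h1

/-- The adjoint of `φ : E ⟶ f_* M` sends the unit of a section `e` to `φ e`. -/
theorem adj_app (f : X ⟶ Y) {E : Y.Modules} {M : X.Modules}
    (φ : E ⟶ (Scheme.Modules.pushforward f).obj M) (V : Y.Opens) (e : Γ(E, V)) :
    (((Scheme.Modules.pullbackPushforwardAdjunction f).homEquiv E M).symm φ).app (f ⁻¹ᵁ V)
      (((Scheme.Modules.pullbackPushforwardAdjunction f).unit.app E).app V e) = φ.app V e := by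
  have h := ((Scheme.Modules.pullbackPushforwardAdjunction f).homEquiv E M).apply_symm_apply φ
  rw [Adjunction.homEquiv_unit] at h
  exact congrArg (fun ψ : E ⟶ (Scheme.Modules.pushforward f).obj M => ψ.app V e) h

/-- On a quasi-compact quasi-separated scheme, finitely many sections of a quasi-coherent module
over an affine open lie in a quasi-coherent submodule of finite type. -/
theorem exists_ft_sub [CompactSpace Y] [QuasiSeparatedSpace Y] (N : Y.Modules) [N.IsQuasicoherent]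
    {W : Y.Opens} (hW : IsAffineOpen W) {r : ℕ} (t : Fin r → Γ(N, W)) :
    ∃ (K : Y.Modules) (i : K ⟶ N), K.IsQuasicoherent ∧
      SheafOfModules.IsFiniteType (R := Y.ringCatSheaf) K ∧
      ∀ k, ∃ t' : Γ(K, W), i.app W t' = t k := by
  classical
  have hcomp : ∀ A : Y.Opens, IsAffineOpen A → IsCompact ((A ⊓ W : Y.Opens) : Set Y) :=
    fun A hA => QuasiSeparatedSpace.inter_isCompact _ _ A.2 hA.isCompact W.2 hW.isCompact
  have hK₀ : (gen t).QC := gen_QC t hcomp
  have hsub : (gen t).sub W = comb t W le_rfl :=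
    le_antisymm (fun x hx => mem_comb_of_mem_gen t hW le_rfl x hx)
      (fun x hx => mem_gen_of_comb t le_rfl x hx)
  have hfg : ((gen t).sub W).FG := by
    rw [hsub]
    exact Submodule.fg_span (Set.finite_range _)
  have hft₀ : (gen t).FTOn W := ftOn_of_fg (gen t) hK₀ hW hfg
  -- a finite affine cover
  have hpt : ∀ y : Y, ∃ U : Y.Opens, IsAffineOpen U ∧ y ∈ U := by
    intro y
    obtain ⟨_, ⟨U, hU, rfl⟩, hyU, -⟩ := Y.isBasis_affineOpens.exists_subset_of_mem_open
      (Set.mem_univ y) isOpen_univ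
    exact ⟨U, hU, hyU⟩
  choose U hU hyU using hpt
  obtain ⟨F, hF⟩ := CompactSpace.elim_nhds_subcover (fun y => (U y : Set Y))
    (fun y => (U y).isOpen.mem_nhds (hyU y))
  obtain ⟨l, hl⟩ : ∃ l : List Y.affineOpens, l = F.toList.map (fun y => ⟨U y, hU y⟩) := ⟨_, rfl⟩
  obtain ⟨K', hK', hle, hge, hft'⟩ := exists_ft_of_list l (gen t) hK₀ W hW.isCompact hft₀
  have htop : K'.FTOn ⊤ := by
    intro A hA _
    refine hft' A hA (fun y _ => ?_)
    have : y ∈ ⋃ x ∈ F, (U x : Set Y) := by rw [hF]; trivial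
    obtain ⟨x, hx, hy⟩ := Set.mem_iUnion₂.mp this
    have hmem : (⟨U x, hU x⟩ : Y.affineOpens) ∈ l := by
      rw [hl]
      exact List.mem_map.mpr ⟨x, Finset.mem_toList.mpr hx, rfl⟩
    exact Or.inr (le_listSup hmem hy)
  refine ⟨K'.toModules, K'.ι, K'.isQuasicoherent_toModules hK', K'.isFiniteType_toModules hK' htop,
    fun k => K'.exists_ι_app_eq (hge W le_rfl (t k) (mem_gen_self t k))⟩

/-- The resolution property ascends along affine morphisms to a quasi-compact quasi-separated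
base. -/
theorem hasResolutionProperty_of_isAffineHom (f : X ⟶ Y) [IsAffineHom f] [CompactSpace Y]
    [QuasiSeparatedSpace Y] (hY : PerfAux.HasResolutionProperty Y) :
    PerfAux.HasResolutionProperty X := by
  classical
  intro M hMq hMft
  haveI : M.IsQuasicoherent := hMq
  haveI : SheafOfModules.IsFiniteType (R := X.ringCatSheaf) M := hMft
  haveI : ((Scheme.Modules.pushforward f).obj M).IsQuasicoherent :=
    Groth.Agent.H8.isQuasicoherent_pushforward f M
  have hloc : ∀ y : Y, ∃ (W : Y.Opens) (E : X.Modules) (ψ : E ⟶ M), y ∈ W ∧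
      FlatMod.IsFinLocFree E ∧
      ∀ (U : X.Opens) (t : Γ(M, U)) (x : X), x ∈ U → f x ∈ W →
        ∃ (U' : X.Opens) (hU' : U' ≤ U), x ∈ U' ∧ ∃ s : Γ(E, U'),
          ψ.app U' s = M.presheaf.map (homOfLE hU').op t := by
    intro y
    obtain ⟨W, hW, hyW⟩ : ∃ W : Y.Opens, IsAffineOpen W ∧ y ∈ W := by
      obtain ⟨_, ⟨W, hW, rfl⟩, hyW, -⟩ := Y.isBasis_affineOpens.exists_subset_of_mem_open
        (Set.mem_univ y) isOpen_univ
      exact ⟨W, hW, hyW⟩
    have haff : IsAffineOpen (f ⁻¹ᵁ W) := hW.preimage f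
    obtain ⟨r, m, hm⟩ := exists_local_generators M haff
    obtain ⟨K, i, hKq, hKft, ht'⟩ := exists_ft_sub ((Scheme.Modules.pushforward f).obj M) hW
      (r := r) m
    choose t' ht' using ht'
    obtain ⟨E₀, π₀, hE₀, hπ₀⟩ := hY K hKq hKft
    haveI : Epi π₀ := hπ₀
    refine ⟨W, (Scheme.Modules.pullback f).obj E₀,
      ((Scheme.Modules.pullbackPushforwardAdjunction f).homEquiv E₀ M).symm (π₀ ≫ i), hyW,
      Groth.Agent.H28.LpullLoc.isFinLocFree_pullback f hE₀, fun U t x hxU hxW => ?_⟩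
    obtain ⟨a, haU, hxa⟩ := haff.exists_basicOpen_le ⟨x, hxU⟩ hxW
    obtain ⟨c, hc⟩ := hm a (M.presheaf.map (homOfLE haU).op t)
    have hk : ∀ k : Fin r, ∃ (V : Y.Opens) (hV : V ≤ W) (e : Γ(E₀, V)), f x ∈ V ∧
        π₀.app V e = K.presheaf.map (homOfLE hV).op (t' k) :=
      fun k => Groth.Agent.H53.modules_epi_locally_surjective π₀ W (t' k) (f x) hxW
    choose V hVW e hxV he using hk
    obtain ⟨V₀, hV₀⟩ : ∃ V₀ : Y.Opens, V₀ = W ⊓ Finset.univ.inf V := ⟨_, rfl⟩
    have hV₀W : V₀ ≤ W := hV₀ ▸ inf_le_left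
    have hV₀V : ∀ k, V₀ ≤ V k := fun k =>
      hV₀ ▸ inf_le_right.trans (Finset.inf_le (Finset.mem_univ k))
    have hxV₀ : f x ∈ V₀ := by
      rw [hV₀]
      have : ∀ S : Finset (Fin r), f x ∈ S.inf V := by
        intro S
        induction S using Finset.induction_on with
        | empty => rw [Finset.inf_empty]; trivial
        | insert a S ha ih => rw [Finset.inf_insert]; exact ⟨hxV a, ih⟩
      exact ⟨hxW, this _⟩
    -- restricted lifts
    have he' : ∀ k, (π₀ ≫ i).app V₀ (E₀.presheaf.map (homOfLE (hV₀V k)).op (e k)) =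
        M.presheaf.map (homOfLE (f.preimage_mono hV₀W)).op (m k) := by
      intro k
      have h1 : (π₀ ≫ i).app V₀ (E₀.presheaf.map (homOfLE (hV₀V k)).op (e k)) =
          i.app V₀ (π₀.app V₀ (E₀.presheaf.map (homOfLE (hV₀V k)).op (e k))) := rfl
      rw [h1, app_res, he k, res_res, app_res, ht' k]
      rfl
    obtain ⟨U', hU'⟩ : ∃ U' : X.Opens, U' = X.basicOpen a ⊓ f ⁻¹ᵁ V₀ := ⟨_, rfl⟩
    have hU'a : U' ≤ X.basicOpen a := hU' ▸ inf_le_left
    have hU'V : U' ≤ f ⁻¹ᵁ V₀ := hU' ▸ inf_le_right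
    have hxU' : x ∈ U' := by rw [hU']; exact ⟨hxa, hxV₀⟩
    refine ⟨U', hU'a.trans haU, hxU', ∑ k,
      X.presheaf.map (homOfLE hU'a).op (c k) •
        ((Scheme.Modules.pullback f).obj E₀).presheaf.map (homOfLE hU'V).op
          (((Scheme.Modules.pullbackPushforwardAdjunction f).unit.app E₀).app V₀
            (E₀.presheaf.map (homOfLE (hV₀V k)).op (e k))), ?_⟩
    have h2 : M.presheaf.map (homOfLE (hU'a.trans haU)).op t =
        M.presheaf.map (homOfLE hU'a).op (M.presheaf.map (homOfLE haU).op t) := by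
      rw [res_res]
    rw [h2, hc, map_sum, map_sum]
    refine Finset.sum_congr rfl (fun k _ => ?_)
    rw [Scheme.Modules.Hom.app_smul, app_res, adj_app f (π₀ ≫ i) V₀, he' k, res_smul, res_res,
      res_res]
  choose W E ψ hyW hE hhit using hloc
  obtain ⟨F, hF⟩ := CompactSpace.elim_nhds_subcover (fun y => (W y : Set Y))
    (fun y => (W y).isOpen.mem_nhds (hyW y))
  obtain ⟨E', π', hE', h'⟩ := exists_biprod_list
    (F.toList.map (fun y => (⟨E y, ψ y⟩ : Σ E : X.Modules, E ⟶ M)))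
    (fun p hp => by
      obtain ⟨y, -, rfl⟩ := List.mem_map.mp hp
      exact hE y)
  refine ⟨E', π', hE', Groth.Agent.S4407.epi_of_locally _ (fun U t x hxU => ?_)⟩
  obtain ⟨y, hyF, hxy⟩ : ∃ y ∈ F, f x ∈ W y := by
    have : f x ∈ ⋃ y ∈ F, (W y : Set Y) := by rw [hF]; trivial
    obtain ⟨y, hy, hxy⟩ := Set.mem_iUnion₂.mp this
    exact ⟨y, hy, hxy⟩
  obtain ⟨U', hU', hxU', s, hs⟩ := hhit y U t x hxU hxy
  obtain ⟨e, he⟩ := h' ⟨E y, ψ y⟩ (List.mem_map.mpr ⟨y, Finset.mem_toList.mpr hyF, rfl⟩) U' s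
  exact ⟨U', hU', hxU', e, he.trans hs⟩

end Groth.Agent.H22.ResPropAffine
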