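import Mathlib
import Groth.Agent.H22.IdealTwist
import Groth.Agent.H22.RelTwistGG
import Groth.Agent.H8.StalkLocal

/-!
# Tensoring a morphism with an invertible module (helper22)

* `tmMap κ N : tensorMod G' N ⟶ tensorMod G N` for `κ : G' ⟶ G`, with `tmMap_tm : a ⊗ ℓ ↦ κ(a) ⊗ ℓ`.
* `mono_tmMap`: for `κ` mono and `N` invertible, `tmMap κ N` is mono.
* `mulHom_tmMap_tm`.
-/

set_option autoImplicit false
set_option linter.style.haveILetI false
universe u
open CategoryTheory CategoryTheory.Limits AlgebraicGeometry TopologicalSpace Opposite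

namespace Groth.Agent.H22.TwistSeq

open Groth.Agent.H8 (res_res res_smul ringRes_res section_eq_of_cover)
open Groth.Agent.H18.TensorGen Groth.Agent.H22.GenSection Groth.Agent.H22.AmpleLocal
open Groth.Agent.H22.QCohLimits (app_res)
open Groth.Agent.H18.SecTw Groth.Agent.H18.TensorSec Groth.Agent.H41.BilinGlue
open Groth.Agent.H22.IdealTwist
open AlgebraicGeometry.Scheme.Modules

variable {X : Scheme.{u}}

section Map

variable {G' G : X.Modules} (κ : G' ⟶ G) (N : X.Modules)

/-- The relation `w = κ(a) ⊗ ℓ`. -/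
def MapRel : ∀ W : X.Opens, Γ(G', W) → Γ(N, W) → Γ(CohB1.tensorMod G N, W) → Prop :=
  fun W a ℓ w => w = tm G N (κ.app W a) ℓ

theorem glueRel : GlueRel G' N (CohB1.tensorMod G N) (MapRel κ N) where
  unique W s t w w' h h' := h.trans h'.symm
  res h s t w hw := by
    show _ = _
    rw [hw, tm_res, app_res]
  of_local W s t w hloc := by
    refine section_eq_of_cover (CohB1.tensorMod G N) _ _ (fun x hx => ?_)
    obtain ⟨V, h, hxV, hR⟩ := hloc x hx
    refine ⟨V, h, hxV, ?_⟩
    rw [tm_res, ← app_res]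
    exact hR
  exists_local W s t x hx := ⟨W, le_rfl, hx, _, rfl⟩
  add_left W s s' t w w' h h' := by
    show _ = _
    rw [h, h', (κ.app W).hom.map_add, tm_add_left]
  add_right W s t t' w w' h h' := by
    show _ = _
    rw [h, h', Groth.Agent.H22.RelTwistGG.tm_add_right]
  smul_left W a s t w h := by
    show _ = _
    rw [h, Scheme.Modules.Hom.app_smul, tm_smul_left]
  smul_right W a s t w h := by
    show _ = _
    rw [h, tm_smul_right]

/-- The map `G' ⊗ N ⟶ G ⊗ N`, `a ⊗ ℓ ↦ κ(a) ⊗ ℓ`. -/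
noncomputable def tmMap : CohB1.tensorMod G' N ⟶ CohB1.tensorMod G N :=
  (PresheafOfModules.sheafificationHomEquiv (𝟙 X.ringCatSheaf.obj)).symm (glueRel κ N).hom

set_option backward.isDefEq.respectTransparency false in
theorem tmMap_tm {W : X.Opens} (a : Γ(G', W)) (ℓ : Γ(N, W)) :
    (tmMap κ N).app W (tm G' N a ℓ) = tm G N (κ.app W a) ℓ := by
  have h1 : (PresheafOfModules.sheafificationHomEquiv (𝟙 X.ringCatSheaf.obj)) (tmMap κ N) =
      (glueRel κ N).hom := Equiv.apply_symm_apply _ _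
  have h2 : ((glueRel κ N).hom.app (op W)).hom (pt G' N a ℓ) = (glueRel κ N).mul W a ℓ :=
    rfl
  have h3 : ((PresheafOfModules.sheafificationHomEquiv (𝟙 X.ringCatSheaf.obj)
      (tmMap κ N)).app (op W)).hom (pt G' N a ℓ) = (tmMap κ N).app W (tm G' N a ℓ) := rfl
  exact h3.symm.trans ((congrArg (fun φ => (φ.app (op W)).hom (pt G' N a ℓ)) h1).trans
    (h2.trans ((glueRel κ N).mul_eq rfl)))

/-- Tensoring a monomorphism with an invertible module gives a monomorphism. -/
theorem mono_tmMap [Mono κ] (hN : PicF.IsInvertible N) : Mono (tmMap κ N) := by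
  apply Groth.Agent.H8.mono_of_app_injective
  intro O
  rw [injective_iff_map_eq_zero]
  intro z hz
  refine section_eq_of_cover (CohB1.tensorMod G' N) _ _ (fun x hx => ?_)
  obtain ⟨A, lam, hxA, hlam⟩ := exists_isGen hN x
  have hlam' := hlam.res (inf_le_left : A ⊓ O ≤ A)
  refine ⟨A ⊓ O, inf_le_right, ⟨hxA, hx⟩, ?_⟩
  obtain ⟨a, ha⟩ := surjective_tm (F := G') hlam'
    ((CohB1.tensorMod G' N).presheaf.map (homOfLE (inf_le_right : A ⊓ O ≤ O)).op z)
  simp only at ha
  have h1 : (tmMap κ N).app (A ⊓ O)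
      ((CohB1.tensorMod G' N).presheaf.map (homOfLE (inf_le_right : A ⊓ O ≤ O)).op z) = 0 := by
    rw [app_res, hz, map_zero]
  rw [← ha, tmMap_tm] at h1
  have h2 : κ.app (A ⊓ O) a = 0 := by
    apply injective_tm (F := G) hlam'
    simp only
    rw [h1, tm_zero_left]
  have h3 : a = 0 := by
    apply Groth.Agent.H8.app_injective_of_mono κ (A ⊓ O)
    rw [h2, map_zero]
  rw [map_zero, ← ha, h3, tm_zero_left]

theorem mulHom_tmMap_tm (i : G ⟶ Coh.structureModule X) {W : X.Opens} (a : Γ(G', W))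
    (ℓ : Γ(N, W)) :
    (mulHom i N).app W ((tmMap κ N).app W (tm G' N a ℓ)) = coef (κ ≫ i) a • ℓ := by
  rw [tmMap_tm, mulHom_tm]
  rfl

end Map

end Groth.Agent.H22.TwistSeq
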