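import Mathlib
import Groth.Agent.H22.ResPropAffine
import Groth.Agent.H22.RelTwistGG
import Groth.Agent.H22.TwistSeq
import Groth.Agent.H22.CounitEpi
import Groth.Agent.H95.DualInv
import Groth.Agent.H40.UnitIso
import Groth.Agent.H8.TensorQCoh
import Groth.Agent.H18.TensorCoh
import Groth.Agent.H18.TensorAssoc
import Groth.Agent.H18.AmpleTwistGG
import Groth.Agent.S4417

/-!
# The resolution property ascends along morphisms with a relatively ample module (helper22)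
-/

set_option autoImplicit false
set_option linter.style.haveILetI false
universe u
open CategoryTheory CategoryTheory.Limits AlgebraicGeometry TopologicalSpace Opposite
open scoped ZeroObject

namespace Groth.Agent.H22.ResPropRel

open Groth.Agent.H8 (res_res res_smul ringRes_res app_res)
open Groth.Agent.H22 Groth.Agent.H22.ResProp Groth.Agent.H22.ResPropAffine
open Groth.Agent.H18.TensorGen (IsGen exists_isGen isInvertible_tensorPow)
open Groth.Agent.H18.SecTw Groth.Agent.H18.TensorSec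
open Groth.Agent.H22.TwistSeq (tmMap tmMap_tm)

variable {X Y : Scheme.{u}}

section Twist

/-- Tensoring an epimorphism with an invertible module gives an epimorphism. -/
theorem epi_tmMap {G' G : X.Modules} (κ : G' ⟶ G) [Epi κ] {N : X.Modules}
    (hN : PicF.IsInvertible N) : Epi (tmMap κ N) := by
  apply Groth.Agent.S4407.epi_of_locally
  intro U t x hxU
  obtain ⟨V, ν, hxV, hν⟩ := exists_isGen hN x
  have hν' := hν.res (inf_le_left : V ⊓ U ≤ V)
  obtain ⟨g, hg⟩ := surjective_tm (F := G) hν'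
    ((CohB1.tensorMod G N).presheaf.map (homOfLE (inf_le_right : V ⊓ U ≤ U)).op t)
  obtain ⟨W, hW, g', hxW, hg'⟩ :=
    Groth.Agent.H53.modules_epi_locally_surjective κ (V ⊓ U) g x ⟨hxV, hxU⟩
  refine ⟨W, hW.trans inf_le_right, hxW,
    tm G' N g' (N.presheaf.map (homOfLE hW).op (N.presheaf.map (homOfLE inf_le_left).op ν)), ?_⟩
  have hg2 : tm G N g (N.presheaf.map (homOfLE (inf_le_left : V ⊓ U ≤ V)).op ν) =
      (CohB1.tensorMod G N).presheaf.map (homOfLE (inf_le_right : V ⊓ U ≤ U)).op t := hg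
  rw [tmMap_tm, hg', ← tm_res, hg2, res_res]

/-- A finite locally free module tensored with an invertible module is finite locally free. -/
theorem isFinLocFree_tensorMod {E A : X.Modules} (hE : FlatMod.IsFinLocFree E)
    (hA : PicF.IsInvertible A) : FlatMod.IsFinLocFree (CohB1.tensorMod E A) := by
  intro x
  obtain ⟨U₁, n, hx₁, ⟨e₁⟩⟩ := hE x
  obtain ⟨V, α, hxV, hα⟩ := exists_isGen hA x
  obtain ⟨U, hU⟩ : ∃ U : X.Opens, U = U₁ ⊓ V := ⟨_, rfl⟩
  have hUU₁ : U ≤ U₁ := hU ▸ inf_le_left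
  have hUV : U ≤ V := hU ▸ inf_le_right
  obtain ⟨e₁'⟩ := Groth.Agent.H8.nonempty_restrict_iso_freeMod_of_le E hUU₁ n e₁
  obtain ⟨e₂⟩ := Groth.Agent.H18.RestrictUnit.nonempty_restrict_iso_unit U A
    (A.presheaf.map (homOfLE hUV).op α) (fun W hW => (hα.res hUV) W hW)
  obtain ⟨e₃⟩ := Groth.Agent.H8.nonempty_restrict_tensorMod U.ι E A
  obtain ⟨e₄⟩ := Groth.Agent.H18.TensorModIso.nonempty_tensorMod_congr e₁' e₂
  refine ⟨U, n, hU ▸ ⟨hx₁, hxV⟩, ⟨e₃ ≪≫ e₄ ≪≫ ?_⟩⟩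
  exact Groth.Agent.H40.UnitIso.rightUnitIso (U : Scheme.{u}).sheaf (FlatMod.freeMod (↑U) n)

/-- Untwisting a resolution. -/
theorem exists_epi_of_twist {M B : X.Modules} (hB : PicF.IsInvertible B) {E : X.Modules}
    (hE : FlatMod.IsFinLocFree E) (π : E ⟶ CohB1.tensorMod M B) [Epi π] :
    ∃ (E' : X.Modules) (π' : E' ⟶ M), FlatMod.IsFinLocFree E' ∧ Epi π' := by
  have hA := Groth.Agent.H95.DualInv.isInvertible_dual hB
  obtain ⟨e⟩ := Groth.Agent.H95.DualInv.nonempty_dual_tensor_iso hB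
  obtain ⟨a⟩ := Groth.Agent.H18.TensorAssoc.nonempty_tensorMod_assoc M B (RefHull.dual B) hB hA
  obtain ⟨c⟩ := Groth.Agent.H18.AmpleTwistGG.nonempty_tensorMod_comm B (RefHull.dual B)
  obtain ⟨d⟩ := Groth.Agent.H18.TensorModIso.nonempty_tensorMod_congr (Iso.refl M) (c ≪≫ e)
  haveI := epi_tmMap π hA
  exact ⟨CohB1.tensorMod E (RefHull.dual B),
    tmMap π (RefHull.dual B) ≫ a.hom ≫ d.hom ≫
      (Groth.Agent.H40.UnitIso.rightUnitIso X.sheaf M).hom,
    isFinLocFree_tensorMod hE hA, inferInstance⟩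

end Twist

section Good

variable (M : X.Modules)

/-- `m` is, locally at `p`, in the image of a morphism from a finite locally free module. -/
def Good {A : X.Opens} (m : Γ(M, A)) (p : X) : Prop :=
  ∃ (E : X.Modules) (ψ : E ⟶ M), FlatMod.IsFinLocFree E ∧ ∃ (B : X.Opens) (hB : B ≤ A), p ∈ B ∧
    ∃ e : Γ(E, B), ψ.app B e = M.presheaf.map (homOfLE hB).op m

lemma good_zero {A : X.Opens} (p : X) (hp : p ∈ A) : Good M (0 : Γ(M, A)) p :=
  ⟨0, 0, Groth.Agent.H90.SPerf.isFinLocFree_of_isZero (isZero_zero _), A, le_rfl, hp, 0, by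
    rw [map_zero, map_zero]⟩

lemma good_add {A : X.Opens} {m₁ m₂ : Γ(M, A)} {p : X} (h₁ : Good M m₁ p) (h₂ : Good M m₂ p) :
    Good M (m₁ + m₂) p := by
  obtain ⟨E₁, ψ₁, hE₁, B₁, hB₁, hp₁, e₁, he₁⟩ := h₁
  obtain ⟨E₂, ψ₂, hE₂, B₂, hB₂, hp₂, e₂, he₂⟩ := h₂
  refine ⟨E₁ ⊞ E₂, biprod.desc ψ₁ ψ₂, Groth.Agent.H90.SPerf.isFinLocFree_biprod hE₁ hE₂,
    B₁ ⊓ B₂, inf_le_left.trans hB₁, ⟨hp₁, hp₂⟩,
    (biprod.inl : E₁ ⟶ E₁ ⊞ E₂).app _ (E₁.presheaf.map (homOfLE inf_le_left).op e₁) +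
      (biprod.inr : E₂ ⟶ E₁ ⊞ E₂).app _ (E₂.presheaf.map (homOfLE inf_le_right).op e₂), ?_⟩
  have h1 : ∀ z : Γ(E₁, B₁ ⊓ B₂), (biprod.desc ψ₁ ψ₂).app (B₁ ⊓ B₂)
      ((biprod.inl : E₁ ⟶ E₁ ⊞ E₂).app (B₁ ⊓ B₂) z) = ψ₁.app (B₁ ⊓ B₂) z := fun z =>
    congrArg (fun φ : E₁ ⟶ M => φ.app (B₁ ⊓ B₂) z) (biprod.inl_desc ψ₁ ψ₂)
  have h2 : ∀ z : Γ(E₂, B₁ ⊓ B₂), (biprod.desc ψ₁ ψ₂).app (B₁ ⊓ B₂)
      ((biprod.inr : E₂ ⟶ E₁ ⊞ E₂).app (B₁ ⊓ B₂) z) = ψ₂.app (B₁ ⊓ B₂) z := fun z =>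
    congrArg (fun φ : E₂ ⟶ M => φ.app (B₁ ⊓ B₂) z) (biprod.inr_desc ψ₁ ψ₂)
  rw [map_add, map_add, h1, h2, app_res, app_res, he₁, he₂, res_res, res_res]

lemma good_smul {A : X.Opens} (r : Γ(X, A)) {m : Γ(M, A)} {p : X} (h : Good M m p) :
    Good M (r • m) p := by
  obtain ⟨E, ψ, hE, B, hB, hp, e, he⟩ := h
  refine ⟨E, ψ, hE, B, hB, hp, X.presheaf.map (homOfLE hB).op r • e, ?_⟩
  rw [Scheme.Modules.Hom.app_smul, he, res_smul]

lemma good_res {A A' : X.Opens} (h : A' ≤ A) {m : Γ(M, A)} {p : X} (hp : p ∈ A')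
    (hm : Good M m p) : Good M (M.presheaf.map (homOfLE h).op m) p := by
  obtain ⟨E, ψ, hE, B, hB, hpB, e, he⟩ := hm
  refine ⟨E, ψ, hE, B ⊓ A', inf_le_right, ⟨hpB, hp⟩, E.presheaf.map (homOfLE inf_le_left).op e, ?_⟩
  rw [app_res, he, res_res, res_res]

lemma good_of_res {A A' : X.Opens} (h : A' ≤ A) {m : Γ(M, A)} {p : X}
    (hm : Good M (M.presheaf.map (homOfLE h).op m) p) : Good M m p := by
  obtain ⟨E, ψ, hE, B, hB, hpB, e, he⟩ := hm
  exact ⟨E, ψ, hE, B, hB.trans h, hpB, e, by rw [he, res_res]⟩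

variable (f : X ⟶ Y)

theorem good_of_section [QuasiCompact f] [QuasiSeparated f] [CompactSpace Y]
    [QuasiSeparatedSpace Y] [M.IsQuasicoherent] (hY : PerfAux.HasResolutionProperty Y)
    (V : Y.Opens) (s : Γ(M, f ⁻¹ᵁ V)) (p : X) (hp : p ∈ f ⁻¹ᵁ V) : Good M s p := by
  haveI : ((Scheme.Modules.pushforward f).obj M).IsQuasicoherent :=
    Groth.Agent.H8.isQuasicoherent_pushforward f M
  obtain ⟨W, hW, hpW, hWV⟩ : ∃ W : Y.Opens, IsAffineOpen W ∧ f p ∈ W ∧ W ≤ V := by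
    obtain ⟨_, ⟨W, hW, rfl⟩, hpW, hWV⟩ := Y.isBasis_affineOpens.exists_subset_of_mem_open
      (show f p ∈ (V : Set Y) from hp) V.2
    exact ⟨W, hW, hpW, hWV⟩
  obtain ⟨s', hs'⟩ : ∃ s' : Γ((Scheme.Modules.pushforward f).obj M, W),
      s' = M.presheaf.map (homOfLE (f.preimage_mono hWV)).op s := ⟨_, rfl⟩
  obtain ⟨K, i, hKq, hKft, ht'⟩ := exists_ft_sub ((Scheme.Modules.pushforward f).obj M) hW
    (r := 1) (fun _ => s')
  obtain ⟨t', ht'⟩ := ht' 0
  obtain ⟨E₀, π₀, hE₀, hπ₀⟩ := hY K hKq hKft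
  haveI : Epi π₀ := hπ₀
  obtain ⟨V', hV', e, hpV', he⟩ :=
    Groth.Agent.H53.modules_epi_locally_surjective π₀ W t' (f p) hpW
  refine ⟨(Scheme.Modules.pullback f).obj E₀,
    ((Scheme.Modules.pullbackPushforwardAdjunction f).homEquiv E₀ M).symm (π₀ ≫ i),
    Groth.Agent.H28.LpullLoc.isFinLocFree_pullback f hE₀, f ⁻¹ᵁ V',
    f.preimage_mono (hV'.trans hWV), hpV',
    ((Scheme.Modules.pullbackPushforwardAdjunction f).unit.app E₀).app V' e, ?_⟩
  rw [adj_app f (π₀ ≫ i) V']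
  have h1 : (π₀ ≫ i).app V' e = i.app V' (π₀.app V' e) := rfl
  rw [h1, he, app_res, ht', hs']
  exact res_res (M := M) (f.preimage_mono hV') (f.preimage_mono hWV) s

theorem good_of_relSpan [QuasiCompact f] [QuasiSeparated f] [CompactSpace Y]
    [QuasiSeparatedSpace Y] [M.IsQuasicoherent] (hY : PerfAux.HasResolutionProperty Y)
    {B : X.Opens} {m : Γ(M, B)} (hm : m ∈ CounitEpi.RelSpan f M B) (p : X) (hp : p ∈ B) :
    Good M m p := by
  refine Submodule.span_induction (p := fun m _ => Good M m p) ?_ ?_ ?_ ?_ hm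
  · rintro t ⟨V, h, s, rfl⟩
    exact good_res M h hp (good_of_section M f hY V s p (h hp))
  · exact good_zero M p hp
  · intro m₁ m₂ _ _ h₁ h₂
    exact good_add M h₁ h₂
  · intro r m₁ _ h₁
    exact good_smul M r h₁

theorem good_all [QuasiCompact f] [QuasiSeparated f] [CompactSpace Y]
    [QuasiSeparatedSpace Y] [M.IsQuasicoherent] (hY : PerfAux.HasResolutionProperty Y)
    (hepi : Epi ((Scheme.Modules.pullbackPushforwardAdjunction f).counit.app M))
    (A : X.Opens) (m : Γ(M, A)) (p : X) (hp : p ∈ A) : Good M m p := by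
  obtain ⟨B, h, hpB, hm⟩ := CounitEpi.mem_relSub_of_epi f M hepi A m p hp
  exact good_of_res M h (good_of_relSpan M f hY hm p hpB)

end Good

/-- If every local section of a quasi-coherent module of finite type on a quasi-compact scheme is
locally in the image of a morphism from a finite locally free module, the module is a quotient
of a finite locally free module. -/
theorem exists_epi_of_good [CompactSpace X] (M : X.Modules) [M.IsQuasicoherent]
    [SheafOfModules.IsFiniteType (R := X.ringCatSheaf) M]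
    (hall : ∀ (A : X.Opens) (m : Γ(M, A)) (p : X), p ∈ A → Good M m p) :
    ∃ (E : X.Modules) (π : E ⟶ M), FlatMod.IsFinLocFree E ∧ Epi π := by
  classical
  have hloc : ∀ x : X, ∃ (U₀ : X.Opens) (E : X.Modules) (ψ : E ⟶ M), x ∈ U₀ ∧
      FlatMod.IsFinLocFree E ∧
      ∀ (U : X.Opens) (t : Γ(M, U)) (y : X), y ∈ U → y ∈ U₀ →
        ∃ (U' : X.Opens) (hU' : U' ≤ U), y ∈ U' ∧ ∃ s : Γ(E, U'),
          ψ.app U' s = M.presheaf.map (homOfLE hU').op t := by
    intro x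
    obtain ⟨A, hA, hxA⟩ : ∃ A : X.Opens, IsAffineOpen A ∧ x ∈ A := by
      obtain ⟨_, ⟨A, hA, rfl⟩, hxA, -⟩ := X.isBasis_affineOpens.exists_subset_of_mem_open
        (Set.mem_univ x) isOpen_univ
      exact ⟨A, hA, hxA⟩
    obtain ⟨r, g, hg⟩ := exists_local_generators M hA
    choose E ψ hE B hB hxB e he using fun k => hall A (g k) x hxA
    obtain ⟨E', π', hE', h'⟩ := exists_biprod_list
      ((List.finRange r).map (fun k => (⟨E k, ψ k⟩ : Σ E : X.Modules, E ⟶ M)))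
      (fun p hp => by
        obtain ⟨k, -, rfl⟩ := List.mem_map.mp hp
        exact hE k)
    obtain ⟨U₀, hU₀⟩ : ∃ U₀ : X.Opens, U₀ = A ⊓ Finset.univ.inf B := ⟨_, rfl⟩
    have hU₀A : U₀ ≤ A := hU₀ ▸ inf_le_left
    have hU₀B : ∀ k, U₀ ≤ B k := fun k =>
      hU₀ ▸ inf_le_right.trans (Finset.inf_le (Finset.mem_univ k))
    have hxU₀ : x ∈ U₀ := by
      rw [hU₀]
      have : ∀ S : Finset (Fin r), x ∈ S.inf B := by
        intro S
        induction S using Finset.induction_on with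
        | empty => rw [Finset.inf_empty]; trivial
        | insert a S ha ih => rw [Finset.inf_insert]; exact ⟨hxB a, ih⟩
      exact ⟨hxA, this _⟩
    refine ⟨U₀, E', π', hxU₀, hE', fun U t y hyU hyU₀ => ?_⟩
    have hyUU₀ : y ∈ U ⊓ U₀ := ⟨hyU, hyU₀⟩
    obtain ⟨a, haU, hya⟩ := hA.exists_basicOpen_le (V := U ⊓ U₀) ⟨y, hyUU₀⟩ (hU₀A hyU₀)
    obtain ⟨c, hc⟩ := hg a (M.presheaf.map (homOfLE (haU.trans inf_le_left)).op t)
    have hk : ∀ k : Fin r, ∃ e' : Γ(E', X.basicOpen a), π'.app (X.basicOpen a) e' =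
        M.presheaf.map (homOfLE (X.basicOpen_le a)).op (g k) := by
      intro k
      have hle : X.basicOpen a ≤ B k := (haU.trans inf_le_right).trans (hU₀B k)
      obtain ⟨e', he'⟩ := h' ⟨E k, ψ k⟩
        (List.mem_map.mpr ⟨k, List.mem_finRange k, rfl⟩) (X.basicOpen a)
        ((E k).presheaf.map (homOfLE hle).op (e k))
      refine ⟨e', he'.trans ?_⟩
      show (ψ k).app (X.basicOpen a) ((E k).presheaf.map (homOfLE hle).op (e k)) = _
      rw [app_res, he k, res_res]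
    choose e' he' using hk
    refine ⟨X.basicOpen a, haU.trans inf_le_left, hya, ∑ k, c k • e' k, ?_⟩
    rw [hc, map_sum]
    refine Finset.sum_congr rfl (fun k _ => ?_)
    rw [Scheme.Modules.Hom.app_smul, he' k]
  choose W E ψ hxW hE hhit using hloc
  obtain ⟨F, hF⟩ := CompactSpace.elim_nhds_subcover (fun x => (W x : Set X))
    (fun x => (W x).isOpen.mem_nhds (hxW x))
  obtain ⟨E', π', hE', h'⟩ := exists_biprod_list
    (F.toList.map (fun y => (⟨E y, ψ y⟩ : Σ E : X.Modules, E ⟶ M)))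
    (fun p hp => by
      obtain ⟨y, -, rfl⟩ := List.mem_map.mp hp
      exact hE y)
  refine ⟨E', π', hE', Groth.Agent.S4407.epi_of_locally _ (fun U t x hxU => ?_)⟩
  obtain ⟨y, hyF, hxy⟩ : ∃ y ∈ F, x ∈ W y := by
    have : x ∈ ⋃ y ∈ F, (W y : Set X) := by rw [hF]; trivial
    obtain ⟨y, hy, hxy⟩ := Set.mem_iUnion₂.mp this
    exact ⟨y, hy, hxy⟩
  obtain ⟨U', hU', hxU', s, hs⟩ := hhit y U t x hxU hxy
  obtain ⟨e, he⟩ := h' ⟨E y, ψ y⟩ (List.mem_map.mpr ⟨y, Finset.mem_toList.mpr hyF, rfl⟩) U' s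
  exact ⟨U', hU', hxU', e, he.trans hs⟩

/-- The resolution property ascends along a morphism carrying a relatively ample module, over a
quasi-compact quasi-separated base. -/
theorem hasResolutionProperty_of_isRelAmple (f : X ⟶ Y) [CompactSpace Y] [QuasiSeparatedSpace Y]
    (hY : PerfAux.HasResolutionProperty Y) (L : X.Modules) (hL : RelAmple.IsRelAmple f L) :
    PerfAux.HasResolutionProperty X := by
  haveI : QuasiCompact f := hL.1
  haveI : IsSeparated f := Groth.Agent.H22.AmpleLocal.isSeparated_of_isRelAmple f L hL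
  haveI : CompactSpace X := QuasiCompact.compactSpace_of_compactSpace f
  haveI : QuasiSeparatedSpace X := quasiSeparatedSpace_of_quasiSeparated f
  have hLinv := Groth.Agent.S4417.isInvertible_of_isRelAmple f L hL
  intro M hMq hMft
  obtain ⟨n₀, -, hn⟩ := Groth.Agent.H22.RelTwistGG.exists_epi_counit_of_isRelAmple f hLinv hL M
    hMq hMft
  have hepi := hn n₀ le_rfl
  have hB := isInvertible_tensorPow hLinv n₀
  have hcoh : Coh.IsCoh (CohB1.tensorMod M (CohB1.tensorPow L n₀)) :=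
    Groth.Agent.H18.TensorCoh.isCoh_tensorMod ⟨hMq, hMft⟩ hB
  haveI : (CohB1.tensorMod M (CohB1.tensorPow L n₀)).IsQuasicoherent := hcoh.1
  haveI : SheafOfModules.IsFiniteType (R := X.ringCatSheaf)
      (CohB1.tensorMod M (CohB1.tensorPow L n₀)) := hcoh.2
  obtain ⟨E, π, hE, hπ⟩ := exists_epi_of_good (CohB1.tensorMod M (CohB1.tensorPow L n₀))
    (good_all _ f hY hepi)
  haveI : Epi π := hπ
  exact exists_epi_of_twist hB hE π

end Groth.Agent.H22.ResPropRel
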