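import Mathlib
import Groth.Prelude.Def_RelSpec
import Groth.Agent.H41.AffAlgPushout

/-!
# Relative spectra: closed immersions and schemes affine over the base (helper22)

* `isClosedImmersion_specMap_of_surjective`: a homomorphism of quasi-coherent algebras which is
  surjective on the sections over affine opens induces a closed immersion of relative spectra.
* `exists_iso_spec_directImage`: a scheme affine over `S` is the relative spectrum of its direct
  image algebra.
-/

set_option autoImplicit false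
set_option linter.style.haveILetI false
universe u
open CategoryTheory CategoryTheory.Limits AlgebraicGeometry TopologicalSpace Opposite

namespace Groth.Agent.H22.SpecLib

open Groth.Agent.H41.AffAlgLib

variable {S : Scheme.{u}}

/-- The chart square of `specMap`. -/
theorem isPullback_ι_specMap {A B : RelSpec.QCAlg S} (ψ : A ⟶ B) (U : S.Opens)
    (hU : IsAffineOpen U) :
    IsPullback (Spec.map (ψ.hom.app (op U))) (B.ι U hU) (A.ι U hU) (RelSpec.QCAlg.specMap ψ) := by
  have hrange : RelSpec.QCAlg.specMap ψ ⁻¹ᵁ (A.ι U hU).opensRange =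
      (B.ι U hU).opensRange := by
    rw [← A.π_preimage U hU, ← B.π_preimage U hU, ← Scheme.Hom.comp_preimage,
      RelSpec.QCAlg.specMap_π]
  exact IsOpenImmersion.isPullback _ _ _ _ (RelSpec.QCAlg.ι_specMap U hU ψ) hrange

theorem isClosedImmersion_specMap_of_surjective {A B : RelSpec.QCAlg S} (ψ : A ⟶ B)
    (h : ∀ (U : S.Opens), IsAffineOpen U → Function.Surjective (ψ.hom.app (op U)).hom) :
    IsClosedImmersion (RelSpec.QCAlg.specMap ψ) := by
  have key : ∀ (U : S.Opens) (hU : IsAffineOpen U),
      IsClosedImmersion (pullback.snd (RelSpec.QCAlg.specMap ψ) (A.ι U hU)) := by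
    intro U hU
    haveI : IsClosedImmersion (Spec.map (ψ.hom.app (op U))) :=
      IsClosedImmersion.spec_of_surjective _ (h U hU)
    have hpb := isPullback_ι_specMap ψ U hU
    have h1 : hpb.flip.isoPullback.hom ≫ pullback.snd (RelSpec.QCAlg.specMap ψ) (A.ι U hU) =
        Spec.map (ψ.hom.app (op U)) := hpb.flip.isoPullback_hom_snd
    have h2 : pullback.snd (RelSpec.QCAlg.specMap ψ) (A.ι U hU) =
        hpb.flip.isoPullback.inv ≫ Spec.map (ψ.hom.app (op U)) :=
      (Iso.eq_inv_comp _).mpr h1
    rw [h2]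
    exact (MorphismProperty.cancel_left_of_respectsIso @IsClosedImmersion _ _).mpr this
  apply IsZariskiLocalAtTarget.of_openCover (P := @IsClosedImmersion) A.glueData.cover
  intro i
  exact key i.1 i.2

section Affine

variable {X : Scheme.{u}} (f : X ⟶ S) [IsAffineHom f]

theorem Amap_id : Amap f f (𝟙 X) (Category.id_comp f) = 𝟙 (RelSpec.QCAlg.directImage f) := by
  apply RelSpec.QCAlg.hom_ext
  refine NatTrans.ext (funext fun U => ?_)
  change (AffAlg.algHom f f (𝟙 X) (Category.id_comp f)).app (op U.unop) = 𝟙 _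
  have e : f ⁻¹ᵁ U.unop ≤ (𝟙 X) ⁻¹ᵁ (f ⁻¹ᵁ U.unop) := le_rfl
  rw [algHom_app f f (𝟙 X) (Category.id_comp f) U.unop e]
  simp only [Scheme.Hom.appLE, Scheme.Hom.id_app]
  exact X.presheaf.map_id _

/-- A scheme affine over `S` is the relative spectrum of its direct image algebra. -/
theorem exists_iso_spec_directImage :
    ∃ c : X ≅ (RelSpec.QCAlg.directImage f).spec,
      c.hom ≫ (RelSpec.QCAlg.directImage f).π = f := by
  obtain ⟨B, hB⟩ : ∃ B : RelSpec.QCAlg S, B = RelSpec.QCAlg.directImage f := ⟨_, rfl⟩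
  obtain ⟨e, -⟩ := exists_gammaIso (RelSpec.QCAlg.directImage f)
  obtain ⟨h, wh, eh⟩ := Amap_surjective (RelSpec.QCAlg.directImage f).π f e.hom
  obtain ⟨h', wh', eh'⟩ := Amap_surjective f (RelSpec.QCAlg.directImage f).π e.inv
  have w1 : (h' ≫ h) ≫ (RelSpec.QCAlg.directImage f).π = (RelSpec.QCAlg.directImage f).π := by
    rw [Category.assoc, wh, wh']
  have w2 : (h ≫ h') ≫ f = f := by rw [Category.assoc, wh', wh]
  have e1 : h' ≫ h = 𝟙 _ := by
    apply Amap_injective (RelSpec.QCAlg.directImage f).π (RelSpec.QCAlg.directImage f).π w1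
      (Category.id_comp _)
    rw [← Amap_comp (RelSpec.QCAlg.directImage f).π f (RelSpec.QCAlg.directImage f).π h wh h' wh'
      w1, eh, eh', e.hom_inv_id, Amap_id]
  have e2 : h ≫ h' = 𝟙 _ := by
    apply Amap_injective f f w2 (Category.id_comp _)
    rw [← Amap_comp f (RelSpec.QCAlg.directImage f).π f h' wh' h wh w2, eh, eh', e.inv_hom_id,
      Amap_id]
  exact ⟨⟨h, h', e2, e1⟩, wh⟩

end Affine

end Groth.Agent.H22.SpecLib
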