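import Mathlib
import Groth.Agent.H22.QCAlgSub
import Groth.Agent.H8.CohAffine
import Groth.Agent.H53.ModEpi

/-!
# A symmetric algebra is generated by the image of the module (helper22)

For `(A, j : E ⟶ A)` satisfying the universal property `RelSpec.IsSymAlg`, the algebra `A` coincides
with its quasi-coherent subalgebra generated by the image of `j`; hence it is of finite type when
`E` is quasi-coherent of finite type.
-/

set_option autoImplicit false
set_option linter.style.haveILetI false
set_option linter.unusedSectionVars false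
universe u
open CategoryTheory CategoryTheory.Limits AlgebraicGeometry TopologicalSpace Opposite

namespace Groth.Agent.H22

open Groth.Agent.H8 Groth.Agent.H22.QCohLimits Groth.Agent.H22.QCohAbelian

section

variable {X : Scheme.{u}}

lemma toModuleMap_app {A B : RelSpec.QCAlg X} (φ : A ⟶ B) (V : X.Opens) (x : Γ(A.toModule, V)) :
    toB B V ((RelSpec.QCAlg.Hom.toModuleMap φ).app V x) = (φ.hom.app (op V)).hom (toB A V x) := rfl

lemma toModuleMap_comp {A B C : RelSpec.QCAlg X} (φ : A ⟶ B) (ψ : B ⟶ C) :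
    RelSpec.QCAlg.Hom.toModuleMap (φ ≫ ψ) =
      RelSpec.QCAlg.Hom.toModuleMap φ ≫ RelSpec.QCAlg.Hom.toModuleMap ψ := by
  refine Scheme.Modules.hom_ext _ _ (fun V => ?_)
  ext x
  rfl

lemma toModuleMap_id (A : RelSpec.QCAlg X) :
    RelSpec.QCAlg.Hom.toModuleMap (𝟙 A) = 𝟙 A.toModule := by
  refine Scheme.Modules.hom_ext _ _ (fun V => ?_)
  ext x
  rfl

lemma mono_of_app_injective {M N : X.Modules} (f : M ⟶ N)
    (h : ∀ V : X.Opens, Function.Injective (f.app V)) : Mono f :=
  ⟨fun g₁ g₂ e => Scheme.Modules.hom_ext _ _ (fun V => by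
    ext x
    exact h V (congrArg (fun ψ => ψ.app V x) e))⟩

/-- The image of a morphism from a quasi-coherent module of finite type, as a subsheaf. -/
theorem SubSh.exists_image {F E : X.Modules} [F.IsQuasicoherent] [E.IsQuasicoherent]
    (hE : SheafOfModules.IsFiniteType (R := X.ringCatSheaf) E) (j : E ⟶ F) :
    ∃ K : SubSh F, K.QC ∧ K.FTOn ⊤ ∧ ∀ (V : X.Opens) (x : Γ(E, V)), K.mem V (j.app V x) := by
  haveI := hE
  haveI hIq : (Abelian.image j).IsQuasicoherent := isQuasicoherent_image j
  have hπj : Abelian.factorThruImage j ≫ Abelian.image.ι j = j := Abelian.image.fac j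
  haveI : (kernel (Abelian.factorThruImage j)).IsQuasicoherent :=
    isQuasicoherent_kernel (Abelian.factorThruImage j)
  refine ⟨SubSh.range (Abelian.image.ι j), SubSh.range_QC (Abelian.image.ι j), ?_, ?_⟩
  · intro A hA _
    refine SubSh.range_fg (Abelian.image.ι j) A ?_
    let S : ShortComplex X.Modules := ShortComplex.mk (kernel.ι (Abelian.factorThruImage j))
      (Abelian.factorThruImage j) (kernel.condition _)
    have hS : S.ShortExact :=
      { exact := ShortComplex.exact_of_f_is_kernel S (kernelIsKernel _)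
        mono_f := inferInstanceAs (Mono (kernel.ι (Abelian.factorThruImage j)))
        epi_g := inferInstanceAs (Epi (Abelian.factorThruImage j)) }
    haveI : S.X₁.IsQuasicoherent :=
      inferInstanceAs (kernel (Abelian.factorThruImage j)).IsQuasicoherent
    have hsurj : Function.Surjective ((Abelian.factorThruImage j).app A) :=
      QCohH1.app_surjective S hS hA
    haveI hfinE : Module.Finite Γ(X, A) Γ(E, A) := finite_sections_of_isAffineOpen E hA
    exact Module.Finite.of_surjective (appₗ (Abelian.factorThruImage j) A) hsurj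
  · intro V x
    have e2 := congrArg (fun ψ : E ⟶ F => ψ.app V x) hπj
    exact ⟨(Abelian.factorThruImage j).app V x, e2⟩

/-- A symmetric algebra of a quasi-coherent module of finite type is of finite type. -/
theorem finiteType_of_isSymAlg (E : X.Modules) (hE : Coh.IsCoh E) (A : RelSpec.QCAlg X)
    (j : E ⟶ A.toModule) (hA : RelSpec.IsSymAlg E A j) (V : X.affineOpens) :
    (A.str.app (op (V : X.Opens))).hom.FiniteType := by
  haveI := toModule_isQuasicoherent A
  haveI : E.IsQuasicoherent := hE.1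
  obtain ⟨K, hK, hft, hmem⟩ := SubSh.exists_image hE.2 j
  obtain ⟨B', hB'⟩ : ∃ B' : RelSpec.QCAlg X, B' = subAlg A K hK := ⟨_, rfl⟩
  obtain ⟨φ, hφ⟩ : ∃ φ : subAlg A K hK ⟶ A, φ = subAlgHom A K hK := ⟨_, rfl⟩
  have hφval : ∀ (W : X.Opens) (y : Γ((subAlg A K hK).toModule, W)),
      toB A W ((RelSpec.QCAlg.Hom.toModuleMap φ).app W y) =
        (toL A K (toB (subAlg A K hK) W y)).1 := fun W y => by
    rw [hφ]
    rfl
  haveI hm : Mono (RelSpec.QCAlg.Hom.toModuleMap φ) := by
    refine mono_of_app_injective _ (fun W y z hyz => ?_)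
    have h1 := congrArg (toB A W) hyz
    rw [hφval, hφval] at h1
    exact toB_injective (subAlg A K hK) W (Subtype.ext h1)
  have hzero : j ≫ cokernel.π (RelSpec.QCAlg.Hom.toModuleMap φ) = 0 := by
    refine Scheme.Modules.hom_ext _ _ (fun W => ?_)
    ext x
    have hx : toB A W (j.app W x) ∈ locRing A K W :=
      genRing_le_locRing A K W (mem_genRing_of_mem A K W _ (hmem W x))
    have h1 : j.app W x = (RelSpec.QCAlg.Hom.toModuleMap φ).app W
        (ofB (subAlg A K hK) W (ofL A K ⟨toB A W (j.app W x), hx⟩)) := by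
      apply toB_injective A W
      rw [hφval]
      rfl
    show (cokernel.π (RelSpec.QCAlg.Hom.toModuleMap φ)).app W (j.app W x) = 0
    rw [h1]
    exact app_comp_eq_zero (ShortComplex.mk (RelSpec.QCAlg.Hom.toModuleMap φ)
      (cokernel.π (RelSpec.QCAlg.Hom.toModuleMap φ)) (cokernel.condition _)) W _
  obtain ⟨j', hj'⟩ : ∃ j' : E ⟶ (subAlg A K hK).toModule,
      j' ≫ RelSpec.QCAlg.Hom.toModuleMap φ = j :=
    ⟨Abelian.monoLift _ j hzero, Abelian.monoLift_comp _ j hzero⟩
  obtain ⟨ψ, hψ, -⟩ := hA (subAlg A K hK) j'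
  have hcomp : ψ ≫ φ = 𝟙 A := by
    obtain ⟨χ, -, huniq⟩ := hA A j
    have h1 : ψ ≫ φ = χ := huniq _ (by
      show j ≫ RelSpec.QCAlg.Hom.toModuleMap (ψ ≫ φ) = j
      rw [toModuleMap_comp, ← Category.assoc]
      exact (congrArg (fun t => t ≫ RelSpec.QCAlg.Hom.toModuleMap φ) hψ).trans hj')
    have h2 : 𝟙 A = χ := huniq _ (by
      show j ≫ RelSpec.QCAlg.Hom.toModuleMap (𝟙 A) = j
      rw [toModuleMap_id, Category.comp_id])
    rw [h1, h2]
  have hsurj : Function.Surjective (φ.hom.app (op V.1)).hom := fun a =>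
    ⟨(ψ.hom.app (op V.1)).hom a, congrArg (fun χ : A ⟶ A => (χ.hom.app (op V.1)).hom a) hcomp⟩
  have h1 : ((subAlg A K hK).str.app (op V.1)).hom.FiniteType :=
    subAlg_finiteType A K hK hft V
  have h2 : A.str.app (op V.1) = (subAlg A K hK).str.app (op V.1) ≫ φ.hom.app (op V.1) :=
    (NatTrans.congr_app φ.comm (op V.1)).symm
  rw [h2]
  exact (RingHom.FiniteType.of_surjective _ hsurj).comp h1

/-- For a symmetric algebra `(A, j)` and a quasi-coherent subsheaf `K` containing the image of `j`,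
every section of `A` lies locally in the subring generated by the functions and `K`. -/
theorem mem_locRing_of_isSymAlg (E : X.Modules) (A : RelSpec.QCAlg X)
    (j : E ⟶ A.toModule) (hA : RelSpec.IsSymAlg E A j) (K : SubSh A.toModule) (hK : K.QC)
    (hmem : ∀ (W : X.Opens) (x : Γ(E, W)), K.mem W (j.app W x))
    (W : X.Opens) (a : A.presheaf.obj (op W)) : a ∈ locRing A K W := by
  obtain ⟨φ, hφ⟩ : ∃ φ : subAlg A K hK ⟶ A, φ = subAlgHom A K hK := ⟨_, rfl⟩
  have hφval : ∀ (W : X.Opens) (y : Γ((subAlg A K hK).toModule, W)),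
      toB A W ((RelSpec.QCAlg.Hom.toModuleMap φ).app W y) =
        (toL A K (toB (subAlg A K hK) W y)).1 := fun W y => by
    rw [hφ]
    rfl
  haveI hm : Mono (RelSpec.QCAlg.Hom.toModuleMap φ) := by
    refine mono_of_app_injective _ (fun W y z hyz => ?_)
    have h1 := congrArg (toB A W) hyz
    rw [hφval, hφval] at h1
    exact toB_injective (subAlg A K hK) W (Subtype.ext h1)
  have hzero : j ≫ cokernel.π (RelSpec.QCAlg.Hom.toModuleMap φ) = 0 := by
    refine Scheme.Modules.hom_ext _ _ (fun W => ?_)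
    ext x
    have hx : toB A W (j.app W x) ∈ locRing A K W :=
      genRing_le_locRing A K W (mem_genRing_of_mem A K W _ (hmem W x))
    have h1 : j.app W x = (RelSpec.QCAlg.Hom.toModuleMap φ).app W
        (ofB (subAlg A K hK) W (ofL A K ⟨toB A W (j.app W x), hx⟩)) := by
      apply toB_injective A W
      rw [hφval]
      rfl
    show (cokernel.π (RelSpec.QCAlg.Hom.toModuleMap φ)).app W (j.app W x) = 0
    rw [h1]
    exact app_comp_eq_zero (ShortComplex.mk (RelSpec.QCAlg.Hom.toModuleMap φ)
      (cokernel.π (RelSpec.QCAlg.Hom.toModuleMap φ)) (cokernel.condition _)) W _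
  obtain ⟨j', hj'⟩ : ∃ j' : E ⟶ (subAlg A K hK).toModule,
      j' ≫ RelSpec.QCAlg.Hom.toModuleMap φ = j :=
    ⟨Abelian.monoLift _ j hzero, Abelian.monoLift_comp _ j hzero⟩
  obtain ⟨ψ, hψ, -⟩ := hA (subAlg A K hK) j'
  have hcomp : ψ ≫ φ = 𝟙 A := by
    obtain ⟨χ, -, huniq⟩ := hA A j
    have h1 : ψ ≫ φ = χ := huniq _ (by
      show j ≫ RelSpec.QCAlg.Hom.toModuleMap (ψ ≫ φ) = j
      rw [toModuleMap_comp, ← Category.assoc]
      exact (congrArg (fun t => t ≫ RelSpec.QCAlg.Hom.toModuleMap φ) hψ).trans hj')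
    have h2 : 𝟙 A = χ := huniq _ (by
      show j ≫ RelSpec.QCAlg.Hom.toModuleMap (𝟙 A) = j
      rw [toModuleMap_id, Category.comp_id])
    rw [h1, h2]
  have h3 : (φ.hom.app (op W)).hom ((ψ.hom.app (op W)).hom a) = a :=
    congrArg (fun χ : A ⟶ A => (χ.hom.app (op W)).hom a) hcomp
  have h4 : (φ.hom.app (op W)).hom ((ψ.hom.app (op W)).hom a) =
      (toL A K ((ψ.hom.app (op W)).hom a)).1 := by
    rw [hφ]
    rfl
  rw [← h3, h4]
  exact (toL A K ((ψ.hom.app (op W)).hom a)).2

/-- An epimorphism of quasi-coherent modules induces a surjection of the symmetric algebras over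
every affine open. -/
theorem surjective_of_epi_of_isSymAlg (E F : X.Modules) [E.IsQuasicoherent] (u : E ⟶ F) [Epi u]
    (A B : RelSpec.QCAlg X) (j : E ⟶ A.toModule) (k : F ⟶ B.toModule)
    (hB : RelSpec.IsSymAlg F B k)
    (ψ : A ⟶ B) (hψ : j ≫ RelSpec.QCAlg.Hom.toModuleMap ψ = u ≫ k)
    (U : X.Opens) (hU : IsAffineOpen U) : Function.Surjective (ψ.hom.app (op U)).hom := by
  haveI := toModule_isQuasicoherent B
  haveI hIq : (Abelian.image (u ≫ k)).IsQuasicoherent := isQuasicoherent_image (u ≫ k)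
  have hπj : Abelian.factorThruImage (u ≫ k) ≫ Abelian.image.ι (u ≫ k) = u ≫ k :=
    Abelian.image.fac (u ≫ k)
  haveI : (kernel (Abelian.factorThruImage (u ≫ k))).IsQuasicoherent :=
    isQuasicoherent_kernel (Abelian.factorThruImage (u ≫ k))
  obtain ⟨K, hKdef⟩ : ∃ K : SubSh B.toModule, K = SubSh.range (Abelian.image.ι (u ≫ k)) :=
    ⟨_, rfl⟩
  have hK : K.QC := by
    rw [hKdef]
    exact SubSh.range_QC (Abelian.image.ι (u ≫ k))
  have hmemE : ∀ (W : X.Opens) (x : Γ(E, W)), K.mem W ((u ≫ k).app W x) := by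
    intro W x
    rw [hKdef]
    have e2 := congrArg (fun χ : E ⟶ B.toModule => χ.app W x) hπj
    exact ⟨(Abelian.factorThruImage (u ≫ k)).app W x, e2⟩
  have hmemF : ∀ (W : X.Opens) (y : Γ(F, W)), K.mem W (k.app W y) := by
    intro W y
    apply K.local_mem
    intro p hp
    obtain ⟨V, hV, s, hpV, hs⟩ := Groth.Agent.H53.modules_epi_locally_surjective u W y p hp
    refine ⟨V, hV, hpV, ?_⟩
    rw [← app_res, ← hs]
    exact hmemE V s
  have hall := mem_locRing_of_isSymAlg F B k hB K hK hmemF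
  -- the sections of `K` over the affine `U` come from `E(U)`
  have hKU : ∀ x : Γ(B.toModule, U), K.mem U x → ∃ s : Γ(E, U), (u ≫ k).app U s = x := by
    intro x hx
    rw [hKdef] at hx
    obtain ⟨z, hz⟩ := hx
    let S : ShortComplex X.Modules := ShortComplex.mk
      (kernel.ι (Abelian.factorThruImage (u ≫ k)))
      (Abelian.factorThruImage (u ≫ k)) (kernel.condition _)
    have hS : S.ShortExact :=
      { exact := ShortComplex.exact_of_f_is_kernel S (kernelIsKernel _)
        mono_f := inferInstanceAs (Mono (kernel.ι (Abelian.factorThruImage (u ≫ k))))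
        epi_g := inferInstanceAs (Epi (Abelian.factorThruImage (u ≫ k))) }
    haveI : S.X₁.IsQuasicoherent :=
      inferInstanceAs (kernel (Abelian.factorThruImage (u ≫ k))).IsQuasicoherent
    obtain ⟨s, hs⟩ := QCohH1.app_surjective S hS hU z
    refine ⟨s, ?_⟩
    have e2 := congrArg (fun χ : E ⟶ B.toModule => χ.app U s) hπj
    refine e2.symm.trans ?_
    show (Abelian.image.ι (u ≫ k)).app U ((Abelian.factorThruImage (u ≫ k)).app U s) = x
    rw [← hz]
    exact congrArg _ hs
  have hle : genRing B K U ≤ (ψ.hom.app (op U)).hom.range := by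
    refine (Subring.closure_le (t := (ψ.hom.app (op U)).hom.range)).mpr ?_
    rintro x (⟨r, rfl⟩ | hx)
    · refine ⟨(A.str.app (op U)).hom r, ?_⟩
      exact congrArg (fun χ => χ.hom r) (NatTrans.congr_app ψ.comm (op U))
    · obtain ⟨s, hs⟩ := hKU (ofB B U x) hx
      refine ⟨toB A U (j.app U s), ?_⟩
      rw [← toModuleMap_app]
      have h5 := congrArg (fun χ : E ⟶ B.toModule => χ.app U s) hψ
      exact (congrArg (toB B U) (h5.trans hs))
  intro b
  have hb : b ∈ genRing B K U := by
    rw [← locRing_eq_genRing B K hK hU]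
    exact hall U b
  exact hle hb

end

end Groth.Agent.H22
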