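import Mathlib

/-!
# Symmetric algebras: functoriality in semilinear maps and localization (helper22)

* `symMap φ ρ hρ : Sym_R M →+* Sym_R' M'` for a ring map `φ : R →+* R'` and a `φ`-semilinear
  additive map `ρ : M →+ M'`.
* `ringHom_ext`: ring homs out of a symmetric algebra are determined on scalars and generators.
* `isLocalization_away_symMap`: if `R' = R[1/f]` and `M' = M[1/f]` then `Sym_R' M' = (Sym_R M)[1/f]`.
-/

set_option autoImplicit false
set_option linter.style.haveILetI false

namespace Groth.Agent.H22.SymLoc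

open SymmetricAlgebra

section Functor

variable {R R' R'' : Type*} [CommRing R] [CommRing R'] [CommRing R'']
variable {M M' M'' : Type*} [AddCommGroup M] [Module R M] [AddCommGroup M'] [Module R' M']
  [AddCommGroup M''] [Module R'' M'']

theorem ringHom_ext {T : Type*} [Semiring T] {f g : SymmetricAlgebra R M →+* T}
    (h1 : ∀ r, f (algebraMap R (SymmetricAlgebra R M) r) = g (algebraMap R (SymmetricAlgebra R M) r))
    (h2 : ∀ m, f (ι R M m) = g (ι R M m)) : f = g := by
  refine RingHom.ext fun x => ?_
  induction x using SymmetricAlgebra.induction with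
  | algebraMap r => exact h1 r
  | ι m => exact h2 m
  | mul a b ha hb => rw [map_mul, map_mul, ha, hb]
  | add a b ha hb => rw [map_add, map_add, ha, hb]

/-- Functoriality of the symmetric algebra in semilinear maps. -/
noncomputable def symMap (φ : R →+* R') (ρ : M →+ M')
    (hρ : ∀ (r : R) (m : M), ρ (r • m) = φ r • ρ m) :
    SymmetricAlgebra R M →+* SymmetricAlgebra R' M' :=
  letI : Algebra R (SymmetricAlgebra R' M') :=
    ((algebraMap R' (SymmetricAlgebra R' M')).comp φ).toAlgebra
  (SymmetricAlgebra.lift (R := R) (M := M) (A := SymmetricAlgebra R' M')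
    { toFun := fun m => ι R' M' (ρ m)
      map_add' := fun x y => by rw [map_add, map_add]
      map_smul' := fun r m => by
        rw [hρ, map_smul, RingHom.id_apply, Algebra.smul_def, Algebra.smul_def]
        rfl }).toRingHom

variable (φ : R →+* R') (ρ : M →+ M') (hρ : ∀ (r : R) (m : M), ρ (r • m) = φ r • ρ m)

theorem symMap_algebraMap (r : R) :
    symMap φ ρ hρ (algebraMap R (SymmetricAlgebra R M) r) =
      algebraMap R' (SymmetricAlgebra R' M') (φ r) := by
  letI : Algebra R (SymmetricAlgebra R' M') :=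
    ((algebraMap R' (SymmetricAlgebra R' M')).comp φ).toAlgebra
  exact AlgHom.commutes (SymmetricAlgebra.lift (R := R) (M := M) (A := SymmetricAlgebra R' M') _) r

theorem symMap_ι (m : M) : symMap φ ρ hρ (ι R M m) = ι R' M' (ρ m) := by
  letI : Algebra R (SymmetricAlgebra R' M') :=
    ((algebraMap R' (SymmetricAlgebra R' M')).comp φ).toAlgebra
  exact lift_ι_apply _ m

theorem symMap_id :
    symMap (RingHom.id R) (AddMonoidHom.id M) (fun _ _ => rfl) =
      RingHom.id (SymmetricAlgebra R M) :=
  ringHom_ext (fun r => by rw [symMap_algebraMap]; rfl) (fun m => by rw [symMap_ι]; rfl)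

theorem symMap_comp (ψ : R' →+* R'') (σ : M' →+ M'')
    (hσ : ∀ (r : R') (m : M'), σ (r • m) = ψ r • σ m) :
    symMap (ψ.comp φ) (σ.comp ρ)
        (fun r m => by rw [AddMonoidHom.comp_apply, hρ, hσ]; rfl) =
      (symMap ψ σ hσ).comp (symMap φ ρ hρ) :=
  ringHom_ext
    (fun r => by
      rw [symMap_algebraMap]
      change _ = symMap ψ σ hσ (symMap φ ρ hρ _)
      rw [symMap_algebraMap, symMap_algebraMap]; rfl)
    (fun m => by
      rw [symMap_ι]
      change _ = symMap ψ σ hσ (symMap φ ρ hρ _)
      rw [symMap_ι, symMap_ι]; rfl)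

end Functor

section Localization

variable {R R' : Type*} [CommRing R] [CommRing R']
variable {M M' : Type*} [AddCommGroup M] [Module R M] [AddCommGroup M'] [Module R' M']

set_option maxHeartbeats 1000000 in
/-- The symmetric algebra commutes with localization away from an element. -/
theorem isLocalization_away_symMap (φ : R →+* R') (ρ : M →+ M')
    (hρ : ∀ (r : R) (m : M), ρ (r • m) = φ r • ρ m) (f : R)
    (hloc : letI := φ.toAlgebra; IsLocalization.Away f R')
    (hmod : letI : Module R M' := Module.compHom M' φ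
      IsLocalizedModule (Submonoid.powers f)
        ({ toFun := ρ, map_add' := map_add ρ, map_smul' := fun r m => hρ r m } : M →ₗ[R] M')) :
    letI := (symMap φ ρ hρ).toAlgebra
    IsLocalization.Away (algebraMap R (SymmetricAlgebra R M) f) (SymmetricAlgebra R' M') := by
  letI algRR' : Algebra R R' := φ.toAlgebra
  letI modRM' : Module R M' := Module.compHom M' φ
  haveI tower : IsScalarTower R R' M' := ⟨fun r r' m => by
    change (φ r * r') • m = φ r • (r' • m)
    rw [mul_smul]⟩
  haveI := hloc
  obtain ⟨ρl, hρl⟩ : ∃ ρl : M →ₗ[R] M', ρl =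
      ({ toFun := ρ, map_add' := map_add ρ, map_smul' := fun r m => hρ r m } : M →ₗ[R] M') :=
    ⟨_, rfl⟩
  have hρl' : ∀ m, ρl m = ρ m := fun m => by rw [hρl]; rfl
  haveI : IsLocalizedModule (Submonoid.powers f) ρl := by rw [hρl]; exact hmod
  letI algSS' : Algebra (SymmetricAlgebra R M) (SymmetricAlgebra R' M') :=
    (symMap φ ρ hρ).toAlgebra
  have halg : ∀ s, algebraMap (SymmetricAlgebra R M) (SymmetricAlgebra R' M') s =
      symMap φ ρ hρ s := fun s => rfl
  have hφ : ∀ r, algebraMap R R' r = φ r := fun r => rfl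
  obtain ⟨c, hc⟩ : ∃ c : SymmetricAlgebra R M, c = algebraMap R (SymmetricAlgebra R M) f :=
    ⟨_, rfl⟩
  rw [← hc]
  have hcpow : ∀ n : ℕ, symMap φ ρ hρ (c ^ n) =
      algebraMap R' (SymmetricAlgebra R' M') (φ (f ^ n)) := by
    intro n
    rw [hc, ← map_pow, symMap_algebraMap]
  -- the inverse map into the abstract localization
  have key : ∃ ψ : SymmetricAlgebra R' M' →+* Localization.Away c,
      ∀ s, ψ (symMap φ ρ hρ s) = algebraMap (SymmetricAlgebra R M) (Localization.Away c) s := by
    have hunit : IsUnit (((algebraMap (SymmetricAlgebra R M) (Localization.Away c)).comp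
        (algebraMap R (SymmetricAlgebra R M))) f) := by
      rw [RingHom.comp_apply, ← hc]
      exact IsLocalization.Away.algebraMap_isUnit c
    letI algR'T : Algebra R' (Localization.Away c) :=
      (IsLocalization.Away.lift (S := R') f hunit).toAlgebra
    have hlift : ∀ r : R, algebraMap R' (Localization.Away c) (algebraMap R R' r) =
        algebraMap (SymmetricAlgebra R M) (Localization.Away c)
          (algebraMap R (SymmetricAlgebra R M) r) := fun r =>
      IsLocalization.Away.lift_eq f hunit r
    haveI towerT : IsScalarTower R R' (Localization.Away c) :=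
      IsScalarTower.of_algebraMap_eq fun r => by
        rw [hlift, ← IsScalarTower.algebraMap_apply]
    have hEnd : ∀ x : Submonoid.powers f,
        IsUnit (algebraMap R (Module.End R (Localization.Away c)) x) := by
      rintro ⟨_, n, rfl⟩
      have hu : IsUnit (algebraMap R (Localization.Away c) (f ^ n)) := by
        rw [map_pow, IsScalarTower.algebraMap_apply R (SymmetricAlgebra R M), ← hc]
        exact (IsLocalization.Away.algebraMap_isUnit c).pow n
      rw [Module.End.isUnit_iff]
      have e : ⇑(algebraMap R (Module.End R (Localization.Away c)) (f ^ n)) =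
          fun t => algebraMap R (Localization.Away c) (f ^ n) * t := by
        funext t
        rw [Module.algebraMap_end_apply, Algebra.smul_def]
      change Function.Bijective ⇑(algebraMap R (Module.End R (Localization.Away c)) (f ^ n))
      rw [e]
      obtain ⟨u, hu'⟩ := hu
      rw [← hu']
      exact ⟨fun a b h => (Units.mul_right_inj u).mp h,
        fun t => ⟨↑u⁻¹ * t, Units.mul_inv_cancel_left u t⟩⟩
    let g₀ : M →ₗ[R] Localization.Away c :=
      (IsScalarTower.toAlgHom R (SymmetricAlgebra R M) (Localization.Away c)).toLinearMap ∘ₗ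
        ι R M
    let ℓ : M' →ₗ[R] Localization.Away c :=
      IsLocalizedModule.lift (Submonoid.powers f) ρl g₀ hEnd
    let ℓ' : M' →ₗ[R'] Localization.Away c :=
      ℓ.extendScalarsOfIsLocalization (Submonoid.powers f) R'
    let ψ : SymmetricAlgebra R' M' →ₐ[R'] Localization.Away c := SymmetricAlgebra.lift ℓ'
    refine ⟨ψ.toRingHom, fun s => ?_⟩
    have e2 : (ψ.toRingHom.comp (symMap φ ρ hρ)) =
        algebraMap (SymmetricAlgebra R M) (Localization.Away c) := by
      refine ringHom_ext (fun r => ?_) (fun m => ?_)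
      · rw [RingHom.comp_apply, symMap_algebraMap]
        change ψ (algebraMap R' _ (φ r)) = _
        rw [AlgHom.commutes, ← hφ, hlift]
      · rw [RingHom.comp_apply, symMap_ι]
        change ψ (ι R' M' (ρ m)) = _
        rw [lift_ι_apply, ← hρl']
        change ℓ (ρl m) = _
        rw [IsLocalizedModule.lift_apply]
        rfl
    exact congrArg (fun χ => χ s) e2
  obtain ⟨ψ, hψ⟩ := key
  have hfunit : IsUnit (φ f) := IsLocalization.Away.algebraMap_isUnit (S := R') f
  rw [IsLocalization.Away, isLocalization_iff]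
  refine ⟨?_, ?_, ?_⟩
  · rintro ⟨_, n, rfl⟩
    rw [halg, hcpow, map_pow, map_pow]
    exact (hfunit.map (algebraMap R' (SymmetricAlgebra R' M'))).pow n
  · intro z
    induction z using SymmetricAlgebra.induction with
    | algebraMap r' =>
      obtain ⟨⟨a, ⟨_, n, rfl⟩⟩, h⟩ := IsLocalization.surj (Submonoid.powers f) r'
      refine ⟨(algebraMap R _ a, ⟨c ^ n, n, rfl⟩), ?_⟩
      change algebraMap R' _ r' * symMap φ ρ hρ (c ^ n) = symMap φ ρ hρ (algebraMap R _ a)
      rw [hcpow, symMap_algebraMap, ← map_mul]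
      congr 1
    | ι m' =>
      obtain ⟨⟨m, ⟨_, n, rfl⟩⟩, h⟩ := IsLocalizedModule.surj (Submonoid.powers f) ρl m'
      refine ⟨(ι R M m, ⟨c ^ n, n, rfl⟩), ?_⟩
      change ι R' M' m' * symMap φ ρ hρ (c ^ n) = symMap φ ρ hρ (ι R M m)
      rw [hcpow, symMap_ι, mul_comm, ← Algebra.smul_def, ← map_smul, ← hρl', ← h]
      rfl
    | mul z₁ z₂ h₁ h₂ =>
      obtain ⟨⟨x₁, s₁⟩, h₁⟩ := h₁
      obtain ⟨⟨x₂, s₂⟩, h₂⟩ := h₂
      refine ⟨(x₁ * x₂, s₁ * s₂), ?_⟩
      simp only [Submonoid.coe_mul, map_mul] at h₁ h₂ ⊢
      rw [← h₁, ← h₂]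
      ring
    | add z₁ z₂ h₁ h₂ =>
      obtain ⟨⟨x₁, s₁⟩, h₁⟩ := h₁
      obtain ⟨⟨x₂, s₂⟩, h₂⟩ := h₂
      refine ⟨(x₁ * s₂ + x₂ * s₁, s₁ * s₂), ?_⟩
      simp only [Submonoid.coe_mul, map_mul, map_add] at h₁ h₂ ⊢
      rw [← h₁, ← h₂]
      ring
  · intro x y hxy
    rw [halg, halg] at hxy
    have h1 := congrArg ψ hxy
    rw [hψ, hψ] at h1
    exact IsLocalization.exists_of_eq (M := Submonoid.powers c) h1

end Localization

end Groth.Agent.H22.SymLoc
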