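import Mathlib
import Groth.Prelude.Def_RelSpec
import Groth.Agent.H22.SymLoc
import Groth.Agent.H22.AffGlue
import Groth.Agent.H22.QCAlgGen
import Groth.Agent.H22.SymAlgGen
import Groth.Agent.H41.ModGlue

/-!
# The symmetric algebra of a quasi-coherent module as a quasi-coherent algebra (helper22)

`exists_isSymAlg`: for a quasi-coherent `O_S`-module `E` there is a quasi-coherent `O_S`-algebra `A`
with `A(U) = Sym_{O(U)} E(U)` over the affine opens, and it has the universal property
`RelSpec.IsSymAlg`.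
-/

set_option autoImplicit false
set_option linter.style.haveILetI false
set_option linter.unusedSectionVars false
universe u
open CategoryTheory CategoryTheory.Limits AlgebraicGeometry TopologicalSpace Opposite

noncomputable section

namespace Groth.Agent.H22.SymConstr

open Groth.Agent.H22.SymLoc Groth.Agent.H22.AffGlue Groth.Agent.H8 SymmetricAlgebra

variable {S : Scheme.{u}} (E : S.Modules)

/-- The symmetric algebra of the sections over `U`. -/
abbrev Sym (U : S.Opens) : Type u := SymmetricAlgebra Γ(S, U) Γ(E, U)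

/-- Restriction of functions, as a ring homomorphism. -/
def rR {U V : S.Opens} (h : V ≤ U) : Γ(S, U) →+* Γ(S, V) := (S.presheaf.map (homOfLE h).op).hom

/-- Restriction of sections, as an additive map. -/
def rE {U V : S.Opens} (h : V ≤ U) : Γ(E, U) →+ Γ(E, V) := (E.presheaf.map (homOfLE h).op).hom

lemma rE_smul {U V : S.Opens} (h : V ≤ U) (r : Γ(S, U)) (m : Γ(E, U)) :
    rE E h (r • m) = rR h r • rE E h m := res_smul E h r m

lemma rR_self {U : S.Opens} (h : U ≤ U) (r : Γ(S, U)) : rR h r = r := by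
  have h1 : (homOfLE h).op = 𝟙 (Opposite.op U) := rfl
  change (S.presheaf.map (homOfLE h).op).hom r = r
  rw [h1, S.presheaf.map_id]
  rfl

lemma rR_rR {U V W : S.Opens} (h₁ : V ≤ U) (h₂ : W ≤ V) (r : Γ(S, U)) :
    rR h₂ (rR h₁ r) = rR (h₂.trans h₁) r := ringRes_res h₂ h₁ r

lemma rE_self {U : S.Opens} (h : U ≤ U) (m : Γ(E, U)) : rE E h m = m :=
  Groth.Agent.H22.SubSh.res_self' U m h

lemma rE_rE {U V W : S.Opens} (h₁ : V ≤ U) (h₂ : W ≤ V) (m : Γ(E, U)) :
    rE E h₂ (rE E h₁ m) = rE E (h₂.trans h₁) m := res_res E h₂ h₁ m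

/-- Restriction on symmetric algebras. -/
def symRes {U V : S.Opens} (h : V ≤ U) : Sym E U →+* Sym E V :=
  symMap (rR h) (rE E h) (rE_smul E h)

lemma symRes_algebraMap {U V : S.Opens} (h : V ≤ U) (r : Γ(S, U)) :
    symRes E h (algebraMap Γ(S, U) (Sym E U) r) = algebraMap Γ(S, V) (Sym E V) (rR h r) :=
  symMap_algebraMap _ _ _ r

lemma symRes_ι {U V : S.Opens} (h : V ≤ U) (m : Γ(E, U)) :
    symRes E h (ι Γ(S, U) Γ(E, U) m) = ι Γ(S, V) Γ(E, V) (rE E h m) :=
  symMap_ι _ _ _ m

lemma symRes_self {U : S.Opens} (h : U ≤ U) : symRes E h = RingHom.id (Sym E U) :=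
  ringHom_ext (fun r => by rw [symRes_algebraMap, rR_self]; rfl)
    (fun m => by rw [symRes_ι, rE_self]; rfl)

lemma symRes_symRes {U V W : S.Opens} (h₁ : V ≤ U) (h₂ : W ≤ V) :
    (symRes E h₂).comp (symRes E h₁) = symRes E (h₂.trans h₁) :=
  ringHom_ext
    (fun r => by
      rw [RingHom.comp_apply, symRes_algebraMap, symRes_algebraMap, symRes_algebraMap, rR_rR])
    (fun m => by rw [RingHom.comp_apply, symRes_ι, symRes_ι, symRes_ι, rE_rE])

/-- The presheaf of symmetric algebras on the affine opens. -/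
def symF : S.AffineZariskiSiteᵒᵖ ⥤ CommRingCat.{u} where
  obj U := CommRingCat.of (Sym E U.unop.1)
  map i := CommRingCat.ofHom (symRes E (Scheme.AffineZariskiSite.toOpens_mono i.unop.le))
  map_id U := by
    rw [symRes_self]
    rfl
  map_comp i k := by
    rw [← CommRingCat.ofHom_comp, symRes_symRes]

/-- The structure map of the presheaf of symmetric algebras. -/
def symα : (Scheme.AffineZariskiSite.toOpensFunctor S).op ⋙ S.presheaf ⟶ symF E where
  app U := CommRingCat.ofHom (algebraMap Γ(S, U.unop.1) (Sym E U.unop.1))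
  naturality U V i := by
    ext r
    exact (symRes_algebraMap E (Scheme.AffineZariskiSite.toOpens_mono i.unop.le) r).symm

theorem symα_coequifibered [E.IsQuasicoherent] : (symα E).Coequifibered := by
  rw [Scheme.AffineZariskiSite.coequifibered_iff_forall_isLocalizationAway]
  intro U f
  have hloc : letI := (rR (S.basicOpen_le f)).toAlgebra
      IsLocalization.Away f Γ(S, S.basicOpen f) := U.2.isLocalization_basicOpen f
  have hmod := isLocalizedModule_resBasicOpenₗ U.2 E f
  exact isLocalization_away_symMap (rR (S.basicOpen_le f)) (rE E (S.basicOpen_le f))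
    (rE_smul E _) f hloc hmod

section Universal

variable {E}
variable (A : RelSpec.QCAlg S)
  (γ : (Scheme.AffineZariskiSite.toOpensFunctor S).op ⋙ A.presheaf ≅ symF E)

/-- The identification over an affine open, as a ring homomorphism. -/
def gHom (U : S.AffineZariskiSite) : A.presheaf.obj (op U.1) →+* Sym E U.1 :=
  (γ.hom.app (op U)).hom

/-- The inverse identification. -/
def gInv (U : S.AffineZariskiSite) : Sym E U.1 →+* A.presheaf.obj (op U.1) :=
  (γ.inv.app (op U)).hom

lemma gHom_gInv (U : S.AffineZariskiSite) (s : Sym E U.1) : gHom A γ U (gInv A γ U s) = s :=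
  congrArg (fun χ : (symF E).obj (op U) ⟶ (symF E).obj (op U) => χ.hom s)
    (γ.inv_hom_id_app (op U))

lemma gInv_gHom (U : S.AffineZariskiSite) (a : A.presheaf.obj (op U.1)) :
    gInv A γ U (gHom A γ U a) = a :=
  congrArg (fun χ : A.presheaf.obj (op U.1) ⟶ A.presheaf.obj (op U.1) => χ.hom a)
    (γ.hom_inv_id_app (op U))

lemma gHom_res {U V : S.AffineZariskiSite} (i : V ⟶ U) (a : A.presheaf.obj (op U.1)) :
    gHom A γ V ((A.presheaf.map (homOfLE (Scheme.AffineZariskiSite.toOpens_mono i.le)).op).hom a) =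
      symRes E (Scheme.AffineZariskiSite.toOpens_mono i.le) (gHom A γ U a) :=
  congrArg (fun χ : A.presheaf.obj (op U.1) ⟶ (symF E).obj (op V) => χ.hom a)
    (γ.hom.naturality i.op)

lemma gInv_res {U V : S.AffineZariskiSite} (i : V ⟶ U) (s : Sym E U.1) :
    gInv A γ V (symRes E (Scheme.AffineZariskiSite.toOpens_mono i.le) s) =
      (A.presheaf.map (homOfLE (Scheme.AffineZariskiSite.toOpens_mono i.le)).op).hom
        (gInv A γ U s) := by
  have h := gHom_res A γ i (gInv A γ U s)
  rw [gHom_gInv] at h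
  rw [← h, gInv_gHom]

variable (hγ : (Scheme.AffineZariskiSite.toOpensFunctor S).op.whiskerLeft A.str ≫ γ.hom = symα E)

include hγ in
lemma gHom_str (U : S.AffineZariskiSite) (r : Γ(S, U.1)) :
    gHom A γ U ((A.str.app (op U.1)).hom r) = algebraMap Γ(S, U.1) (Sym E U.1) r :=
  congrArg (fun χ : (Scheme.AffineZariskiSite.toOpensFunctor S).op ⋙ S.presheaf ⟶ symF E =>
    (χ.app (op U)).hom r) hγ

include hγ in
lemma gInv_algebraMap (U : S.AffineZariskiSite) (r : Γ(S, U.1)) :
    gInv A γ U (algebraMap Γ(S, U.1) (Sym E U.1) r) = (A.str.app (op U.1)).hom r := by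
  rw [← gHom_str A γ hγ, gInv_gHom]

/-- The linear maps defining `j`. -/
def jFam (U : S.AffineZariskiSite) : Γ(E, U.1) →ₗ[Γ(S, U.1)] Γ(A.toModule, U.1) where
  toFun x := ofB A U.1 (gInv A γ U (ι Γ(S, U.1) Γ(E, U.1) x))
  map_add' x y := by
    rw [map_add, map_add]
    rfl
  map_smul' r x := by
    apply toB_injective A
    rw [RingHom.id_apply, toB_smul, toB_ofB, toB_ofB, map_smul, Algebra.smul_def, map_mul,
      gInv_algebraMap A γ hγ]

lemma toB_jFam (U : S.AffineZariskiSite) (x : Γ(E, U.1)) :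
    toB A U.1 (jFam A γ hγ U x) = gInv A γ U (ι Γ(S, U.1) Γ(E, U.1) x) := rfl

lemma jFam_res {U V : S.AffineZariskiSite} (i : V ⟶ U) (x : Γ(E, U.1)) :
    jFam A γ hγ V (E.presheaf.map (homOfLE (Scheme.AffineZariskiSite.toOpens_mono i.le)).op x) =
      A.toModule.presheaf.map (homOfLE (Scheme.AffineZariskiSite.toOpens_mono i.le)).op
        (jFam A γ hγ U x) := by
  apply toB_injective A
  rw [toB_res, toB_jFam, toB_jFam, ← gInv_res A γ i, symRes_ι]
  rfl

/-- The extension of a module map into a quasi-coherent algebra to the symmetric algebras. -/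
def theta (B : RelSpec.QCAlg S) (φ : E ⟶ B.toModule) (U : S.Opens) :
    Sym E U →+* B.presheaf.obj (op U) :=
  letI : Algebra Γ(S, U) (B.presheaf.obj (op U)) := (B.str.app (op U)).hom.toAlgebra
  (SymmetricAlgebra.lift (R := Γ(S, U)) (M := Γ(E, U)) (A := B.presheaf.obj (op U))
    { toFun := fun x => toB B U (φ.app U x)
      map_add' := fun x y => by rw [map_add]; rfl
      map_smul' := fun r x => by
        rw [Scheme.Modules.Hom.app_smul, toB_smul, RingHom.id_apply, Algebra.smul_def]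
        rfl }).toRingHom

lemma theta_algebraMap (B : RelSpec.QCAlg S) (φ : E ⟶ B.toModule) (U : S.Opens) (r : Γ(S, U)) :
    theta B φ U (algebraMap Γ(S, U) (Sym E U) r) = (B.str.app (op U)).hom r := by
  letI : Algebra Γ(S, U) (B.presheaf.obj (op U)) := (B.str.app (op U)).hom.toAlgebra
  exact AlgHom.commutes (SymmetricAlgebra.lift (R := Γ(S, U)) (M := Γ(E, U))
    (A := B.presheaf.obj (op U)) _) r

lemma theta_ι (B : RelSpec.QCAlg S) (φ : E ⟶ B.toModule) (U : S.Opens) (x : Γ(E, U)) :
    theta B φ U (ι Γ(S, U) Γ(E, U) x) = toB B U (φ.app U x) := by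
  letI : Algebra Γ(S, U) (B.presheaf.obj (op U)) := (B.str.app (op U)).hom.toAlgebra
  exact lift_ι_apply _ x

lemma theta_res (B : RelSpec.QCAlg S) (φ : E ⟶ B.toModule) {U V : S.Opens} (h : V ≤ U) :
    (theta B φ V).comp (symRes E h) = (B.presheaf.map (homOfLE h).op).hom.comp (theta B φ U) := by
  refine ringHom_ext (fun r => ?_) (fun x => ?_)
  · rw [RingHom.comp_apply, RingHom.comp_apply, symRes_algebraMap, theta_algebraMap,
      theta_algebraMap]
    exact str_res B h r
  · rw [RingHom.comp_apply, RingHom.comp_apply, symRes_ι, theta_ι, theta_ι, ← toB_res]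
    exact congrArg (toB B V) (Groth.Agent.H22.QCohLimits.app_res φ h x)

/-- `theta` as a natural transformation on the affine opens. -/
def thetaNat (B : RelSpec.QCAlg S) (φ : E ⟶ B.toModule) :
    symF E ⟶ (Scheme.AffineZariskiSite.toOpensFunctor S).op ⋙ B.presheaf where
  app U := CommRingCat.ofHom (theta B φ U.unop.1)
  naturality U V i := by
    ext s
    exact congrArg (fun χ => χ s)
      (theta_res B φ (Scheme.AffineZariskiSite.toOpens_mono i.unop.le))

end Universal

section Main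

variable [E.IsQuasicoherent]

/-- **The symmetric algebra of a quasi-coherent module exists**, and over every affine open its
sections are the symmetric algebra of the sections. -/
theorem exists_isSymAlg_bijective :
    ∃ (A : RelSpec.QCAlg S) (j : E ⟶ A.toModule), RelSpec.IsSymAlg E A j ∧
      ∀ (U : S.Opens), IsAffineOpen U → Function.Bijective (theta A j U) := by
  obtain ⟨A, γ, hγ⟩ := exists_qcAlg (symα_coequifibered E)
  haveI : A.toModule.IsQuasicoherent := toModule_isQuasicoherent A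
  have hcover : IsOpenCover (fun U : S.AffineZariskiSite => U.1) := by
    change ⨆ U : S.affineOpens, (U : S.Opens) = ⊤
    exact iSup_affineOpens_eq_top S
  -- construction of `j`
  have hdir : Groth.Agent.H41.ModGlue.FamDirected (F := E) (G := A.toModule)
      (fun U : S.AffineZariskiSite => U.1) (jFam A γ hγ) := by
    intro U V y hyU hyV
    obtain ⟨f, g, e, hyf⟩ := exists_basicOpen_le_affine_inter U.2 V.2 y ⟨hyU, hyV⟩
    have iU : U.basicOpen f ⟶ U := homOfLE (U.basicOpen_le f)
    have iV : U.basicOpen f ⟶ V := homOfLE ⟨g, e.symm⟩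
    exact ⟨U.basicOpen f, hyf, Scheme.AffineZariskiSite.toOpens_mono iU.le,
      Scheme.AffineZariskiSite.toOpens_mono iV.le, fun x => jFam_res A γ hγ iU x,
      fun x => jFam_res A γ hγ iV x⟩
  obtain ⟨j, hj⟩ := Groth.Agent.H41.ModGlue.exists_hom_of_affine_family (F := E) (G := A.toModule)
    (fun U : S.AffineZariskiSite => U.1) (fun U => U.2) (jFam A γ hγ) hdir hcover
  refine ⟨A, j, ?_, ?_⟩
  swap
  · intro U hU
    have e : theta A j U = gInv A γ ⟨U, hU⟩ := by
      refine ringHom_ext (fun r => ?_) (fun x => ?_)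
      · rw [theta_algebraMap]
        exact (gInv_algebraMap A γ hγ ⟨U, hU⟩ r).symm
      · rw [theta_ι, hj ⟨U, hU⟩ x]
        rfl
    rw [e]
    refine ⟨fun a b h => ?_, fun a => ⟨gHom A γ ⟨U, hU⟩ a, gInv_gHom A γ ⟨U, hU⟩ a⟩⟩
    have h2 := congrArg (gHom A γ ⟨U, hU⟩) h
    rw [gHom_gInv, gHom_gInv] at h2
    exact h2
  intro B φ
  -- the algebra map
  let Ψ : (Scheme.AffineZariskiSite.toOpensFunctor S).op ⋙ A.presheaf ⟶
      (Scheme.AffineZariskiSite.toOpensFunctor S).op ⋙ B.presheaf := γ.hom ≫ thetaNat B φ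
  let ψ₀ : A.presheaf ⟶ B.presheaf :=
    Functor.IsCoverDense.restrictHomEquivHom (G := Scheme.AffineZariskiSite.toOpensFunctor S)
      (K := Opens.grothendieckTopology S) (ℱ := A.presheaf)
      (ℱ' := (⟨B.presheaf, B.isSheaf⟩ : TopCat.Sheaf CommRingCat.{u} S.carrier)) Ψ
  have hψ₀ : (Scheme.AffineZariskiSite.toOpensFunctor S).op.whiskerLeft ψ₀ = Ψ :=
    (Functor.IsCoverDense.restrictHomEquivHom (G := Scheme.AffineZariskiSite.toOpensFunctor S)
      (K := Opens.grothendieckTopology S) (ℱ := A.presheaf)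
      (ℱ' := (⟨B.presheaf, B.isSheaf⟩ : TopCat.Sheaf CommRingCat.{u} S.carrier))).symm_apply_apply _
  have hψ₀app : ∀ (U : S.AffineZariskiSite) (a : A.presheaf.obj (op U.1)),
      (ψ₀.app (op U.1)).hom a = theta B φ U.1 (gHom A γ U a) := fun U a =>
    congrArg (fun χ : (Scheme.AffineZariskiSite.toOpensFunctor S).op ⋙ A.presheaf ⟶
      (Scheme.AffineZariskiSite.toOpensFunctor S).op ⋙ B.presheaf => (χ.app (op U)).hom a) hψ₀
  have hcomm : A.str ≫ ψ₀ = B.str := by
    apply (Functor.IsCoverDense.restrictHomEquivHom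
      (G := Scheme.AffineZariskiSite.toOpensFunctor S)
      (K := Opens.grothendieckTopology S) (ℱ := S.presheaf)
      (ℱ' := (⟨B.presheaf, B.isSheaf⟩ : TopCat.Sheaf CommRingCat.{u} S.carrier))).symm.injective
    ext U r
    change (ψ₀.app (op U.unop.1)).hom ((A.str.app (op U.unop.1)).hom r) =
      (B.str.app (op U.unop.1)).hom r
    rw [hψ₀app, gHom_str A γ hγ, theta_algebraMap]
  have hjψ : ∀ (ψ' : A ⟶ B) (U : S.AffineZariskiSite) (x : Γ(E, U.1)),
      toB B U.1 ((j ≫ RelSpec.QCAlg.Hom.toModuleMap ψ').app U.1 x) =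
        (ψ'.hom.app (op U.1)).hom (gInv A γ U (ι Γ(S, U.1) Γ(E, U.1) x)) := by
    intro ψ' U x
    have h1 : (j ≫ RelSpec.QCAlg.Hom.toModuleMap ψ').app U.1 x =
        (RelSpec.QCAlg.Hom.toModuleMap ψ').app U.1 (j.app U.1 x) := rfl
    rw [h1, toModuleMap_app, hj U x, toB_jFam]
  refine ⟨⟨ψ₀, hcomm⟩, ?_, ?_⟩
  · -- compatibility with `j`
    refine Groth.Agent.H41.ModGlue.hom_ext_of_affine_cover _ _
      (fun U : S.AffineZariskiSite => U.1) hcover (fun U => U.2) (fun U x => ?_)
    apply toB_injective B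
    rw [hjψ ⟨ψ₀, hcomm⟩ U x]
    change (ψ₀.app (op U.1)).hom _ = _
    rw [hψ₀app, gHom_gInv, theta_ι]
  · -- uniqueness
    intro ψ' hψ'
    apply RelSpec.QCAlg.hom_ext
    change ψ'.hom = ψ₀
    apply (Functor.IsCoverDense.restrictHomEquivHom
      (G := Scheme.AffineZariskiSite.toOpensFunctor S)
      (K := Opens.grothendieckTopology S) (ℱ := A.presheaf)
      (ℱ' := (⟨B.presheaf, B.isSheaf⟩ : TopCat.Sheaf CommRingCat.{u} S.carrier))).symm.injective
    ext U a
    change (ψ'.hom.app (op U.unop.1)).hom a = (ψ₀.app (op U.unop.1)).hom a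
    rw [hψ₀app]
    have key : (ψ'.hom.app (op U.unop.1)).hom.comp (gInv A γ U.unop) = theta B φ U.unop.1 := by
      refine ringHom_ext (fun r => ?_) (fun x => ?_)
      · rw [RingHom.comp_apply, gInv_algebraMap A γ hγ, theta_algebraMap]
        exact congrArg (fun χ : S.presheaf ⟶ B.presheaf => (χ.app (op U.unop.1)).hom r) ψ'.comm
      · rw [RingHom.comp_apply, theta_ι, ← hjψ ψ' U.unop x, hψ']
    have h2 := congrArg (fun χ => χ (gHom A γ U.unop a)) key
    simp only [RingHom.comp_apply] at h2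
    rw [gInv_gHom] at h2
    exact h2

/-- **The symmetric algebra of a quasi-coherent module exists.** -/
theorem exists_isSymAlg :
    ∃ (A : RelSpec.QCAlg S) (j : E ⟶ A.toModule), RelSpec.IsSymAlg E A j := by
  obtain ⟨A, j, h, -⟩ := exists_isSymAlg_bijective E
  exact ⟨A, j, h⟩

/-- For any symmetric algebra `(A, j)` of the quasi-coherent module `E`, the sections of `A` over
an affine open are the symmetric algebra of the sections of `E`. -/
theorem theta_bijective (A : RelSpec.QCAlg S) (j : E ⟶ A.toModule) (hA : RelSpec.IsSymAlg E A j)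
    (U : S.Opens) (hU : IsAffineOpen U) : Function.Bijective (theta A j U) := by
  obtain ⟨A₀, j₀, h₀, hbij⟩ := exists_isSymAlg_bijective E
  obtain ⟨ψ, hψ, -⟩ := h₀ A j
  obtain ⟨ψ', hψ', -⟩ := hA A₀ j₀
  have e1 : ψ ≫ ψ' = 𝟙 A₀ := by
    obtain ⟨χ, -, hχ⟩ := h₀ A₀ j₀
    have h1 : j₀ ≫ RelSpec.QCAlg.Hom.toModuleMap (ψ ≫ ψ') = j₀ := by
      rw [toModuleMap_comp, ← Category.assoc, hψ, hψ']
    have h2 : j₀ ≫ RelSpec.QCAlg.Hom.toModuleMap (𝟙 A₀) = j₀ := by
      rw [toModuleMap_id, Category.comp_id]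
    rw [hχ (ψ ≫ ψ') h1, hχ (𝟙 A₀) h2]
  have e2 : ψ' ≫ ψ = 𝟙 A := by
    obtain ⟨χ, -, hχ⟩ := hA A j
    have h1 : j ≫ RelSpec.QCAlg.Hom.toModuleMap (ψ' ≫ ψ) = j := by
      rw [toModuleMap_comp, ← Category.assoc, hψ', hψ]
    have h2 : j ≫ RelSpec.QCAlg.Hom.toModuleMap (𝟙 A) = j := by
      rw [toModuleMap_id, Category.comp_id]
    rw [hχ (ψ' ≫ ψ) h1, hχ (𝟙 A) h2]
  have hψbij : Function.Bijective (ψ.hom.app (op U)).hom := by
    refine ⟨fun a b h => ?_, fun a => ⟨(ψ'.hom.app (op U)).hom a, ?_⟩⟩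
    · have h2 := congrArg (ψ'.hom.app (op U)).hom h
      have h3 : ∀ a, (ψ'.hom.app (op U)).hom ((ψ.hom.app (op U)).hom a) = a := fun a =>
        congrArg (fun χ : A₀ ⟶ A₀ => (χ.hom.app (op U)).hom a) e1
      rw [h3, h3] at h2
      exact h2
    · exact congrArg (fun χ : A ⟶ A => (χ.hom.app (op U)).hom a) e2
  have e : theta A j U = (ψ.hom.app (op U)).hom.comp (theta A₀ j₀ U) := by
    refine ringHom_ext (fun r => ?_) (fun x => ?_)
    · rw [RingHom.comp_apply, theta_algebraMap, theta_algebraMap]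
      exact (congrArg (fun χ : S.presheaf ⟶ A.presheaf => (χ.app (op U)).hom r) ψ.comm).symm
    · rw [RingHom.comp_apply, theta_ι, theta_ι, ← toModuleMap_app]
      exact (congrArg (toB A U) (congrArg (fun χ : E ⟶ A.toModule => χ.app U x) hψ)).symm
  rw [e]
  exact hψbij.comp (hbij U hU)

end Main

end Groth.Agent.H22.SymConstr
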