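import Mathlib
import Groth.Agent.H22.SymConstr
import Groth.Agent.H22.QCAlgHom

/-!
# Recognising the symmetric algebra of a quasi-coherent module on affine opens (helper22)

`isSymAlg_of_theta_bijective`: if over every affine open `U` the ring `A(U)` is the symmetric
algebra of `E(U)` through `j`, then `(A, j)` is the symmetric algebra of `E` (`RelSpec.IsSymAlg`).
Together with `SymConstr.theta_bijective` this is an equivalence.
-/

set_option autoImplicit false
set_option linter.unusedSectionVars false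
universe u
open CategoryTheory CategoryTheory.Limits AlgebraicGeometry TopologicalSpace Opposite

noncomputable section

namespace Groth.Agent.H22.SymConstr

open Groth.Agent.H22.SymLoc Groth.Agent.H22.AffGlue Groth.Agent.H8 SymmetricAlgebra
open Groth.Agent.H22.QCAlgHom

variable {S : Scheme.{u}} (E : S.Modules) [E.IsQuasicoherent]

lemma theta_comp (A A' : RelSpec.QCAlg S) (j : E ⟶ A.toModule) (ψ : A ⟶ A') (U : S.Opens) :
    theta A' (j ≫ RelSpec.QCAlg.Hom.toModuleMap ψ) U = (ψ.hom.app (op U)).hom.comp (theta A j U) := by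
  refine ringHom_ext (fun r => ?_) (fun x => ?_)
  · rw [RingHom.comp_apply, theta_algebraMap, theta_algebraMap]
    exact (congrArg (fun χ : S.presheaf ⟶ A'.presheaf => (χ.app (op U)).hom r) ψ.comm).symm
  · rw [RingHom.comp_apply, theta_ι, theta_ι, ← toModuleMap_app]
    rfl

/-- A pair isomorphic to a symmetric algebra is a symmetric algebra. -/
theorem isSymAlg_of_iso (A A' : RelSpec.QCAlg S) (j : E ⟶ A.toModule)
    (hA : RelSpec.IsSymAlg E A j) (ψ : A ⟶ A') [IsIso ψ] :
    RelSpec.IsSymAlg E A' (j ≫ RelSpec.QCAlg.Hom.toModuleMap ψ) := by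
  intro B φ
  obtain ⟨χ, hχ, huniq⟩ := hA B φ
  refine ⟨inv ψ ≫ χ, ?_, ?_⟩
  · change (j ≫ RelSpec.QCAlg.Hom.toModuleMap ψ) ≫ RelSpec.QCAlg.Hom.toModuleMap (inv ψ ≫ χ) = φ
    rw [Category.assoc, ← toModuleMap_comp, ← Category.assoc, IsIso.hom_inv_id, Category.id_comp]
    exact hχ
  · intro χ' hχ'
    have h1 : j ≫ RelSpec.QCAlg.Hom.toModuleMap (ψ ≫ χ') = φ := by
      rw [toModuleMap_comp, ← Category.assoc]
      exact hχ'
    have h2 := huniq (ψ ≫ χ') h1
    rw [← h2, ← Category.assoc, IsIso.inv_hom_id, Category.id_comp]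

/-- If over every affine open `A(U)` is the symmetric algebra of `E(U)`, then `(A, j)` is the
symmetric algebra of the quasi-coherent module `E`. -/
theorem isSymAlg_of_theta_bijective (A : RelSpec.QCAlg S) (j : E ⟶ A.toModule)
    (h : ∀ (U : S.Opens), IsAffineOpen U → Function.Bijective (theta A j U)) :
    RelSpec.IsSymAlg E A j := by
  obtain ⟨A₀, j₀, h₀, hbij⟩ := exists_isSymAlg_bijective E
  obtain ⟨ψ, hψ, -⟩ := h₀ A j
  have hψ' : j₀ ≫ RelSpec.QCAlg.Hom.toModuleMap ψ = j := hψ
  have hbijψ : ∀ (U : S.Opens), IsAffineOpen U → Function.Bijective (ψ.hom.app (op U)).hom := by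
    intro U hU
    have e := theta_comp E A₀ A j₀ ψ U
    rw [hψ'] at e
    have h1 := h U hU
    rw [e] at h1
    have h2 := hbij U hU
    refine ⟨?_, ?_⟩
    · intro a b hab
      obtain ⟨a', rfl⟩ := h2.2 a
      obtain ⟨b', rfl⟩ := h2.2 b
      exact congrArg _ (h1.1 hab)
    · intro b
      obtain ⟨x, hx⟩ := h1.2 b
      exact ⟨theta A₀ j₀ U x, hx⟩
  have : IsIso ψ := isIso_of_bijective ψ hbijψ
  have := isSymAlg_of_iso E A₀ A j₀ h₀ ψ
  rw [hψ'] at this
  exact this

end Groth.Agent.H22.SymConstr
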