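import Mathlib
import Groth.Agent.H22.SymLoc

/-!
# `Sym (M ⊕ R) = (Sym M)[X]` (helper22)
-/

set_option autoImplicit false
universe u
open CategoryTheory

noncomputable section

namespace Groth.Agent.H22.SymPoly

open Groth.Agent.H22.SymLoc SymmetricAlgebra Polynomial

variable {R : Type u} [CommRing R] {M P : Type u} [AddCommGroup M] [Module R M]
  [AddCommGroup P] [Module R P] {T Th : Type u} [CommRing T] [CommRing Th]

/-- If `P` is a biproduct of `M` and `R`, `T` is the symmetric algebra of `M` and `Th = T[z]`, then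
`Th` is the symmetric algebra of `P`. -/
theorem bijective_of_poly
    (θ : SymmetricAlgebra R M →+* T) (hθ : Function.Bijective θ)
    (ιh : T →+* Th) (z : Th) (hq : Function.Bijective (Polynomial.eval₂RingHom ιh z))
    (Θ : SymmetricAlgebra R P →+* Th)
    (i₁ : M →ₗ[R] P) (i₂ : R →ₗ[R] P) (p₁ : P →ₗ[R] M) (p₂ : P →ₗ[R] R)
    (h11 : ∀ m, p₁ (i₁ m) = m) (h22 : ∀ n, p₂ (i₂ n) = n)
    (h21 : ∀ m, p₂ (i₁ m) = 0) (h12 : ∀ n, p₁ (i₂ n) = 0)
    (htot : ∀ p, i₁ (p₁ p) + i₂ (p₂ p) = p)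
    (hΘa : ∀ r, Θ (algebraMap R _ r) = ιh (θ (algebraMap R _ r)))
    (hΘι : ∀ p, Θ (ι R P p) = ιh (θ (ι R M (p₁ p))) + ιh (θ (algebraMap R _ (p₂ p))) * z) :
    Function.Bijective Θ := by
  let e : SymmetricAlgebra R M ≃+* T := RingEquiv.ofBijective θ hθ
  have he : ∀ x, e.symm (θ x) = x := fun x => e.symm_apply_apply x
  let q : Polynomial T ≃+* Th := RingEquiv.ofBijective _ hq
  have hqC : ∀ t, q.symm (ιh t) = C t := fun t => by
    apply q.injective
    rw [RingEquiv.apply_symm_apply]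
    change _ = Polynomial.eval₂RingHom ιh z (C t)
    simp
  have hqX : q.symm z = X := by
    apply q.injective
    rw [RingEquiv.apply_symm_apply]
    change _ = Polynomial.eval₂RingHom ιh z X
    simp
  let s₁ : SymmetricAlgebra R M →+* SymmetricAlgebra R P :=
    (SymmetricAlgebra.lift ((ι R P).comp i₁)).toRingHom
  have hs₁a : ∀ r, s₁ (algebraMap R _ r) = algebraMap R _ r := fun r =>
    AlgHom.commutes (SymmetricAlgebra.lift ((ι R P).comp i₁)) r
  have hs₁ι : ∀ m, s₁ (ι R M m) = ι R P (i₁ m) := fun m =>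
    lift_ι_apply ((ι R P).comp i₁) m
  let Φ₀ : Polynomial T →+* SymmetricAlgebra R P :=
    Polynomial.eval₂RingHom (s₁.comp e.symm.toRingHom) (ι R P (i₂ 1))
  have hΦ₀C : ∀ x, Φ₀ (C (θ x)) = s₁ x := fun x => by
    change Polynomial.eval₂ _ _ (C (θ x)) = _
    rw [Polynomial.eval₂_C]
    change s₁ (e.symm (θ x)) = s₁ x
    rw [he]
  have hΦ₀X : Φ₀ X = ι R P (i₂ 1) := by
    change Polynomial.eval₂ _ _ X = _
    rw [Polynomial.eval₂_X]
  let Φ : Th →+* SymmetricAlgebra R P := Φ₀.comp q.symm.toRingHom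
  have hΦι : ∀ x, Φ (ιh (θ x)) = s₁ x := fun x => by
    change Φ₀ (q.symm (ιh (θ x))) = _
    rw [hqC, hΦ₀C]
  have hΦz : Φ z = ι R P (i₂ 1) := by
    change Φ₀ (q.symm z) = _
    rw [hqX, hΦ₀X]
  have key1 : Φ.comp Θ = RingHom.id _ := by
    refine ringHom_ext (fun r => ?_) (fun p => ?_)
    · rw [RingHom.comp_apply, hΘa, hΦι, hs₁a, RingHom.id_apply]
    · rw [RingHom.comp_apply, hΘι, map_add, map_mul, hΦι, hΦι, hΦz, hs₁ι, hs₁a, RingHom.id_apply,
        ← Algebra.smul_def, ← map_smul, ← map_smul, smul_eq_mul, mul_one, ← map_add, htot]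
  have key2 : (Θ.comp s₁) = ιh.comp θ := by
    refine ringHom_ext (fun r => ?_) (fun m => ?_)
    · rw [RingHom.comp_apply, RingHom.comp_apply, hs₁a, hΘa]
    · rw [RingHom.comp_apply, RingHom.comp_apply, hs₁ι, hΘι, h11, h21, map_zero, map_zero,
        map_zero, zero_mul, add_zero]
  have key3 : Θ.comp Φ₀ = q.toRingHom := by
    refine Polynomial.ringHom_ext (fun t => ?_) ?_
    · obtain ⟨x, rfl⟩ := hθ.2 t
      rw [RingHom.comp_apply, hΦ₀C]
      change Θ (s₁ x) = Polynomial.eval₂RingHom ιh z (C (θ x))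
      have := congrArg (fun χ : SymmetricAlgebra R M →+* Th => χ x) key2
      simp only [RingHom.comp_apply] at this
      rw [this]
      simp
    · rw [RingHom.comp_apply, hΦ₀X, hΘι, h12, h22, map_zero, map_zero, map_zero, zero_add, map_one,
        map_one, map_one, one_mul]
      change z = Polynomial.eval₂RingHom ιh z X
      simp
  refine ⟨fun a b hab => ?_, fun y => ⟨Φ y, ?_⟩⟩
  · have h1 := congrArg Φ hab
    have h2 : ∀ a, Φ (Θ a) = a := fun a =>
      congrArg (fun χ : SymmetricAlgebra R P →+* SymmetricAlgebra R P => χ a) key1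
    rw [h2, h2] at h1
    exact h1
  · change Θ (Φ₀ (q.symm y)) = y
    have := congrArg (fun χ : Polynomial T →+* Th => χ (q.symm y)) key3
    simp only [RingHom.comp_apply] at this
    rw [this]
    exact q.apply_symm_apply y

end Groth.Agent.H22.SymPoly
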