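import Mathlib
import Groth.Agent.H22.SymLoc
import Groth.Agent.H41.AffAlgPushout

/-!
# The symmetric algebra of a direct sum is the pushout of the symmetric algebras (helper22)
-/

set_option autoImplicit false
universe u
open CategoryTheory CategoryTheory.Limits

noncomputable section

namespace Groth.Agent.H22.SymSum

open Groth.Agent.H22.SymLoc SymmetricAlgebra

variable {R : Type u} [CommRing R] {M N P : Type u} [AddCommGroup M] [Module R M]
  [AddCommGroup N] [Module R N] [AddCommGroup P] [Module R P]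
  {TE TF T : Type u} [CommRing TE] [CommRing TF] [CommRing T]

/-- `Sym (M ⊕ N) = Sym M ⊗ Sym N`, in the form of a pushout square of commutative rings, for rings
`TE, TF, T` identified with the symmetric algebras of `M`, `N`, `P` where `P` is a biproduct of
`M` and `N`. -/
theorem isPushout_of_sym
    (θE : SymmetricAlgebra R M →+* TE) (θF : SymmetricAlgebra R N →+* TF)
    (θ : SymmetricAlgebra R P →+* T)
    (hθE : Function.Bijective θE) (hθF : Function.Bijective θF) (hθ : Function.Bijective θ)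
    (sE : R →+* TE) (sF : R →+* TF) (s : R →+* T) (ψE : TE →+* T) (ψF : TF →+* T)
    (hsE : ∀ r, θE (algebraMap R _ r) = sE r) (hsF : ∀ r, θF (algebraMap R _ r) = sF r)
    (hs : ∀ r, θ (algebraMap R _ r) = s r)
    (hψsE : ∀ r, ψE (sE r) = s r) (hψsF : ∀ r, ψF (sF r) = s r)
    (i₁ : M →ₗ[R] P) (i₂ : N →ₗ[R] P) (p₁ : P →ₗ[R] M) (p₂ : P →ₗ[R] N)
    (h11 : ∀ m, p₁ (i₁ m) = m) (h22 : ∀ n, p₂ (i₂ n) = n)
    (h21 : ∀ m, p₂ (i₁ m) = 0) (h12 : ∀ n, p₁ (i₂ n) = 0)
    (htot : ∀ p, i₁ (p₁ p) + i₂ (p₂ p) = p)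
    (hψE : ∀ m, ψE (θE (ι R M m)) = θ (ι R P (i₁ m)))
    (hψF : ∀ n, ψF (θF (ι R N n)) = θ (ι R P (i₂ n))) :
    IsPushout (CommRingCat.ofHom sE) (CommRingCat.ofHom sF) (CommRingCat.ofHom ψE)
      (CommRingCat.ofHom ψF) := by
  refine Groth.Agent.H41.AffAlgLib.isPushout_of_existsUnique ?_ ?_
  · ext r
    change ψE (sE r) = ψF (sF r)
    rw [hψsE, hψsF]
  · intro C α β hαβ
    have hαβ' : ∀ r, α.hom (sE r) = β.hom (sF r) := fun r =>
      congrArg (fun χ : CommRingCat.of R ⟶ C => χ.hom r) hαβ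
    letI : Algebra R C := (α.hom.comp sE).toAlgebra
    have halg : ∀ r, algebraMap R C r = α.hom (sE r) := fun r => rfl
    let ℓ : P →ₗ[R] C :=
      { toFun := fun p => α.hom (θE (ι R M (p₁ p))) + β.hom (θF (ι R N (p₂ p)))
        map_add' := fun x y => by
          simp only [map_add]
          ring
        map_smul' := fun r x => by
          simp only [map_smul, RingHom.id_apply]
          rw [Algebra.smul_def, Algebra.smul_def, map_mul, map_mul, map_mul, map_mul, hsE, hsF,
            Algebra.smul_def, halg, ← hαβ' r]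
          ring }
    have hℓ : ∀ p, ℓ p = α.hom (θE (ι R M (p₁ p))) + β.hom (θF (ι R N (p₂ p))) := fun p => rfl
    let γ₀ : SymmetricAlgebra R P →+* C := (SymmetricAlgebra.lift ℓ).toRingHom
    have hγ₀a : ∀ r, γ₀ (algebraMap R _ r) = α.hom (sE r) := fun r =>
      AlgHom.commutes (SymmetricAlgebra.lift ℓ) r
    have hγ₀ι : ∀ p, γ₀ (ι R P p) = ℓ p := fun p => lift_ι_apply ℓ p
    let eθ : SymmetricAlgebra R P ≃+* T := RingEquiv.ofBijective θ hθ
    have heθ : ∀ x, eθ.symm (θ x) = x := fun x => eθ.symm_apply_apply x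
    have heθ' : ∀ t, θ (eθ.symm t) = t := fun t => eθ.apply_symm_apply t
    let γ : T →+* C := γ₀.comp eθ.symm.toRingHom
    have hγ : ∀ x, γ (θ x) = γ₀ x := fun x => congrArg γ₀ (heθ x)
    have key1 : (γ.comp ψE).comp θE = α.hom.comp θE := by
      refine ringHom_ext (fun r => ?_) (fun m => ?_)
      · simp only [RingHom.comp_apply]
        rw [hsE, hψsE, ← hs, hγ, hγ₀a]
      · simp only [RingHom.comp_apply]
        rw [hψE, hγ, hγ₀ι, hℓ, h11, h21, map_zero, map_zero, map_zero, add_zero]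
    have key2 : (γ.comp ψF).comp θF = β.hom.comp θF := by
      refine ringHom_ext (fun r => ?_) (fun n => ?_)
      · simp only [RingHom.comp_apply]
        rw [hsF, hψsF, ← hs, hγ, hγ₀a, hαβ']
      · simp only [RingHom.comp_apply]
        rw [hψF, hγ, hγ₀ι, hℓ, h22, h12, map_zero, map_zero, map_zero, zero_add]
    refine ⟨CommRingCat.ofHom γ, ⟨?_, ?_⟩, ?_⟩
    · ext t
      obtain ⟨x, rfl⟩ := hθE.2 t
      exact congrArg (fun χ : SymmetricAlgebra R M →+* C => χ x) key1
    · ext t
      obtain ⟨x, rfl⟩ := hθF.2 t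
      exact congrArg (fun χ : SymmetricAlgebra R N →+* C => χ x) key2
    · rintro γ' ⟨h1, h2⟩
      have h1' : ∀ t, γ'.hom (ψE t) = α.hom t := fun t =>
        congrArg (fun χ : CommRingCat.of TE ⟶ C => χ.hom t) h1
      have h2' : ∀ t, γ'.hom (ψF t) = β.hom t := fun t =>
        congrArg (fun χ : CommRingCat.of TF ⟶ C => χ.hom t) h2
      have key3 : γ'.hom.comp θ = γ₀ := by
        refine ringHom_ext (fun r => ?_) (fun p => ?_)
        · simp only [RingHom.comp_apply]
          rw [hs, ← hψsE, h1', hγ₀a]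
        · simp only [RingHom.comp_apply]
          rw [hγ₀ι, hℓ, ← h1', ← h2', hψE, hψF, ← map_add, ← map_add, ← map_add, htot]
      ext t
      obtain ⟨x, rfl⟩ := hθ.2 t
      change γ'.hom (θ x) = γ (θ x)
      rw [hγ]
      exact congrArg (fun χ : SymmetricAlgebra R P →+* C => χ x) key3

end Groth.Agent.H22.SymSum
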