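import Groth.Agent.H55.TFL.Defs

/-!
# (Q1) for S15012: the normalization of a one-dimensional local domain with algebraically closed
residue field is a semilocal PID with the same residue fields
-/

set_option autoImplicit false
set_option linter.style.haveILetI false
universe u

namespace Groth.Agent.H22.TFQ1

open Groth.Agent.H55.TFL Groth.Agent.H72.CanonDual

theorem integralClosure_facts (O : Type u) [CommRing O] [IsDomain O] [IsNoetherianRing O] [IsLocalRing O] (hdim : ringKrullDim O = 1) [IsAlgClosed (IsLocalRing.ResidueField O)] (K : Type u) [Field K] [Algebra O K] [IsFractionRing O K] (hfin : Module.Finite O ↥(integralClosure O K)) : IsDedekindDomain ↥(integralClosure O K) ∧ IsPrincipalIdealRing ↥(integralClosure O K) ∧ Finite (MaximalSpectrum ↥(integralClosure O K)) ∧ (∀ (𝔪 : Ideal ↥(integralClosure O K)) [𝔪.IsMaximal] (a : ↥(integralClosure O K)), ∃ r : O, a - algebraMap O ↥(integralClosure O K) r ∈ 𝔪) := by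
  have hm : IsLocalRing.maximalIdeal O ≠ ⊥ := by
    intro h
    have hF : IsField O := IsLocalRing.isField_iff_maximalIdeal_eq.mpr h
    rw [ringKrullDim_eq_zero_of_isField hF] at hdim
    exact zero_ne_one hdim
  haveI : Ring.DimensionLEOne O := by
    have h1 : Ring.KrullDimLE 1 O := Ring.krullDimLE_iff.mpr (by rw [hdim]; rfl)
    exact ⟨fun {p} hp hpp => Ring.krullDimLE_one_iff_of_noZeroDivisors.mp h1 p hp hpp⟩
  haveI : Module.Finite O (integralClosure O K) := hfin
  haveI : IsNoetherianRing (integralClosure O K) := by
    haveI : IsNoetherian O (integralClosure O K) := inferInstance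
    exact isNoetherian_of_tower O inferInstance
  haveI : IsFractionRing (integralClosure O K) K :=
    integralClosure.isFractionRing_of_finite_extension (A := O) K K
  haveI hDed : IsDedekindDomain (integralClosure O K) := by
    refine (isDedekindDomain_iff (↥(integralClosure O K)) K).mpr
      ⟨inferInstance, inferInstance, inferInstance, ?_⟩
    intro x hx
    have hx' : IsIntegral O x := isIntegral_trans x hx
    exact ⟨⟨x, hx'⟩, rfl⟩
  have hcomap : ∀ (P : Ideal (integralClosure O K)) [P.IsMaximal],
      P.comap (algebraMap O (integralClosure O K)) = IsLocalRing.maximalIdeal O := fun P _ =>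
    IsLocalRing.eq_maximalIdeal (Ideal.isMaximal_comap_of_isIntegral_of_isMaximal (R := O) P)
  have hmax : {P : Ideal (integralClosure O K) | P.IsMaximal}.Finite := by
    refine (Ideal.finite_minimalPrimes_of_isNoetherianRing (integralClosure O K)
      ((IsLocalRing.maximalIdeal O).map (algebraMap O (integralClosure O K)))).subset ?_
    intro P hP
    haveI : P.IsMaximal := hP
    have hle : (IsLocalRing.maximalIdeal O).map (algebraMap O (integralClosure O K)) ≤ P := by
      rw [Ideal.map_le_iff_le_comap, hcomap P]
    refine ⟨⟨hP.isPrime, hle⟩, fun Q hQ hQP => ?_⟩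
    have hQne : Q ≠ ⊥ := by
      intro h
      apply hm
      rw [eq_bot_iff]
      intro x hx
      have h3 : algebraMap O (integralClosure O K) x ∈ Q := hQ.2 (Ideal.mem_map_of_mem _ hx)
      rw [h, Ideal.mem_bot] at h3
      have h4 : algebraMap O K x = 0 := by
        rw [IsScalarTower.algebraMap_apply O (integralClosure O K) K, h3, map_zero]
      exact (Ideal.mem_bot).mpr
        ((injective_iff_map_eq_zero (algebraMap O K)).mp (IsFractionRing.injective O K) x h4)
    have hQmax : Q.IsMaximal := Ring.DimensionLEOne.maximalOfPrime hQne hQ.1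
    exact (hQmax.eq_of_le hP.ne_top hQP).ge
  have hPID : IsPrincipalIdealRing (integralClosure O K) :=
    IsPrincipalIdealRing.of_finite_maximals hmax
  refine ⟨hDed, hPID, ?_, ?_⟩
  · haveI := hmax.to_subtype
    exact Finite.of_injective
      (fun m : MaximalSpectrum (integralClosure O K) =>
        (⟨m.asIdeal, m.isMaximal⟩ : {P : Ideal (integralClosure O K) | P.IsMaximal}))
      (fun m m' h => MaximalSpectrum.ext (congrArg Subtype.val h))
  · intro 𝔪 h𝔪 a
    let B := integralClosure O K ⧸ 𝔪
    let ψ : IsLocalRing.ResidueField O →+* B :=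
      Ideal.Quotient.lift (IsLocalRing.maximalIdeal O)
        ((Ideal.Quotient.mk 𝔪).comp (algebraMap O (integralClosure O K))) (by
          intro x hx
          have : algebraMap O (integralClosure O K) x ∈ 𝔪 := by
            have h1 : x ∈ 𝔪.comap (algebraMap O (integralClosure O K)) := by
              rw [hcomap 𝔪]; exact hx
            exact h1
          exact Ideal.Quotient.eq_zero_iff_mem.mpr this)
    letI : Algebra (IsLocalRing.ResidueField O) B := ψ.toAlgebra
    have hcomp : (algebraMap (IsLocalRing.ResidueField O) B).comp (IsLocalRing.residue O) =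
        (Ideal.Quotient.mk 𝔪).comp (algebraMap O (integralClosure O K)) := by
      ext x
      rfl
    haveI : Algebra.IsIntegral (IsLocalRing.ResidueField O) B := by
      refine ⟨fun b => ?_⟩
      obtain ⟨a', rfl⟩ := Ideal.Quotient.mk_surjective b
      have ha' : IsIntegral O a' := Algebra.IsIntegral.isIntegral a'
      exact IsIntegral.map_of_comp_eq (IsLocalRing.residue O) (Ideal.Quotient.mk 𝔪) hcomp ha'
    obtain ⟨c, hc⟩ := (IsAlgClosed.algebraMap_bijective_of_isIntegral
      (k := IsLocalRing.ResidueField O) (K := B)).2 (Ideal.Quotient.mk 𝔪 a)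
    obtain ⟨r, rfl⟩ := IsLocalRing.residue_surjective c
    refine ⟨r, ?_⟩
    have h2 : Ideal.Quotient.mk 𝔪 (algebraMap O (integralClosure O K) r) =
        Ideal.Quotient.mk 𝔪 a := by
      rw [← hc]
      exact (congrArg (fun φ : O →+* B => φ r) hcomp).symm
    exact (Ideal.Quotient.eq.mp h2.symm)

end Groth.Agent.H22.TFQ1
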