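import Groth.Agent.H55.TFL.Defs
import Groth.Agent.H46.KrullAkizuki

/-!
# (Q7) for S15012: lattices in `K^n` have finite relative length
-/

set_option autoImplicit false
set_option linter.style.haveILetI false
universe u

namespace Groth.Agent.H22.TFQ7

open Groth.Agent.H55.TFL Groth.Agent.H72.CanonDual

/-- `O^n ⊆ K^n` is a Noetherian `O`-module. -/
theorem isNoetherian_On (O : Type u) [CommRing O] [IsNoetherianRing O] (K : Type u) [Field K]
    [Algebra O K] (n : ℕ) : IsNoetherian O ↥(On O K n) := by
  let f : (Fin n → O) →ₗ[O] ↥(On O K n) :=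
    { toFun := fun v => ⟨fun i => algebraMap O K (v i), mem_On.mpr fun i =>
        Submodule.mem_one.mpr ⟨v i, rfl⟩⟩
      map_add' := fun v w => by
        apply Subtype.ext
        funext i
        simp
      map_smul' := fun r v => by
        apply Subtype.ext
        funext i
        simp [Algebra.smul_def] }
  refine isNoetherian_of_surjective f (LinearMap.range_eq_top.mpr ?_)
  rintro ⟨x, hx⟩
  rw [mem_On] at hx
  choose v hv using fun i => Submodule.mem_one.mp (hx i)
  exact ⟨v, Subtype.ext (funext hv)⟩

theorem len_ne_top (O : Type u) [CommRing O] [IsDomain O] [IsNoetherianRing O] [IsLocalRing O] (hdim : ringKrullDim O = 1) (K : Type u) [Field K] [Algebra O K] [IsFractionRing O K] (n : ℕ) (A B : Submodule O (Fin n → K)) (hA : IsLat O K n A) (hB : IsLat O K n B) : len A B ≠ ⊤ := by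
  obtain ⟨d, hd, hdA, -⟩ := hA
  obtain ⟨e, he, -, heB⟩ := hB
  haveI : Ring.KrullDimLE 1 O := Ring.krullDimLE_iff.mpr (by rw [hdim]; rfl)
  haveI := isNoetherian_On O K n
  have heK : algebraMap O K e ≠ 0 := fun h => he
    ((injective_iff_map_eq_zero (algebraMap O K)).mp (IsFractionRing.injective O K) e h)
  -- `B` is Noetherian
  haveI hBN : IsNoetherian O ↥B := by
    let g : ↥B →ₗ[O] ↥(On O K n) :=
      { toFun := fun b => ⟨e • b.1, heB b.1 b.2⟩
        map_add' := fun b b' => Subtype.ext (smul_add e b.1 b'.1)
        map_smul' := fun r b => Subtype.ext (smul_comm e r b.1) }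
    refine isNoetherian_of_injective g ?_
    intro b b' h
    have h1 : e • b.1 = e • b'.1 := congrArg Subtype.val h
    apply Subtype.ext
    funext i
    have h2 := congrFun h1 i
    simp only [Pi.smul_apply, Algebra.smul_def] at h2
    exact mul_left_cancel₀ heK h2
  set Q := ↥B ⧸ Submodule.comap B.subtype A with hQ
  have hc : Module.IsTorsionBy O Q (d * e) := by
    intro q
    obtain ⟨b, rfl⟩ := Submodule.Quotient.mk_surjective _ q
    rw [← Submodule.Quotient.mk_smul, Submodule.Quotient.mk_eq_zero]
    show (d * e) • b.1 ∈ A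
    rw [mul_smul]
    exact hdA _ (heB b.1 b.2)
  have hde : d * e ≠ 0 := mul_ne_zero hd he
  have hlen := Groth.Agent.H46.KA.length_quot_ne_top (d * e) hde
  rw [Module.length_ne_top_iff, isFiniteLength_iff_isNoetherian_isArtinian] at hlen
  haveI hArtO : IsArtinian O (O ⧸ Ideal.span {d * e}) := hlen.2
  haveI : IsArtinianRing (O ⧸ Ideal.span {d * e}) := isArtinian_of_tower O hArtO
  letI := hc.module
  haveI : Module.Finite O Q := inferInstance
  haveI : Module.Finite (O ⧸ Ideal.span {d * e}) Q :=
    Module.Finite.of_restrictScalars_finite O _ _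
  haveI : IsArtinian (O ⧸ Ideal.span {d * e}) Q := inferInstance
  haveI : IsArtinian O Q :=
    isArtinian_of_surjective_algebraMap (S := O) (R := O ⧸ Ideal.span {d * e})
      Ideal.Quotient.mk_surjective
  exact Module.length_ne_top

end Groth.Agent.H22.TFQ7
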