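import Mathlib

/-!
# Universal openness / closedness: descent along surjections, closed immersions with open range
-/

set_option autoImplicit false
set_option linter.style.haveILetI false
universe u
open CategoryTheory CategoryTheory.Limits AlgebraicGeometry MonoidalCategory CartesianMonoidalCategory MonObj GrpObj

namespace Groth.Agent.H22.UnivOpenDesc

lemma isOpenMap_of_comp_surjective {A B C : Type*} [TopologicalSpace A] [TopologicalSpace B]
    [TopologicalSpace C] {f : A → B} {g : B → C} (hf : Function.Surjective f)
    (hf' : Continuous f) (hfg : IsOpenMap (g ∘ f)) : IsOpenMap g := by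
  intro K hK
  rw [← Set.image_preimage_eq K hf, ← Set.image_comp]
  exact hfg _ (hK.preimage hf')

/-- (T2) -/
theorem universallyOpen_of_comp_surjective {X Y Z : Scheme.{u}} (r : X ⟶ Y) (f : Y ⟶ Z)
    [Surjective r] [UniversallyOpen (r ≫ f)] : UniversallyOpen f := by
  constructor
  intro X' Y' i₁ i₂ f' H
  have h1 := UniversallyOpen.universally_isOpenMap _ _ _
    ((IsPullback.of_hasPullback i₁ r).paste_horiz H)
  have h2 : Function.Surjective (pullback.fst i₁ r) :=
    (MorphismProperty.pullback_fst (P := @Surjective) _ _ ‹_›).1
  exact isOpenMap_of_comp_surjective h2 (Scheme.Hom.continuous _) h1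

/-- (T1) universal openness descends along a surjective universally open base change. -/
theorem universallyOpen_of_isPullback {X Y X' Y' : Scheme.{u}} {f : X ⟶ Y} {f' : X' ⟶ Y'}
    {cX : X' ⟶ X} {cY : Y' ⟶ Y} (sq : IsPullback cX f' f cY) [Surjective cY] [UniversallyOpen cY]
    [UniversallyOpen f'] : UniversallyOpen f := by
  haveI : Surjective cX := MorphismProperty.of_isPullback (P := @Surjective) sq.flip ‹_›
  haveI : UniversallyOpen (cX ≫ f) := by
    rw [sq.w]
    infer_instance
  exact universallyOpen_of_comp_surjective cX f

/-- (T1') -/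
theorem universallyClosed_of_isPullback {X Y X' Y' : Scheme.{u}} {f : X ⟶ Y} {f' : X' ⟶ Y'}
    {cX : X' ⟶ X} {cY : Y' ⟶ Y} (sq : IsPullback cX f' f cY) [Surjective cY]
    [UniversallyClosed cY] [UniversallyClosed f'] : UniversallyClosed f := by
  haveI : Surjective cX := MorphismProperty.of_isPullback (P := @Surjective) sq.flip ‹_›
  haveI : UniversallyClosed (cX ≫ f) := by
    rw [sq.w]
    infer_instance
  exact UniversallyClosed.of_comp_surjective cX f

/-- (T3) a closed immersion with open range is universally open. -/
theorem universallyOpen_of_isClosedImmersion {X Y : Scheme.{u}} (j : X ⟶ Y) [IsClosedImmersion j]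
    (h : IsOpen (Set.range j)) : UniversallyOpen j := by
  constructor
  intro X' Y' i₁ i₂ f' H
  haveI : IsClosedImmersion f' := MorphismProperty.of_isPullback (P := @IsClosedImmersion) H.flip ‹_›
  have hr : Set.range f' = i₂ ⁻¹' Set.range j := by
    have h1 := Scheme.image_preimage_eq_of_isPullback H.flip (Set.univ : Set X)
    rw [Set.preimage_univ, Set.image_univ, Set.image_univ] at h1
    exact h1
  have ho : IsOpen (Set.range f') := by
    rw [hr]
    exact h.preimage i₂.continuous
  exact (Topology.IsOpenEmbedding.mk f'.isClosedEmbedding.isEmbedding ho).isOpenMap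

end Groth.Agent.H22.UnivOpenDesc
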