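import Mathlib
import Groth.Agent.H98.PtCountDIM

/-!
# (G1) for S13086/S13084: closed points of a scheme locally of finite type over `ℤ` have finite
residue fields
-/

set_option autoImplicit false
set_option linter.style.haveILetI false
universe u
open CategoryTheory AlgebraicGeometry

namespace Groth.Agent.H22.ZetaG1

/-- A field which is a finitely generated ring is finite. -/
theorem finite_of_field_of_finiteType_int (K : Type u) [CommRing K] (hK : IsField K)
    (hft : (Int.castRingHom K).FiniteType) : Finite K := by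
  haveI := Groth.Agent.H98.PtCountDIM.int_isJacobsonRing
  letI := hK.toField
  haveI : Algebra.FiniteType ℤ K := by
    have h0 : algebraMap ℤ K = Int.castRingHom K := RingHom.ext_int _ _
    rw [← h0] at hft
    exact RingHom.finiteType_algebraMap.mp hft
  haveI hfin : Module.Finite ℤ K := finite_of_finite_type_of_isJacobsonRing ℤ K
  haveI : Algebra.IsIntegral ℤ K := inferInstance
  -- `ℤ → K` is not injective
  have hninj : ¬ Function.Injective (algebraMap ℤ K) := by
    intro hinj
    have h1 : IsField ℤ := isField_of_isIntegral_of_isField hinj hK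
    exact Int.not_isField h1
  obtain ⟨m, hm0, hm⟩ : ∃ m : ℤ, m ≠ 0 ∧ algebraMap ℤ K m = 0 := by
    rw [injective_iff_map_eq_zero] at hninj
    push_neg at hninj
    obtain ⟨m, hm, hm0⟩ := hninj
    exact ⟨m, hm0, hm⟩
  haveI : AddGroup.FG K := Module.Finite.iff_addGroup_fg.mp hfin
  refine AddCommGroup.finite_of_fg_torsion K fun x => ?_
  rw [isOfFinAddOrder_iff_nsmul_eq_zero]
  refine ⟨m.natAbs, Int.natAbs_pos.mpr hm0, ?_⟩
  have h2 : (m.natAbs : ℤ) • x = 0 := by
    rcases Int.natAbs_eq m with h | h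
    · rw [← h, zsmul_eq_mul]
      have : ((m : ℤ) : K) = 0 := by simpa using hm
      rw [this, zero_mul]
    · have h' : (m.natAbs : ℤ) = -m := by omega
      rw [h', zsmul_eq_mul]
      have : ((m : ℤ) : K) = 0 := by simpa using hm
      rw [Int.cast_neg, this, neg_zero, zero_mul]
  exact_mod_cast h2

theorem finite_residueField_of_isClosed {X : Scheme.{u}}
    (f : X ⟶ Spec (CommRingCat.of (ULift.{u} ℤ))) [LocallyOfFiniteType f] (x : X)
    (hx : IsClosed ({x} : Set X)) : Finite (X.residueField x) := by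
  obtain ⟨_, ⟨U, hU₀, rfl⟩, hxU, -⟩ :=
    X.isBasis_affineOpens.exists_subset_of_mem_open (Set.mem_univ x) isOpen_univ
  have hU : IsAffineOpen U := hU₀
  -- `Γ(X, U)` is a finitely generated ring
  have hft : (f.appLE ⊤ U le_top).hom.FiniteType :=
    f.finiteType_appLE (isAffineOpen_top _) hU _
  let ι : ℤ →+* Γ(Spec (CommRingCat.of (ULift.{u} ℤ)), ⊤) := Int.castRingHom _
  have hι : Function.Surjective ι := by
    let e₀ : Γ(Spec (CommRingCat.of (ULift.{u} ℤ)), ⊤) ≃+* ULift.{u} ℤ :=
      (Scheme.ΓSpecIso (CommRingCat.of (ULift.{u} ℤ))).commRingCatIsoToRingEquiv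
    intro r
    refine ⟨(e₀ r).down, ?_⟩
    apply e₀.injective
    show e₀ (((e₀ r).down : ℤ) : Γ(Spec (CommRingCat.of (ULift.{u} ℤ)), ⊤)) = e₀ r
    rw [map_intCast]
    exact ULift.ext _ _ (by simp)
  have hZ : (Int.castRingHom Γ(X, U)).FiniteType := by
    have h1 := hft.comp (RingHom.FiniteType.of_surjective ι hι)
    have h2 : (f.appLE ⊤ U le_top).hom.comp ι = Int.castRingHom Γ(X, U) := RingHom.ext_int _ _
    rw [h2] at h1
    exact h1
  -- the prime of `x` is maximal
  have hpmax : (hU.primeIdealOf ⟨x, hxU⟩).asIdeal.IsMaximal := by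
    rw [← PrimeSpectrum.isClosed_singleton_iff_isMaximal]
    have h1 : IsClosed ({⟨x, hxU⟩} : Set ↥U) := by
      have := hx.preimage (continuous_subtype_val (p := fun y => y ∈ U))
      convert this using 1
      ext y
      simp only [Set.mem_singleton_iff, Set.mem_preimage]
      exact Subtype.ext_iff
    have h2 := (Scheme.homeoOfIso hU.isoSpec).isClosed_image.mpr h1
    have h3 : (Scheme.homeoOfIso hU.isoSpec) '' ({(⟨x, hxU⟩ : ↥U)} : Set ↥U) =
        {hU.primeIdealOf ⟨x, hxU⟩} := Set.image_singleton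
    rw [h3] at h2
    exact h2
  letI := X.presheaf.algebra_section_stalk ⟨x, hxU⟩
  haveI := hU.isLocalization_stalk ⟨x, hxU⟩
  let e := IsLocalization.AtPrime.equivQuotMaximalIdeal (hU.primeIdealOf ⟨x, hxU⟩).asIdeal
    (X.presheaf.stalk x)
  have hfield : IsField (Γ(X, U) ⧸ (hU.primeIdealOf ⟨x, hxU⟩).asIdeal) :=
    (Ideal.Quotient.maximal_ideal_iff_isField_quotient _).mp hpmax
  have hq : (Int.castRingHom (Γ(X, U) ⧸ (hU.primeIdealOf ⟨x, hxU⟩).asIdeal)).FiniteType := by
    have h1 := (RingHom.FiniteType.of_surjective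
      (Ideal.Quotient.mk (hU.primeIdealOf ⟨x, hxU⟩).asIdeal) Ideal.Quotient.mk_surjective).comp hZ
    have h2 : (Ideal.Quotient.mk (hU.primeIdealOf ⟨x, hxU⟩).asIdeal).comp
        (Int.castRingHom Γ(X, U)) = Int.castRingHom _ := RingHom.ext_int _ _
    rw [h2] at h1
    exact h1
  haveI : Finite (Γ(X, U) ⧸ (hU.primeIdealOf ⟨x, hxU⟩).asIdeal) :=
    finite_of_field_of_finiteType_int _ hfield hq
  exact Finite.of_equiv _ e.toEquiv

end Groth.Agent.H22.ZetaG1
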