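import Mathlib

/-!
# (G2) for S13086/S13084: closed points with residue field of the cardinality of `F` inject into
`F`-valued points
-/

set_option autoImplicit false
universe u
open CategoryTheory AlgebraicGeometry

namespace Groth.Agent.H22.ZetaG2

theorem card_closedPoints_le (X : Scheme.{u}) (F : Type u) [Field F] [Finite F]
    [Finite (Spec (CommRingCat.of F) ⟶ X)] :
    Nat.card {x : X // IsClosed ({x} : Set X) ∧ Nat.card (X.residueField x) = Nat.card F} ≤
      Nat.card (Spec (CommRingCat.of F) ⟶ X) := by
  classical
  have key : ∀ x : {x : X // IsClosed ({x} : Set X) ∧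
      Nat.card (X.residueField x) = Nat.card F}, Nonempty (X.residueField x.1 ≃+* F) := by
    rintro ⟨x, -, hcard⟩
    have hF : Nat.card F ≠ 0 := Nat.card_pos.ne'
    haveI : Finite (X.residueField x) := Nat.finite_of_card_ne_zero (hcard ▸ hF)
    letI := Fintype.ofFinite (X.residueField x)
    letI := Fintype.ofFinite F
    refine ⟨FiniteField.ringEquivOfCardEq ?_⟩
    rw [← Nat.card_eq_fintype_card, ← Nat.card_eq_fintype_card]
    exact hcard
  choose e he using fun x => (key x).elim fun e => (⟨e, trivial⟩ : ∃ _ : X.residueField x.1 ≃+* F, True)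
  let φ : {x : X // IsClosed ({x} : Set X) ∧ Nat.card (X.residueField x) = Nat.card F} →
      (Spec (CommRingCat.of F) ⟶ X) := fun x =>
    Spec.map (CommRingCat.ofHom (e x).toRingHom) ≫ X.fromSpecResidueField x.1
  refine Nat.card_le_card_of_injective φ ?_
  intro x y hxy
  apply Subtype.ext
  have : Nonempty (Spec (CommRingCat.of F)) := inferInstance
  obtain ⟨s⟩ := ‹Nonempty (Spec (CommRingCat.of F))›
  have h1 : φ x s = x.1 := by
    simp only [φ, Scheme.Hom.comp_apply]
    exact Scheme.fromSpecResidueField_apply _ _
  have h2 : φ y s = y.1 := by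
    simp only [φ, Scheme.Hom.comp_apply]
    exact Scheme.fromSpecResidueField_apply _ _
  rw [← h1, ← h2, hxy]

end Groth.Agent.H22.ZetaG2
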